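import Groth.Agent.Lib.QCoh.Local
import Groth.Prelude.Def_CohB1
import Mathlib.Topology.Sheaves.Abelian
import Mathlib.Topology.Sheaves.LocallySurjective
import Mathlib.Algebra.Category.ModuleCat.Stalk

/-!
# QCoh API (helper18): stalks of `O_X`-modules and supports

Namespace `Groth.Agent.Lib.QCoh`.

* `toSheaf_preservesColimitsOfSize`, `toSheaf_preservesFiniteColimits` : the forgetful functor from
  sheaves of modules (on a small site) to abelian sheaves preserves colimits
* `stalkFunctor X x : X.Modules ⥤ Ab` with `(stalkFunctor X x).obj M = M.presheaf.stalk x` (rfl);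
  it is exact: instances `PreservesFiniteLimits`, `PreservesFiniteColimits`, `Additive`,
  `PreservesHomology`
* `stalkMap φ x`, `stalkMap_germ`, `stalkMap_surjective_of_epi`, `stalkMap_injective_of_mono`
* `stalk_subsingleton_of_isZero`, `stalk_subsingleton_of_isZero_restrict`, `restrictStalkIso`
* `isZero_restrict_of_generatingSections_vanish`, `exists_open_generatingSections_vanish`
* `exists_generatingSections_restrict` : `IsFT M` ⇒ near every point, `M|_U` has finitely many
  generating sections
* `mem_support_iff`, `notMem_support_iff`, `isClosed_support_of_isFT` (S0020)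
-/

universe u

open CategoryTheory CategoryTheory.Limits AlgebraicGeometry Opposite TopologicalSpace

namespace Groth.Agent.Lib.QCoh

section ToSheaf

variable {C : Type u} [SmallCategory C] {J : GrothendieckTopology C}

/-- The forgetful functor from sheaves of modules to abelian sheaves preserves colimits. -/
instance toSheaf_preservesColimitsOfSize (R : Sheaf J RingCat.{u}) :
    PreservesColimitsOfSize.{u, u} (SheafOfModules.toSheaf.{u} R) := by
  constructor
  intro K _
  constructor
  intro F
  let L := PresheafOfModules.sheafification.{u} (𝟙 R.obj)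
  let G : K ⥤ PresheafOfModules.{u} R.obj := F ⋙ SheafOfModules.forget R
  let e : F ≅ G ⋙ L :=
    Functor.isoWhiskerLeft F
      (asIso (PresheafOfModules.sheafificationAdjunction (𝟙 R.obj)).counit).symm
  have h1 : PreservesColimit G (L ⋙ SheafOfModules.toSheaf.{u} R) := by
    have : PreservesColimit G
        (PresheafOfModules.toPresheaf R.obj ⋙ presheafToSheaf J AddCommGrpCat.{u}) := inferInstance
    exact preservesColimit_of_natIso G
      (PresheafOfModules.sheafificationCompToSheaf.{u} (𝟙 R.obj)).symm
  have h2 : PreservesColimit (G ⋙ L) (SheafOfModules.toSheaf.{u} R) := by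
    refine preservesColimit_of_preserves_colimit_cocone
      (isColimitOfPreserves L (colimit.isColimit G)) ?_
    exact isColimitOfPreserves (L ⋙ SheafOfModules.toSheaf.{u} R) (colimit.isColimit G)
  exact preservesColimit_of_iso_diagram _ e.symm

instance toSheaf_preservesFiniteColimits (R : Sheaf J RingCat.{u}) :
    PreservesFiniteColimits (SheafOfModules.toSheaf.{u} R) :=
  PreservesColimitsOfSize.preservesFiniteColimits _

end ToSheaf

variable {X : Scheme.{u}}

/-- The stalk functor on `O_X`-modules, with values in abelian groups. -/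
noncomputable def stalkFunctor (X : Scheme.{u}) (x : X) : X.Modules ⥤ Ab.{u} :=
  Scheme.Modules.toPresheaf X ⋙ TopCat.Presheaf.stalkFunctor Ab.{u} x

lemma stalkFunctor_obj (x : X) (M : X.Modules) :
    (stalkFunctor X x).obj M = M.presheaf.stalk x := rfl

/-- The stalk functor factors through the sheaf of abelian groups. -/
noncomputable def stalkFunctorIso (x : X) :
    stalkFunctor X x ≅ SheafOfModules.toSheaf X.ringCatSheaf ⋙
      (TopCat.Sheaf.forget Ab.{u} X.toTopCat ⋙ TopCat.Presheaf.stalkFunctor Ab.{u} x) :=
  Iso.refl _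

instance (x : X) : PreservesFiniteLimits (stalkFunctor X x) := by
  have h1 : PreservesFiniteLimits (SheafOfModules.toSheaf.{u} X.ringCatSheaf) := inferInstance
  have h2 : PreservesFiniteLimits (TopCat.Sheaf.forget Ab.{u} X.toTopCat ⋙
      TopCat.Presheaf.stalkFunctor Ab.{u} x) := inferInstance
  exact @comp_preservesFiniteLimits _ _ _ _ _ _ (SheafOfModules.toSheaf.{u} X.ringCatSheaf)
    (TopCat.Sheaf.forget Ab.{u} X.toTopCat ⋙ TopCat.Presheaf.stalkFunctor Ab.{u} x) h1 h2

instance (x : X) : PreservesFiniteColimits (stalkFunctor X x) := by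
  have h1 : PreservesFiniteColimits (SheafOfModules.toSheaf.{u} X.ringCatSheaf) := inferInstance
  have h2 : PreservesFiniteColimits (TopCat.Sheaf.forget Ab.{u} X.toTopCat ⋙
      TopCat.Presheaf.stalkFunctor Ab.{u} x) := inferInstance
  exact @comp_preservesFiniteColimits _ _ _ _ _ _ (SheafOfModules.toSheaf.{u} X.ringCatSheaf)
    (TopCat.Sheaf.forget Ab.{u} X.toTopCat ⋙ TopCat.Presheaf.stalkFunctor Ab.{u} x) h1 h2

instance (x : X) : (stalkFunctor X x).Additive :=
  have := Limits.preservesBinaryBiproducts_of_preservesBinaryCoproducts (stalkFunctor X x)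
  Functor.additive_of_preservesBinaryBiproducts _

instance (x : X) : (stalkFunctor X x).PreservesHomology := inferInstance

instance (x : X) : (stalkFunctor X x).PreservesEpimorphisms := inferInstance

instance (x : X) : (stalkFunctor X x).PreservesMonomorphisms := inferInstance

/-- The map induced on stalks by a morphism of `O_X`-modules. -/
noncomputable abbrev stalkMap {M N : X.Modules} (φ : M ⟶ N) (x : X) :
    M.presheaf.stalk x ⟶ N.presheaf.stalk x :=
  (stalkFunctor X x).map φ

lemma stalkMap_germ {M N : X.Modules} (φ : M ⟶ N) (x : X) (U : X.Opens) (hx : x ∈ U)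
    (s : M.presheaf.obj (op U)) :
    (stalkMap φ x) (M.presheaf.germ U x hx s) = N.presheaf.germ U x hx (φ.app U s) :=
  TopCat.Presheaf.stalkFunctor_map_germ_apply U x hx φ.mapPresheaf s

lemma stalkMap_surjective_of_epi {M N : X.Modules} (φ : M ⟶ N) [Epi φ] (x : X) :
    Function.Surjective (stalkMap φ x) :=
  (AddCommGrpCat.epi_iff_surjective _).1 ((stalkFunctor X x).map_epi φ)

lemma stalkMap_injective_of_mono {M N : X.Modules} (φ : M ⟶ N) [Mono φ] (x : X) :
    Function.Injective (stalkMap φ x) :=
  (AddCommGrpCat.mono_iff_injective _).1 ((stalkFunctor X x).map_mono φ)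

/-- Stalks of a zero module are trivial. -/
lemma stalk_subsingleton_of_isZero {M : X.Modules} (h : IsZero M) (x : X) :
    Subsingleton (M.presheaf.stalk x) := by
  have h' : IsZero ((stalkFunctor X x).obj M) := (stalkFunctor X x).map_isZero h
  exact AddCommGrpCat.subsingleton_of_isZero h'

/-- If the restriction of `M` to an open `V` is zero, the stalks of `M` at points of `V` vanish. -/
lemma stalk_subsingleton_of_isZero_restrict {M : X.Modules} (V : X.Opens)
    (h : IsZero (M.restrict V.ι)) (z : X) (hz : z ∈ V) :
    Subsingleton (M.presheaf.stalk z) := by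
  have h1 := stalk_subsingleton_of_isZero h (⟨z, hz⟩ : V)
  let e := (Scheme.Modules.restrictStalkNatIso V.ι (⟨z, hz⟩ : V)).app M
  have e' : (M.restrict V.ι).presheaf.stalk (⟨z, hz⟩ : V) ≅ M.presheaf.stalk z := e
  exact (e'.symm.addCommGroupIsoToAddEquiv).subsingleton


section Generators

variable {Y : Scheme.{u}}

/-- If `N` is generated by finitely many global sections which all vanish on the open `V`,
then `N|_V = 0`. -/
lemma isZero_restrict_of_generatingSections_vanish (N : Y.Modules) (σ : N.GeneratingSections)
    (V : Y.Opens) (hV : ∀ i, (σ.s i).val (op V) = 0) : IsZero (N.restrict V.ι) := by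
  let adj := Scheme.Modules.restrictAdjunction V.ι
  let η : N ⟶ (Scheme.Modules.pushforward V.ι).obj (N.restrict V.ι) := adj.unit.app N
  let F : Y.Modules := SheafOfModules.free (R := Y.ringCatSheaf) σ.I
  let π : F ⟶ N := σ.π
  have hπ : Epi π := σ.epi
  have h0 : π ≫ η = 0 := by
    apply (SheafOfModules.freeHomEquiv _).injective
    funext i
    have h1 : SheafOfModules.freeHomEquiv N σ.π i = σ.s i := by
      simp [SheafOfModules.GeneratingSections.π]
    have h2 : SheafOfModules.freeHomEquiv _ (π ≫ η) i = SheafOfModules.sectionsMap η (σ.s i) := by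
      rw [← h1]; rfl
    refine h2.trans ?_
    apply PresheafOfModules.sections_ext
    intro U
    have hle : V.ι ''ᵁ (V.ι ⁻¹ᵁ U.unop) ≤ V := by
      intro z hz
      obtain ⟨w, -, rfl⟩ := hz
      exact w.2
    have h3 : (SheafOfModules.sectionsMap η (σ.s i)).val U =
        N.presheaf.map (homOfLE (V.ι.image_preimage_le U.unop)).op ((σ.s i).val U) := rfl
    rw [h3]
    have h4 : N.presheaf.map (homOfLE (V.ι.image_preimage_le U.unop)).op ((σ.s i).val U)
        = N.presheaf.map (homOfLE hle).op ((σ.s i).val (op V)) := by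
      have e1 := PresheafOfModules.sections_property (σ.s i) (homOfLE (V.ι.image_preimage_le U.unop)).op
      have e2 := PresheafOfModules.sections_property (σ.s i) (homOfLE hle).op
      exact e1.trans e2.symm
    rw [h4, hV i]
    exact (map_zero (N.presheaf.map (homOfLE hle).op).hom).trans rfl
  have hη : η = 0 := zero_of_epi_comp π h0
  rw [IsZero.iff_id_eq_zero]
  apply (adj.homEquiv _ _).injective
  rw [Adjunction.homEquiv_unit, Adjunction.homEquiv_unit]
  change η ≫ _ = η ≫ _
  rw [hη, zero_comp, zero_comp]

lemma exists_open_generatingSections_vanish (N : Y.Modules) (σ : N.GeneratingSections)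
    [Finite σ.I] (y : Y) (hy : Subsingleton (N.presheaf.stalk y)) :
    ∃ V : Y.Opens, y ∈ V ∧ ∀ i, (σ.s i).val (op V) = 0 := by
  have key : ∀ i, ∃ W : Y.Opens, y ∈ W ∧ (σ.s i).val (op W) = 0 := by
    intro i
    have hg : N.presheaf.germ ⊤ y trivial ((σ.s i).val (op ⊤)) =
        N.presheaf.germ ⊤ y trivial 0 := Subsingleton.elim _ _
    obtain ⟨W, hyW, iU, iV, hW⟩ := TopCat.Presheaf.germ_eq N.presheaf y (U := ⊤) (V := ⊤) trivial trivial _ _ hg
    refine ⟨W, hyW, ?_⟩
    have e1 := PresheafOfModules.sections_property (σ.s i) iU.op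
    rw [← e1]
    exact hW.trans (map_zero _)
  choose W hyW hW using key
  refine ⟨⨅ i, W i, ?_, fun i => ?_⟩
  · have : (y : Y) ∈ ((⨅ i, W i : Y.Opens) : Set Y) := by
      rw [Opens.coe_iInf]
      exact Set.mem_iInter.2 hyW
    exact this
  · have hle : (⨅ i, W i) ≤ W i := iInf_le _ i
    have e1 := PresheafOfModules.sections_property (σ.s i) (homOfLE hle).op
    rw [← e1, hW i]
    exact map_zero _


end Generators

/-- A finite type module is locally generated by finitely many sections, in the form of
generating sections of the restriction to an open subscheme. -/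
theorem exists_generatingSections_restrict (M : X.Modules) (hM : CohB1.IsFT M) (x : X) :
    ∃ (U : X.Opens) (_ : x ∈ U) (σ : (M.restrict U.ι).GeneratingSections), Finite σ.I := by
  obtain ⟨σ, hσ⟩ := SheafOfModules.IsFiniteType.exists_localGeneratorsData M
  have hcov : IsOpenCover σ.X := (Opens.coversTop_iff _ _).1 σ.coversTop
  have hx : x ∈ (⨆ i, σ.X i : X.Opens) := by rw [hcov.iSup_eq_top]; trivial
  obtain ⟨i, hi⟩ := Opens.mem_iSup.1 hx
  refine ⟨σ.X i, hi, ?_⟩
  let gen := σ.generators i
  have hfin : Finite gen.I := (hσ.isFiniteType i).finite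
  let F : SheafOfModules (Sheaf.over X.ringCatSheaf (σ.X i)) ⥤
      SheafOfModules (Scheme.ringCatSheaf (σ.X i : Scheme.{u})) :=
    (Scheme.Modules.overEquiv (σ.X i)).functor
  let η : SheafOfModules.unit (Scheme.ringCatSheaf (σ.X i : Scheme.{u})) ≅
      F.obj (SheafOfModules.unit (X.ringCatSheaf.over (σ.X i))) :=
    ((σ.X i).sheafOfModulesEquivOverUnit X.ringCatSheaf).symm
  have hF : F.IsEquivalence := (Scheme.Modules.overEquiv (σ.X i)).isEquivalence_functor
  let gen' := gen.map F η
  let e := (Scheme.Modules.overFunctorEquiv (σ.X i)).app M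
  have he : IsIso e.hom := inferInstance
  have he' : @Epi (SheafOfModules (Scheme.ringCatSheaf (σ.X i : Scheme.{u}))) _ _ _ e.hom := by
    have : Epi e.hom := inferInstance
    exact this
  exact ⟨@SheafOfModules.GeneratingSections.ofEpi _ _ _ _ _ _ _ _ gen' e.hom he', hfin⟩

/-- The stalk of a restriction to an open subscheme. -/
noncomputable def restrictStalkIso (M : X.Modules) (U : X.Opens) (y : U) :
    (M.restrict U.ι).presheaf.stalk y ≅ M.presheaf.stalk (y : X) :=
  (Scheme.Modules.restrictStalkNatIso U.ι y).app M

lemma mem_support_iff (M : X.Modules) (x : X) :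
    x ∈ CohB1.support M ↔ ¬ Subsingleton (M.presheaf.stalk x) := Iff.rfl

lemma notMem_support_iff (M : X.Modules) (x : X) :
    x ∉ CohB1.support M ↔ Subsingleton (M.presheaf.stalk x) := not_not

/-- **The support of a finite type module is closed.** -/
theorem isClosed_support_of_isFT (M : X.Modules) (hM : CohB1.IsFT M) :
    IsClosed (CohB1.support M) := by
  rw [← isOpen_compl_iff, isOpen_iff_forall_mem_open]
  intro x hx
  have hx' : Subsingleton (M.presheaf.stalk x) := (notMem_support_iff M x).1 hx
  obtain ⟨U, hxU, σ, hfin⟩ := exists_generatingSections_restrict M hM x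
  let y : U := ⟨x, hxU⟩
  have hy : Subsingleton ((M.restrict U.ι).presheaf.stalk y) :=
    ((restrictStalkIso M U y).addCommGroupIsoToAddEquiv).subsingleton
  obtain ⟨V, hyV, hV⟩ := exists_open_generatingSections_vanish (M.restrict U.ι) σ y hy
  have hZ := isZero_restrict_of_generatingSections_vanish (M.restrict U.ι) σ V hV
  refine ⟨U.ι ''ᵁ V, ?_, (U.ι ''ᵁ V).2, ⟨y, hyV, rfl⟩⟩
  rintro _ ⟨z, hz, rfl⟩
  have h1 : Subsingleton ((M.restrict U.ι).presheaf.stalk z) :=
    stalk_subsingleton_of_isZero_restrict V hZ z hz
  have h2 : Subsingleton (M.presheaf.stalk (U.ι z)) :=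
    ((restrictStalkIso M U z).symm.addCommGroupIsoToAddEquiv).subsingleton
  exact (notMem_support_iff M _).2 h2

end Groth.Agent.Lib.QCoh
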