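import Groth.Agent.Lib.QCoh.Helper74_LocFree
import Groth.Agent.Lib.QCoh.Helper18_Stalk

/-!
# QCoh API (helper74): morphisms out of `O_X` / free modules, local lifting through epimorphisms

All declarations live in the sub-namespace `Groth.Agent.Lib.QCoh.Lift74` (to avoid name clashes).

* `sectionsOfTop`, `unitHomOfTop N t : O_Y ⟶ N` (the morphism with `1 ↦ t`), `unitHomOfTop_app_one`,
  `unitHom_ext` (morphisms out of `O_Y` are determined by the image of `1 ∈ Γ(Y, ⊤)`).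
* `restrictUnitIso_inv_app_one`, `restrictFunctor_map_app`, `app_naturality_apply'`.
* `HasLift Φ p φ` (generic: `Φ.map φ` factors through `Φ.map p`) with `comp`, `of_iso`, `precomp`,
  `of_sigma`, `of_le`.
* `exists_lift_unit`, `exists_lift_freeMod`, `exists_local_lift_of_isFinLocFree` (= S0934): a morphism
  from a finite locally free module lifts locally through any epimorphism.
-/

universe u
open CategoryTheory CategoryTheory.Limits AlgebraicGeometry Opposite TopologicalSpace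
namespace Groth.Agent.Lib.QCoh

namespace Lift74
open Scheme.Modules FlatMod

variable {X Y : Scheme.{u}}

/-- The compatible family of sections determined by a global section. -/
noncomputable def sectionsOfTop (N : Y.Modules) (t : Γ(N, ⊤)) : N.sections :=
  PresheafOfModules.sectionsMk (fun U => N.presheaf.map (homOfLE le_top : U.unop ⟶ ⊤).op t)
    (fun U V f => by
      change N.presheaf.map f (N.presheaf.map (homOfLE le_top : U.unop ⟶ ⊤).op t) = _
      rw [← ConcreteCategory.comp_apply, ← Functor.map_comp]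
      rfl)

/-- The morphism `O_Y ⟶ N` determined by a global section of `N`. -/
noncomputable def unitHomOfTop (N : Y.Modules) (t : Γ(N, ⊤)) : Coh.structureModule Y ⟶ N :=
  N.unitHomEquiv.symm (sectionsOfTop N t)

lemma unitHomOfTop_app_one (N : Y.Modules) (t : Γ(N, ⊤)) :
    (unitHomOfTop N t).app ⊤ (1 : Γ(Y, ⊤)) = t := by
  have h := SheafOfModules.unitHomEquiv_apply_coe N (unitHomOfTop N t) (op ⊤)
  rw [unitHomOfTop, Equiv.apply_symm_apply] at h
  change _ = (unitHomOfTop N t).app ⊤ (1 : Γ(Y, ⊤)) at h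
  rw [← h]
  change N.presheaf.map (𝟙 _) t = t
  rw [N.presheaf.map_id]
  rfl

/-- Morphisms out of the structure sheaf are determined by the image of `1 ∈ Γ(Y, ⊤)`. -/
lemma unitHom_ext {N : Y.Modules} {χ χ' : Coh.structureModule Y ⟶ N}
    (h : χ.app ⊤ (1 : Γ(Y, ⊤)) = χ'.app ⊤ (1 : Γ(Y, ⊤))) : χ = χ' := by
  apply N.unitHomEquiv.injective
  apply Subtype.ext
  funext U
  rw [SheafOfModules.unitHomEquiv_apply_coe, SheafOfModules.unitHomEquiv_apply_coe]
  have key : ∀ ξ : Coh.structureModule Y ⟶ N, ξ.val.app U (1 : Y.ringCatSheaf.obj.obj U) =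
      N.presheaf.map (homOfLE le_top : U.unop ⟶ ⊤).op (ξ.app ⊤ (1 : Γ(Y, ⊤))) := by
    intro ξ
    have := congr($(ξ.mapPresheaf.naturality (homOfLE le_top : U.unop ⟶ ⊤).op) (1 : Γ(Y, ⊤)))
    simp only [ConcreteCategory.comp_apply] at this
    refine Eq.trans ?_ this
    change _ = ξ.app U.unop ((Y.presheaf.map (homOfLE le_top : U.unop ⟶ ⊤).op) 1)
    rw [map_one]
    rfl
  rw [key χ, key χ', h]

lemma restrictUnitIso_inv_app_one (f : X ⟶ Y) [IsOpenImmersion f] (U : X.Opens) :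
    (restrictUnitIso f).inv.app U (1 : Γ(X, U)) = (1 : Γ(Y, f ''ᵁ U)) := by
  change (f.appIso U).inv (1 : Γ(X, U)) = 1
  exact map_one _

lemma restrictFunctor_map_app (f : X ⟶ Y) [IsOpenImmersion f] {M N : Y.Modules} (φ : M ⟶ N)
    (U : X.Opens) (m : Γ(M, f ''ᵁ U)) :
    ((restrictFunctor f).map φ).app U m = φ.app (f ''ᵁ U) m := rfl


lemma app_naturality_apply' {M N : Y.Modules} (φ : M ⟶ N) {U V : Y.Opens} (i : U ⟶ V)
    (m : Γ(M, V)) :
    φ.app U (M.presheaf.map i.op m) = N.presheaf.map i.op (φ.app V m) := by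
  have h : M.presheaf.map i.op ≫ φ.app U = φ.app V ≫ N.presheaf.map i.op := by
    simpa using φ.mapPresheaf.naturality i.op
  exact congr($h m)

/-- Unit case of the local lifting property: a morphism `O_Y ⟶ N` lifts through an epimorphism
`N' ⟶ N` on a neighbourhood of any point. -/
theorem exists_lift_unit {N' N : Y.Modules} (q : N' ⟶ N) [Epi q]
    (χ : Coh.structureModule Y ⟶ N) (y : Y) :
    ∃ (W : Y.Opens) (ψ : (Coh.structureModule Y).restrict W.ι ⟶ N'.restrict W.ι), y ∈ W ∧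
      ψ ≫ (restrictFunctor W.ι).map q = (restrictFunctor W.ι).map χ := by
  set s : Γ(N, ⊤) := χ.app ⊤ (1 : Γ(Y, ⊤)) with hs
  obtain ⟨m', hm'⟩ := stalkMap_surjective_of_epi q y (N.presheaf.germ ⊤ y trivial s)
  obtain ⟨W₀, hyW₀, t₀, rfl⟩ := N'.presheaf.exists_germ_eq m'
  rw [stalkMap_germ] at hm'
  have h2 : N.presheaf.germ W₀ y hyW₀ (N.presheaf.map (homOfLE le_top : W₀ ⟶ ⊤).op s) =
      N.presheaf.germ ⊤ y trivial s :=
    TopCat.Presheaf.germ_res_apply N.presheaf (homOfLE le_top : W₀ ⟶ ⊤) y hyW₀ s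
  rw [← h2] at hm'
  obtain ⟨W₁, hyW, i, i', hW⟩ := TopCat.Presheaf.germ_eq N.presheaf y hyW₀ hyW₀ _ _ hm'
  rw [Subsingleton.elim i' i] at hW
  obtain ⟨W, rfl⟩ : ∃ W : Y.Opens, W = W₁ := ⟨W₁, rfl⟩
  -- the lift on `W`
  have hWtop : W.ι ''ᵁ ⊤ ≤ W := le_of_eq W.ι_image_top
  let t' : Γ(N'.restrict W.ι, ⊤) :=
    N'.presheaf.map (homOfLE (hWtop.trans (leOfHom i))).op t₀
  refine ⟨W, (restrictUnitIso W.ι).hom ≫ unitHomOfTop (N'.restrict W.ι) t', hyW, ?_⟩
  rw [Category.assoc, ← Iso.eq_inv_comp]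
  apply unitHom_ext
  rw [Hom.comp_app, Hom.comp_app, ConcreteCategory.comp_apply, ConcreteCategory.comp_apply,
    unitHomOfTop_app_one, restrictUnitIso_inv_app_one, restrictFunctor_map_app,
    restrictFunctor_map_app]
  have e1 : (1 : Γ(Y, W.ι ''ᵁ ⊤)) = (Coh.structureModule Y).presheaf.map
      (homOfLE le_top : W.ι ''ᵁ ⊤ ⟶ ⊤).op (1 : Γ(Y, ⊤)) :=
    (map_one (Y.presheaf.map (homOfLE le_top : W.ι ''ᵁ ⊤ ⟶ ⊤).op).hom).symm
  rw [e1, app_naturality_apply' χ, ← hs]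
  change q.app _ (N'.presheaf.map (homOfLE (hWtop.trans (leOfHom i))).op t₀) = _
  rw [app_naturality_apply' q]
  have e2 : N.presheaf.map (homOfLE (hWtop.trans (leOfHom i))).op =
      N.presheaf.map i.op ≫ N.presheaf.map (homOfLE hWtop).op := by
    rw [← Functor.map_comp]; rfl
  rw [e2, ConcreteCategory.comp_apply, hW, ← ConcreteCategory.comp_apply,
    ← ConcreteCategory.comp_apply, ← Functor.map_comp, ← Functor.map_comp]
  rfl

section HasLift

variable {C D D' : Type*} [Category C] [Category D] [Category D']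

/-- `Φ.map φ` factors through `Φ.map p`. -/
def HasLift (Φ : C ⥤ D) {E G F : C} (p : G ⟶ F) (φ : E ⟶ F) : Prop :=
  ∃ ψ : Φ.obj E ⟶ Φ.obj G, ψ ≫ Φ.map p = Φ.map φ

variable {Φ : C ⥤ D} {E E' G F : C} {p : G ⟶ F} {φ : E ⟶ F}

theorem HasLift.comp (h : HasLift Φ p φ) (K : D ⥤ D') : HasLift (Φ ⋙ K) p φ := by
  obtain ⟨ψ, hψ⟩ := h
  exact ⟨K.map ψ, by simp only [Functor.comp_map, ← K.map_comp, hψ]⟩

theorem HasLift.of_iso {Φ' : C ⥤ D} (α : Φ' ≅ Φ) (h : HasLift Φ p φ) : HasLift Φ' p φ := by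
  obtain ⟨ψ, hψ⟩ := h
  refine ⟨α.hom.app E ≫ ψ ≫ α.inv.app G, ?_⟩
  rw [Category.assoc, Category.assoc, ← α.inv.naturality p, reassoc_of% hψ, α.inv.naturality φ,
    Iso.hom_inv_id_app_assoc]

theorem HasLift.precomp (a : E' ⟶ E) (h : HasLift Φ p φ) : HasLift Φ p (a ≫ φ) := by
  obtain ⟨ψ, hψ⟩ := h
  exact ⟨Φ.map a ≫ ψ, by rw [Category.assoc, hψ, Φ.map_comp]⟩

theorem HasLift.of_sigma {ι : Type*} (f : ι → C) [HasCoproduct f]
    [PreservesColimit (Discrete.functor f) Φ] (χ : ∐ f ⟶ F)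
    (h : ∀ k, HasLift Φ p (Sigma.ι f k ≫ χ)) : HasLift Φ p χ := by
  choose ψ hψ using h
  let hc : IsColimit (Φ.mapCocone (Cofan.mk (∐ f) (Sigma.ι f))) :=
    isColimitOfPreserves Φ (coproductIsCoproduct f)
  let c : Cocone (Discrete.functor f ⋙ Φ) :=
    { pt := Φ.obj G
      ι := Discrete.natTrans fun k => ψ k.as }
  refine ⟨hc.desc c, ?_⟩
  apply hc.hom_ext
  rintro ⟨k⟩
  rw [← Category.assoc, hc.fac]
  change ψ k ≫ Φ.map p = Φ.map (Sigma.ι f k) ≫ Φ.map χ
  rw [hψ, Φ.map_comp]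

end HasLift

section Lift

/-- Shrinking: lifting along `W'.ι` implies lifting along `W.ι` for `W ≤ W'`. -/
theorem HasLift.of_le {E G F : Y.Modules} {p : G ⟶ F} {φ : E ⟶ F} {W W' : Y.Opens} (hle : W ≤ W')
    (h : HasLift (restrictFunctor W'.ι) p φ) : HasLift (restrictFunctor W.ι) p φ :=
  ((h.comp (restrictFunctor (Y.homOfLE hle))).of_iso
    (restrictFunctorComp (Y.homOfLE hle) W'.ι)).of_iso
    (restrictFunctorCongr (Y.homOfLE_ι hle).symm)

/-- Free case of the local lifting property. -/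
theorem exists_lift_freeMod {N' N : Y.Modules} (q : N' ⟶ N) [Epi q] (n : ℕ)
    (χ : FlatMod.freeMod Y n ⟶ N) (y : Y) :
    ∃ W : Y.Opens, y ∈ W ∧ HasLift (restrictFunctor W.ι) q χ := by
  have h1 : ∀ k : Fin n, ∃ W : Y.Opens, y ∈ W ∧ HasLift (restrictFunctor W.ι) q
      (Sigma.ι (fun _ : Fin n => Coh.structureModule Y) k ≫ χ) := by
    intro k
    obtain ⟨W, ψ, hyW, hψ⟩ := exists_lift_unit q
      (Sigma.ι (fun _ : Fin n => Coh.structureModule Y) k ≫ χ) y
    exact ⟨W, hyW, ψ, hψ⟩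
  choose W hyW hW using h1
  refine ⟨⨅ k, W k, ?_, ?_⟩
  · change y ∈ ((⨅ k, W k : Y.Opens) : Set Y)
    rw [Opens.coe_iInf]
    exact Set.mem_iInter.2 hyW
  · exact HasLift.of_sigma (fun _ : Fin n => Coh.structureModule Y) χ
      fun k => (hW k).of_le (iInf_le W k)

/-- **Local lifting property of finite locally free modules**: a morphism from a finite locally
free module lifts, locally, through any epimorphism. -/
theorem exists_local_lift_of_isFinLocFree {E F G : X.Modules} (p : G ⟶ F) [Epi p] (φ : E ⟶ F)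
    (hE : IsFinLocFree E) (x : X) :
    ∃ (V : X.Opens) (ψ : E.restrict V.ι ⟶ G.restrict V.ι), x ∈ V ∧
      ψ ≫ (restrictFunctor V.ι).map p = (restrictFunctor V.ι).map φ := by
  obtain ⟨U, n, hxU, ⟨e⟩⟩ := hE x
  obtain ⟨W, hyW, hW⟩ := exists_lift_freeMod ((restrictFunctor U.ι).map p) n
    (e.inv ≫ (restrictFunctor U.ι).map φ) ⟨x, hxU⟩
  have h1 : HasLift (restrictFunctor W.ι) ((restrictFunctor U.ι).map p)
      ((restrictFunctor U.ι).map φ) := by
    have := hW.precomp e.hom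
    rwa [Iso.hom_inv_id_assoc] at this
  have h2 : HasLift (restrictFunctor U.ι ⋙ restrictFunctor W.ι) p φ := h1
  have h3 : HasLift (restrictFunctor (W.ι ≫ U.ι)) p φ := h2.of_iso (restrictFunctorComp W.ι U.ι)
  have h4 : HasLift (restrictFunctor (W.ι ≫ U.ι).opensRange.ι) p φ :=
    ((h3.comp (restrictFunctor (W.ι ≫ U.ι).isoOpensRange.inv)).of_iso
      (restrictFunctorComp (W.ι ≫ U.ι).isoOpensRange.inv (W.ι ≫ U.ι))).of_iso
      (restrictFunctorCongr ((W.ι ≫ U.ι).isoOpensRange_inv_comp).symm)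
  obtain ⟨ψ, hψ⟩ := h4
  exact ⟨(W.ι ≫ U.ι).opensRange, ψ, ⟨⟨⟨x, hxU⟩, hyW⟩, rfl⟩, hψ⟩

end Lift

end Lift74

end Groth.Agent.Lib.QCoh
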