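import Groth.Agent.Lib.QCoh.Local
import Mathlib.Algebra.Category.ModuleCat.Sheaf.PullbackFree

/-!
# QCoh API, part Q3 (helper50): functoriality of quasi-coherence — pullbacks

Namespace `Groth.Agent.Lib.QCoh`.

* `final_opensMap` : `Opens.map f.base` is a final functor
* `pullbackUnitIso f : (pullback f).obj O_Y ≅ O_X`, `pullbackFreeIso f I`
* `presentationPullback f P` : the pullback of a presentation is a presentation
-/

universe u

open CategoryTheory CategoryTheory.Limits AlgebraicGeometry Opposite TopologicalSpace

namespace Groth.Agent.Lib.QCoh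

variable {X Y : Scheme.{u}} (f : X ⟶ Y)

instance final_opensMap : (Opens.map f.base).Final where
  out U := by
    let T : StructuredArrow U (Opens.map f.base) :=
      StructuredArrow.mk (Y := (⊤ : Opens Y)) (homOfLE (by intro x _; trivial))
    have hT : IsTerminal T := by
      refine IsTerminal.ofUniqueHom (fun A => StructuredArrow.homMk (homOfLE le_top) (by
        apply Subsingleton.elim)) ?_
      intro A m
      ext
      apply Subsingleton.elim
    exact isConnected_of_isTerminal _ hT

set_option backward.isDefEq.respectTransparency false in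
/-- `f^* O_Y ≅ O_X`. -/
noncomputable def pullbackUnitIso :
    (Scheme.Modules.pullback f).obj (SheafOfModules.unit Y.ringCatSheaf) ≅
      SheafOfModules.unit X.ringCatSheaf :=
  letI e : (SheafOfModules.pullback f.toRingCatSheafHom).obj (SheafOfModules.unit Y.ringCatSheaf) ≅
      SheafOfModules.unit X.ringCatSheaf :=
    asIso (SheafOfModules.pullbackObjUnitToUnit f.toRingCatSheafHom)
  e

set_option backward.isDefEq.respectTransparency false in
/-- `f^*` of a free module is free. -/
noncomputable def pullbackFreeIso (I : Type u) :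
    (Scheme.Modules.pullback f).obj (SheafOfModules.free (R := Y.ringCatSheaf) I) ≅
      SheafOfModules.free (R := X.ringCatSheaf) I :=
  SheafOfModules.pullbackObjFreeIso f.toRingCatSheafHom I

set_option backward.isDefEq.respectTransparency false in
/-- The pullback of a presentation is a presentation. -/
noncomputable def presentationPullback {M : Y.Modules} (P : SheafOfModules.Presentation M) :
    SheafOfModules.Presentation ((Scheme.Modules.pullback f).obj M) :=
  have : PreservesColimitsOfSize.{u, u} (Scheme.Modules.pullback f) := inferInstance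
  P.map (Scheme.Modules.pullback f) (pullbackUnitIso f).symm

/-- The pullback commutes with restriction to opens: for `U ≤ f⁻¹ V`,
`(f^* M)|_U ≅ (f|_U)^* (M|_V)`. -/
noncomputable def pullbackRestrictIso (M : Y.Modules) (V : Y.Opens) (U : X.Opens)
    (e : U ≤ f ⁻¹ᵁ V) :
    ((Scheme.Modules.pullback f).obj M).restrict U.ι ≅
      (Scheme.Modules.pullback (f.resLE V U e)).obj (M.restrict V.ι) :=
  (Scheme.Modules.restrictFunctorIsoPullback U.ι).app _ ≪≫
    (Scheme.Modules.pullbackComp U.ι f).app M ≪≫
    (Scheme.Modules.pullbackCongr (Scheme.Hom.resLE_comp_ι f e).symm).app M ≪≫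
    ((Scheme.Modules.pullbackComp (f.resLE V U e) V.ι).app M).symm ≪≫
    (Scheme.Modules.pullback (f.resLE V U e)).mapIso
      ((Scheme.Modules.restrictFunctorIsoPullback V.ι).app M).symm

/-- **Pullbacks of quasi-coherent modules are quasi-coherent.** -/
theorem isQuasicoherent_pullback (M : Y.Modules) [M.IsQuasicoherent] :
    ((Scheme.Modules.pullback f).obj M).IsQuasicoherent := by
  obtain ⟨ι, V, pres, hV, -⟩ := M.exists_isOpenCover_presentation
  refine isQuasicoherent_of_isOpenCover _ (fun i => f ⁻¹ᵁ (V i)) ?_ fun i => ?_
  · rw [IsOpenCover, ← top_le_iff]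
    intro x _
    have hx : f.base x ∈ (⨆ i, V i : Y.Opens) := by rw [hV.iSup_eq_top]; trivial
    obtain ⟨i, hi⟩ := Opens.mem_iSup.1 hx
    exact Opens.mem_iSup.2 ⟨i, hi⟩
  · have h1 : ((Scheme.Modules.pullback (f.resLE (V i) (f ⁻¹ᵁ (V i)) le_rfl)).obj
        (M.restrict (V i).ι)).IsQuasicoherent :=
      (presentationPullback _ (pres i)).isQuasicoherent
    exact isQuasicoherent_of_iso (pullbackRestrictIso f M (V i) (f ⁻¹ᵁ (V i)) le_rfl).symm h1

end Groth.Agent.Lib.QCoh
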