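import Groth.Agent.Lib.QCoh.FinitePresentation
import Groth.Agent.Lib.QCoh.Helper50_Pullback
import Groth.Prelude.Def_Pic
import Mathlib.Algebra.Category.ModuleCat.Sheaf.LocallyFree

/-!
# QCoh API (lead): invertible modules `PicF.IsInvertible`, basic API (no tensor products)

Namespace `Groth.Agent.Lib.QCoh`.
-/

universe u

open CategoryTheory CategoryTheory.Limits AlgebraicGeometry Opposite TopologicalSpace

namespace Groth.Agent.Lib.QCoh

open Scheme.Modules

variable {X Y : Scheme.{u}}

/-- Invertibility is invariant under isomorphism. -/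
theorem isInvertible_of_iso {L L' : X.Modules} (e : L ≅ L') (h : PicF.IsInvertible L) :
    PicF.IsInvertible L' := by
  intro y
  obtain ⟨U, hy, ⟨i⟩⟩ := h y
  exact ⟨U, hy, ⟨(restrictFunctor U.ι).mapIso e.symm ≪≫ i⟩⟩

/-- The structure sheaf is invertible. -/
theorem isInvertible_structureModule (X : Scheme.{u}) :
    PicF.IsInvertible (Coh.structureModule X) := fun _ =>
  ⟨⊤, trivial, ⟨restrictUnitIso _⟩⟩

/-- `(M|_f)|_V ≅ (M|_U)|_{f|_U}` for `V = f⁻¹ U`. -/
noncomputable def restrictRestrictIso (f : Y ⟶ X) [IsOpenImmersion f] (M : X.Modules)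
    (U : X.Opens) :
    (M.restrict f).restrict (f ⁻¹ᵁ U).ι ≅ (M.restrict U.ι).restrict (f ∣_ U) :=
  ((restrictFunctorComp (f ⁻¹ᵁ U).ι f).app M).symm ≪≫
    (restrictFunctorCongr (morphismRestrict_ι f U).symm).app M ≪≫
    (restrictFunctorComp (f ∣_ U) U.ι).app M

/-- Invertible modules restrict to invertible modules along open immersions. -/
theorem isInvertible_restrict (f : Y ⟶ X) [IsOpenImmersion f] {L : X.Modules}
    (h : PicF.IsInvertible L) : PicF.IsInvertible (L.restrict f) := by
  intro y
  obtain ⟨U, hy, ⟨i⟩⟩ := h (f.base y)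
  refine ⟨f ⁻¹ᵁ U, hy, ⟨?_⟩⟩
  exact restrictRestrictIso f L U ≪≫ (restrictFunctor (f ∣_ U)).mapIso i ≪≫ restrictUnitIso _

/-- The structure sheaf has a finite presentation (one generator, no relation). -/
theorem exists_presentation_free (X : Scheme.{u}) (I : Type u) [Finite I] :
    ∃ P : (SheafOfModules.free (R := X.ringCatSheaf) I).Presentation, P.IsFinite := by
  let P : (SheafOfModules.free (R := X.ringCatSheaf) I).Presentation :=
    { generators := SheafOfModules.free.generatingSections I
      relations :=
        { I := ULift Empty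
          s := fun j => Empty.rec _ j.down
          epi := IsZero.epi (IsZero.of_iso (isZero_zero _) (Limits.kernel.ofMono _)) _ } }
  have h1 : Finite P.generators.I := inferInstanceAs (Finite I)
  have h2 : Finite P.relations.I := inferInstanceAs (Finite (ULift Empty))
  exact ⟨P, { isFiniteType_generators := ⟨h1⟩, isFiniteType_relations := ⟨h2⟩ }⟩

/-- `O_X ≅ free PUnit`. -/
noncomputable def unitIsoFree (X : Scheme.{u}) :
    SheafOfModules.free (R := X.ringCatSheaf) PUnit.{u + 1} ≅ Coh.structureModule X :=
  Limits.coproductUniqueIso (fun _ : PUnit.{u + 1} => SheafOfModules.unit X.ringCatSheaf)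

theorem exists_presentation_structureModule (X : Scheme.{u}) :
    ∃ P : (Coh.structureModule X).Presentation, P.IsFinite :=
  exists_presentation_of_iso (unitIsoFree X) (exists_presentation_free X PUnit.{u + 1})

/-- Invertible modules are of finite presentation. -/
theorem isFinitePresentation_of_isInvertible {L : X.Modules} (h : PicF.IsInvertible L) :
    L.IsFinitePresentation := by
  choose U hU e using h
  refine isFinitePresentation_of_isOpenCover L U ?_ fun y => ?_
  · rw [IsOpenCover, ← top_le_iff]
    intro y _
    exact Opens.mem_iSup.2 ⟨y, hU y⟩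
  · exact exists_presentation_of_iso (e y).some.symm (exists_presentation_structureModule _)

/-- Invertible modules are quasi-coherent. -/
theorem isQuasicoherent_of_isInvertible {L : X.Modules} (h : PicF.IsInvertible L) :
    L.IsQuasicoherent :=
  have := isFinitePresentation_of_isInvertible h
  inferInstance

/-- Invertible modules are of finite type. -/
theorem isFiniteType_of_isInvertible {L : X.Modules} (h : PicF.IsInvertible L) :
    L.IsFiniteType :=
  have := isFinitePresentation_of_isInvertible h
  inferInstance

/-- **Pullbacks of invertible modules are invertible.** -/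
theorem isInvertible_pullback (f : X ⟶ Y) {L : Y.Modules} (h : PicF.IsInvertible L) :
    PicF.IsInvertible ((Scheme.Modules.pullback f).obj L) := by
  intro x
  obtain ⟨V, hx, ⟨i⟩⟩ := h (f.base x)
  refine ⟨f ⁻¹ᵁ V, hx, ⟨?_⟩⟩
  exact pullbackRestrictIso f L V (f ⁻¹ᵁ V) le_rfl ≪≫
    (Scheme.Modules.pullback (f.resLE V (f ⁻¹ᵁ V) le_rfl)).mapIso i ≪≫ pullbackUnitIso _

end Groth.Agent.Lib.QCoh
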