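import Groth.Agent.Lib.QCoh.FiniteType
import Mathlib.RingTheory.Localization.Finiteness

/-!
# QCoh API (lead): sections over affine opens; coherent = finite sections

Namespace `Groth.Agent.Lib.QCoh`.  For `hU : IsAffineOpen U` in a scheme `X` and `M : X.Modules`:

* `restrictSpec hU M : (Spec Γ(X, U)).Modules` := `M.restrict hU.fromSpec`
* `ΓrestrictSpecIso`, `ΓrestrictSpecIso_smul`, `ΓrestrictSpecLinearEquiv` :
  `Γ(restrictSpec hU M, ⊤) ≃ₗ[Γ(X, U)] Γ(M, U)`
* `restrictSpecIso : restrictSpec hU M ≅ (M.restrict U.ι).restrict hU.isoSpec.inv`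
* `finite_Γ_of_generatingSections` (on `Spec R`), `finite_Γ_of_generatingSections_restrict`
* `exists_generatingSections_of_le`
* `finite_Γ_Spec` : q-coh + finite type on `Spec R` ⇒ `Module.Finite R Γ(M, ⊤)`
* `finite_Γ_of_isAffineOpen` : q-coh + finite type ⇒ `Module.Finite Γ(X, U) Γ(M, U)` for affine `U`
* `exists_generatingSections_tilde`, `exists_generatingSections_of_finite_Γ`,
  `exists_generatingSections_restrict_of_finite`
* `isFiniteType_iff_forall_finite` : for q-coh `M`,
  `M.IsFiniteType ↔ ∀ affine open U, Module.Finite Γ(X, U) Γ(M, U)`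
-/

universe u

open CategoryTheory CategoryTheory.Limits AlgebraicGeometry Opposite TopologicalSpace

namespace Groth.Agent.Lib.QCoh

open Scheme.Modules

variable {X : Scheme.{u}} {U : X.Opens} (hU : IsAffineOpen U) (M : X.Modules)

/-- The restriction of `M` to an affine open `U`, as a module on `Spec Γ(X, U)`. -/
noncomputable abbrev restrictSpec : (Spec Γ(X, U)).Modules := M.restrict hU.fromSpec

theorem fromSpec_image_top : hU.fromSpec ''ᵁ ⊤ = U := by
  rw [Scheme.Hom.image_top_eq_opensRange, hU.opensRange_fromSpec]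

/-- Global sections of `M|_U` on `Spec Γ(X,U)` are the sections of `M` over `U`. -/
noncomputable def ΓrestrictSpecIso : Γ(restrictSpec hU M, ⊤) ≅ Γ(M, U) :=
  M.restrictAppIso hU.fromSpec ⊤ ≪≫
    M.presheaf.mapIso (eqToIso (fromSpec_image_top hU).symm).op

theorem fromSpec_ring_identity :
    (Scheme.ΓSpecIso Γ(X, U)).inv ≫
      (Spec Γ(X, U)).presheaf.map (⊤ : (Spec Γ(X, U)).Opens).leTop.op ≫
      (hU.fromSpec.appIso ⊤).inv ≫
      X.presheaf.map (eqToHom (fromSpec_image_top hU).symm).op = 𝟙 _ := by
  have hle : (⊤ : (Spec Γ(X, U)).Opens) ≤ hU.fromSpec ⁻¹ᵁ U := by rw [hU.fromSpec_preimage_self]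
  have h0 : (Scheme.ΓSpecIso Γ(X, U)).inv ≫
      (Spec Γ(X, U)).presheaf.map (⊤ : (Spec Γ(X, U)).Opens).leTop.op =
      hU.fromSpec.appLE U ⊤ hle := by
    rw [Scheme.Hom.appLE, hU.fromSpec_app_self, Category.assoc, ← Functor.map_comp]
    rfl
  have h1 : hU.fromSpec.appLE U ⊤ hle =
      X.presheaf.map (eqToHom (fromSpec_image_top hU)).op ≫ (hU.fromSpec.appIso ⊤).hom := by
    rw [Scheme.Hom.appIso_hom', Scheme.Hom.map_appLE]
  rw [← Category.assoc, h0, h1, Category.assoc, Iso.hom_inv_id_assoc, ← Functor.map_comp]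
  exact X.presheaf.map_id _

theorem ΓrestrictSpecIso_smul (a : Γ(X, U)) (x : Γ(restrictSpec hU M, ⊤)) :
    (ΓrestrictSpecIso hU M).hom (a • x) = a • (ΓrestrictSpecIso hU M).hom x := by
  rw [smul_Spec_def]
  dsimp [ΓrestrictSpecIso]
  rw [smul_restrictAppIso_hom_apply]
  erw [Scheme.Modules.map_smul]
  congr 1
  exact congr($(fromSpec_ring_identity hU) a)

/-- `Γ(M|_U)` (on `Spec Γ(X,U)`) and `Γ(M, U)` are isomorphic as `Γ(X, U)`-modules. -/
noncomputable def ΓrestrictSpecLinearEquiv :
    Γ(restrictSpec hU M, ⊤) ≃ₗ[Γ(X, U)] Γ(M, U) :=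
  { (ΓrestrictSpecIso hU M).addCommGroupIsoToAddEquiv with
    map_smul' := fun a x => ΓrestrictSpecIso_smul hU M a x }

section K1

variable {R : CommRingCat.{u}}

set_option backward.isDefEq.respectTransparency false in
/-- On `Spec R`: a quasi-coherent module generated by finitely many global sections has a finite
module of global sections. -/
theorem finite_Γ_of_generatingSections (M : (Spec R).Modules) [M.IsQuasicoherent]
    (G : M.GeneratingSections) [G.IsFiniteType] :
    Module.Finite R Γ(M, ⊤) := by
  let N : ModuleCat R := moduleSpecΓFunctor.obj M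
  have hiso : IsIso M.fromTildeΓ := Scheme.Modules.isIso_fromTildeΓ_of_isQuasicoherent M
  let e : tilde N ≅ M := asIso M.fromTildeΓ
  let ψ : tilde (ModuleCat.of R (G.I →₀ R)) ⟶ tilde N := (tildeFinsupp G.I).hom ≫ G.π ≫ e.inv
  have h1 : Epi G.π := G.epi
  have h2 : Epi (G.π ≫ e.inv) := epi_comp _ _
  have hψ : Epi ψ := epi_comp _ _
  let g : ModuleCat.of R (G.I →₀ R) ⟶ N := (tilde.functor R).preimage ψ
  have hg : (tilde.functor R).map g = ψ := (tilde.functor R).map_preimage ψ
  have : Epi ((tilde.functor R).map g) := by rw [hg]; exact hψ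
  have hepi : Epi g := (tilde.functor R).epi_of_epi_map this
  have hsurj : Function.Surjective g.hom := (ModuleCat.epi_iff_surjective g).1 hepi
  exact Module.Finite.of_surjective g.hom hsurj

end K1

/-- `M|_U` on `Spec Γ(X,U)` is the restriction of `M|_U` (on the scheme `U`) along `U ≅ Spec`. -/
noncomputable def restrictSpecIso :
    restrictSpec hU M ≅ (M.restrict U.ι).restrict hU.isoSpec.inv :=
  (restrictFunctorComp hU.isoSpec.inv U.ι).app M

/-- For an affine open `U`, a quasi-coherent `M` whose restriction to `U` is generated by finitely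
many sections has `Γ(M, U)` finite over `Γ(X, U)`. -/
theorem finite_Γ_of_generatingSections_restrict {X : Scheme.{u}} {U : X.Opens}
    (hU : IsAffineOpen U) (M : X.Modules) [M.IsQuasicoherent]
    (h : ∃ G : (M.restrict U.ι).GeneratingSections, G.IsFiniteType) :
    Module.Finite Γ(X, U) Γ(M, U) := by
  obtain ⟨G, hG⟩ := h
  obtain ⟨G', hG'⟩ := exists_generatingSections_of_iso (restrictSpecIso hU M).symm
    ⟨generatingSectionsRestrict hU.isoSpec.inv G, inferInstance⟩
  have := finite_Γ_of_generatingSections (restrictSpec hU M) G'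
  exact Module.Finite.equiv (ΓrestrictSpecLinearEquiv hU M)

/-- Finite generating families restrict to smaller opens. -/
theorem exists_generatingSections_of_le {X : Scheme.{u}} {V U : X.Opens} (h : V ≤ U)
    (M : X.Modules) (hG : ∃ G : (M.restrict U.ι).GeneratingSections, G.IsFiniteType) :
    ∃ G : (M.restrict V.ι).GeneratingSections, G.IsFiniteType := by
  obtain ⟨G, hG⟩ := hG
  refine exists_generatingSections_of_iso ?_
    ⟨generatingSectionsRestrict (X.homOfLE h) G, inferInstance⟩
  exact ((restrictFunctorComp (X.homOfLE h) U.ι).app M).symm ≪≫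
    (restrictFunctorCongr (X.homOfLE_ι h)).app M

section K2

variable {R : CommRingCat.{u}}

set_option backward.isDefEq.respectTransparency false in
open PrimeSpectrum in
/-- On `Spec R`: a quasi-coherent module of finite type has a finite module of global sections. -/
theorem finite_Γ_Spec (M : (Spec R).Modules) [M.IsQuasicoherent] [hM : M.IsFiniteType] :
    Module.Finite R Γ(M, ⊤) := by
  obtain ⟨ι, W, hW, hG⟩ := (isFiniteType_iff_exists_isOpenCover M).1 hM
  -- the set of `f` with `D(f)` inside some member of the cover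
  let s : Set R := {f | ∃ i, PrimeSpectrum.basicOpen f ≤ W i}
  have hs : Ideal.span s = ⊤ := by
    by_contra hne
    obtain ⟨m, hm, hle⟩ := Ideal.exists_le_maximal _ hne
    let x : PrimeSpectrum R := ⟨m, hm.isPrime⟩
    have hx : x ∈ (⊤ : (Spec R).Opens) := trivial
    rw [← hW.iSup_eq_top] at hx
    obtain ⟨i, hi⟩ := Opens.mem_iSup.1 hx
    obtain ⟨_, ⟨f, rfl⟩, hxf, hfW⟩ :=
      Opens.isBasis_iff_nbhd.1 PrimeSpectrum.isBasis_basic_opens hi
    exact hxf (hle (Ideal.subset_span ⟨i, hfW⟩))
  have hloc : IsLocalizing (modulesSpecToSheaf.obj M) :=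
    (isIso_fromTildeΓ_iff_isLocalizing M).1 inferInstance
  let φ (g : R) : Γ(M, ⊤) →ₗ[R] Γ(M, PrimeSpectrum.basicOpen g) :=
    ((modulesSpecToSheaf.obj M).obj.map
      (homOfLE le_top : PrimeSpectrum.basicOpen g ⟶ ⊤).op).hom
  refine Module.Finite.of_localizationSpan' s hs
    (Rₚ := fun g => Γ(Spec R, PrimeSpectrum.basicOpen g.1))
    (Mₚ := fun g => Γ(M, PrimeSpectrum.basicOpen g.1))
    (fun g => φ g.1)
    (h₂ := fun g => hloc g.1) ?_
  rintro ⟨g, i, hgi⟩
  have hA : IsAffineOpen (X := Spec R) (PrimeSpectrum.basicOpen g) := by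
    have := (isAffineOpen_top (Spec R)).basicOpen ((Scheme.ΓSpecIso R).inv g)
    rwa [basicOpen_eq_of_affine] at this
  exact finite_Γ_of_generatingSections_restrict hA M
    (exists_generatingSections_of_le hgi M (hG i))

end K2

/-- **Coherent ⇒ finite sections**: for `M` quasi-coherent of finite type and `U` an affine open,
`Γ(M, U)` is a finite `Γ(X, U)`-module. -/
theorem finite_Γ_of_isAffineOpen {X : Scheme.{u}} {U : X.Opens} (hU : IsAffineOpen U)
    (M : X.Modules) [M.IsQuasicoherent] [M.IsFiniteType] : Module.Finite Γ(X, U) Γ(M, U) := by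
  have : (restrictSpec hU M).IsFiniteType := isFiniteType_restrict hU.fromSpec M
  have := finite_Γ_Spec (restrictSpec hU M)
  exact Module.Finite.equiv (ΓrestrictSpecLinearEquiv hU M)

/-- `N^~` is generated by finitely many global sections if `N` is a finite module. -/
theorem exists_generatingSections_tilde {R : CommRingCat.{u}} (N : ModuleCat.{u} R)
    [Module.Finite R N] : ∃ G : (tilde N).GeneratingSections, G.IsFiniteType := by
  obtain ⟨s, hs⟩ := (Module.Finite.fg_top : (⊤ : Submodule R N).FG)
  let P := presentationTilde.{u} N (s : Set N) hs _ (Submodule.span_eq _)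
  have : Finite P.generators.I := by
    change Finite (s : Set N)
    infer_instance
  exact ⟨P.generators, ⟨this⟩⟩

set_option backward.isDefEq.respectTransparency false in
/-- On `Spec R`, a quasi-coherent module with finite module of global sections is generated by
finitely many global sections. -/
theorem exists_generatingSections_of_finite_Γ {R : CommRingCat.{u}} (M : (Spec R).Modules)
    [M.IsQuasicoherent] [h : Module.Finite R Γ(M, ⊤)] :
    ∃ G : M.GeneratingSections, G.IsFiniteType := by
  have hiso : IsIso M.fromTildeΓ := Scheme.Modules.isIso_fromTildeΓ_of_isQuasicoherent M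
  have : Module.Finite R (moduleSpecΓFunctor.obj M) := h
  exact exists_generatingSections_of_iso (asIso M.fromTildeΓ)
    (exists_generatingSections_tilde (moduleSpecΓFunctor.obj M))

/-- For an affine open `U` and quasi-coherent `M` with `Γ(M, U)` finite over `Γ(X, U)`, the
restriction `M|_U` is generated by finitely many sections. -/
theorem exists_generatingSections_restrict_of_finite {X : Scheme.{u}} {U : X.Opens}
    (hU : IsAffineOpen U) (M : X.Modules) [M.IsQuasicoherent]
    (h : Module.Finite Γ(X, U) Γ(M, U)) :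
    ∃ G : (M.restrict U.ι).GeneratingSections, G.IsFiniteType := by
  have : Module.Finite Γ(X, U) Γ(restrictSpec hU M, ⊤) :=
    Module.Finite.equiv (ΓrestrictSpecLinearEquiv hU M).symm
  obtain ⟨G, hG⟩ := exists_generatingSections_of_finite_Γ (restrictSpec hU M)
  obtain ⟨G', hG'⟩ := exists_generatingSections_of_iso (restrictSpecIso hU M) ⟨G, hG⟩
  refine exists_generatingSections_of_iso ?_
    ⟨generatingSectionsRestrict hU.isoSpec.hom G', inferInstance⟩
  exact ((restrictFunctorComp hU.isoSpec.hom hU.isoSpec.inv).app (M.restrict U.ι)).symm ≪≫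
    (restrictFunctorCongr (hU.isoSpec.hom_inv_id)).app _ ≪≫ restrictFunctorId.app _

/-- **Characterisation of coherence on affine opens**: a quasi-coherent module is of finite type
iff its sections over every affine open form a finite module. -/
theorem isFiniteType_iff_forall_finite {X : Scheme.{u}} (M : X.Modules) [M.IsQuasicoherent] :
    M.IsFiniteType ↔ ∀ U : X.affineOpens, Module.Finite Γ(X, (U : X.Opens)) Γ(M, (U : X.Opens)) := by
  constructor
  · intro h U
    exact finite_Γ_of_isAffineOpen U.2 M
  · intro h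
    exact isFiniteType_of_isOpenCover M _ (isOpenCover_affineOpens X)
      fun U => exists_generatingSections_restrict_of_finite U.2 M (h U)

end Groth.Agent.Lib.QCoh
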