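import Groth.Agent.Lib.QCoh.TensorRestrict
import Groth.Agent.Lib.QCoh.Invertible

/-!
# QCoh API / TENSOR (lead): tensor powers and invertible modules

* `tensorPowCongr`, `tensorPowAddIso : L^{m+n} ≅ L^m ⊗ L^n`, `tensorPowUnitIso : O^n ≅ O`,
  `tensorPowOneIso : L^1 ≅ L`
* `restrictTensorPowIso : (L^n)|_U ≅ (L|_U)^n`
* `exists_restrict_iso_unit_of_le` : a trivialisation on `U` restricts to any smaller open
* `isInvertible_tensorMod`, `isInvertible_tensorPow`
-/

universe u
open CategoryTheory MonoidalCategory Opposite AlgebraicGeometry TopologicalSpace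

namespace Groth.Agent.Lib.QCoh

open CohB1 Scheme.Modules

variable {X Y : Scheme.{u}}

/-- Tensor powers respect isomorphisms. -/
noncomputable def tensorPowCongr {L L' : X.Modules} (e : L ≅ L') : ∀ n : ℕ,
    tensorPow L n ≅ tensorPow L' n
  | 0 => Iso.refl _
  | n + 1 => tensorModCongr (tensorPowCongr e n) e

/-- `L^{⊗ 1} ≅ L`. -/
noncomputable def tensorPowOneIso (L : X.Modules) : tensorPow L 1 ≅ L :=
  tensorModLeftUnitor L

/-- `L^{⊗ (m+n)} ≅ L^{⊗ m} ⊗ L^{⊗ n}`. -/
noncomputable def tensorPowAddIso (L : X.Modules) (m : ℕ) : ∀ n : ℕ,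
    tensorPow L (m + n) ≅ tensorMod (tensorPow L m) (tensorPow L n)
  | 0 => (tensorModRightUnitor (tensorPow L m)).symm
  | n + 1 =>
    tensorModCongr (tensorPowAddIso L m n) (Iso.refl L) ≪≫
      tensorModAssoc (tensorPow L m) (tensorPow L n) L

/-- `O^{⊗ n} ≅ O`. -/
noncomputable def tensorPowUnitIso (X : Scheme.{u}) : ∀ n : ℕ,
    tensorPow (Coh.structureModule X) n ≅ Coh.structureModule X
  | 0 => Iso.refl _
  | n + 1 => tensorModCongr (tensorPowUnitIso X n) (Iso.refl _) ≪≫
      tensorModLeftUnitor (Coh.structureModule X)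

/-- Restriction to an open commutes with tensor powers. -/
noncomputable def restrictTensorPowIso (f : X ⟶ Y) [IsOpenImmersion f] (L : Y.Modules) :
    ∀ n : ℕ, (tensorPow L n).restrict f ≅ tensorPow (L.restrict f) n
  | 0 => restrictUnitIso f
  | n + 1 => restrictTensorModIso f (tensorPow L n) L ≪≫
      tensorModCongr (restrictTensorPowIso f L n) (Iso.refl _)

/-- A trivialisation over `U` restricts to a trivialisation over any smaller open `V ≤ U`. -/
noncomputable def restrictIsoUnitOfLE {L : X.Modules} {U V : X.Opens} (hVU : V ≤ U)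
    (e : L.restrict U.ι ≅ Coh.structureModule (↑U)) :
    L.restrict V.ι ≅ Coh.structureModule (↑V) :=
  (restrictFunctorCongr (X.homOfLE_ι hVU).symm).app L ≪≫
    (restrictFunctorComp (X.homOfLE hVU) U.ι).app L ≪≫
    (restrictFunctor (X.homOfLE hVU)).mapIso e ≪≫ restrictUnitIso _

/-- The tensor product of two invertible modules is invertible. -/
theorem isInvertible_tensorMod {L M : X.Modules} (hL : PicF.IsInvertible L)
    (hM : PicF.IsInvertible M) : PicF.IsInvertible (tensorMod L M) := by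
  intro y
  obtain ⟨U₁, hy₁, ⟨e₁⟩⟩ := hL y
  obtain ⟨U₂, hy₂, ⟨e₂⟩⟩ := hM y
  refine ⟨U₁ ⊓ U₂, ⟨hy₁, hy₂⟩, ⟨?_⟩⟩
  exact restrictTensorModIso (U₁ ⊓ U₂).ι L M ≪≫
    tensorModCongr (restrictIsoUnitOfLE inf_le_left e₁) (restrictIsoUnitOfLE inf_le_right e₂) ≪≫
    tensorModLeftUnitor _

/-- Tensor powers of an invertible module are invertible. -/
theorem isInvertible_tensorPow {L : X.Modules} (hL : PicF.IsInvertible L) :
    ∀ n : ℕ, PicF.IsInvertible (tensorPow L n)
  | 0 => isInvertible_structureModule X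
  | n + 1 => isInvertible_tensorMod (isInvertible_tensorPow hL n) hL

end Groth.Agent.Lib.QCoh
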