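import Groth.Agent.Lib.QCoh.Helper50_FpqcReflect
import Mathlib.Algebra.Category.ModuleCat.Sheaf.Free
import Mathlib.RingTheory.RingHom.FaithfullyFlat

/-!
# QCoh API (helper50): generation by pulled back sections, global generation

Namespace `Groth.Agent.Lib.QCoh`.

* `exists_sum_smul_pullbackSectionsMap` : flat base change of sections, surjectivity half, in
  elementary form: for `g` flat, `A` a qcqs open of `X` over the affine `W`, every section of
  `g'^* F` over `g'⁻¹ A ⊓ f'⁻¹ W'` is a `Γ(S', W')`-linear combination of pulled back sections.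
* `sectionsOfTop`, `canonicalFreeHom F : free Γ(F, ⊤) ⟶ F`.
-/

universe u

open CategoryTheory CategoryTheory.Limits AlgebraicGeometry Opposite TopologicalSpace TensorProduct

namespace Groth.Agent.Lib.QCoh

open Scheme.Modules

section FlatGen

variable {X S X' S' : Scheme.{u}} (f : X ⟶ S) (g : S' ⟶ S) (g' : X' ⟶ X) (f' : X' ⟶ S')
  (h : IsPullback g' f' f g) {W : S.Opens} {W' : S'.Opens} (e : W' ≤ g ⁻¹ᵁ W)
  (hW : IsAffineOpen W) (hW' : IsAffineOpen W') [Flat g]

include e h hW hW' in
/-- **Flat base change of sections, generation form.** -/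
theorem exists_sum_smul_pullbackSectionsMap (F : X.Modules) [F.IsQuasicoherent] {A : X.Opens}
    (hA : A ≤ f ⁻¹ᵁ W) (hAc : IsCompact (A : Set X)) (hAqs : IsQuasiSeparated (A : Set X))
    {A' : X'.Opens} (h1 : A' ≤ g' ⁻¹ᵁ A) (h2 : A' ≤ f' ⁻¹ᵁ W')
    (hA' : g' ⁻¹ᵁ A ⊓ f' ⁻¹ᵁ W' ≤ A')
    (y : Γ((Scheme.Modules.pullback g').obj F, A')) :
    ∃ (n : ℕ) (b : Fin n → Γ(S', W')) (m : Fin n → Γ(F, A)),
      y = ∑ k, (f'.appLE W' A' h2).hom (b k) • pullbackSectionsMap g' h1 F (m k) := by
  have heq : g' ⁻¹ᵁ A ⊓ f' ⁻¹ᵁ W' = A' := le_antisymm hA' (le_inf h1 h2)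
  have hb0 := compBij_of_isCompact_of_isQuasiSeparated f g g' f' e h hW hW' F hA hAc hAqs
  have hb := compBij_congr f g g' f' e F heq hA inf_le_left inf_le_right hb0
  let _ : Algebra Γ(S, W) Γ(S', W') := (g.appLE W W' e).hom.toAlgebra
  let _ : Module Γ(S, W) Γ(F, A) := Module.compHom _ (f.appLE W A hA).hom
  let _ : Module Γ(S', W') Γ((Scheme.Modules.pullback g').obj F, A') :=
    Module.compHom _ (f'.appLE W' A' h2).hom
  let t : Γ(S', W') ⊗[Γ(S, W)] Γ(F, A) →ₗ[Γ(S', W')] Γ((Scheme.Modules.pullback g').obj F, A') :=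
    semilinearLift (pullbackSectionsMap g' h1 F).hom
      (fun b m => pullbackSectionsMap_smul_base f g g' f' e h.w F hA h1 h2 b m)
  have ht : Function.Bijective t := hb t (fun m => by simp [t])
  obtain ⟨z, rfl⟩ := ht.2 y
  obtain ⟨n, b, m, rfl⟩ := TensorProduct.exists_sum_tmul_eq z
  refine ⟨n, b, m, ?_⟩
  rw [map_sum]
  rfl

end FlatGen

section Free

variable {X : Scheme.{u}}

/-- The global section of `F` (as a compatible family) given by an element of `Γ(F, ⊤)`. -/
noncomputable def sectionsOfTop (F : X.Modules) (m : Γ(F, ⊤)) : SheafOfModules.sections F :=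
  PresheafOfModules.sectionsMk (M := F.val)
    (fun U => (show ↑(F.val.obj U) from F.presheaf.map (homOfLE (le_top : U.unop ≤ ⊤)).op m))
    (by
      intro U V i
      exact map_map_apply F i.unop (homOfLE (le_top : U.unop ≤ ⊤)) (homOfLE le_top) m)

lemma sectionsOfTop_val (F : X.Modules) (m : Γ(F, ⊤)) (U : X.Opens) :
    (sectionsOfTop F m).val (op U) = F.presheaf.map (homOfLE (le_top : U ≤ ⊤)).op m := rfl

lemma sectionsOfTop_val_top (F : X.Modules) (s : SheafOfModules.sections F) :
    sectionsOfTop F (s.val (op ⊤)) = s := by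
  apply PresheafOfModules.sections_ext
  intro U
  exact PresheafOfModules.sections_property s (homOfLE (le_top : U.unop ≤ ⊤)).op

lemma sectionsMap_sectionsOfTop {F G : X.Modules} (φ : F ⟶ G) (m : Γ(F, ⊤)) :
    SheafOfModules.sectionsMap φ (sectionsOfTop F m) = sectionsOfTop G (φ.app ⊤ m) := by
  apply PresheafOfModules.sections_ext
  intro U
  exact app_naturality_apply φ (homOfLE (le_top : U.unop ≤ ⊤)) m

/-- The free `O_X`-module on a type, as an object of `X.Modules`. -/
noncomputable abbrev freeModule (X : Scheme.{u}) (ι : Type u) : X.Modules :=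
  SheafOfModules.free (R := X.ringCatSheaf) ι

/-- The canonical map from the free module on all global sections. -/
noncomputable def canonicalFreeHom (F : X.Modules) : freeModule X Γ(F, ⊤) ⟶ F :=
  (SheafOfModules.freeHomEquiv F).symm (fun m : Γ(F, ⊤) => sectionsOfTop F m)

lemma canonicalFreeHom_app_top_surjective (F : X.Modules) :
    Function.Surjective ((canonicalFreeHom F).app ⊤) := by
  intro m
  refine ⟨(SheafOfModules.freeSection (R := X.ringCatSheaf) m).val (op ⊤), ?_⟩
  have h1 := SheafOfModules.sectionsMap_freeHomEquiv_symm_freeSection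
    (M := F) (fun m : Γ(F, ⊤) => sectionsOfTop F m) m
  have h2 := congrArg (fun s => s.val (op ⊤)) h1
  refine Eq.trans ?_ (h2.trans ?_)
  · rfl
  · change F.presheaf.map (homOfLE (le_top : (⊤ : X.Opens) ≤ ⊤)).op m = m
    have : (homOfLE (le_top : (⊤ : X.Opens) ≤ ⊤)) = 𝟙 _ := rfl
    rw [this, op_id, F.presheaf.map_id]
    rfl

/-- A map from a free module lifts along a morphism which is surjective on global sections. -/
lemma exists_lift_free {P Q : X.Modules} (φ : P ⟶ Q) (hφ : Function.Surjective (φ.app ⊤))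
    {ι : Type u} (p : freeModule X ι ⟶ Q) :
    ∃ q : freeModule X ι ⟶ P, q ≫ φ = p := by
  choose z hz using fun i : ι => hφ ((SheafOfModules.freeHomEquiv Q p i).val (op ⊤))
  refine ⟨(SheafOfModules.freeHomEquiv P).symm (fun i => sectionsOfTop P (z i)), ?_⟩
  have h1 : (SheafOfModules.freeHomEquiv P).symm (fun i => sectionsOfTop P (z i)) ≫ φ =
      (SheafOfModules.freeHomEquiv Q).symm
        (fun i => SheafOfModules.sectionsMap φ (sectionsOfTop P (z i))) :=
    SheafOfModules.freeHomEquiv_symm_comp (fun i => sectionsOfTop P (z i)) φ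
  refine h1.trans ?_
  apply (SheafOfModules.freeHomEquiv Q).injective
  rw [Equiv.apply_symm_apply]
  funext i
  rw [sectionsMap_sectionsOfTop, hz i, sectionsOfTop_val_top]

/-- If some morphism from a free module to `Q` is an epimorphism and `φ : P ⟶ Q` is surjective
on global sections, then `φ` is an epimorphism. -/
lemma epi_of_surjective_top_of_epi_free {P Q : X.Modules} (φ : P ⟶ Q)
    (hφ : Function.Surjective (φ.app ⊤)) {ι : Type u}
    (p : freeModule X ι ⟶ Q) [Epi p] : Epi φ := by
  obtain ⟨q, hq⟩ := exists_lift_free φ hφ p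
  have : Epi (q ≫ φ) := by rw [hq]; infer_instance
  exact epi_of_epi q φ

/-- Free modules are quasi-coherent. -/
instance isQuasicoherent_freeModule (X : Scheme.{u}) (I : Type u) :
    (freeModule X I).IsQuasicoherent := by
  let P : (SheafOfModules.free (R := X.ringCatSheaf) I).Presentation :=
    { generators := SheafOfModules.free.generatingSections I
      relations :=
        { I := ULift Empty
          s := fun j => Empty.rec _ j.down
          epi := IsZero.epi (IsZero.of_iso (isZero_zero _) (Limits.kernel.ofMono _)) _ } }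
  exact P.isQuasicoherent

end Free

section GlobGen

variable {X S X' S' : Scheme.{u}} (f : X ⟶ S) (g : S' ⟶ S) (g' : X' ⟶ X) (f' : X' ⟶ S')
  (h : IsPullback g' f' f g) [IsAffine S] [IsAffine S'] [QuasiCompact f] [QuasiSeparated f]
  [Flat g]

include h in
/-- Over an affine base and after a flat affine base change, the pullback of a morphism which is
surjective on global sections is surjective on global sections (`f` qcqs). -/
theorem surjective_pullback_map_app_top {P F : X.Modules} [F.IsQuasicoherent] (φ : P ⟶ F)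
    (hφ : Function.Surjective (φ.app ⊤)) :
    Function.Surjective (((Scheme.Modules.pullback g').map φ).app ⊤) := by
  intro y
  have hc : CompactSpace X := QuasiCompact.compactSpace_of_compactSpace f
  have hqs : QuasiSeparatedSpace X := quasiSeparatedSpace_of_quasiSeparated f
  obtain ⟨n, b, m, rfl⟩ := exists_sum_smul_pullbackSectionsMap f g g' f' h
    (W := ⊤) (W' := ⊤) le_top (isAffineOpen_top S) (isAffineOpen_top S') F
    (A := ⊤) le_top isCompact_univ isQuasiSeparated_univ (A' := ⊤) le_top le_top le_top y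
  choose z hz using fun k => hφ (m k)
  refine ⟨∑ k, (f'.appLE ⊤ ⊤ le_top).hom (b k) • pullbackSectionsMap g' le_top P (z k), ?_⟩
  rw [map_sum]
  refine Finset.sum_congr rfl fun k _ => ?_
  have h1 := Hom.app_smul ((Scheme.Modules.pullback g').map φ) ((f'.appLE ⊤ ⊤ le_top).hom (b k))
    (pullbackSectionsMap g' le_top P (z k))
  refine h1.trans ?_
  rw [← pullbackSectionsMap_naturality g' le_top φ (z k), hz k]

end GlobGen

end Groth.Agent.Lib.QCoh
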