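import Groth.Agent.Lib.QCoh.Helper18_StalkLoc

/-!
# QCoh API (helper18): stalk maps are `O_{X,x}`-linear; exactness on stalks

Namespace `Groth.Agent.Lib.QCoh`.

* `exists_germ_eq_pair` : a function germ and a module germ have representatives on a common open.
* `stalkMap_smul` : `stalkMap φ x (r • m) = r • stalkMap φ x m`.
* `stalkMapₗ φ x : M_x →ₗ[O_{X,x}] N_x`.
* `stalk_exact_of_shortExact` : for a short exact sequence `S` of `O_X`-modules,
  `S.f_x` injective, `S.g_x` surjective and `ker S.g_x = range S.f_x`.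
-/

universe u

open CategoryTheory CategoryTheory.Limits AlgebraicGeometry Opposite TopologicalSpace

namespace Groth.Agent.Lib.QCoh

variable {X : Scheme.{u}}

lemma exists_germ_eq_pair (M : X.Modules) (x : X) (r : X.presheaf.stalk x)
    (m : M.presheaf.stalk x) :
    ∃ (W : X.Opens) (hx : x ∈ W) (a : Γ(X, W)) (s : Γ(M, W)),
      X.presheaf.germ W x hx a = r ∧ M.presheaf.germ W x hx s = m := by
  obtain ⟨W₁, hx₁, a, rfl⟩ := X.presheaf.exists_germ_eq r
  obtain ⟨W₂, hx₂, s, rfl⟩ := M.presheaf.exists_germ_eq m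
  refine ⟨W₁ ⊓ W₂, ⟨hx₁, hx₂⟩, X.presheaf.map (homOfLE inf_le_left).op a,
    M.presheaf.map (homOfLE inf_le_right).op s, ?_, ?_⟩
  · exact TopCat.Presheaf.germ_res_apply X.presheaf (homOfLE inf_le_left) x _ a
  · exact TopCat.Presheaf.germ_res_apply M.presheaf (homOfLE inf_le_right) x _ s

lemma stalkMap_smul {M N : X.Modules} (φ : M ⟶ N) (x : X) (r : X.presheaf.stalk x)
    (m : M.presheaf.stalk x) : stalkMap φ x (r • m) = r • stalkMap φ x m := by
  obtain ⟨W, hx, a, s, rfl, rfl⟩ := exists_germ_eq_pair M x r m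
  rw [← germ_smul, stalkMap_germ, stalkMap_germ, Scheme.Modules.Hom.app_smul, germ_smul]

/-- The stalk map as an `O_{X,x}`-linear map. -/
noncomputable def stalkMapₗ {M N : X.Modules} (φ : M ⟶ N) (x : X) :
    M.presheaf.stalk x →ₗ[X.presheaf.stalk x] N.presheaf.stalk x where
  toFun := stalkMap φ x
  map_add' := map_add _
  map_smul' := stalkMap_smul φ x

lemma stalkMapₗ_apply {M N : X.Modules} (φ : M ⟶ N) (x : X) (m : M.presheaf.stalk x) :
    stalkMapₗ φ x m = stalkMap φ x m := rfl

theorem stalk_exact_of_shortExact (S : ShortComplex X.Modules) (hS : S.ShortExact) (x : X) :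
    Function.Injective (stalkMap S.f x) ∧ Function.Surjective (stalkMap S.g x) ∧
      ∀ m : S.X₂.presheaf.stalk x, stalkMap S.g x m = 0 → ∃ m₁, stalkMap S.f x m₁ = m := by
  have := hS.mono_f
  have := hS.epi_g
  refine ⟨stalkMap_injective_of_mono S.f x, stalkMap_surjective_of_epi S.g x, ?_⟩
  have hE := (hS.map_of_exact (stalkFunctor X x)).exact
  rw [ShortComplex.ab_exact_iff] at hE
  exact hE

end Groth.Agent.Lib.QCoh
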