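import Groth.Agent.Lib.QCoh.Helper18_StalkQCoh
import Groth.Prelude.Def_FlatMod2

/-!
# QCoh API (helper18): stalks of quasi-coherent modules are localizations

Namespace `Groth.Agent.Lib.QCoh`.  The `O_{X,x}`-module structure on `F.presheaf.stalk x` is the
Prelude instance `FlatMod.moduleStalk`.

* `germ_smul` : `germ (r • m) = germ r • germ m`
* `stalkModuleOfOpen F U x hx` : (reducible def, not an instance) `F_x` as a `Γ(X,U)`-module
* `germₗ F U x hx : Γ(F,U) →ₗ[Γ(X,U)] F_x`
* `isLocalizedModule_germ` : for `F` q-coh, `U` affine, `x ∈ U`, `germₗ` is the localization of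
  `Γ(F,U)` at the prime `hU.primeIdealOf ⟨x,hx⟩`.
  (Mathlib: `IsAffineOpen.isLocalization_stalk` is the ring version.)
-/

universe u

open CategoryTheory CategoryTheory.Limits AlgebraicGeometry Opposite TopologicalSpace

namespace Groth.Agent.Lib.QCoh

variable {X : Scheme.{u}}

lemma germ_smul (F : X.Modules) (x : X) (U : X.Opens) (hx : x ∈ U) (r : Γ(X, U)) (m : Γ(F, U)) :
    F.presheaf.germ U x hx (r • m) = X.presheaf.germ U x hx r • F.presheaf.germ U x hx m :=
  PresheafOfModules.germ_smul (R := X.presheaf)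
    (show PresheafOfModules (X.presheaf ⋙ forget₂ CommRingCat RingCat) from F.val) x U hx r m

/-- The stalk `F_x` as a module over `Γ(X, U)` for an open `U ∋ x` (through the germ map). -/
@[reducible] noncomputable def stalkModuleOfOpen (F : X.Modules) (U : X.Opens) (x : X) (hx : x ∈ U) :
    Module Γ(X, U) (F.presheaf.stalk x) :=
  Module.compHom (F.presheaf.stalk x) (X.presheaf.germ U x hx).hom

/-- The germ map as a `Γ(X,U)`-linear map. -/
noncomputable def germₗ (F : X.Modules) (U : X.Opens) (x : X) (hx : x ∈ U) :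
    letI := stalkModuleOfOpen F U x hx
    Γ(F, U) →ₗ[Γ(X, U)] F.presheaf.stalk x :=
  letI := stalkModuleOfOpen F U x hx
  { toFun := F.presheaf.germ U x hx
    map_add' := map_add _
    map_smul' := fun r m => germ_smul F x U hx r m }

lemma germₗ_apply (F : X.Modules) (U : X.Opens) (x : X) (hx : x ∈ U) (m : Γ(F, U)) :
    germₗ F U x hx m = F.presheaf.germ U x hx m := rfl

/-- **Stalks of quasi-coherent modules are localizations**: for `F` quasi-coherent, `U` affine open
and `x ∈ U`, the germ map `Γ(F,U) → F_x` is the localization at the prime of `x`. -/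
theorem isLocalizedModule_germ (F : X.Modules) [F.IsQuasicoherent] {U : X.Opens}
    (hU : IsAffineOpen U) (x : X) (hx : x ∈ U) :
    letI := stalkModuleOfOpen F U x hx
    IsLocalizedModule (hU.primeIdealOf ⟨x, hx⟩).asIdeal.primeCompl (germₗ F U x hx) := by
  let _ := stalkModuleOfOpen F U x hx
  refine ⟨?_, ?_, ?_⟩
  · -- units
    rintro ⟨r, hr⟩
    have hr' : IsUnit (X.presheaf.germ U x hx r) := by
      rw [← Scheme.mem_basicOpen _ _ x hx]
      exact (notMem_primeIdealOf_iff hU x hx r).1 hr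
    rw [Module.End.isUnit_iff]
    constructor
    · intro a b hab
      have hab' : X.presheaf.germ U x hx r • a = X.presheaf.germ U x hx r • b := hab
      exact hr'.smul_left_cancel.1 hab'
    · obtain ⟨u, hu⟩ := hr'
      intro b
      refine ⟨(↑u⁻¹ : X.presheaf.stalk x) • b, ?_⟩
      change X.presheaf.germ U x hx r • ((↑u⁻¹ : X.presheaf.stalk x) • b) = b
      rw [← hu, smul_smul, Units.mul_inv, one_smul]
  · -- surjectivity
    intro t
    obtain ⟨W, hxW, s', rfl⟩ := F.presheaf.exists_germ_eq t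
    obtain ⟨h, hhW, hxh⟩ := hU.exists_basicOpen_le (V := W) ⟨x, hxW⟩ hx
    obtain ⟨n, s, hs⟩ := Groth.Agent.Lib.Helper22.exists_pow_smul_eq_map_of_isAffineOpen F hU h
      (F.presheaf.map (homOfLE hhW).op s')
    have hmem : h ^ n ∈ (hU.primeIdealOf ⟨x, hx⟩).asIdeal.primeCompl := by
      rw [Ideal.mem_primeCompl_iff, notMem_primeIdealOf_iff hU x hx,
        Scheme.mem_basicOpen _ _ x hx, map_pow]
      exact ((Scheme.mem_basicOpen _ _ x hx).1 hxh).pow n
    refine ⟨(s, ⟨h ^ n, hmem⟩), ?_⟩
    change X.presheaf.germ U x hx (h ^ n) • F.presheaf.germ W x hxW s' = F.presheaf.germ U x hx s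
    have e1 : F.presheaf.germ U x hx s =
        F.presheaf.germ (X.basicOpen h) x hxh (F.presheaf.map (homOfLE (X.basicOpen_le h)).op s) :=
      (TopCat.Presheaf.germ_res_apply F.presheaf _ x hxh s).symm
    rw [e1, hs, germ_smul, TopCat.Presheaf.germ_res_apply, map_pow, map_pow]
    congr 2
    exact (TopCat.Presheaf.germ_res_apply X.presheaf (homOfLE (X.basicOpen_le h)) x hxh h).symm
  · -- kernel
    intro s₁ s₂ h12
    have h12' : F.presheaf.germ U x hx s₁ = F.presheaf.germ U x hx s₂ := h12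
    obtain ⟨W, hxW, iU, iV, hW⟩ := TopCat.Presheaf.germ_eq F.presheaf x hx hx _ _ h12'
    obtain ⟨h, hhW, hxh⟩ := hU.exists_basicOpen_le (V := W) ⟨x, hxW⟩ hx
    rw [show iV = iU from Subsingleton.elim _ _] at hW
    have hs : F.presheaf.map (homOfLE (X.basicOpen_le h)).op (s₁ - s₂) = 0 := by
      have e : (homOfLE (X.basicOpen_le h)).op = iU.op ≫ (homOfLE hhW).op := rfl
      rw [map_sub, sub_eq_zero, e, Functor.map_comp, ConcreteCategory.comp_apply,
        ConcreteCategory.comp_apply, hW]
    obtain ⟨n, hn⟩ := Groth.Agent.Lib.Helper22.exists_pow_smul_eq_zero_of_isAffineOpen F hU h _ hs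
    have hmem : h ^ n ∈ (hU.primeIdealOf ⟨x, hx⟩).asIdeal.primeCompl := by
      rw [Ideal.mem_primeCompl_iff, notMem_primeIdealOf_iff hU x hx,
        Scheme.mem_basicOpen _ _ x hx, map_pow]
      exact ((Scheme.mem_basicOpen _ _ x hx).1 hxh).pow n
    refine ⟨⟨h ^ n, hmem⟩, ?_⟩
    change h ^ n • s₁ = h ^ n • s₂
    rw [← sub_eq_zero, ← smul_sub]
    exact hn

end Groth.Agent.Lib.QCoh
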