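import Groth.Agent.Lib.QCoh.Local
import Mathlib.Algebra.Module.FinitePresentation
import Mathlib.RingTheory.LocalProperties.Basic

/-!
# QCoh API (lead): finite type / finite presentation, basic dictionary

Namespace `Groth.Agent.Lib.QCoh`.

* `generatingSectionsRestrictOfOver`, `generatingSectionsOverOfRestrict` : bridge `M.over V` ↔ `M|_V`
* `isFiniteType_iff_exists_isOpenCover`, `isFiniteType_of_isOpenCover` : `IsFiniteType M` ⇔ there is
  an open cover `U i` with each `M|_{U i}` generated by finitely many sections
* `isFiniteType_of_generatingSections`, `isFinitePresentation_of_presentation`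
* `isFiniteType_tilde` (`Module.Finite`), `isFinitePresentation_tilde` (`Module.FinitePresentation`)
* `generatingSectionsRestrict`, `exists_generatingSections_of_iso`
* `isFiniteType_restrict` : finite type is stable under restriction along open immersions
-/

universe u

open CategoryTheory CategoryTheory.Limits AlgebraicGeometry Opposite TopologicalSpace

namespace Groth.Agent.Lib.QCoh

variable {X : Scheme.{u}}

open Scheme.Modules

/-- Generating sections of `M|_V` from generating sections of `M.over V`. -/
noncomputable def generatingSectionsRestrictOfOver (M : X.Modules) (V : X.Opens)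
    (G : (M.over V).GeneratingSections) : (M.restrict V.ι).GeneratingSections :=
  (G.map (overEquiv V).functor (V.sheafOfModulesEquivOverUnit X.ringCatSheaf).symm).ofEpi
    ((overFunctorEquiv V).app M).hom

/-- Generating sections of `M.over V` from generating sections of `M|_V`. -/
noncomputable def generatingSectionsOverOfRestrict (M : X.Modules) (V : X.Opens)
    (G : (M.restrict V.ι).GeneratingSections) : (M.over V).GeneratingSections :=
  (G.map (overEquiv V).inverse (V.sheafOfModulesEquivOverInverseUnit X.ringCatSheaf).symm).ofEpi
    ((overEquiv V).inverse.mapIso ((overFunctorEquiv V).app M).symm ≪≫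
      ((overEquiv V).unitIso.app (M.over V)).symm).hom

instance (M : X.Modules) (V : X.Opens) (G : (M.over V).GeneratingSections) [G.IsFiniteType] :
    (generatingSectionsRestrictOfOver M V G).IsFiniteType := by
  unfold generatingSectionsRestrictOfOver; infer_instance

instance (M : X.Modules) (V : X.Opens) (G : (M.restrict V.ι).GeneratingSections) [G.IsFiniteType] :
    (generatingSectionsOverOfRestrict M V G).IsFiniteType := by
  unfold generatingSectionsOverOfRestrict; infer_instance

/-- **Finite type is: locally generated by finitely many sections**, phrased with restrictions to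
the members of an open cover. -/
theorem isFiniteType_iff_exists_isOpenCover (M : X.Modules) :
    M.IsFiniteType ↔ ∃ (ι : Type u) (U : ι → X.Opens), IsOpenCover U ∧
      ∀ i, ∃ G : (M.restrict (U i).ι).GeneratingSections, G.IsFiniteType := by
  constructor
  · rintro ⟨σ, hσ⟩
    refine ⟨σ.I, σ.X, (Opens.coversTop_iff _ _).1 σ.coversTop, fun i => ?_⟩
    have := hσ.isFiniteType i
    exact ⟨generatingSectionsRestrictOfOver M (σ.X i) (σ.generators i), inferInstance⟩
  · rintro ⟨ι, U, hU, h⟩
    choose G hG using h
    let σ : SheafOfModules.LocalGeneratorsData.{u} M :=
      { I := ι, X := U, coversTop := (Opens.coversTop_iff _ _).2 hU,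
        generators := fun i => generatingSectionsOverOfRestrict M (U i) (G i) }
    have hσ : σ.IsFiniteType :=
      { isFiniteType := fun i =>
          inferInstanceAs (generatingSectionsOverOfRestrict M (U i) (G i)).IsFiniteType }
    exact { exists_localGeneratorsData := ⟨σ, hσ⟩ }

theorem isFiniteType_of_isOpenCover (M : X.Modules) {ι : Type u} (U : ι → X.Opens)
    (hU : IsOpenCover U) (h : ∀ i, ∃ G : (M.restrict (U i).ι).GeneratingSections, G.IsFiniteType) :
    M.IsFiniteType :=
  (isFiniteType_iff_exists_isOpenCover M).2 ⟨ι, U, hU, h⟩

/-- A module with a finite family of global generating sections is of finite type. -/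
theorem isFiniteType_of_generatingSections (M : X.Modules) (G : M.GeneratingSections)
    [G.IsFiniteType] : M.IsFiniteType :=
  { exists_localGeneratorsData := ⟨G.localGeneratorsData,
      { isFiniteType := fun i =>
          inferInstanceAs (G.map (SheafOfModules.pushforward (𝟙 (X.ringCatSheaf.over i)))
            (Iso.refl _)).IsFiniteType }⟩ }

/-- A module with a finite global presentation is of finite presentation. -/
theorem isFinitePresentation_of_presentation (M : X.Modules) (P : M.Presentation)
    [P.IsFinite] : M.IsFinitePresentation :=
  { exists_quasicoherentData := ⟨P.quasicoherentData,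
      { isFinite_presentation := fun i => by
          change (P.map (SheafOfModules.pushforward (𝟙 (X.ringCatSheaf.over i)))
            (Iso.refl _)).IsFinite
          exact { isFiniteType_generators := ⟨inferInstanceAs (Finite P.generators.I)⟩
                  isFiniteType_relations := ⟨inferInstanceAs (Finite P.relations.I)⟩ } }⟩ }

variable {R : CommRingCat.{u}}

/-- `N^~` is of finite type if `N` is a finite module. -/
theorem isFiniteType_tilde (N : ModuleCat.{u} R) [Module.Finite R N] :
    (tilde N).IsFiniteType := by
  obtain ⟨s, hs⟩ := (Module.Finite.fg_top : (⊤ : Submodule R N).FG)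
  let P := presentationTilde.{u} N (s : Set N) hs _ (Submodule.span_eq _)
  have : Finite P.generators.I := by
    change Finite (s : Set N)
    infer_instance
  have : P.generators.IsFiniteType := ⟨this⟩
  exact isFiniteType_of_generatingSections _ P.generators

/-- `N^~` is of finite presentation if `N` is a finitely presented module. -/
theorem isFinitePresentation_tilde (N : ModuleCat.{u} R) [h : Module.FinitePresentation R N] :
    (tilde N).IsFinitePresentation := by
  obtain ⟨s, hs, t, ht⟩ := h.out
  let P := presentationTilde.{u} N (s : Set N) hs (t : Set _) ht
  have h1 : Finite P.generators.I := by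
    change Finite (s : Set N)
    infer_instance
  have h2 : Finite P.relations.I := by
    change Finite (t : Set ((s : Set N) →₀ R))
    infer_instance
  have : P.IsFinite := { isFiniteType_generators := ⟨h1⟩, isFiniteType_relations := ⟨h2⟩ }
  exact isFinitePresentation_of_presentation _ P

section Restrict

variable {Y Z : Scheme.{u}}

set_option backward.isDefEq.respectTransparency false in
/-- Generating sections restrict along open immersions. -/
noncomputable def generatingSectionsRestrict (g : Y ⟶ X) [IsOpenImmersion g] {M : X.Modules}
    (G : M.GeneratingSections) : (M.restrict g).GeneratingSections :=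
  have : PreservesColimitsOfSize.{u, u} (restrictFunctor g) := inferInstance
  G.map (restrictFunctor.{u} g) (restrictUnitIso g).symm

instance (g : Y ⟶ X) [IsOpenImmersion g] {M : X.Modules} (G : M.GeneratingSections)
    [G.IsFiniteType] : (generatingSectionsRestrict g G).IsFiniteType := by
  unfold generatingSectionsRestrict; infer_instance

/-- Transport of generating sections along an isomorphism of modules. -/
theorem exists_generatingSections_of_iso {M N : X.Modules} (e : M ≅ N)
    (h : ∃ G : M.GeneratingSections, G.IsFiniteType) :
    ∃ G : N.GeneratingSections, G.IsFiniteType := by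
  obtain ⟨G, hG⟩ := h
  exact ⟨G.ofEpi e.hom, inferInstance⟩

/-- Finite type is stable under restriction along open immersions. -/
theorem isFiniteType_restrict (g : Y ⟶ X) [IsOpenImmersion g] (M : X.Modules)
    [hM : M.IsFiniteType] : (M.restrict g).IsFiniteType := by
  obtain ⟨ι, U, hU, h⟩ := (isFiniteType_iff_exists_isOpenCover M).1 hM
  refine isFiniteType_of_isOpenCover _ (fun i => g ⁻¹ᵁ U i) ?_ fun i => ?_
  · rw [IsOpenCover, ← top_le_iff]
    intro y _
    have : g.base y ∈ (⊤ : X.Opens) := trivial
    rw [← hU.iSup_eq_top] at this
    obtain ⟨i, hi⟩ := Opens.mem_iSup.1 this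
    exact Opens.mem_iSup.2 ⟨i, hi⟩
  · obtain ⟨G, hG⟩ := h i
    refine exists_generatingSections_of_iso ?_
      ⟨generatingSectionsRestrict (g ∣_ U i) G, inferInstance⟩
    exact ((restrictFunctorComp (g ∣_ U i) (U i).ι).app M).symm ≪≫
      (restrictFunctorCongr (morphismRestrict_ι g (U i))).app M ≪≫
      (restrictFunctorComp (g ⁻¹ᵁ U i).ι g).app M

end Restrict

end Groth.Agent.Lib.QCoh
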