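import Groth.Agent.Lib.QCoh.Helper50_Pushforward
import Mathlib.CategoryTheory.Abelian.Basic

/-!
# QCoh API (helper50): restriction, finite products and biproducts of quasi-coherent modules

Namespace `Groth.Agent.Lib.QCoh`.

* `isQuasicoherent_restrict` : `M|_U` is quasi-coherent (any open immersion).
* `isQuasicoherent_pi_of_finite` : finite products of quasi-coherent modules are quasi-coherent.
* `isQuasicoherent_biprod`, `isQuasicoherent_prod`.
* `isQuasicoherent_pullback_of_isQuasicoherent` : fibre products of quasi-coherent modules.
-/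

universe u

open CategoryTheory CategoryTheory.Limits AlgebraicGeometry Opposite TopologicalSpace

namespace Groth.Agent.Lib.QCoh

variable {X Y : Scheme.{u}}

/-- Restriction along an open immersion preserves quasi-coherence. -/
theorem isQuasicoherent_restrict (f : Y ⟶ X) [IsOpenImmersion f] (M : X.Modules)
    [M.IsQuasicoherent] : (M.restrict f).IsQuasicoherent :=
  isQuasicoherent_of_iso ((Scheme.Modules.restrictFunctorIsoPullback f).app M).symm
    (isQuasicoherent_pullback f M)

section EssImage

variable {C D : Type*} [Category C] [Category D] (F : C ⥤ D)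

/-- The essential image of a functor preserving a product is closed under that product. -/
theorem essImage_pi {ι : Type*} (M : ι → D) [HasProduct M]
    [∀ A : ι → C, HasProduct A] [∀ A : ι → C, HasProduct (fun i => F.obj (A i))]
    [∀ A : ι → C, PreservesLimit (Discrete.functor A) F]
    (h : ∀ i, F.essImage (M i)) : F.essImage (∏ᶜ M) := by
  choose A hA using h
  have e : ∀ i, F.obj (A i) ≅ M i := fun i => (hA i).some
  exact ⟨∏ᶜ A, ⟨PreservesProduct.iso F A ≪≫
    HasLimit.isoOfNatIso (Discrete.natIso (fun i => e i.as))⟩⟩

end EssImage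

/-- Finite products of quasi-coherent modules on `Spec R` are quasi-coherent. -/
theorem isQuasicoherent_pi_Spec {R : CommRingCat.{u}} {ι : Type*} [Finite ι]
    (M : ι → (Spec R).Modules) [HasProduct M] (h : ∀ i, (M i).IsQuasicoherent) :
    (∏ᶜ M).IsQuasicoherent := by
  have hh := essImage_tilde (R := R)
  have h' : ∀ i, (tilde.functor R).essImage (M i) := fun i => by rw [hh]; exact h i
  have := essImage_pi (tilde.functor R) M h'
  rw [hh] at this
  exact this

open Scheme.Modules in
theorem isQuasicoherent_pi_of_isAffine [IsAffine Y] {ι : Type*} [Finite ι]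
    (M : ι → Y.Modules) [HasProduct M] [HasProduct fun i => (M i).restrict Y.isoSpec.inv]
    (h : ∀ i, (M i).IsQuasicoherent) :
    (∏ᶜ M).IsQuasicoherent := by
  have : ((∏ᶜ M).restrict Y.isoSpec.inv).IsQuasicoherent :=
    isQuasicoherent_of_iso (PreservesProduct.iso (restrictFunctor Y.isoSpec.inv) M).symm
      (isQuasicoherent_pi_Spec _ (fun i => isQuasicoherent_restrict _ (M i)))
  exact isQuasicoherent_of_restrict_iso Y.isoSpec.inv _

open Scheme.Modules in
/-- **Finite products of quasi-coherent modules are quasi-coherent** (any scheme). -/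
theorem isQuasicoherent_pi_of_finite {ι : Type*} [Finite ι] (M : ι → X.Modules)
    (h : ∀ i, (M i).IsQuasicoherent) : (∏ᶜ M).IsQuasicoherent := by
  refine isQuasicoherent_of_forall_affineOpens _ fun U => ?_
  have : IsAffine (U : X.Opens) := U.2
  exact isQuasicoherent_of_iso
    (PreservesProduct.iso (restrictFunctor (U : X.Opens).ι) M).symm
    (isQuasicoherent_pi_of_isAffine _ (fun i => isQuasicoherent_restrict _ (M i)))

/-- Binary products of quasi-coherent modules are quasi-coherent. -/
theorem isQuasicoherent_prod (M N : X.Modules) [hM : M.IsQuasicoherent] [hN : N.IsQuasicoherent] :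
    (M ⨯ N).IsQuasicoherent := by
  have h := isQuasicoherent_pi_of_finite (X := X)
    (fun j : WalkingPair => (WalkingPair.casesOn j M N : X.Modules))
    (by rintro (_ | _) <;> assumption)
  exact h

/-- Binary biproducts of quasi-coherent modules are quasi-coherent. -/
theorem isQuasicoherent_biprod (M N : X.Modules) [hM : M.IsQuasicoherent]
    [hN : N.IsQuasicoherent] : (M ⊞ N).IsQuasicoherent :=
  isQuasicoherent_of_iso (biprod.isoProd M N).symm (isQuasicoherent_prod M N)

/-- **Fibre products of quasi-coherent modules are quasi-coherent.** -/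
theorem isQuasicoherent_pullback_of_isQuasicoherent {M N K : X.Modules} [M.IsQuasicoherent]
    [N.IsQuasicoherent] [K.IsQuasicoherent] (f : M ⟶ K) (g : N ⟶ K) :
    (Limits.pullback f g).IsQuasicoherent := by
  have : (M ⊞ N).IsQuasicoherent := isQuasicoherent_biprod M N
  have h := isQuasicoherent_kernel (biprod.desc f (-g))
  refine isQuasicoherent_of_iso ?_ h
  exact IsLimit.conePointUniqueUpToIso (kernelIsKernel _)
    (Abelian.PullbackToBiproductIsKernel.isLimitPullbackToBiproduct f g)

end Groth.Agent.Lib.QCoh
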