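import Groth.Agent.Lib.QCoh.TensorPic

/-!
# QCoh API / TENSOR (lead): more isomorphisms between tensor powers

ns `Groth.Agent.Lib.QCoh`.
* `tensorPowEqIso : m = n → L^m ≅ L^n`
* `tensorPowMulIso : (L^m)^n ≅ L^(m*n)`
* `tensorModShuffle : (A ⊗ B) ⊗ (C ⊗ D) ≅ (A ⊗ C) ⊗ (B ⊗ D)`
* `tensorPowTensorIso : (L ⊗ L')^n ≅ L^n ⊗ L'^n`
* `tensorPowSuccIso'` : `L^(n+1) ≅ L ⊗ L^n`
-/

universe u
open CategoryTheory MonoidalCategory Opposite AlgebraicGeometry TopologicalSpace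

namespace Groth.Agent.Lib.QCoh

open CohB1 Scheme.Modules

variable {X : Scheme.{u}}

/-- equal exponents give isomorphic tensor powers -/
noncomputable def tensorPowEqIso (L : X.Modules) {m n : ℕ} (h : m = n) : tensorPow L m ≅ tensorPow L n :=
  eqToIso (by rw [h])

/-- `(L^m)^n ≅ L^(m*n)` -/
noncomputable def tensorPowMulIso (L : X.Modules) (m : ℕ) : ∀ n : ℕ,
    tensorPow (tensorPow L m) n ≅ tensorPow L (m * n)
  | 0 => Iso.refl _
  | n + 1 => tensorModCongr (tensorPowMulIso L m n) (Iso.refl _) ≪≫ (tensorPowAddIso L (m * n) m).symm ≪≫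
      tensorPowEqIso L (Nat.mul_succ m n).symm

/-- `(A ⊗ B) ⊗ (C ⊗ D) ≅ (A ⊗ C) ⊗ (B ⊗ D)` -/
noncomputable def tensorModShuffle (A B C D : X.Modules) :
    tensorMod (tensorMod A B) (tensorMod C D) ≅ tensorMod (tensorMod A C) (tensorMod B D) :=
  tensorModAssoc A B (tensorMod C D) ≪≫
    tensorModCongr (Iso.refl A)
      ((tensorModAssoc B C D).symm ≪≫ tensorModCongr (tensorModBraiding B C) (Iso.refl D) ≪≫
        tensorModAssoc C B D) ≪≫
    (tensorModAssoc A C (tensorMod B D)).symm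

/-- `(L ⊗ L')^n ≅ L^n ⊗ L'^n` -/
noncomputable def tensorPowTensorIso (L L' : X.Modules) : ∀ n : ℕ,
    tensorPow (tensorMod L L') n ≅ tensorMod (tensorPow L n) (tensorPow L' n)
  | 0 => (tensorModLeftUnitor (Coh.structureModule X)).symm
  | n + 1 => tensorModCongr (tensorPowTensorIso L L' n) (Iso.refl _) ≪≫
      tensorModShuffle (tensorPow L n) (tensorPow L' n) L L'

/-- `L^(n+1) ≅ L ⊗ L^n` -/
noncomputable def tensorPowSuccIso' (L : X.Modules) (n : ℕ) :
    tensorPow L (n + 1) ≅ tensorMod L (tensorPow L n) :=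
  tensorModBraiding (tensorPow L n) L

end Groth.Agent.Lib.QCoh
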