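import Groth.Agent.Lib.QCoh.Helper18_StalkLoc
import Groth.Agent.Lib.Helper18.WeakAss
import Groth.Prelude.Def_CurvBase

/-!
# QCoh API (helper18): associated / weakly associated points of quasi-coherent modules

Namespace `Groth.Agent.Lib.QCoh`.

With the current Mathlib definition `IsAssociatedPrime I M := I prime ∧ ∃ m, I = radical (ann m)`
the Prelude notions `Curv2.IsAssPoint` and `Curv2.IsWeakAssPoint` coincide
(`isAssPoint_iff_isWeakAssPoint`).

* `section_eq_zero_of_germ_eq_zero`, `isZero_of_forall_stalk_subsingleton`,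
  `isZero_iff_forall_stalk_subsingleton`
* `fromSpec_mem`, `primeIdealOf_fromSpec`, `fromSpec_specializes`
* `germ_eq_zero_iff_of_isAffineOpen`
* `isWeakAssPoint_iff_of_isAffineOpen` : for `F` q-coh, `U` affine, `x ∈ U`:
  `x` weakly associated iff `p_x` is minimal over `ann m` for some `m ∈ Γ(F,U)`.
-/

universe u

open CategoryTheory CategoryTheory.Limits AlgebraicGeometry Opposite TopologicalSpace
open Groth.Agent.Lib.Helper18

namespace Groth.Agent.Lib.QCoh

variable {X : Scheme.{u}}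

lemma isAssPoint_iff_isWeakAssPoint (F : X.Modules) (x : X) :
    Curv2.IsAssPoint F x ↔ Curv2.IsWeakAssPoint F x := by
  unfold Curv2.IsAssPoint Curv2.IsWeakAssPoint
  constructor
  · rintro ⟨_, m, hm⟩
    refine ⟨m, ?_⟩
    rw [← WeakAss.ann_eq_colon] at hm
    exact hm.symm
  · rintro ⟨m, hm⟩
    refine ⟨inferInstance, m, ?_⟩
    rw [← WeakAss.ann_eq_colon]
    exact hm.symm

/-- A section all of whose germs vanish is zero. -/
lemma section_eq_zero_of_germ_eq_zero (F : X.Modules) (U : X.Opens) (s : Γ(F, U))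
    (h : ∀ (x : X) (hx : x ∈ U), F.presheaf.germ U x hx s = 0) : s = 0 := by
  refine TopCat.Presheaf.section_ext ⟨F.presheaf, F.isSheaf⟩ U s 0 ?_
  intro x hx
  rw [h x hx]
  exact (map_zero _).symm

theorem isZero_of_forall_stalk_subsingleton (F : X.Modules)
    (h : ∀ x : X, Subsingleton (F.presheaf.stalk x)) : IsZero F := by
  rw [IsZero.iff_id_eq_zero]
  apply Scheme.Modules.hom_ext
  intro U
  ext s
  have hs : s = 0 := section_eq_zero_of_germ_eq_zero F U s (fun x hx => Subsingleton.elim _ _)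
  subst hs
  simp

theorem isZero_iff_forall_stalk_subsingleton (F : X.Modules) :
    IsZero F ↔ ∀ x : X, Subsingleton (F.presheaf.stalk x) :=
  ⟨fun h x => stalk_subsingleton_of_isZero h x, isZero_of_forall_stalk_subsingleton F⟩

lemma fromSpec_mem {U : X.Opens} (hU : IsAffineOpen U) (q : PrimeSpectrum Γ(X, U)) :
    hU.fromSpec q ∈ U := by
  have : hU.fromSpec q ∈ Set.range hU.fromSpec := ⟨q, rfl⟩
  rw [hU.range_fromSpec] at this
  exact this

lemma primeIdealOf_fromSpec {U : X.Opens} (hU : IsAffineOpen U) (q : PrimeSpectrum Γ(X, U)) :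
    hU.primeIdealOf ⟨hU.fromSpec q, fromSpec_mem hU q⟩ = q := by
  have := hU.fromSpec_primeIdealOf ⟨hU.fromSpec q, fromSpec_mem hU q⟩
  exact hU.fromSpec.isOpenEmbedding.injective this

lemma fromSpec_specializes {U : X.Opens} (hU : IsAffineOpen U) {q p : PrimeSpectrum Γ(X, U)}
    (h : q ≤ p) : hU.fromSpec q ⤳ hU.fromSpec p :=
  ((PrimeSpectrum.le_iff_specializes q p).1 h).map hU.fromSpec.continuous


section affine

variable (F : X.Modules) [F.IsQuasicoherent] {U : X.Opens} (hU : IsAffineOpen U) (x : X)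
  (hx : x ∈ U)

/-- The scalar tower `Γ(X,U) → O_{X,x} → F_x`. -/
lemma isScalarTower_stalk (F : X.Modules) (U : X.Opens) (x : X) (hx : x ∈ U) :
    letI := stalkModuleOfOpen F U x hx
    letI : Algebra Γ(X, U) (X.presheaf.stalk x) :=
      TopCat.Presheaf.algebra_section_stalk X.presheaf ⟨x, hx⟩
    IsScalarTower Γ(X, U) (X.presheaf.stalk x) (F.presheaf.stalk x) := by
  let _ := stalkModuleOfOpen F U x hx
  let _ : Algebra Γ(X, U) (X.presheaf.stalk x) :=
    TopCat.Presheaf.algebra_section_stalk X.presheaf ⟨x, hx⟩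
  refine ⟨fun a b m => ?_⟩
  change (X.presheaf.germ U x hx a * b) • m = X.presheaf.germ U x hx a • (b • m)
  rw [mul_smul]

include hU in
lemma germ_eq_zero_iff_of_isAffineOpen (m : Γ(F, U)) :
    F.presheaf.germ U x hx m = 0 ↔
      ∃ t : Γ(X, U), t ∉ (hU.primeIdealOf ⟨x, hx⟩).asIdeal ∧ t • m = 0 := by
  let _ := stalkModuleOfOpen F U x hx
  have := isLocalizedModule_germ F hU x hx
  exact WeakAss.map_eq_zero_iff_exists (hU.primeIdealOf ⟨x, hx⟩).asIdeal (germₗ F U x hx) m

include hU in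
/-- For `F` quasi-coherent, `U` affine open and `x ∈ U`: `x` is weakly associated to `F` iff the
prime of `x` is minimal over the annihilator of some section of `F` over `U`. -/
theorem isWeakAssPoint_iff_of_isAffineOpen :
    Curv2.IsWeakAssPoint F x ↔
      ∃ m : Γ(F, U), (hU.primeIdealOf ⟨x, hx⟩).asIdeal ∈ (WeakAss.ann Γ(X, U) m).minimalPrimes := by
  let _ := stalkModuleOfOpen F U x hx
  let _ : Algebra Γ(X, U) (X.presheaf.stalk x) :=
    TopCat.Presheaf.algebra_section_stalk X.presheaf ⟨x, hx⟩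
  have := hU.isLocalization_stalk ⟨x, hx⟩
  have := isScalarTower_stalk F U x hx
  have := isLocalizedModule_germ F hU x hx
  have key := fun m : Γ(F, U) => WeakAss.radical_ann_eq_maximalIdeal_iff
    (R' := X.presheaf.stalk x) (hU.primeIdealOf ⟨x, hx⟩).asIdeal (germₗ F U x hx) m
  constructor
  · rintro ⟨m', hm'⟩
    obtain ⟨⟨m, t⟩, hmt⟩ := IsLocalizedModule.surj (hU.primeIdealOf ⟨x, hx⟩).asIdeal.primeCompl
      (germₗ F U x hx) m'
    refine ⟨m, (key m).1 ?_⟩
    have hu : IsUnit (X.presheaf.germ U x hx t.1) := by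
      rw [← Scheme.mem_basicOpen _ _ x hx]
      exact (notMem_primeIdealOf_iff hU x hx t.1).1 t.2
    have e : germₗ F U x hx m = X.presheaf.germ U x hx t.1 • m' := hmt.symm
    rw [e, WeakAss.ann_smul_of_isUnit hu]
    exact hm'
  · rintro ⟨m, hm⟩
    exact ⟨germₗ F U x hx m, (key m).2 hm⟩

include hU in
/-- A nonzero section of a quasi-coherent module over an affine open has nonzero germ at some
weakly associated point. -/
theorem exists_isWeakAssPoint_of_section_ne_zero (m : Γ(F, U)) (hm : m ≠ 0) :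
    ∃ (y : X) (hy : y ∈ U), Curv2.IsWeakAssPoint F y ∧ F.presheaf.germ U y hy m ≠ 0 := by
  obtain ⟨p, hp⟩ := WeakAss.exists_minimalPrimes_ann (R := Γ(X, U)) hm
  have hpp : p.IsPrime := hp.1.1
  set P : PrimeSpectrum Γ(X, U) := ⟨p, hpp⟩ with hP
  have hyU := fromSpec_mem hU P
  refine ⟨hU.fromSpec P, hyU, ?_, ?_⟩
  · rw [isWeakAssPoint_iff_of_isAffineOpen F hU _ hyU, primeIdealOf_fromSpec]
    exact ⟨m, hp⟩
  · rw [Ne, germ_eq_zero_iff_of_isAffineOpen F hU _ hyU, primeIdealOf_fromSpec]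
    rintro ⟨t, ht, htm⟩
    exact ht (hp.1.2 (WeakAss.mem_ann.2 htm))

end affine

/-- A nonzero quasi-coherent module has a weakly associated point. -/
theorem exists_isWeakAssPoint_of_not_isZero (F : X.Modules) [F.IsQuasicoherent]
    (hF : ¬ IsZero F) : ∃ y : X, Curv2.IsWeakAssPoint F y := by
  rw [isZero_iff_forall_stalk_subsingleton] at hF
  obtain ⟨x, hx⟩ := not_forall.1 hF
  obtain ⟨U, hU0, hxU, -⟩ := Opens.isBasis_iff_nbhd.1 (X.isBasis_affineOpens)
    (show x ∈ (⊤ : X.Opens) from trivial)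
  have hU : IsAffineOpen U := hU0
  rw [stalk_subsingleton_iff_of_isAffineOpen F hU x hxU] at hx
  obtain ⟨s, hs⟩ := not_forall.1 hx
  have hs0 : s ≠ 0 := by
    rintro rfl
    refine hs ⟨1, ?_, smul_zero _⟩
    rw [Scheme.basicOpen_of_isUnit _ isUnit_one]
    exact hxU
  obtain ⟨y, -, hy, -⟩ := exists_isWeakAssPoint_of_section_ne_zero F hU s hs0
  exact ⟨y, hy⟩

/-- If the open `U` contains all weakly associated points of the quasi-coherent module `F`, a
section over `V ⊇ U`... (global version): a global section vanishing on `U` vanishes. -/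
theorem section_eq_zero_of_res_eq_zero_of_weakAss (F : X.Modules) [F.IsQuasicoherent]
    (U : X.Opens) (hU : ∀ x : X, Curv2.IsWeakAssPoint F x → x ∈ U) {W : X.Opens} (hUW : U ≤ W)
    (s : Γ(F, W)) (hs : F.presheaf.map (homOfLE hUW).op s = 0) : s = 0 := by
  apply section_eq_zero_of_germ_eq_zero
  intro x hxW
  by_contra hne
  obtain ⟨V, hV0, hxV, hVW⟩ := Opens.isBasis_iff_nbhd.1 (X.isBasis_affineOpens) hxW
  have hV : IsAffineOpen V := hV0
  set m : Γ(F, V) := F.presheaf.map (homOfLE hVW).op s with hm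
  have hm0 : m ≠ 0 := by
    intro h0
    apply hne
    have := TopCat.Presheaf.germ_res_apply F.presheaf (homOfLE hVW) x hxV s
    rw [← this]
    change F.presheaf.germ V x hxV m = 0
    rw [h0, map_zero]
  obtain ⟨y, hyV, hy, hgerm⟩ := exists_isWeakAssPoint_of_section_ne_zero F hV m hm0
  have hyU : y ∈ U := hU y hy
  apply hgerm
  have e1 : F.presheaf.germ V y hyV m = F.presheaf.germ W y (hVW hyV) s :=
    TopCat.Presheaf.germ_res_apply F.presheaf (homOfLE hVW) y hyV s
  have e2 : F.presheaf.germ U y hyU (F.presheaf.map (homOfLE hUW).op s) =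
      F.presheaf.germ W y (hVW hyV) s :=
    TopCat.Presheaf.germ_res_apply F.presheaf (homOfLE hUW) y hyU s
  rw [e1, ← e2, hs, map_zero]

end Groth.Agent.Lib.QCoh
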