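import Groth.Prelude
import Groth.Agent.Lib.QCoh.Helper50_GlobGen
import Groth.Agent.Lib.Helper22.QCohExt
import Groth.Agent.Lib.QCoh.Helper18_Ass
import Groth.Agent.Lib.QCoh.Helper18_StalkLinear

/-!
# Global generation via stalks (helper18)

Namespace `Groth.Agent.Lib.QCoh`.

* `epi_of_forall_stalkMap_surjective` : a morphism of `O_X`-modules which is surjective on all stalks
  is an epimorphism.
* `epi_canonicalFreeHom_of_forall_exists` : if every element of every stalk is a multiple of the germ
  of a global section, the canonical map `free Γ(F,⊤) ⟶ F` (helper50) is an epimorphism.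
* `isGloballyGenerated_of_forall_exists`.
* `isGloballyGenerated_of_isQuasiAffine` : on a quasi-affine scheme every quasi-coherent module is
  globally generated.
-/

universe u

open CategoryTheory CategoryTheory.Limits AlgebraicGeometry Opposite TopologicalSpace

namespace Groth.Agent.Lib.QCoh

variable {X : Scheme.{u}}

theorem epi_of_forall_stalkMap_surjective {M N : X.Modules} (φ : M ⟶ N)
    (h : ∀ x : X, Function.Surjective (stalkMap φ x)) : Epi φ := by
  have hz : IsZero (cokernel φ) := by
    apply isZero_of_forall_stalk_subsingleton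
    intro x
    have hπ := stalkMap_surjective_of_epi (cokernel.π φ) x
    have h0 : ∀ m : M.presheaf.stalk x, stalkMap (cokernel.π φ) x (stalkMap φ x m) = 0 := by
      intro m
      have h1 : stalkMap φ x ≫ stalkMap (cokernel.π φ) x = 0 := by
        change (stalkFunctor X x).map φ ≫ (stalkFunctor X x).map (cokernel.π φ) = 0
        rw [← Functor.map_comp, cokernel.condition, Functor.map_zero]
      have h2 := congrArg (fun f => (ConcreteCategory.hom f) m) h1
      simpa using h2
    constructor
    intro a b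
    obtain ⟨n, rfl⟩ := hπ a
    obtain ⟨n', rfl⟩ := hπ b
    obtain ⟨m, rfl⟩ := h x n
    obtain ⟨m', rfl⟩ := h x n'
    rw [h0, h0]
  exact Preadditive.epi_of_isZero_cokernel φ hz

theorem epi_canonicalFreeHom_of_forall_exists (F : X.Modules)
    (h : ∀ (x : X) (m : F.presheaf.stalk x), ∃ (r : X.presheaf.stalk x) (s : Γ(F, ⊤)),
      m = r • F.presheaf.germ ⊤ x (Opens.mem_top x) s) :
    Epi (canonicalFreeHom F) := by
  apply epi_of_forall_stalkMap_surjective
  intro x m
  obtain ⟨r, s, rfl⟩ := h x m
  obtain ⟨σ, hσ⟩ := canonicalFreeHom_app_top_surjective F s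
  refine ⟨r • (freeModule X Γ(F, ⊤)).presheaf.germ ⊤ x (Opens.mem_top x) σ, ?_⟩
  rw [stalkMap_smul, stalkMap_germ]
  congr 2

theorem isGloballyGenerated_of_forall_exists (F : X.Modules)
    (h : ∀ (x : X) (m : F.presheaf.stalk x), ∃ (r : X.presheaf.stalk x) (s : Γ(F, ⊤)),
      m = r • F.presheaf.germ ⊤ x (Opens.mem_top x) s) :
    Curv2.IsGloballyGenerated F :=
  ⟨Γ(F, ⊤), canonicalFreeHom F, epi_canonicalFreeHom_of_forall_exists F h⟩

theorem isGloballyGenerated_of_isQuasiAffine [X.IsQuasiAffine] (F : X.Modules)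
    [F.IsQuasicoherent] : Curv2.IsGloballyGenerated F := by
  apply isGloballyGenerated_of_forall_exists
  intro x m
  obtain ⟨W, hxW, t, rfl⟩ := F.presheaf.exists_germ_eq m
  obtain ⟨_, ⟨g, hgaff, rfl⟩, hxg, hgW⟩ :=
    Opens.isBasis_iff_nbhd.1 (Scheme.IsQuasiAffine.isBasis_basicOpen X) hxW
  have hcomp : IsCompact ((⊤ : X.Opens) : Set X) := isCompact_univ
  have hqs : IsQuasiSeparated ((⊤ : X.Opens) : Set X) := by
    have : QuasiSeparatedSpace X := inferInstance
    exact isQuasiSeparated_univ
  obtain ⟨n, s, hs⟩ := Groth.Agent.Lib.Helper22.exists_pow_smul_eq_map_of_isCompact_of_isQuasiSeparated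
    (F := F) hcomp hqs g (F.presheaf.map (homOfLE hgW).op t)
  have hu : IsUnit (X.presheaf.germ ⊤ x (Opens.mem_top x) g) :=
    (Scheme.mem_basicOpen _ _ _ (Opens.mem_top x)).1 hxg
  refine ⟨((hu.unit⁻¹ : (X.presheaf.stalk x)ˣ) : X.presheaf.stalk x) ^ n, s, ?_⟩
  have h1 := congrArg (F.presheaf.germ (X.basicOpen g) x hxg) hs
  rw [TopCat.Presheaf.germ_res_apply, germ_smul, map_pow, TopCat.Presheaf.germ_res_apply,
    TopCat.Presheaf.germ_res_apply] at h1
  rw [h1, ← mul_smul, ← mul_pow, IsUnit.val_inv_mul, one_pow, one_smul]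

end Groth.Agent.Lib.QCoh
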