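import Groth.Agent.Lib.QCoh.Helper50_Pushforward
import Groth.Agent.Lib.Helper22.QCohExt

/-!
# Pushforward of quasi-coherent modules along quasi-compact quasi-separated morphisms (helper43)
-/

set_option autoImplicit false

namespace Groth.Agent.Lib.QCoh

open AlgebraicGeometry CategoryTheory Opposite TopologicalSpace
open Groth.Agent.Lib.Helper22

universe u

section SpecTarget

variable {X : Scheme.{u}} {R : CommRingCat.{u}} (g : X ⟶ Spec R) (M : X.Modules)

/-- the global function on `X` attached to `r : R` -/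
noncomputable def pullFn (r : R) : Γ(X, ⊤) := g.app ⊤ ((Scheme.ΓSpecIso R).inv r)

lemma preimage_basicOpen_eq (r : R) :
    g ⁻¹ᵁ (PrimeSpectrum.basicOpen r) = X.basicOpen (pullFn g r) := by
  rw [← basicOpen_eq_of_affine, Scheme.preimage_basicOpen]
  rfl

/-- the `R`-action on sections of the pushforward -/
lemma smul_pushforward_eq (W : (Spec R).Opens) (r : R)
    (x : Γ((Scheme.Modules.pushforward g).obj M, W)) :
    r • x = (show Γ(M, g ⁻¹ᵁ W) from
      (X.presheaf.map (homOfLE (le_top : g ⁻¹ᵁ W ≤ ⊤)).op (pullFn g r)) •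
        (show Γ(M, g ⁻¹ᵁ W) from x)) := by
  rw [Scheme.Modules.smul_Spec_def]
  change (g.app W ((Spec R).presheaf.map W.leTop.op ((Scheme.ΓSpecIso R).inv r))) •
    (show Γ(M, g ⁻¹ᵁ W) from x) = _
  congr 1
  have := g.naturality W.leTop.op
  exact congr($(this) ((Scheme.ΓSpecIso R).inv r))

lemma pullFn_pow (r : R) (n : ℕ) : pullFn g (r ^ n) = pullFn g r ^ n := by
  rw [pullFn, pullFn, map_pow, map_pow]
  rfl

lemma pow_smul_pushforward_eq (W : (Spec R).Opens) (r : R) (n : ℕ)
    (x : Γ((Scheme.Modules.pushforward g).obj M, W)) :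
    r ^ n • x = (show Γ(M, g ⁻¹ᵁ W) from
      (X.presheaf.map (homOfLE (le_top : g ⁻¹ᵁ W ≤ ⊤)).op (pullFn g r)) ^ n •
        (show Γ(M, g ⁻¹ᵁ W) from x)) := by
  rw [smul_pushforward_eq, pullFn_pow, map_pow]

variable [M.IsQuasicoherent]

set_option backward.isDefEq.respectTransparency false in
/-- **Key statement**: for `X` quasi-compact and quasi-separated and `M` quasi-coherent, the
pushforward of `M` to `Spec R` is localizing. -/
theorem isLocalizing_pushforward_of_qcqs [CompactSpace X] [QuasiSeparatedSpace X] :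
    IsLocalizing (modulesSpecToSheaf.obj ((Scheme.Modules.pushforward g).obj M)) := by
  intro r
  have hU : IsCompact ((⊤ : X.Opens) : Set X) := by
    simpa using (isCompact_univ : IsCompact (Set.univ : Set X))
  have hU' : IsQuasiSeparated ((⊤ : X.Opens) : Set X) := by
    simpa using (isQuasiSeparated_univ : IsQuasiSeparated (Set.univ : Set X))
  have e := preimage_basicOpen_eq g r
  refine IsLocalizedModule.Away.mk_of_addCommGroup ?_ ?_ ?_
  · exact Scheme.Modules.isUnit_algebraMap_end_of_le_basicOpen r le_rfl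
  · intro x
    have key : ∀ (V' : X.Opens) (_ : X.basicOpen (pullFn g r) = V') (x : Γ(M, V')),
        ∃ (n : ℕ) (s : Γ(M, ⊤)), M.presheaf.map (homOfLE (le_top : V' ≤ ⊤)).op s =
          (X.presheaf.map (homOfLE (le_top : V' ≤ ⊤)).op (pullFn g r)) ^ n • x := by
      rintro _ rfl x
      exact exists_pow_smul_eq_map_of_isCompact_of_isQuasiSeparated M hU hU' (pullFn g r) x
    obtain ⟨n, s, hs⟩ := key _ e.symm x
    refine ⟨n, s, ?_⟩
    rw [pow_smul_pushforward_eq]
    exact hs.symm
  · intro y hy
    have key : ∀ (V' : X.Opens) (_ : X.basicOpen (pullFn g r) = V') (s : Γ(M, ⊤)),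
        M.presheaf.map (homOfLE (le_top : V' ≤ ⊤)).op s = 0 →
          M.presheaf.map (homOfLE (X.basicOpen_le (pullFn g r))).op s = 0 := by
      rintro _ rfl s hs
      exact hs
    have hy' := key _ e.symm y hy
    obtain ⟨n, hn⟩ := exists_pow_smul_eq_zero_of_isCompact M hU (pullFn g r) y hy'
    refine ⟨n, ?_⟩
    rw [pow_smul_pushforward_eq]
    have h1 : X.presheaf.map (homOfLE (le_top : g ⁻¹ᵁ (⊤ : (Spec R).Opens) ≤ ⊤)).op (pullFn g r) =
        pullFn g r := by
      change X.presheaf.map (𝟙 (op (⊤ : X.Opens))) (pullFn g r) = pullFn g r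
      rw [X.presheaf.map_id]
      rfl
    rw [h1]
    exact hn

/-- pushforward to an affine scheme `Spec R` from a qcqs scheme preserves quasi-coherence -/
theorem isQuasicoherent_pushforward_Spec_of_qcqs [CompactSpace X] [QuasiSeparatedSpace X] :
    ((Scheme.Modules.pushforward g).obj M).IsQuasicoherent := by
  rw [isQuasicoherent_iff_isIso_fromTildeΓ, isIso_fromTildeΓ_iff_isLocalizing]
  exact isLocalizing_pushforward_of_qcqs g M

end SpecTarget

section General

variable {X Y : Scheme.{u}} (f : X ⟶ Y)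

/-- affine target, qcqs source -/
theorem isQuasicoherent_pushforward_of_isAffine_target [IsAffine Y] [CompactSpace X]
    [QuasiSeparatedSpace X] (M : X.Modules) [M.IsQuasicoherent] :
    ((Scheme.Modules.pushforward f).obj M).IsQuasicoherent := by
  have h1 : ((Scheme.Modules.pushforward (f ≫ Y.isoSpec.hom)).obj M).IsQuasicoherent :=
    isQuasicoherent_pushforward_Spec_of_qcqs _ M
  have h2 : ((Scheme.Modules.pushforward Y.isoSpec.hom).obj
      ((Scheme.Modules.pushforward f).obj M)).IsQuasicoherent :=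
    isQuasicoherent_of_iso ((Scheme.Modules.pushforwardComp f Y.isoSpec.hom).app M).symm h1
  exact isQuasicoherent_of_pushforward_isIso Y.isoSpec.hom _

/-- **Pushforward along a quasi-compact quasi-separated morphism preserves quasi-coherence.** -/
theorem isQuasicoherent_pushforward_of_qcqs [QuasiCompact f] [QuasiSeparated f] (M : X.Modules)
    [M.IsQuasicoherent] : ((Scheme.Modules.pushforward f).obj M).IsQuasicoherent := by
  refine isQuasicoherent_of_forall_affineOpens _ fun V => ?_
  have hV : IsAffine (V : Y.Opens) := V.2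
  have : CompactSpace ↥((f ⁻¹ᵁ (V : Y.Opens)).toScheme) :=
    QuasiCompact.compactSpace_of_compactSpace (f ∣_ (V : Y.Opens))
  have : QuasiSeparatedSpace ↥((f ⁻¹ᵁ (V : Y.Opens)).toScheme) :=
    quasiSeparatedSpace_of_quasiSeparated (f ∣_ (V : Y.Opens))
  have h1 : ((Scheme.Modules.pushforward (f ∣_ (V : Y.Opens))).obj
      (M.restrict (f ⁻¹ᵁ (V : Y.Opens)).ι)).IsQuasicoherent :=
    isQuasicoherent_pushforward_of_isAffine_target _ _
  exact isQuasicoherent_of_iso ((pushforwardRestrictIso f V).app M).symm h1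

end General

end Groth.Agent.Lib.QCoh
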