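import Groth.Agent.Lib.QCoh.Local
import Groth.Agent.S0007
import Groth.Agent.S6160
import Mathlib.Algebra.Homology.DerivedCategory.Ext.ExactSequences

/-!
# QCoh API (lead): extensions of quasi-coherent modules are quasi-coherent

* `surjective_app_of_subsingleton_H1` : for a short exact sequence of abelian sheaves with
  `H¹(S.X₁) = 0`, sections of `S.g` over a terminal object are surjective
* `toAbFunctor X : X.Modules ⥤ Sheaf _ Ab` (= `SheafOfModules.toSheaf`, typed on `X.Modules`), exact
* `surjective_app_top_of_shortExact_of_isAffine` : on an affine scheme, `Γ(X, -)` of an epi with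
  quasi-coherent kernel is surjective (uses Serre vanishing S0007)
* `shortExact_map_moduleSpecΓFunctor`, `isQuasicoherent_of_shortExact_Spec`
* `preservesFiniteColimits_restrictFunctor`, `shortExact_map_restrictFunctor` (restriction to an
  open is exact)
* `isQuasicoherent_of_shortExact` : extension of quasi-coherent modules is quasi-coherent (any scheme)
-/

universe u

open CategoryTheory CategoryTheory.Limits AlgebraicGeometry Opposite TopologicalSpace

namespace Groth.Agent.Lib.QCoh

section General

universe w' w v u'

variable {C : Type u'} [Category.{v} C] {J : GrothendieckTopology C}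
  [HasSheafify J AddCommGrpCat.{w}] [HasExt.{w'} (Sheaf J AddCommGrpCat.{w})]

open Abelian in
theorem surjective_app_of_subsingleton_H1 {S : ShortComplex (Sheaf J AddCommGrpCat.{w})}
    (hS : S.ShortExact) {T : C} (hT : IsTerminal T) [Subsingleton (Sheaf.H S.X₁ 1)] :
    Function.Surjective (S.g.hom.app (op T)) := by
  intro y
  let x₃ : Sheaf.H S.X₃ 0 := (Sheaf.H.equiv₀ S.X₃ hT).symm y
  obtain ⟨x₂, hx₂⟩ := Ext.covariant_sequence_exact₃ _ hS x₃ (zero_add 1)
    (Subsingleton.elim _ _)
  refine ⟨Sheaf.H.equiv₀ S.X₂ hT x₂, ?_⟩
  rw [Sheaf.H.equiv₀_naturality, Sheaf.H.map_apply, hx₂]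
  simp [x₃]

end General

section ToAb

variable (X : Scheme.{u})

/-- The forgetful functor from `O_X`-modules to abelian sheaves, with source typed as `X.Modules`. -/
noncomputable def toAbFunctor : X.Modules ⥤ Sheaf (Opens.grothendieckTopology X) AddCommGrpCat.{u} :=
  SheafOfModules.toSheaf.{u} X.ringCatSheaf

@[simp] lemma toAbFunctor_obj (M : X.Modules) : (toAbFunctor X).obj M = Coh.toAb M := rfl

instance : (toAbFunctor X).Additive :=
  inferInstanceAs (SheafOfModules.toSheaf.{u} X.ringCatSheaf).Additive

instance : PreservesFiniteLimits (toAbFunctor X) :=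
  inferInstanceAs (PreservesFiniteLimits (SheafOfModules.toSheaf.{u} X.ringCatSheaf))

instance : PreservesFiniteColimits (toAbFunctor X) :=
  have := Groth.Agent.S6160.toSheaf_preservesColimitsOfSize X.ringCatSheaf
  inferInstanceAs (PreservesFiniteColimits (SheafOfModules.toSheaf.{u} X.ringCatSheaf))

end ToAb

section Spec

open Scheme.Modules

variable {R : CommRingCat.{u}}

instance : (moduleSpecΓFunctor (R := R)).IsRightAdjoint := (tilde.adjunction (R := R)).isRightAdjoint

instance : (moduleSpecΓFunctor (R := R)).Additive :=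
  have := Limits.preservesBinaryBiproducts_of_preservesBinaryProducts (moduleSpecΓFunctor (R := R))
  Functor.additive_of_preservesBinaryBiproducts _

/-- Global sections of an epimorphism with quasi-coherent kernel on an affine scheme are
surjective. -/
theorem surjective_app_top_of_shortExact_of_isAffine {X : Scheme.{u}} [IsAffine X]
    (S : ShortComplex X.Modules)
    (hS : S.ShortExact) [hq : S.X₁.IsQuasicoherent] :
    Function.Surjective (S.g.app ⊤) := by
  have hS' : (S.map (toAbFunctor X)).ShortExact := hS.map_of_exact _
  have : Subsingleton (Sheaf.H (S.map (toAbFunctor X)).X₁ 1) :=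
    Groth.Agent.S0007.result X S.X₁ 1 Nat.one_pos
  exact surjective_app_of_subsingleton_H1 hS' isTerminalTop

/-- On an affine scheme `Spec R`, global sections of a short exact sequence of `O`-modules with
quasi-coherent kernel is short exact. -/
theorem shortExact_map_moduleSpecΓFunctor (S : ShortComplex (Spec (.of R)).Modules)
    (hS : S.ShortExact) [S.X₁.IsQuasicoherent] :
    (S.map (moduleSpecΓFunctor (R := R))).ShortExact := by
  have := hS.mono_f
  have hex : (S.map (moduleSpecΓFunctor (R := R))).Exact :=
    hS.exact.map_of_mono_of_preservesKernel _ inferInstance inferInstance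
  have hm : Mono (S.map (moduleSpecΓFunctor (R := R))).f := by
    change Mono ((moduleSpecΓFunctor (R := R)).map S.f); infer_instance
  have he : Epi (S.map (moduleSpecΓFunctor (R := R))).g := by
    change Epi ((moduleSpecΓFunctor (R := R)).map S.g)
    rw [ModuleCat.epi_iff_surjective]
    exact surjective_app_top_of_shortExact_of_isAffine S hS
  exact ShortComplex.ShortExact.mk hex

/-- On `Spec R`, an extension of quasi-coherent modules is quasi-coherent. -/
theorem isQuasicoherent_of_shortExact_Spec (S : ShortComplex (Spec (.of R)).Modules)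
    (hS : S.ShortExact) [S.X₁.IsQuasicoherent] [S.X₃.IsQuasicoherent] :
    S.X₂.IsQuasicoherent := by
  have h1 := shortExact_map_moduleSpecΓFunctor S hS
  have h2 : ((S.map (moduleSpecΓFunctor (R := R))).map (tilde.functor R)).ShortExact :=
    h1.map_of_exact _
  let φ : (S.map (moduleSpecΓFunctor (R := R))).map (tilde.functor R) ⟶ S :=
    { τ₁ := S.X₁.fromTildeΓ
      τ₂ := S.X₂.fromTildeΓ
      τ₃ := S.X₃.fromTildeΓ
      comm₁₂ := ((fromTildeΓNatTrans (R := R)).naturality S.f).symm
      comm₂₃ := ((fromTildeΓNatTrans (R := R)).naturality S.g).symm }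
  rw [isQuasicoherent_iff_isIso_fromTildeΓ]
  have i1 : IsIso φ.τ₁ := inferInstanceAs (IsIso S.X₁.fromTildeΓ)
  have i3 : IsIso φ.τ₃ := inferInstanceAs (IsIso S.X₃.fromTildeΓ)
  exact ShortComplex.isIso₂_of_shortExact_of_isIso₁₃ φ h2 hS

end Spec

section General2

open Scheme.Modules

variable {X : Scheme.{u}}

instance preservesFiniteColimits_restrictFunctor {Y : Scheme.{u}} (f : Y ⟶ X) [IsOpenImmersion f] :
    PreservesFiniteColimits (restrictFunctor f) :=
  have : PreservesColimitsOfSize.{0, 0} (restrictFunctor f) :=
    (restrictAdjunction f).leftAdjoint_preservesColimits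
  PreservesColimitsOfSize.preservesFiniteColimits _

/-- Restriction along an open immersion of a short exact sequence is short exact. -/
theorem shortExact_map_restrictFunctor {Y : Scheme.{u}} (f : Y ⟶ X) [IsOpenImmersion f]
    {S : ShortComplex X.Modules} (hS : S.ShortExact) : (S.map (restrictFunctor f)).ShortExact :=
  hS.map_of_exact _

theorem isQuasicoherent_of_shortExact_of_isAffine {Y : Scheme.{u}} [IsAffine Y]
    (S : ShortComplex Y.Modules) (hS : S.ShortExact)
    [S.X₁.IsQuasicoherent] [S.X₃.IsQuasicoherent] : S.X₂.IsQuasicoherent := by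
  have h := shortExact_map_restrictFunctor Y.isoSpec.inv hS
  have h1 : (S.map (restrictFunctor Y.isoSpec.inv)).X₁.IsQuasicoherent :=
    inferInstanceAs ((restrictFunctor Y.isoSpec.inv).obj S.X₁).IsQuasicoherent
  have h3 : (S.map (restrictFunctor Y.isoSpec.inv)).X₃.IsQuasicoherent :=
    inferInstanceAs ((restrictFunctor Y.isoSpec.inv).obj S.X₃).IsQuasicoherent
  have : (S.X₂.restrict Y.isoSpec.inv).IsQuasicoherent :=
    isQuasicoherent_of_shortExact_Spec (S.map (restrictFunctor Y.isoSpec.inv)) h
  exact isQuasicoherent_of_restrict_iso Y.isoSpec.inv _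

/-- **Extensions of quasi-coherent modules are quasi-coherent** (any scheme). -/
theorem isQuasicoherent_of_shortExact (S : ShortComplex X.Modules) (hS : S.ShortExact)
    [S.X₁.IsQuasicoherent] [S.X₃.IsQuasicoherent] : S.X₂.IsQuasicoherent := by
  refine isQuasicoherent_of_forall_affineOpens _ fun U => ?_
  have : IsAffine (U : X.Opens) := U.2
  have h := shortExact_map_restrictFunctor (U : X.Opens).ι hS
  have h1 : (S.map (restrictFunctor (U : X.Opens).ι)).X₁.IsQuasicoherent :=
    inferInstanceAs ((restrictFunctor (U : X.Opens).ι).obj S.X₁).IsQuasicoherent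
  have h3 : (S.map (restrictFunctor (U : X.Opens).ι)).X₃.IsQuasicoherent :=
    inferInstanceAs ((restrictFunctor (U : X.Opens).ι).obj S.X₃).IsQuasicoherent
  exact isQuasicoherent_of_shortExact_of_isAffine (S.map (restrictFunctor (U : X.Opens).ι)) h

end General2

end Groth.Agent.Lib.QCoh
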