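import Groth.Agent.Lib.QCoh.Helper50_FlatBC
import Groth.Agent.Lib.QCoh.Extension
import Groth.Agent.Lib.QCoh.Helper50_Products

/-!
# QCoh API (helper50): affine dictionary for morphisms of modules

Namespace `Groth.Agent.Lib.QCoh`.

* `appLinear φ U : Γ(M,U) →ₗ[Γ(X,U)] Γ(N,U)`.
* `hom_ext_of_affine`, `eq_zero_of_affine` : morphisms are determined on affine opens.
* `mono_iff_forall_affine_injective`, `isIso_iff_forall_affine_bijective`,
  `epi_of_forall_affine_surjective`, `surjective_app_of_epi` (quasi-coherent, affine open),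
  `epi_iff_forall_affine_surjective`.
-/

universe u

open CategoryTheory CategoryTheory.Limits AlgebraicGeometry Opposite TopologicalSpace

namespace Groth.Agent.Lib.QCoh

open Scheme.Modules

variable {X : Scheme.{u}} {M N : X.Modules}

/-- The map on sections of a morphism of modules, as a linear map. -/
noncomputable def appLinear (φ : M ⟶ N) (U : X.Opens) : Γ(M, U) →ₗ[Γ(X, U)] Γ(N, U) where
  toFun := φ.app U
  map_add' := map_add _
  map_smul' := Hom.app_smul φ

@[simp] lemma appLinear_apply (φ : M ⟶ N) (U : X.Opens) (m : Γ(M, U)) :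
    appLinear φ U m = φ.app U m := rfl

/-- Every open is covered by the affine opens it contains. -/
lemma le_iSup_affine_le (V : X.Opens) :
    V ≤ ⨆ U : {U : X.affineOpens // (U : X.Opens) ≤ V}, (U.1 : X.Opens) := by
  intro x hx
  obtain ⟨U, hU, hxU, hUV⟩ := Opens.isBasis_iff_nbhd.1 X.isBasis_affineOpens hx
  exact Opens.mem_iSup.2 ⟨⟨⟨U, hU⟩, hUV⟩, hxU⟩

/-- Sections are determined by their restrictions to affine opens. -/
lemma section_ext_of_affine (F : X.Modules) {V : X.Opens} (s t : Γ(F, V))
    (h : ∀ (U : X.affineOpens) (hUV : (U : X.Opens) ≤ V),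
      F.presheaf.map (homOfLE hUV).op s = F.presheaf.map (homOfLE hUV).op t) : s = t :=
  sections_ext_of_cover F (fun U : {U : X.affineOpens // (U : X.Opens) ≤ V} => (U.1 : X.Opens)) V
    (fun U => U.2) (le_iSup_affine_le V) s t fun U => h U.1 U.2

/-- Morphisms of modules are determined by their values on affine opens. -/
theorem hom_ext_of_affine (φ ψ : M ⟶ N)
    (h : ∀ U : X.affineOpens, φ.app (U : X.Opens) = ψ.app (U : X.Opens)) : φ = ψ := by
  apply Scheme.Modules.hom_ext
  intro V
  ext s
  apply section_ext_of_affine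
  intro U hUV
  rw [← app_naturality_apply φ (homOfLE hUV) s, ← app_naturality_apply ψ (homOfLE hUV) s, h U]

theorem eq_zero_of_affine (φ : M ⟶ N)
    (h : ∀ (U : X.affineOpens) (m : Γ(M, (U : X.Opens))), φ.app (U : X.Opens) m = 0) : φ = 0 := by
  apply hom_ext_of_affine
  intro U
  ext m
  exact h U m

/-- Monomorphisms are detected on affine opens. -/
theorem mono_iff_forall_affine_injective (φ : M ⟶ N) :
    Mono φ ↔ ∀ U : X.affineOpens, Function.Injective (φ.app (U : X.Opens)) := by
  constructor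
  · intro _ U
    exact app_injective_of_mono φ _
  · intro h
    apply mono_of_app_injective
    intro V
    rw [injective_iff_map_eq_zero]
    intro s hs
    apply section_ext_of_affine
    intro U hUV
    apply h U
    rw [app_naturality_apply φ (homOfLE hUV) s, hs, map_zero, map_zero, map_zero]

/-- Isomorphisms are detected on affine opens. -/
theorem isIso_iff_forall_affine_bijective (φ : M ⟶ N) :
    IsIso φ ↔ ∀ U : X.affineOpens, Function.Bijective (φ.app (U : X.Opens)) := by
  constructor
  · intro _ U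
    exact (ConcreteCategory.isIso_iff_bijective _).1 inferInstance
  · intro h
    refine isIso_of_bijective_app_of_isBasis φ (fun U : X.affineOpens => (U : X.Opens)) ?_ h
    have : Set.range (fun U : X.affineOpens => (U : X.Opens)) = X.affineOpens := by
      ext V
      simp
    rw [this]
    exact X.isBasis_affineOpens

/-- A morphism surjective on sections over affine opens is an epimorphism. -/
theorem epi_of_forall_affine_surjective (φ : M ⟶ N)
    (h : ∀ U : X.affineOpens, Function.Surjective (φ.app (U : X.Opens))) : Epi φ := by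
  rw [Preadditive.epi_iff_cancel_zero]
  intro Q ψ hψ
  apply eq_zero_of_affine
  intro U n
  obtain ⟨m, rfl⟩ := h U n
  have := congr(($hψ).app (U : X.Opens) m)
  exact this

/-- Sections are determined by their restrictions to the members of a basis. -/
lemma section_ext_of_isBasis (F : X.Modules) {ι : Type*} (B : ι → X.Opens)
    (hB : Opens.IsBasis (Set.range B)) {V : X.Opens} (s t : Γ(F, V))
    (h : ∀ (i : ι) (hiV : B i ≤ V),
      F.presheaf.map (homOfLE hiV).op s = F.presheaf.map (homOfLE hiV).op t) : s = t := by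
  refine sections_ext_of_cover F (fun i : {i : ι // B i ≤ V} => B i.1) V (fun i => i.2) ?_ s t
    fun i => h i.1 i.2
  intro x hx
  obtain ⟨_, ⟨i, rfl⟩, hxi, hiV⟩ := Opens.isBasis_iff_nbhd.1 hB hx
  exact Opens.mem_iSup.2 ⟨⟨i, hiV⟩, hxi⟩

/-- Morphisms of modules are determined by their values on a basis. -/
theorem hom_ext_of_isBasis {ι : Type*} (B : ι → X.Opens) (hB : Opens.IsBasis (Set.range B))
    (φ ψ : M ⟶ N) (h : ∀ i, φ.app (B i) = ψ.app (B i)) : φ = ψ := by
  apply Scheme.Modules.hom_ext
  intro V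
  ext s
  apply section_ext_of_isBasis N B hB
  intro i hiV
  rw [← app_naturality_apply φ (homOfLE hiV) s, ← app_naturality_apply ψ (homOfLE hiV) s, h i]

/-- A morphism injective on sections over a basis is a monomorphism. -/
theorem mono_of_injective_of_isBasis {ι : Type*} (B : ι → X.Opens)
    (hB : Opens.IsBasis (Set.range B)) (φ : M ⟶ N)
    (h : ∀ i, Function.Injective (φ.app (B i))) : Mono φ := by
  apply mono_of_app_injective
  intro V
  rw [injective_iff_map_eq_zero]
  intro s hs
  apply section_ext_of_isBasis M B hB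
  intro i hiV
  apply h i
  rw [app_naturality_apply φ (homOfLE hiV) s, hs, map_zero, map_zero, map_zero]

/-- A morphism surjective on sections over a basis is an epimorphism. -/
theorem epi_of_surjective_of_isBasis {ι : Type*} (B : ι → X.Opens)
    (hB : Opens.IsBasis (Set.range B)) (φ : M ⟶ N)
    (h : ∀ i, Function.Surjective (φ.app (B i))) : Epi φ := by
  rw [Preadditive.epi_iff_cancel_zero]
  intro Q ψ hψ
  apply hom_ext_of_isBasis B hB
  intro i
  ext n
  obtain ⟨m, rfl⟩ := h i n
  have := congr(($hψ).app (B i) m)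
  exact this

/-- An epimorphism of quasi-coherent modules is surjective on sections over affine opens. -/
theorem surjective_app_of_epi (φ : M ⟶ N) [Epi φ] [M.IsQuasicoherent] [N.IsQuasicoherent]
    {U : X.Opens} (hU : IsAffineOpen U) : Function.Surjective (φ.app U) := by
  have hK : (kernel φ).IsQuasicoherent := isQuasicoherent_kernel φ
  let S : ShortComplex X.Modules := ShortComplex.mk (kernel.ι φ) φ (kernel.condition φ)
  have hS : S.ShortExact :=
    { exact := ShortComplex.exact_of_f_is_kernel S (kernelIsKernel φ)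
      mono_f := inferInstanceAs (Mono (kernel.ι φ))
      epi_g := inferInstanceAs (Epi φ) }
  have hS' := shortExact_map_restrictFunctor U.ι hS
  have : IsAffine (U : Scheme.{u}) := hU
  have hq : (S.map (restrictFunctor U.ι)).X₁.IsQuasicoherent :=
    isQuasicoherent_restrict U.ι (kernel φ)
  have hsurj := surjective_app_top_of_shortExact_of_isAffine (S.map (restrictFunctor U.ι)) hS'
  have htop : U.ι ''ᵁ ⊤ = U := by simp
  intro n
  obtain ⟨m', hm'⟩ := hsurj (N.presheaf.map (eqToHom htop).op n)
  have hm'' : φ.app (U.ι ''ᵁ ⊤) m' = N.presheaf.map (eqToHom htop).op n := hm'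
  refine ⟨M.presheaf.map (eqToHom htop.symm).op m', ?_⟩
  rw [app_naturality_apply φ (eqToHom htop.symm) m', hm'']
  have h1 := map_map_apply N (eqToHom htop.symm) (eqToHom htop) (𝟙 U) n
  rw [h1, op_id, N.presheaf.map_id]
  rfl

/-- Epimorphisms of quasi-coherent modules are detected on affine opens. -/
theorem epi_iff_forall_affine_surjective (φ : M ⟶ N) [M.IsQuasicoherent] [N.IsQuasicoherent] :
    Epi φ ↔ ∀ U : X.affineOpens, Function.Surjective (φ.app (U : X.Opens)) :=
  ⟨fun _ U => surjective_app_of_epi φ U.2, epi_of_forall_affine_surjective φ⟩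

section PullbackMap

open TensorProduct

/-- The affine opens of the source mapping into an affine open of the target form a basis. -/
theorem isBasis_smallAffine {Y' Y : Scheme.{u}} (g : Y' ⟶ Y) :
    Opens.IsBasis (Set.range (fun i : {W' : Y'.Opens // IsAffineOpen W' ∧
      ∃ W : Y.Opens, IsAffineOpen W ∧ W' ≤ g ⁻¹ᵁ W} => i.1)) := by
  rw [Opens.isBasis_iff_nbhd]
  intro V x hx
  obtain ⟨W, hW, hxW, -⟩ := Opens.isBasis_iff_nbhd.1 Y.isBasis_affineOpens
    (show g.base x ∈ (⊤ : Y.Opens) from trivial)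
  obtain ⟨W', hW', hxW', hle⟩ := Opens.isBasis_iff_nbhd.1 Y'.isBasis_affineOpens
    (show x ∈ V ⊓ g ⁻¹ᵁ W from ⟨hx, hxW⟩)
  exact ⟨W', ⟨⟨W', hW', W, hW, hle.trans inf_le_right⟩, rfl⟩, hxW', hle.trans inf_le_left⟩

variable {Y' Y : Scheme.{u}} (g : Y' ⟶ Y) {W : Y.Opens} {W' : Y'.Opens} (e : W' ≤ g ⁻¹ᵁ W)

/-- The comparison maps `Γ(G, W) → Γ(g^* G, W')` are natural in `G`. -/
lemma pullbackSectionsMap_naturality {G G' : Y.Modules} (φ : G ⟶ G') (m : Γ(G, W)) :
    pullbackSectionsMap g e G' (φ.app W m) =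
      ((Scheme.Modules.pullback g).map φ).app W' (pullbackSectionsMap g e G m) := by
  let P := (Scheme.Modules.pullback g).obj G
  let P' := (Scheme.Modules.pullback g).obj G'
  let η := (pullbackPushforwardAdjunction g).unit
  have h1 : φ ≫ η.app G' = η.app G ≫ (pushforward g).map ((Scheme.Modules.pullback g).map φ) :=
    η.naturality φ
  have h2 : (η.app G').app W (φ.app W m) =
      ((Scheme.Modules.pullback g).map φ).app (g ⁻¹ᵁ W) ((η.app G).app W m) :=
    congr(($h1).app W m)
  change P'.presheaf.map (homOfLE e).op ((η.app G').app W (φ.app W m)) =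
    ((Scheme.Modules.pullback g).map φ).app W' (P.presheaf.map (homOfLE e).op ((η.app G).app W m))
  rw [h2]
  exact (app_naturality_apply ((Scheme.Modules.pullback g).map φ) (homOfLE e) _).symm

open ChangeOfRings in
set_option backward.isDefEq.respectTransparency false in
set_option maxHeartbeats 800000 in
/-- On affine opens, `g^* φ` is the base change of `φ`. -/
theorem exists_linearEquiv_pullback_map (hW : IsAffineOpen W) (hW' : IsAffineOpen W')
    {G G' : Y.Modules} [G.IsQuasicoherent] [G'.IsQuasicoherent] (φ : G ⟶ G') :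
    letI : Algebra Γ(Y, W) Γ(Y', W') := (g.appLE W W' e).hom.toAlgebra
    ∃ (κ : Γ(Y', W') ⊗[Γ(Y, W)] Γ(G, W) ≃ₗ[Γ(Y', W')]
        Γ((Scheme.Modules.pullback g).obj G, W'))
      (κ' : Γ(Y', W') ⊗[Γ(Y, W)] Γ(G', W) ≃ₗ[Γ(Y', W')]
        Γ((Scheme.Modules.pullback g).obj G', W')),
      (∀ m, κ (1 ⊗ₜ m) = pullbackSectionsMap g e G m) ∧
      (∀ m, κ' (1 ⊗ₜ m) = pullbackSectionsMap g e G' m) ∧
      ∀ x, ((Scheme.Modules.pullback g).map φ).app W' (κ x) =
        κ' ((appLinear φ W).baseChange Γ(Y', W') x) := by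
  let _ : Algebra Γ(Y, W) Γ(Y', W') := (g.appLE W W' e).hom.toAlgebra
  obtain ⟨k, hk⟩ := exists_iso_extendScalars_pullbackSections g hW hW' e G
  obtain ⟨k', hk'⟩ := exists_iso_extendScalars_pullbackSections g hW hW' e G'
  let κ : Γ(Y', W') ⊗[Γ(Y, W)] Γ(G, W) ≃ₗ[Γ(Y', W')]
    Γ((Scheme.Modules.pullback g).obj G, W') := k.toLinearEquiv
  let κ' : Γ(Y', W') ⊗[Γ(Y, W)] Γ(G', W) ≃ₗ[Γ(Y', W')]
    Γ((Scheme.Modules.pullback g).obj G', W') := k'.toLinearEquiv
  refine ⟨κ, κ', hk, hk', ?_⟩
  let t : Γ(Y', W') ⊗[Γ(Y, W)] Γ(G, W) →ₗ[Γ(Y', W')]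
      Γ((Scheme.Modules.pullback g).obj G', W') :=
    (appLinear ((Scheme.Modules.pullback g).map φ) W') ∘ₗ κ.toLinearMap
  let t' : Γ(Y', W') ⊗[Γ(Y, W)] Γ(G, W) →ₗ[Γ(Y', W')]
      Γ((Scheme.Modules.pullback g).obj G', W') :=
    κ'.toLinearMap ∘ₗ (appLinear φ W).baseChange Γ(Y', W')
  have htt' : ∀ m : Γ(G, W), t (1 ⊗ₜ m) = t' (1 ⊗ₜ m) := by
    intro m
    change ((Scheme.Modules.pullback g).map φ).app W' (κ (1 ⊗ₜ m)) = κ' (1 ⊗ₜ (φ.app W m))
    rw [show κ (1 ⊗ₜ m) = pullbackSectionsMap g e G m from hk m,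
      show κ' (1 ⊗ₜ (φ.app W m)) = pullbackSectionsMap g e G' (φ.app W m) from hk' _]
    exact (pullbackSectionsMap_naturality g e φ m).symm
  intro x
  exact apply_eq_of_one_tmul htt' x

/-- Surjectivity of `g^* φ` on sections over a small affine open is surjectivity of the base
change of `φ`. -/
theorem pullback_map_app_surjective_iff (hW : IsAffineOpen W) (hW' : IsAffineOpen W')
    {G G' : Y.Modules} [G.IsQuasicoherent] [G'.IsQuasicoherent] (φ : G ⟶ G') :
    letI : Algebra Γ(Y, W) Γ(Y', W') := (g.appLE W W' e).hom.toAlgebra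
    Function.Surjective (((Scheme.Modules.pullback g).map φ).app W') ↔
      Function.Surjective ((appLinear φ W).lTensor Γ(Y', W')) := by
  let _ : Algebra Γ(Y, W) Γ(Y', W') := (g.appLE W W' e).hom.toAlgebra
  obtain ⟨κ, κ', -, -, h⟩ := exists_linearEquiv_pullback_map g e hW hW' φ
  constructor
  · intro hs y
    obtain ⟨z, hz⟩ := hs (κ' y)
    refine ⟨κ.symm z, κ'.injective ?_⟩
    have := h (κ.symm z)
    rw [LinearEquiv.apply_symm_apply, hz] at this
    exact this.symm
  · intro hs z
    obtain ⟨x, hx⟩ := hs (κ'.symm z)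
    refine ⟨κ x, ?_⟩
    rw [h x]
    change κ' ((appLinear φ W).lTensor Γ(Y', W') x) = z
    rw [hx, LinearEquiv.apply_symm_apply]

/-- Injectivity of `g^* φ` on sections over a small affine open is injectivity of the base
change of `φ`. -/
theorem pullback_map_app_injective_iff (hW : IsAffineOpen W) (hW' : IsAffineOpen W')
    {G G' : Y.Modules} [G.IsQuasicoherent] [G'.IsQuasicoherent] (φ : G ⟶ G') :
    letI : Algebra Γ(Y, W) Γ(Y', W') := (g.appLE W W' e).hom.toAlgebra
    Function.Injective (((Scheme.Modules.pullback g).map φ).app W') ↔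
      Function.Injective ((appLinear φ W).lTensor Γ(Y', W')) := by
  let _ : Algebra Γ(Y, W) Γ(Y', W') := (g.appLE W W' e).hom.toAlgebra
  obtain ⟨κ, κ', -, -, h⟩ := exists_linearEquiv_pullback_map g e hW hW' φ
  constructor
  · intro hi x y hxy
    apply κ.injective
    apply hi
    rw [h x, h y]
    exact congrArg κ' hxy
  · intro hi a b hab
    obtain ⟨x, rfl⟩ := κ.surjective a
    obtain ⟨y, rfl⟩ := κ.surjective b
    rw [h x, h y] at hab
    exact congrArg κ (hi (κ'.injective hab))

end PullbackMap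

end Groth.Agent.Lib.QCoh
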