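import Groth.Agent.Lib.QCoh.Helper74_LocFree

/-!
# QCoh API (helper74): rank of finite locally free modules, semilocal trivialisation

* `avoidSubmonoid`, `finite_maximalSpectrum_localization_avoid` : localisation at the complement of a
  finite union of primes is semilocal.
* `finrank_quotient_tensor_eq_rankAtStalk`.
* `exists_basis_away_of_rankAtStalk_eq` : a finite projective module of constant rank `r` is free of
  rank `r` on a basic open neighbourhood of any finite set of primes.
* `rankAtStalk_of_isFinLocFreeOfRank_tilde`, `rankAtStalk_Γ_of_isFinLocFreeOfRank` : a module finite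
  locally free of rank `n` has sections of rank `n` (`Module.rankAtStalk`) over every affine open.
* `triv_basicOpen_of_basis` : a basis of `Γ(E, V)_s` trivialises `E` over `D(s)`.
* `exists_triv_of_finite_subset_affine` : a module finite locally free of rank `r` is trivial on an
  open neighbourhood (inside a given affine open `V`) of any finite subset of `V`.
-/

universe u

open CategoryTheory CategoryTheory.Limits AlgebraicGeometry Opposite TopologicalSpace

namespace Groth.Agent.Lib.QCoh

open Scheme.Modules FlatMod TensorProduct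

section Algebra
variable (A : Type*) [CommRing A]

/-- The submonoid of elements lying outside every prime of `Z`. -/
def avoidSubmonoid (Z : Set (PrimeSpectrum A)) : Submonoid A :=
  ⨅ p ∈ Z, (p : PrimeSpectrum A).asIdeal.primeCompl

variable {A} in
lemma mem_avoidSubmonoid {Z : Set (PrimeSpectrum A)} {a : A} :
    a ∈ avoidSubmonoid A Z ↔ ∀ p ∈ Z, a ∉ p.asIdeal := by
  simp [avoidSubmonoid, Submonoid.mem_iInf, Ideal.primeCompl]

/-- Localisation at the complement of a finite union of primes is semilocal. -/
theorem finite_maximalSpectrum_localization_avoid (Z : Set (PrimeSpectrum A)) (hZ : Z.Finite) :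
    Finite (MaximalSpectrum (Localization (avoidSubmonoid A Z))) := by
  set S := avoidSubmonoid A Z with hS
  let A' := Localization S
  have key : ∀ m' : MaximalSpectrum A',
      (⟨m'.asIdeal.comap (algebraMap A A'), Ideal.IsPrime.comap _⟩ : PrimeSpectrum A) ∈ Z := by
    intro m'
    have hq := (IsLocalization.isPrime_iff_isPrime_disjoint S A' m'.asIdeal).1 m'.isMaximal.isPrime
    set q := m'.asIdeal.comap (algebraMap A A') with hqdef
    have hsub : (q : Set A) ⊆ ⋃ p ∈ (hZ.toFinset : Set (PrimeSpectrum A)), (p.asIdeal : Set A) := by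
      intro a ha
      have : a ∉ S := fun haS => Set.disjoint_left.1 hq.2 haS ha
      rw [mem_avoidSubmonoid] at this
      push Not at this
      obtain ⟨p, hp, hap⟩ := this
      exact Set.mem_biUnion (by simpa using hp) hap
    obtain ⟨p, hp, hqp⟩ := (Ideal.subset_union_prime (f := fun p : PrimeSpectrum A => p.asIdeal)
      ⟨q, hq.1⟩ ⟨q, hq.1⟩ (fun i _ _ _ => i.isPrime)).1 hsub
    have hpZ : p ∈ Z := by simpa using hp
    have hdisj : Disjoint (S : Set A) (p.asIdeal : Set A) := by
      rw [Set.disjoint_left]
      intro a haS hap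
      exact (mem_avoidSubmonoid.1 haS) p hpZ hap
    have hprime := IsLocalization.isPrime_of_isPrime_disjoint S A' p.asIdeal p.isPrime hdisj
    have hle : m'.asIdeal ≤ p.asIdeal.map (algebraMap A A') := by
      rw [← IsLocalization.map_under S A' m'.asIdeal]
      exact Ideal.map_mono hqp
    have heq : m'.asIdeal = p.asIdeal.map (algebraMap A A') :=
      m'.isMaximal.eq_of_le hprime.ne_top hle
    have : q = p.asIdeal := by
      rw [hqdef, heq]
      exact IsLocalization.under_map_of_isPrime_disjoint S A' p.isPrime hdisj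
    have : (⟨q, Ideal.IsPrime.comap _⟩ : PrimeSpectrum A) = p := PrimeSpectrum.ext this
    rw [this]
    exact hpZ
  have : Finite Z := hZ.to_subtype
  refine Finite.of_injective (fun m' : MaximalSpectrum A' => (⟨_, key m'⟩ : Z)) ?_
  intro m₁ m₂ h
  have h' : m₁.asIdeal.comap (algebraMap A A') = m₂.asIdeal.comap (algebraMap A A') :=
    congrArg (fun z : Z => z.1.asIdeal) h
  apply MaximalSpectrum.ext
  have h'' : Ideal.under A m₁.asIdeal = Ideal.under A m₂.asIdeal := h'
  rw [← IsLocalization.map_under S A' m₁.asIdeal, ← IsLocalization.map_under S A' m₂.asIdeal, h'']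

variable (M : Type*) [AddCommGroup M] [Module A M]

/-- For a maximal ideal `P`, the rank of `M` at `P` is the dimension of `(A ⧸ P) ⊗ M`. -/
theorem finrank_quotient_tensor_eq_rankAtStalk [Module.Finite A M] [Module.Flat A M] (P : Ideal A)
    [hP : P.IsMaximal] :
    Module.finrank (A ⧸ P) ((A ⧸ P) ⊗[A] M) = Module.rankAtStalk M ⟨P, hP.isPrime⟩ := by
  let _ := Ideal.Quotient.field P
  rw [Module.rankAtStalk_eq]
  let e : P.ResidueField ⊗[A ⧸ P] ((A ⧸ P) ⊗[A] M) ≃ₗ[P.ResidueField] P.ResidueField ⊗[A] M :=
    AlgebraTensorModule.cancelBaseChange _ _ _ _ _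
  change _ = Module.finrank P.ResidueField (P.ResidueField ⊗[A] M)
  rw [← e.finrank_eq]
  exact (Module.finrank_baseChange (S := A ⧸ P) (R := P.ResidueField) (M' := (A ⧸ P) ⊗[A] M)).symm


/-- **Semilocal trivialisation**: a finite projective module of constant rank `r` is free of rank
`r` on a basic open neighbourhood of any finite set of primes. -/
theorem exists_basis_away_of_rankAtStalk_eq [Module.Finite A M] [Module.Projective A M] (r : ℕ)
    (hr : ∀ p : PrimeSpectrum A, Module.rankAtStalk M p = r) (Z : Set (PrimeSpectrum A))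
    (hZ : Z.Finite) :
    ∃ s : A, (∀ p ∈ Z, s ∉ p.asIdeal) ∧
      Nonempty (Module.Basis (Fin r) (Localization.Away s)
        (LocalizedModule (Submonoid.powers s) M)) := by
  set S := avoidSubmonoid A Z with hS
  have := finite_maximalSpectrum_localization_avoid A Z hZ
  have : Module.Finite (Localization S) (LocalizedModule S M) :=
    Module.Finite.of_isLocalizedModule S (LocalizedModule.mkLinearMap S M)
  have : Module.FinitePresentation A M := Module.finitePresentation_of_projective A M
  have rk : ∀ P : MaximalSpectrum (Localization S),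
      Module.finrank (Localization S ⧸ P.1) ((Localization S ⧸ P.1) ⊗[Localization S]
        LocalizedModule S M) = r := by
    intro P
    have := P.isMaximal
    rw [finrank_quotient_tensor_eq_rankAtStalk (Localization S) (LocalizedModule S M) P.1,
      Module.rankAtStalk_isBaseChange (IsLocalizedModule.isBaseChange S (Localization S)
        (LocalizedModule.mkLinearMap S M)), hr]
  obtain ⟨b⟩ := Module.nonempty_basis_of_flat_of_finrank_eq (Localization S)
    (LocalizedModule S M) r rk
  obtain ⟨s, hs, b', -⟩ := Module.FinitePresentation.exists_basis_localizedModule_powers S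
    (LocalizedModule.mkLinearMap S M) (Localization S) b
  exact ⟨s, mem_avoidSubmonoid.1 hs, ⟨b'⟩⟩

end Algebra

section Affine
variable {R : CommRingCat.{u}}

/-- On `Spec R`, a module finite locally free of rank `n` is trivial of rank `n` on a basic open
around any point. -/
theorem exists_basicOpen_triv_of_isFinLocFreeOfRank {M : (Spec R).Modules} {n : ℕ}
    (h : IsFinLocFreeOfRank n M) (x : Spec R) :
    ∃ (r : R), x ∈ PrimeSpectrum.basicOpen r ∧
      Nonempty (M.restrict (Spec.map (CommRingCat.ofHom (algebraMap R (Localization.Away r)))) ≅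
        FlatMod.freeMod (Spec (.of (Localization.Away r))) n) := by
  obtain ⟨U, hx, ⟨i⟩⟩ := h x
  obtain ⟨_, ⟨_, ⟨r, rfl⟩, rfl⟩, hr, hr'⟩ :=
    PrimeSpectrum.isBasis_basic_opens.exists_subset_of_mem_open hx U.2
  refine ⟨r, hr, ⟨trivOfRangeSubset _ ?_ i⟩⟩
  intro y hy
  apply hr'
  have := Scheme.Hom.opensRange_localizationAway r
  rw [← this]
  exact hy

/-- If `M^~` is finite locally free of rank `n`, then `M` has rank `n` at every prime. -/
theorem rankAtStalk_of_isFinLocFreeOfRank_tilde (M : ModuleCat.{u} R) {n : ℕ}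
    (h : IsFinLocFreeOfRank n (tilde M)) (p : PrimeSpectrum R) : Module.rankAtStalk M p = n := by
  obtain ⟨t, hp, ⟨i⟩⟩ := exists_basicOpen_triv_of_isFinLocFreeOfRank h p
  let e := (restrictTildeAwayIso M t).symm ≪≫ i ≪≫
    (tildeFinsuppFreeModIso (.of (Localization.Away t)) n).symm
  let e' := (tilde.fullyFaithfulFunctor (R := .of (Localization.Away t))).preimageIso e
  let e'' : (Localization.Away t ⊗[R] M) ≃ₗ[Localization.Away t]
      (ULift.{u} (Fin n) →₀ Localization.Away t) := e'.toLinearEquiv
  obtain ⟨p', rfl⟩ : ∃ p' : PrimeSpectrum (Localization.Away (t : R)),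
      p'.comap (algebraMap R (Localization.Away (t : R))) = p := by
    have h1 := PrimeSpectrum.localization_away_comap_range (Localization.Away (t : R)) t
    have h2 : p ∈ Set.range (PrimeSpectrum.comap (algebraMap R (Localization.Away (t : R)))) := by
      rw [h1]; exact hp
    exact h2
  have : Nontrivial (Localization.Away (t : R)) := p'.nontrivial
  obtain ⟨_, _⟩ := finite_projective_of_isFinLocFree_tilde M (isFinLocFree_of_isFinLocFreeOfRank h)
  rw [← Module.rankAtStalk_baseChange, Module.rankAtStalk_eq_of_equiv e'',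
    Module.rankAtStalk_eq_finrank_of_free]
  simp

end Affine

section Scheme

variable {Y : Scheme.{u}}

/-- A module finite locally free of rank `n` has sections of rank `n` over every affine open. -/
theorem rankAtStalk_Γ_of_isFinLocFreeOfRank {E : Y.Modules} {n : ℕ} (h : IsFinLocFreeOfRank n E)
    {V : Y.Opens} (hV : IsAffineOpen V) (p : PrimeSpectrum Γ(Y, V)) :
    Module.rankAtStalk Γ(E, V) p = n := by
  have hL : IsFinLocFreeOfRank n (restrictSpec hV E) := isFinLocFreeOfRank_restrict hV.fromSpec h
  have : (restrictSpec hV E).IsQuasicoherent :=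
    isQuasicoherent_of_isFinLocFree (isFinLocFree_of_isFinLocFreeOfRank hL)
  have h1 := rankAtStalk_of_isFinLocFreeOfRank_tilde (moduleSpecΓFunctor.obj (restrictSpec hV E))
    (isFinLocFreeOfRank_of_iso (tildeΓIso (restrictSpec hV E)).symm hL) p
  rw [← h1]
  exact congrFun (Module.rankAtStalk_eq_of_equiv (ΓrestrictSpecLinearEquiv hV E).symm) p

/-- A basis of `Γ(E, V)_s` over `Γ(Y, V)_s` trivialises `E` along the open immersion
`Spec Γ(Y, V)_s ⟶ Y`. -/
noncomputable def trivAwayOfBasis (E : Y.Modules) [E.IsQuasicoherent] {V : Y.Opens}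
    (hV : IsAffineOpen V) (s : Γ(Y, V)) {n : ℕ}
    (b : Module.Basis (Fin n) (Localization.Away s)
      (LocalizedModule (Submonoid.powers s) Γ(E, V))) :
    E.restrict (Spec.map (CommRingCat.ofHom (algebraMap Γ(Y, V) (Localization.Away s))) ≫
      hV.fromSpec) ≅ FlatMod.freeMod (Spec (.of (Localization.Away s))) n :=
  let e1 : Localization.Away s ⊗[Γ(Y, V)] (moduleSpecΓFunctor.obj (restrictSpec hV E))
      ≃ₗ[Localization.Away s] LocalizedModule (Submonoid.powers s) Γ(E, V) :=
    (TensorProduct.AlgebraTensorModule.congr (LinearEquiv.refl _ _)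
      (ΓrestrictSpecLinearEquiv hV E)) ≪≫ₗ
    (IsLocalizedModule.isBaseChange (Submonoid.powers s) (Localization.Away s)
      (LocalizedModule.mkLinearMap (Submonoid.powers s) Γ(E, V))).equiv
  (restrictFunctorComp (Spec.map (CommRingCat.ofHom (algebraMap Γ(Y, V) (Localization.Away s))))
      hV.fromSpec).app E ≪≫
    (restrictFunctor (Spec.map (CommRingCat.ofHom
      (algebraMap Γ(Y, V) (Localization.Away s))))).mapIso (tildeΓIso (restrictSpec hV E)).symm ≪≫
    restrictTildeAwayIso (moduleSpecΓFunctor.obj (restrictSpec hV E)) s ≪≫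
    tildeIsoFreeModOfBasis (b.map e1.symm)

/-- **Semilocal trivialisation on schemes**: a module finite locally free of rank `r` is trivial on
an open neighbourhood `U ≤ V` of any finite subset `Z` of an affine open `V`. -/
theorem exists_triv_of_finite_subset_affine {E : Y.Modules} {r : ℕ} (hE : IsFinLocFreeOfRank r E)
    {Z : Set Y} (hZ : Z.Finite) {V : Y.Opens} (hV : IsAffineOpen V) (hZV : Z ⊆ V) :
    ∃ U : Y.Opens, Z ⊆ U ∧ U ≤ V ∧
      Nonempty (E.restrict U.ι ≅ FlatMod.freeMod (U : Scheme.{u}) r) := by
  have hlf := isFinLocFree_of_isFinLocFreeOfRank hE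
  have : E.IsQuasicoherent := isQuasicoherent_of_isFinLocFree hlf
  obtain ⟨_, _⟩ := finite_projective_Γ_of_isAffineOpen hlf hV
  have : Finite Z := hZ.to_subtype
  obtain ⟨s, hs, ⟨b⟩⟩ := exists_basis_away_of_rankAtStalk_eq Γ(Y, V) Γ(E, V) r
    (rankAtStalk_Γ_of_isFinLocFreeOfRank hE hV)
    (Set.range fun z : Z => hV.primeIdealOf ⟨z.1, hZV z.2⟩) (Set.finite_range _)
  let j := Spec.map (CommRingCat.ofHom (algebraMap Γ(Y, V) (Localization.Away s))) ≫ hV.fromSpec
  refine ⟨j.opensRange, ?_, ?_, ⟨trivOpensRange j (trivAwayOfBasis E hV s b)⟩⟩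
  · intro z hz
    have h1 : s ∉ (hV.primeIdealOf ⟨z, hZV hz⟩).asIdeal := hs _ ⟨⟨z, hz⟩, rfl⟩
    have h2 : hV.primeIdealOf ⟨z, hZV hz⟩ ∈
        (Spec.map (CommRingCat.ofHom (algebraMap Γ(Y, V) (Localization.Away s)))).opensRange := by
      rw [Scheme.Hom.opensRange_localizationAway s]
      exact h1
    obtain ⟨w, hw⟩ := h2
    refine ⟨w, ?_⟩
    change hV.fromSpec (Spec.map (CommRingCat.ofHom
      (algebraMap Γ(Y, V) (Localization.Away s))) w) = z
    rw [hw, hV.fromSpec_primeIdealOf]
  · rintro _ ⟨w, rfl⟩
    have : hV.fromSpec (Spec.map (CommRingCat.ofHom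
      (algebraMap Γ(Y, V) (Localization.Away s))) w) ∈ Set.range hV.fromSpec := ⟨_, rfl⟩
    rw [hV.range_fromSpec] at this
    exact this

end Scheme

end Groth.Agent.Lib.QCoh
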