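import Groth.Agent.Lib.QCoh.Tensor
import Mathlib.CategoryTheory.Sites.PreservesLocallyBijective
import Mathlib.Algebra.Category.ModuleCat.Monoidal.Adjunction

/-!
# QCoh API / TENSOR (lead): `tensorMod` commutes with restriction to opens

`f : X ⟶ Y` an open immersion.

* `restrictScalars_μ_bijective` : for a surjective ring map `a : R → S` the lax monoidal structure map
  `A ⊗_R B → A ⊗_S B` of restriction of scalars is bijective
* `resPre f : PM Y ⥤ PM X` presheaf-level restriction, `resPre_obj_incl` (rfl: it is the underlying
  presheaf of `restrictFunctor f`), `WX_resPre` (preserves locally bijective maps), `resPreμ`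
* `WX_of_bijective`, `shfResPreIso : a(P|_U) ≅ (aP)|_U`
* **`restrictTensorModIso M N : (tensorMod M N).restrict f ≅ tensorMod (M.restrict f) (N.restrict f)`**
-/

universe u
open CategoryTheory MonoidalCategory Opposite TensorProduct AlgebraicGeometry TopologicalSpace
open Functor.LaxMonoidal

namespace Groth.Agent.Lib.QCoh

section
variable {R S : Type u} [CommRing R] [CommRing S] (a : R →+* S) (A B : ModuleCat.{u} S)

/-- the inverse of the lax structure map of restriction of scalars, as an additive map
(for surjective `a`) -/
noncomputable def restrictTensorInv (ha : Function.Surjective a) :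
    (A ⊗ B : ModuleCat S) →+
      ((ModuleCat.restrictScalars a).obj A ⊗ (ModuleCat.restrictScalars a).obj B : ModuleCat R) :=
  TensorProduct.liftAddHom
    { toFun := fun x =>
        { toFun := fun y => (show (ModuleCat.restrictScalars a).obj A from x) ⊗ₜ[R]
            (show (ModuleCat.restrictScalars a).obj B from y)
          map_zero' := TensorProduct.tmul_zero _ _
          map_add' := fun y y' => TensorProduct.tmul_add _ _ _ }
      map_zero' := by
        ext y
        exact TensorProduct.zero_tmul _ _
      map_add' := fun x x' => by
        ext y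
        exact TensorProduct.add_tmul _ _ _ }
    (by
      intro s x y
      obtain ⟨r, rfl⟩ := ha s
      exact TensorProduct.smul_tmul (R := R) (R' := R) r
        (show (ModuleCat.restrictScalars a).obj A from x)
        (show (ModuleCat.restrictScalars a).obj B from y))

lemma restrictTensorInv_tmul (ha : Function.Surjective a) (x : A) (y : B) :
    restrictTensorInv a A B ha (x ⊗ₜ[S] y) =
      (show (ModuleCat.restrictScalars a).obj A from x) ⊗ₜ[R]
        (show (ModuleCat.restrictScalars a).obj B from y) := rfl

/-- `restrictTensorInv` retyped with source `restrictScalars a (A ⊗ B)` -/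
noncomputable def restrictTensorInv' (ha : Function.Surjective a) :
    ((ModuleCat.restrictScalars a).obj (A ⊗ B) : ModuleCat R) →+
      ((ModuleCat.restrictScalars a).obj A ⊗ (ModuleCat.restrictScalars a).obj B : ModuleCat R) :=
  restrictTensorInv a A B ha

theorem restrictScalars_μ_bijective (ha : Function.Surjective a) :
    Function.Bijective (μ (ModuleCat.restrictScalars a) A B) := by
  refine Function.bijective_iff_has_inverse.2 ⟨restrictTensorInv' a A B ha, ?_, ?_⟩
  · intro t
    refine TensorProduct.induction_on
      (motive := fun t => restrictTensorInv' a A B ha (μ (ModuleCat.restrictScalars a) A B t) = t)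
      t ?_ ?_ ?_
    · rw [map_zero, map_zero]
    · intro x y
      exact (congrArg (restrictTensorInv' a A B ha)
        (ModuleCat.restrictScalars_μ_tmul a A B x y)).trans rfl
    · intro t t' h h'
      rw [map_add, map_add, h, h']
  · intro t
    refine TensorProduct.induction_on
      (motive := fun t : (A : Type u) ⊗[S] (B : Type u) =>
        μ (ModuleCat.restrictScalars a) A B (restrictTensorInv a A B ha t) =
          (show ((ModuleCat.restrictScalars a).obj (A ⊗ B) : ModuleCat R) from t))
      t ?_ ?_ ?_
    · rw [map_zero, map_zero]
      rfl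
    · intro x y
      exact ModuleCat.restrictScalars_μ_tmul a A B x y
    · intro t t' h h'
      rw [map_add, map_add, h, h']
      rfl

end

variable {X Y : Scheme.{u}} (f : X ⟶ Y) [IsOpenImmersion f]

/-- the ring map `O_X ⟶ O_Y ∘ f` (an isomorphism) -/
noncomputable def resRingHom : X.presheaf ⟶ f.opensFunctor.op ⋙ Y.presheaf where
  app U := (f.appIso U.unop).inv
  naturality := by
    intro U V i
    simp [Scheme.Hom.appIso_inv_naturality]

/-- presheaf-level restriction along an open immersion -/
noncomputable def resPre : PM Y ⥤ PM X :=
  PresheafOfModules.pushforward (F := f.opensFunctor)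
    (Functor.whiskerRight (resRingHom f) (forget₂ CommRingCat RingCat))

lemma resPre_obj_incl (M : Y.Modules) :
    (resPre f).obj ((incl Y).obj M) = (incl X).obj ((Scheme.Modules.restrictFunctor f).obj M) := rfl

lemma resPre_map_incl {M N : Y.Modules} (g : M ⟶ N) :
    (resPre f).map ((incl Y).map g) = (incl X).map ((Scheme.Modules.restrictFunctor f).map g) := rfl


/-- restriction to an open preserves locally bijective morphisms of presheaves of modules -/
lemma WX_resPre {P Q : PM Y} (g : P ⟶ Q) (hg : WX Y g) : WX X ((resPre f).map g) := by
  obtain ⟨h1, h2⟩ := hg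
  have e : abMap ((resPre f).map g) = Functor.whiskerLeft f.opensFunctor.op (abMap g) := rfl
  constructor
  · change Presheaf.IsLocallyInjective _ (abMap ((resPre f).map g))
    rw [e]
    have : Presheaf.IsLocallyInjective (Opens.grothendieckTopology Y) (abMap g) := h1
    exact Presheaf.isLocallyInjective_whisker (Opens.grothendieckTopology X)
      (Opens.grothendieckTopology Y) f.opensFunctor (abMap g)
  · change Presheaf.IsLocallySurjective _ (abMap ((resPre f).map g))
    rw [e]
    have : Presheaf.IsLocallySurjective (Opens.grothendieckTopology Y) (abMap g) := h2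
    exact Presheaf.isLocallySurjective_whisker (Opens.grothendieckTopology X)
      (Opens.grothendieckTopology Y) f.opensFunctor (abMap g)


/-- the ring map on sections used by `resPre` -/
noncomputable abbrev resRing (V : (Opens X)ᵒᵖ) :
    (X.presheaf.obj V) →+* (Y.presheaf.obj (f.opensFunctor.op.obj V)) :=
  ((resRingHom f).app V).hom

lemma resRing_bijective (V : (Opens X)ᵒᵖ) : Function.Bijective (resRing f V) :=
  ConcreteCategory.bijective_of_isIso ((f.appIso V.unop).inv)

/-- the lax monoidal structure map of presheaf-level restriction -/
noncomputable def resPreμ (P Q : PM Y) :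
    (resPre f).obj P ⊗ (resPre f).obj Q ⟶ (resPre f).obj (P ⊗ Q) where
  app V := μ (ModuleCat.restrictScalars (resRing f V)) (P.obj (f.opensFunctor.op.obj V))
    (Q.obj (f.opensFunctor.op.obj V))
  naturality := by
    intro V V' i
    refine ModuleCat.MonoidalCategory.tensor_ext (fun p q => ?_)
    have h1 := ModuleCat.restrictScalars_μ_tmul (resRing f V')
      (P.obj (f.opensFunctor.op.obj V')) (Q.obj (f.opensFunctor.op.obj V'))
      (((resPre f).obj P).map i p) (((resPre f).obj Q).map i q)
    have h2 := ModuleCat.restrictScalars_μ_tmul (resRing f V)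
      (P.obj (f.opensFunctor.op.obj V)) (Q.obj (f.opensFunctor.op.obj V)) p q
    exact h1.trans (Eq.symm (congrArg (((resPre f).obj (P ⊗ Q)).map i) h2))


/-- a sectionwise bijective morphism of presheaves of modules is locally bijective -/
lemma WX_of_bijective {P Q : PM X} (g : P ⟶ Q) (h : ∀ V, Function.Bijective (g.app V)) :
    WX X g :=
  ⟨Presheaf.isLocallyInjective_of_injective _ (abMap g) (fun V => (h V).1),
    Presheaf.isLocallySurjective_of_surjective _ (abMap g) (fun V => (h V).2)⟩

lemma WX_resPreμ (P Q : PM Y) : WX X (resPreμ f P Q) :=
  WX_of_bijective _ (fun V => restrictScalars_μ_bijective (resRing f V) _ _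
    (resRing_bijective f V).2)

open Scheme.Modules in
/-- sheafification commutes with restriction to an open: `a(P|_U) ≅ (aP)|_U`. -/
noncomputable def shfResPreIso (P : PM Y) :
    (shf X).obj ((resPre f).obj P) ≅ (restrictFunctor f).obj ((shf Y).obj P) :=
  have : IsIso ((shf X).map ((resPre f).map ((shfAdj Y).unit.app P))) :=
    (WX_iff_isIso X _).1 (WX_resPre f _ (WX_unit P))
  asIso ((shf X).map ((resPre f).map ((shfAdj Y).unit.app P))) ≪≫
    shfCounitIso X ((restrictFunctor f).obj ((shf Y).obj P))

open Scheme.Modules in
/-- **Restriction to an open commutes with tensor products.** -/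
noncomputable def restrictTensorModIso (M N : Y.Modules) :
    (CohB1.tensorMod M N).restrict f ≅ CohB1.tensorMod (M.restrict f) (N.restrict f) :=
  have : IsIso ((shf X).map (resPreμ f ((incl Y).obj M) ((incl Y).obj N))) :=
    (WX_iff_isIso X _).1 (WX_resPreμ f _ _)
  show (restrictFunctor f).obj ((shf Y).obj ((incl Y).obj M ⊗ (incl Y).obj N)) ≅
    (shf X).obj ((resPre f).obj ((incl Y).obj M) ⊗ (resPre f).obj ((incl Y).obj N)) from
  (shfResPreIso f ((incl Y).obj M ⊗ (incl Y).obj N)).symm ≪≫
    (asIso ((shf X).map (resPreμ f ((incl Y).obj M) ((incl Y).obj N)))).symm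

end Groth.Agent.Lib.QCoh
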