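import Mathlib.RingTheory.IsTensorProduct
import Mathlib.Algebra.Category.ModuleCat.ChangeOfRings
import Mathlib.Algebra.Category.Ring.Under.Basic

/-!
# Pure algebra for the base change theorem (helper50)

`bijective_of_isPushout` : if `B' = A' ⊗_A B`, `M` is a `B`-module, `T₁ ≅ A' ⊗_A M`,
`T₂ ≅ B' ⊗_B M` and `t : T₁ → T₂` is `A'`-linear compatible with the maps from `M`, then `t` is
bijective.
-/

namespace Groth.Agent.Lib.QCoh

open TensorProduct

section

variable {A A' B B' : Type*} [CommRing A] [CommRing A'] [CommRing B] [CommRing B']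
  [Algebra A A'] [Algebra A B] [Algebra A' B'] [Algebra B B'] [Algebra A B']
  [IsScalarTower A A' B'] [IsScalarTower A B B'] [Algebra.IsPushout A A' B B']
  {M : Type*} [AddCommGroup M] [Module A M] [Module B M] [IsScalarTower A B M]
  {T₁ T₂ : Type*} [AddCommGroup T₁] [Module A' T₁] [AddCommGroup T₂] [Module B' T₂]

theorem bijective_of_isPushout (κ₁ : A' ⊗[A] M ≃+ T₁) (hκ₁ : ∀ (a : A') x, κ₁ (a • x) = a • κ₁ x)
    (κ₂ : B' ⊗[B] M ≃+ T₂) (hκ₂ : ∀ (b : B') x, κ₂ (b • x) = b • κ₂ x)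
    (t : T₁ →+ T₂) (ht : ∀ (a : A') x, t (a • x) = algebraMap A' B' a • t x)
    (h : ∀ m : M, t (κ₁ (1 ⊗ₜ m)) = κ₂ (1 ⊗ₜ m)) : Function.Bijective t := by
  have key : ∀ x : A' ⊗[A] M, t (κ₁ x) =
      κ₂ ((Algebra.IsPushout.cancelBaseChange A A' B B' M).symm x) := by
    intro x
    induction x with
    | zero => simp
    | add x y hx hy => simp only [map_add, hx, hy]
    | tmul a m =>
      have h1 : a ⊗ₜ[A] m = a • ((1 : A') ⊗ₜ[A] m) := by
        rw [TensorProduct.smul_tmul', smul_eq_mul, mul_one]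
      rw [Algebra.IsPushout.cancelBaseChange_symm_tmul]
      rw [h1, hκ₁, ht, h, ← hκ₂, TensorProduct.smul_tmul', smul_eq_mul, mul_one]
  have : (t : T₁ → T₂) = (κ₂ ∘ (Algebra.IsPushout.cancelBaseChange A A' B B' M).symm) ∘
      κ₁.symm := by
    funext y
    obtain ⟨x, rfl⟩ := κ₁.surjective y
    simp [key]
  rw [this]
  exact (κ₂.bijective.comp (LinearEquiv.bijective _)).comp κ₁.symm.bijective

end

section Wrapper

universe u

open CategoryTheory ChangeOfRings

variable {A A' B B' : CommRingCat.{u}} (a : A ⟶ A') (p : A ⟶ B) (p' : A' ⟶ B') (b : B ⟶ B')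
  (hpo : IsPushout a p p' b)
  {M : Type u} [AddCommGroup M] [Module A M] [Module B M]
  (hM : ∀ (r : A) (m : M), r • m = p.hom r • m)
  {T₁ T₂ : Type u} [AddCommGroup T₁] [Module A' T₁] [AddCommGroup T₂] [Module B' T₂]

include hpo hM in
set_option backward.isDefEq.respectTransparency false in
/-- Ring-hom / `ModuleCat.extendScalars` form of `bijective_of_isPushout`. -/
theorem bijective_of_isPushout'
    (κ₁ : (ModuleCat.extendScalars a.hom).obj (ModuleCat.of A M) ≅ ModuleCat.of A' T₁)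
    (κ₂ : (ModuleCat.extendScalars b.hom).obj (ModuleCat.of B M) ≅ ModuleCat.of B' T₂)
    (t : T₁ →+ T₂) (ht : ∀ (r : A') x, t (r • x) = p'.hom r • t x)
    (h : ∀ m : M, t (κ₁.hom ((1 : A') ⊗ₜ[A, a.hom] m)) = κ₂.hom ((1 : B') ⊗ₜ[B, b.hom] m)) :
    Function.Bijective t := by
  let _ : Algebra A A' := a.hom.toAlgebra
  let _ : Algebra A B := p.hom.toAlgebra
  let _ : Algebra A' B' := p'.hom.toAlgebra
  let _ : Algebra B B' := b.hom.toAlgebra
  let _ : Algebra A B' := (a ≫ p').hom.toAlgebra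
  have : IsScalarTower A A' B' := .of_algebraMap_eq' rfl
  have : IsScalarTower A B B' := .of_algebraMap_eq' (by
    change (a ≫ p').hom = (p ≫ b).hom
    rw [hpo.w])
  have : IsScalarTower A B M := ⟨fun r s m => by
    rw [hM, Algebra.smul_def, mul_smul]; rfl⟩
  have : Algebra.IsPushout A A' B B' := CommRingCat.isPushout_iff_isPushout.mp hpo
  exact bijective_of_isPushout (A := A) (A' := A') (B := B) (B' := B') (M := M)
    κ₁.toLinearEquiv.toAddEquiv (fun r x => κ₁.toLinearEquiv.map_smul r x)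
    κ₂.toLinearEquiv.toAddEquiv (fun r x => κ₂.toLinearEquiv.map_smul r x) t ht h

end Wrapper

end Groth.Agent.Lib.QCoh
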