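import Groth.Agent.Lib.QCoh.Helper50_PullbackSections
import Groth.Agent.Lib.QCoh.Helper50_BaseChangeAlg
import Mathlib.AlgebraicGeometry.Morphisms.Flat

/-!
# QCoh API (helper50): the base change theorem for affine morphisms

Namespace `Groth.Agent.Lib.QCoh`.

* `baseChangeMap f g g' f' hw F : g^* f_* F ⟶ f'_* g'^* F`
* `isIso_baseChangeMap_of_isAffineHom` : it is an isomorphism when the square is cartesian, `f`
  is affine and `F` is quasi-coherent.
-/

universe u

open CategoryTheory CategoryTheory.Limits AlgebraicGeometry Opposite TopologicalSpace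

namespace Groth.Agent.Lib.QCoh

open Scheme.Modules

variable {X S X' S' : Scheme.{u}} (f : X ⟶ S) (g : S' ⟶ S) (g' : X' ⟶ X) (f' : X' ⟶ S')
  (hw : g' ≫ f = f' ≫ g)

/-- The map `f_* F ⟶ g_* f'_* g'^* F` whose adjoint is the base change map. -/
noncomputable def baseChangeMapAdj (F : X.Modules) :
    (pushforward f).obj F ⟶
      (pushforward g).obj ((pushforward f').obj ((Scheme.Modules.pullback g').obj F)) :=
  (pushforward f).map ((pullbackPushforwardAdjunction g').unit.app F) ≫
    (pushforwardComp g' f).hom.app ((Scheme.Modules.pullback g').obj F) ≫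
    (pushforwardCongr hw).hom.app ((Scheme.Modules.pullback g').obj F) ≫
    (pushforwardComp f' g).inv.app ((Scheme.Modules.pullback g').obj F)

/-- The base change map `g^* f_* F ⟶ f'_* g'^* F` of a commutative square. -/
noncomputable def baseChangeMap (F : X.Modules) :
    (Scheme.Modules.pullback g).obj ((pushforward f).obj F) ⟶
      (pushforward f').obj ((Scheme.Modules.pullback g').obj F) :=
  ((pullbackPushforwardAdjunction g).homEquiv ((pushforward f).obj F)
    ((pushforward f').obj ((Scheme.Modules.pullback g').obj F))).symm (baseChangeMapAdj f g g' f' hw F)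

lemma unit_comp_baseChangeMap (F : X.Modules) :
    (pullbackPushforwardAdjunction g).unit.app ((pushforward f).obj F) ≫
      (pushforward g).map (baseChangeMap f g g' f' hw F) = baseChangeMapAdj f g g' f' hw F := by
  have h1 := Adjunction.homEquiv_unit (pullbackPushforwardAdjunction g)
    (f := baseChangeMap f g g' f' hw F)
  exact h1.symm.trans (Equiv.apply_symm_apply _ _)

section Compat

variable {W : S.Opens} {W' : S'.Opens} (e : W' ≤ g ⁻¹ᵁ W)

include hw e in
lemma preimage_le_preimage : f' ⁻¹ᵁ W' ≤ g' ⁻¹ᵁ (f ⁻¹ᵁ W) := by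
  rw [← Scheme.Hom.comp_preimage, hw, Scheme.Hom.comp_preimage]
  exact Scheme.Hom.preimage_mono f' e

set_option maxHeartbeats 400000 in
/-- The base change map is compatible with the comparison maps `pullbackSectionsMap`. -/
lemma baseChangeMap_app_pullbackSectionsMap (F : X.Modules) (m : Γ(F, f ⁻¹ᵁ W)) :
    (baseChangeMap f g g' f' hw F).app W'
      (pullbackSectionsMap g e ((pushforward f).obj F)
        (show Γ((pushforward f).obj F, W) from m)) =
    (show Γ((pushforward f').obj ((Scheme.Modules.pullback g').obj F), W') from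
      pullbackSectionsMap g' (preimage_le_preimage f g g' f' hw e) F m) := by
  let θ := baseChangeMap f g g' f' hw F
  let Q := (Scheme.Modules.pullback g).obj ((pushforward f).obj F)
  let P := (Scheme.Modules.pullback g').obj F
  let x : Γ(Q, g ⁻¹ᵁ W) := ((pullbackPushforwardAdjunction g).unit.app ((pushforward f).obj F)).app W
    (show Γ((pushforward f).obj F, W) from m)
  -- naturality of θ with respect to W' ≤ g⁻¹W
  have N1 : θ.app W' (Q.presheaf.map (homOfLE e).op x) =
      ((pushforward f').obj P).presheaf.map (homOfLE e).op (θ.app (g ⁻¹ᵁ W) x) :=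
    app_naturality_apply θ (homOfLE e) x
  -- the defining property of θ on sections over W
  have N2 : θ.app (g ⁻¹ᵁ W) x =
      (show Γ((pushforward f').obj P, g ⁻¹ᵁ W) from
        (baseChangeMapAdj f g g' f' hw F).app W (show Γ((pushforward f).obj F, W) from m)) := by
    have := congr(($(unit_comp_baseChangeMap f g g' f' hw F)).app W
      (show Γ((pushforward f).obj F, W) from m))
    exact this
  have hpre : f' ⁻¹ᵁ g ⁻¹ᵁ W = g' ⁻¹ᵁ f ⁻¹ᵁ W := by
    rw [← Scheme.Hom.comp_preimage, ← Scheme.Hom.comp_preimage, hw]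
  have N3 : (baseChangeMapAdj f g g' f' hw F).app W (show Γ((pushforward f).obj F, W) from m) =
      (show Γ((pushforward g).obj ((pushforward f').obj P), W) from
        P.presheaf.map (eqToHom hpre).op
          (((pullbackPushforwardAdjunction g').unit.app F).app (f ⁻¹ᵁ W) m)) := by
    unfold baseChangeMapAdj
    simp only [Hom.comp_app, pushforward_map_app, pushforwardComp_hom_app_app,
      pushforwardComp_inv_app_app, pushforwardCongr_hom_app_app]
    rfl
  change θ.app W' (Q.presheaf.map (homOfLE e).op x) = _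
  rw [N1, N2, N3]
  exact map_map_apply P ((Opens.map f'.base).map (homOfLE e)) _ _ _

end Compat

section Main

variable (h : IsPullback g' f' f g) [IsAffineHom f]

include h in
lemma isAffineHom_of_isPullback : IsAffineHom f' :=
  MorphismProperty.of_isPullback (P := @IsAffineHom) h ‹IsAffineHom f›

open ChangeOfRings in
set_option maxHeartbeats 800000 in
include h in
/-- On a small enough affine open, the base change map is bijective on sections. -/
theorem bijective_baseChangeMap_app (F : X.Modules) [F.IsQuasicoherent] {W : S.Opens}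
    {W' : S'.Opens} (hW : IsAffineOpen W) (hW' : IsAffineOpen W') (e : W' ≤ g ⁻¹ᵁ W) :
    Function.Bijective ((baseChangeMap f g g' f' h.w F).app W') := by
  have hf' : IsAffineHom f' := isAffineHom_of_isPullback f g g' f' h
  have hU : IsAffineOpen (f ⁻¹ᵁ W) := hW.preimage f
  have hU' : IsAffineOpen (f' ⁻¹ᵁ W') := hW'.preimage f'
  have e' : f' ⁻¹ᵁ W' ≤ g' ⁻¹ᵁ (f ⁻¹ᵁ W) := preimage_le_preimage f g g' f' h.w e
  have hq : ((pushforward f).obj F).IsQuasicoherent := isQuasicoherent_pushforward_of_isAffineHom f F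
  obtain ⟨κ₁, hκ₁⟩ := exists_iso_extendScalars_pullbackSections g hW hW' e ((pushforward f).obj F)
  obtain ⟨κ₂, hκ₂⟩ := exists_iso_extendScalars_pullbackSections g' hU hU' e' F
  -- the pushout square of rings
  have hUY : f' ⁻¹ᵁ W' = g' ⁻¹ᵁ (f ⁻¹ᵁ W) ⊓ f' ⁻¹ᵁ W' := (inf_eq_right.2 e').symm
  have hiso := isIso_pushoutSection_of_isAffineOpen h e (le_refl (f ⁻¹ᵁ W)) hUY hW hW' hU
  have hpo := ((isIso_pushoutSection_iff h e (le_refl (f ⁻¹ᵁ W)) hUY).1 hiso).flip
  have hM : ∀ (r : Γ(S, W)) (m : Γ((pushforward f).obj F, W)),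
      r • m = (show Γ(F, f ⁻¹ᵁ W) from
        (f.appLE W (f ⁻¹ᵁ W) (le_refl _)).hom r • (show Γ(F, f ⁻¹ᵁ W) from m)) := by
    intro r m
    rw [← Scheme.Hom.app_eq_appLE]
    rfl
  have ht : ∀ (r : Γ(S', W')) (x : Γ((Scheme.Modules.pullback g).obj ((pushforward f).obj F), W')),
      ((baseChangeMap f g g' f' h.w F).app W').hom (r • x) =
        (show Γ((Scheme.Modules.pullback g').obj F, f' ⁻¹ᵁ W') from
          (f'.appLE W' (f' ⁻¹ᵁ W') (le_refl _)).hom r •
          (show Γ((Scheme.Modules.pullback g').obj F, f' ⁻¹ᵁ W') from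
            ((baseChangeMap f g g' f' h.w F).app W').hom x)) := by
    intro r x
    have := Hom.app_smul (baseChangeMap f g g' f' h.w F) r x
    rw [← Scheme.Hom.app_eq_appLE]
    exact this
  exact @bijective_of_isPushout' Γ(S, W) Γ(S', W') Γ(X, f ⁻¹ᵁ W) Γ(X', f' ⁻¹ᵁ W')
    (g.appLE W W' e) (f.appLE W (f ⁻¹ᵁ W) (le_refl _)) (f'.appLE W' (f' ⁻¹ᵁ W') (le_refl _))
    (g'.appLE (f ⁻¹ᵁ W) (f' ⁻¹ᵁ W') e') hpo
    Γ((pushforward f).obj F, W) _ _
    (show Module Γ(X, f ⁻¹ᵁ W) Γ(F, f ⁻¹ᵁ W) from inferInstance) hM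
    Γ((Scheme.Modules.pullback g).obj ((pushforward f).obj F), W')
    Γ((Scheme.Modules.pullback g').obj F, f' ⁻¹ᵁ W') _ _ _ _ κ₁ κ₂
    ((baseChangeMap f g g' f' h.w F).app W').hom ht
    (fun m => by
      rw [hκ₁]
      exact (baseChangeMap_app_pullbackSectionsMap f g g' f' h.w e F m).trans (hκ₂ m).symm)

/-- A morphism of modules which is bijective on sections over a basis of opens is an
isomorphism. -/
theorem isIso_of_bijective_app_of_isBasis {Y : Scheme.{u}} {M N : Y.Modules} (φ : M ⟶ N)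
    {ι : Type*} (B : ι → Y.Opens) (hB : Opens.IsBasis (Set.range B))
    (hφ : ∀ i, Function.Bijective (φ.app (B i))) : IsIso φ := by
  let M' : TopCat.Sheaf Ab Y := ⟨M.presheaf, M.isSheaf⟩
  let N' : TopCat.Sheaf Ab Y := ⟨N.presheaf, N.isSheaf⟩
  let φ' : M' ⟶ N' := ⟨φ.mapPresheaf⟩
  have h1 : IsIso φ' := by
    refine TopCat.Sheaf.isIso_iff_isIso_basis (B := B) hB fun i => ?_
    change IsIso (φ.app (B i))
    exact (ConcreteCategory.isIso_iff_bijective _).2 (hφ i)
  have h2 : IsIso ((Scheme.Modules.toPresheaf Y).map φ) := by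
    change IsIso φ.mapPresheaf
    obtain ⟨ψ, hψ1, hψ2⟩ := h1.out
    have e1 : φ.mapPresheaf ≫ ψ.hom = 𝟙 _ := congrArg (fun k => k.hom) hψ1
    have e2 : ψ.hom ≫ φ.mapPresheaf = 𝟙 _ := congrArg (fun k => k.hom) hψ2
    exact ⟨⟨ψ.hom, e1, e2⟩⟩
  exact isIso_of_reflects_iso φ (Scheme.Modules.toPresheaf Y)

include h in
/-- **Base change for affine morphisms**: for a cartesian square with `f` affine and `F`
quasi-coherent, the base change map `g^* f_* F ⟶ f'_* g'^* F` is an isomorphism. -/
theorem isIso_baseChangeMap_of_isAffineHom (F : X.Modules) [F.IsQuasicoherent] :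
    IsIso (baseChangeMap f g g' f' h.w F) := by
  let ι := {W' : S'.Opens // IsAffineOpen W' ∧ ∃ W : S.Opens, IsAffineOpen W ∧ W' ≤ g ⁻¹ᵁ W}
  refine isIso_of_bijective_app_of_isBasis _ (fun i : ι => i.1) ?_ ?_
  · rw [Opens.isBasis_iff_nbhd]
    intro V x hx
    obtain ⟨W, hW, hxW, -⟩ := Opens.isBasis_iff_nbhd.1 S.isBasis_affineOpens
      (show g.base x ∈ (⊤ : S.Opens) from trivial)
    obtain ⟨W', hW', hxW', hle⟩ := Opens.isBasis_iff_nbhd.1 S'.isBasis_affineOpens
      (show x ∈ V ⊓ g ⁻¹ᵁ W from ⟨hx, hxW⟩)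
    exact ⟨W', ⟨⟨W', hW', W, hW, hle.trans inf_le_right⟩, rfl⟩, hxW', hle.trans inf_le_left⟩
  · rintro ⟨W', hW', W, hW, e⟩
    exact bijective_baseChangeMap_app f g g' f' h F hW hW' e

end Main

end Groth.Agent.Lib.QCoh
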