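import Mathlib.RingTheory.Flat.Basic
import Mathlib.RingTheory.TensorProduct.Basic
import Mathlib.LinearAlgebra.TensorProduct.Pi
import Mathlib.Algebra.Exact.Basic
import Mathlib.Algebra.Category.ModuleCat.ChangeOfRings
import Mathlib.Algebra.Category.Ring.Basic

/-!
# Pure algebra for flat base change (helper50)

Namespace `Groth.Agent.Lib.QCoh`.

* `semilinearLift φ hφ : B' ⊗[B] M →ₗ[B'] N` for an additive `φ : M →+ N` with
  `φ (b • m) = algebraMap B B' b • φ m`.
* `injective_of_flat_of_injective`, `bijective_of_flat_of_exact` : the "five lemma" steps used to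
  pass from an affine cover to a quasi-compact (quasi-separated) open.
* `piLift`, `injective_piLift`, `bijective_piLift` : finite products.
-/

namespace Groth.Agent.Lib.QCoh

open TensorProduct

section

variable {B B' : Type*} [CommRing B] [CommRing B'] [Algebra B B']

section Lift

variable {M N : Type*} [AddCommGroup M] [Module B M] [AddCommGroup N] [Module B' N]

/-- The `B'`-linear extension `B' ⊗[B] M → N` of a semilinear additive map `M → N`. -/
noncomputable def semilinearLift (φ : M →+ N)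
    (hφ : ∀ (b : B) (m : M), φ (b • m) = algebraMap B B' b • φ m) : B' ⊗[B] M →ₗ[B'] N :=
  letI : Module B N := Module.compHom N (algebraMap B B')
  haveI : IsScalarTower B B' N := ⟨fun b b' n => by
    change (b • b') • n = algebraMap B B' b • b' • n
    rw [Algebra.smul_def, mul_smul]⟩
  LinearMap.liftBaseChange B' ({ toFun := φ, map_add' := φ.map_add, map_smul' := hφ } : M →ₗ[B] N)

@[simp]
lemma semilinearLift_tmul (φ : M →+ N)
    (hφ : ∀ (b : B) (m : M), φ (b • m) = algebraMap B B' b • φ m) (b' : B') (m : M) :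
    semilinearLift φ hφ (b' ⊗ₜ m) = b' • φ m := rfl

/-- Two `B'`-linear maps out of `B' ⊗[B] M` agreeing on `1 ⊗ m` are equal. -/
lemma linearMap_ext_one_tmul {t t' : B' ⊗[B] M →ₗ[B'] N}
    (h : ∀ m : M, t (1 ⊗ₜ m) = t' (1 ⊗ₜ m)) : t = t' := by
  apply LinearMap.ext
  intro x
  induction x with
  | zero => simp
  | add x y hx hy => simp [hx, hy]
  | tmul b m =>
    have : b ⊗ₜ[B] m = b • ((1 : B') ⊗ₜ[B] m) := by rw [smul_tmul', smul_eq_mul, mul_one]
    rw [this, map_smul, map_smul, h]

lemma apply_eq_of_one_tmul {t t' : B' ⊗[B] M →ₗ[B'] N}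
    (h : ∀ m : M, t (1 ⊗ₜ m) = t' (1 ⊗ₜ m)) (x : B' ⊗[B] M) : t x = t' x := by
  rw [linearMap_ext_one_tmul h]

end Lift

section Five

variable {M P Q : Type*} [AddCommGroup M] [Module B M] [AddCommGroup P] [Module B P]
  [AddCommGroup Q] [Module B Q]
  {N P' Q' : Type*} [AddCommGroup N] [Module B' N] [AddCommGroup P'] [Module B' P']
  [AddCommGroup Q'] [Module B' Q']

/-- If `M ↪ P`, `B'` is flat, and the comparison map for `P` is injective, then so is the one
for `M`. -/
theorem injective_of_flat_of_injective [Module.Flat B B']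
    (r : M →ₗ[B] P) (hr : Function.Injective r) (s : N →ₗ[B'] P')
    (t : B' ⊗[B] M →ₗ[B'] N) (tP : B' ⊗[B] P →ₗ[B'] P')
    (c1 : ∀ m, s (t (1 ⊗ₜ m)) = tP (1 ⊗ₜ r m))
    (hP : Function.Injective tP) : Function.Injective t := by
  have hr' : Function.Injective (r.baseChange B') :=
    Module.Flat.lTensor_preserves_injective_linearMap r hr
  have hc : ∀ x, s (t x) = tP (r.baseChange B' x) := by
    intro x
    have : s ∘ₗ t = tP ∘ₗ r.baseChange B' := by
      apply linearMap_ext_one_tmul
      intro m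
      simp [c1]
    exact congr($this x)
  intro x y hxy
  apply hr'
  apply hP
  rw [← hc, ← hc, hxy]

/-- The five-lemma step: left exact rows, `B'` flat, comparison map bijective for `P` and
injective for `Q` imply it is bijective for `M`. -/
theorem bijective_of_flat_of_exact [Module.Flat B B']
    (r : M →ₗ[B] P) (d : P →ₗ[B] Q) (hr : Function.Injective r) (hrd : Function.Exact r d)
    (s : N →ₗ[B'] P') (d' : P' →ₗ[B'] Q') (hs : Function.Injective s)
    (hsd : Function.Exact s d')
    (t : B' ⊗[B] M →ₗ[B'] N) (tP : B' ⊗[B] P →ₗ[B'] P') (tQ : B' ⊗[B] Q →ₗ[B'] Q')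
    (c1 : ∀ m, s (t (1 ⊗ₜ m)) = tP (1 ⊗ₜ r m))
    (c2 : ∀ p, d' (tP (1 ⊗ₜ p)) = tQ (1 ⊗ₜ d p))
    (hP : Function.Bijective tP) (hQ : Function.Injective tQ) : Function.Bijective t := by
  refine ⟨injective_of_flat_of_injective r hr s t tP c1 hP.1, ?_⟩
  have hex : Function.Exact (r.baseChange B') (d.baseChange B') :=
    Module.Flat.lTensor_exact B' hrd
  have hc1 : ∀ x, s (t x) = tP (r.baseChange B' x) := by
    intro x
    have : s ∘ₗ t = tP ∘ₗ r.baseChange B' := by
      apply linearMap_ext_one_tmul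
      intro m
      simp [c1]
    exact congr($this x)
  have hc2 : ∀ x, d' (tP x) = tQ (d.baseChange B' x) := by
    intro x
    have : d' ∘ₗ tP = tQ ∘ₗ d.baseChange B' := by
      apply linearMap_ext_one_tmul
      intro m
      simp [c2]
    exact congr($this x)
  intro n
  obtain ⟨p, hp⟩ := hP.2 (s n)
  have h1 : d.baseChange B' p = 0 := by
    apply hQ
    rw [← hc2, hp, map_zero]
    exact (hsd (s n)).2 ⟨n, rfl⟩
  obtain ⟨x, hx⟩ := (hex p).1 h1
  refine ⟨x, hs ?_⟩
  rw [hc1, hx, hp]

end Five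

section Pi

variable {ι : Type*} [Fintype ι] [DecidableEq ι] {M : ι → Type*} [∀ i, AddCommGroup (M i)]
  [∀ i, Module B (M i)] {N : ι → Type*} [∀ i, AddCommGroup (N i)] [∀ i, Module B' (N i)]

/-- The product of comparison maps as a comparison map for the product. -/
noncomputable def piLift (t : ∀ i, B' ⊗[B] M i →ₗ[B'] N i) :
    B' ⊗[B] (∀ i, M i) →ₗ[B'] ∀ i, N i :=
  LinearMap.pi fun i => t i ∘ₗ (LinearMap.proj i : (∀ i, M i) →ₗ[B] M i).baseChange B'

omit [Fintype ι] [DecidableEq ι] in
@[simp]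
lemma piLift_tmul (t : ∀ i, B' ⊗[B] M i →ₗ[B'] N i) (b' : B') (m : ∀ i, M i) (i : ι) :
    piLift t (b' ⊗ₜ m) i = t i (b' ⊗ₜ m i) := rfl

lemma piLift_eq (t : ∀ i, B' ⊗[B] M i →ₗ[B'] N i) (x : B' ⊗[B] (∀ i, M i)) :
    piLift t x = fun i => t i (TensorProduct.piRight B B' B' M x i) := by
  induction x with
  | zero => funext i; simp
  | add x y hx hy => rw [map_add, hx, hy]; funext i; simp
  | tmul b' m => funext i; simp

theorem injective_piLift (t : ∀ i, B' ⊗[B] M i →ₗ[B'] N i)
    (ht : ∀ i, Function.Injective (t i)) : Function.Injective (piLift t) := by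
  intro x y hxy
  apply (TensorProduct.piRight B B' B' M).injective
  funext i
  apply ht i
  have := congrFun hxy i
  rw [piLift_eq, piLift_eq] at hxy
  exact congrFun hxy i

theorem bijective_piLift (t : ∀ i, B' ⊗[B] M i →ₗ[B'] N i)
    (ht : ∀ i, Function.Bijective (t i)) : Function.Bijective (piLift t) := by
  refine ⟨injective_piLift t fun i => (ht i).1, fun n => ?_⟩
  choose y hy using fun i => (ht i).2 (n i)
  refine ⟨(TensorProduct.piRight B B' B' M).symm y, ?_⟩
  rw [piLift_eq]
  funext i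
  rw [LinearEquiv.apply_symm_apply, hy]

end Pi

end

section Wrapper

universe u

open CategoryTheory ChangeOfRings

set_option backward.isDefEq.respectTransparency false in
/-- Transfer of bijectivity along an isomorphism `B' ⊗ M ≅ T₁` in `ModuleCat`. -/
theorem bijective_of_iso_extendScalars {B B' : CommRingCat.{u}} (a : B ⟶ B')
    {M : Type u} [AddCommGroup M] [Module B M] {T₁ N : Type u} [AddCommGroup T₁] [Module B' T₁]
    [AddCommGroup N] [Module B' N]
    (κ : (ModuleCat.extendScalars a.hom).obj (ModuleCat.of B M) ≅ ModuleCat.of B' T₁)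
    (θ' : T₁ →+ N) (hθ : ∀ (b' : B') x, θ' (b' • x) = b' • θ' x)
    (ψ : M → N)
    (hc : ∀ m, θ' (κ.hom ((1 : B') ⊗ₜ[B, a.hom] m)) = ψ m)
    (hbij : letI := a.hom.toAlgebra
      ∀ t : B' ⊗[B] M →ₗ[B'] N, (∀ m, t (1 ⊗ₜ m) = ψ m) → Function.Bijective t) :
    Function.Bijective θ' := by
  let _ := a.hom.toAlgebra
  let κ' : B' ⊗[B] M ≃ₗ[B'] T₁ := κ.toLinearEquiv
  let t : B' ⊗[B] M →ₗ[B'] N :=
    { toFun := fun x => θ' (κ' x)
      map_add' := fun x y => by rw [map_add, map_add]
      map_smul' := fun b x => by rw [map_smul, hθ]; rfl }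
  have ht : Function.Bijective t := hbij t hc
  have : (θ' : T₁ → N) = t ∘ κ'.symm := by
    funext y
    change θ' y = θ' (κ' (κ'.symm y))
    rw [LinearEquiv.apply_symm_apply]
  rw [this]
  exact ht.comp κ'.symm.bijective

end Wrapper

end Groth.Agent.Lib.QCoh
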