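import Groth.Agent.Lib.QCoh.Helper50_BaseChange
import Groth.Agent.Lib.QCoh.Helper50_FlatBCAlg
import Groth.Agent.Lib.QCoh.Helper43_PushQcqs

/-!
# QCoh API (helper50): flat base change for quasi-compact quasi-separated morphisms

Namespace `Groth.Agent.Lib.QCoh`.
-/

universe u

open CategoryTheory CategoryTheory.Limits AlgebraicGeometry Opposite TopologicalSpace

namespace Groth.Agent.Lib.QCoh

open Scheme.Modules

section Basic

variable {Y' Y : Scheme.{u}} (g : Y' ⟶ Y) {W : Y.Opens} {W' : Y'.Opens} (e : W' ≤ g ⁻¹ᵁ W)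

set_option maxHeartbeats 400000 in
/-- The comparison map `Γ(G, W) → Γ(g^* G, W')` is semilinear along `Γ(Y, W) → Γ(Y', W')`. -/
lemma pullbackSectionsMap_smul (G : Y.Modules) (r : Γ(Y, W)) (m : Γ(G, W)) :
    pullbackSectionsMap g e G (r • m) =
      (g.appLE W W' e).hom r • pullbackSectionsMap g e G m := by
  let P := (Scheme.Modules.pullback g).obj G
  let η := (pullbackPushforwardAdjunction g).unit.app G
  have h1 : η.app W (r • m) = r • η.app W m := Hom.app_smul η r m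
  have h2 : (show Γ((pushforward g).obj P, W) from r • η.app W m) =
      (show Γ(P, g ⁻¹ᵁ W) from (g.app W r) • (show Γ(P, g ⁻¹ᵁ W) from η.app W m)) := rfl
  have h3 := Scheme.Modules.map_smul P (homOfLE e) (g.app W r)
    (show Γ(P, g ⁻¹ᵁ W) from η.app W m)
  change P.presheaf.map (homOfLE e).op (η.app W (r • m)) = _
  rw [h1]
  exact h3

/-- The comparison maps are compatible with restriction. -/
lemma pullbackSectionsMap_res (G : Y.Modules) {W₂ : Y.Opens} {W₂' : Y'.Opens}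
    (e₂ : W₂' ≤ g ⁻¹ᵁ W₂) (hW : W₂ ≤ W) (hW' : W₂' ≤ W') (m : Γ(G, W)) :
    pullbackSectionsMap g e₂ G (G.presheaf.map (homOfLE hW).op m) =
      ((Scheme.Modules.pullback g).obj G).presheaf.map (homOfLE hW').op
        (pullbackSectionsMap g e G m) := by
  let P := (Scheme.Modules.pullback g).obj G
  let η := (pullbackPushforwardAdjunction g).unit.app G
  have h1 : η.app W₂ (G.presheaf.map (homOfLE hW).op m) =
      ((pushforward g).obj P).presheaf.map (homOfLE hW).op (η.app W m) :=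
    app_naturality_apply η (homOfLE hW) m
  change P.presheaf.map (homOfLE e₂).op (η.app W₂ (G.presheaf.map (homOfLE hW).op m)) =
    P.presheaf.map (homOfLE hW').op (P.presheaf.map (homOfLE e).op (η.app W m))
  rw [h1]
  have h2 := map_map_apply P (homOfLE e₂) ((Opens.map g.base).map (homOfLE hW))
    (homOfLE (e₂.trans (g.preimage_mono hW))) (show Γ(P, g ⁻¹ᵁ W) from η.app W m)
  have h3 := map_map_apply P (homOfLE hW') (homOfLE e)
    (homOfLE (e₂.trans (g.preimage_mono hW))) (show Γ(P, g ⁻¹ᵁ W) from η.app W m)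
  exact h2.trans h3.symm

end Basic

section Res

variable {X S : Scheme.{u}} (f : X ⟶ S) {W : S.Opens}

/-- Restriction is semilinear for the scalars coming from the base. -/
lemma res_smul_appLE (F : X.Modules) {A₂ A₁ : X.Opens} (h21 : A₂ ≤ A₁) (hA₁ : A₁ ≤ f ⁻¹ᵁ W)
    (b : Γ(S, W)) (m : Γ(F, A₁)) :
    F.presheaf.map (homOfLE h21).op ((f.appLE W A₁ hA₁).hom b • m) =
      (f.appLE W A₂ (h21.trans hA₁)).hom b • F.presheaf.map (homOfLE h21).op m := by
  rw [Scheme.Modules.map_smul]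
  congr 1
  have := Scheme.Hom.appLE_map f hA₁ (homOfLE h21).op
  exact congr($this b)

/-- Sections of a module are determined by their restrictions to a cover. -/
lemma sections_ext_of_cover (F : X.Modules) {ι : Type*} (A : ι → X.Opens) (V : X.Opens)
    (hAV : ∀ i, A i ≤ V) (hcover : V ≤ iSup A) (s t : Γ(F, V))
    (h : ∀ i, F.presheaf.map (homOfLE (hAV i)).op s = F.presheaf.map (homOfLE (hAV i)).op t) :
    s = t :=
  TopCat.Sheaf.eq_of_locally_eq' (⟨F.presheaf, F.isSheaf⟩ : TopCat.Sheaf Ab X) A V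
    (fun i => homOfLE (hAV i)) hcover s t h

/-- Compatible sections over a cover glue. -/
lemma exists_gluing_of_cover (F : X.Modules) {ι : Type*} (A : ι → X.Opens) (V : X.Opens)
    (hAV : ∀ i, A i ≤ V) (hcover : V ≤ iSup A) (sf : ∀ i, Γ(F, A i))
    (hsf : ∀ i j, F.presheaf.map (homOfLE (inf_le_left : A i ⊓ A j ≤ A i)).op (sf i) =
      F.presheaf.map (homOfLE (inf_le_right : A i ⊓ A j ≤ A j)).op (sf j)) :
    ∃ s : Γ(F, V), ∀ i, F.presheaf.map (homOfLE (hAV i)).op s = sf i := by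
  obtain ⟨s, hs, -⟩ := TopCat.Sheaf.existsUnique_gluing'
    (⟨F.presheaf, F.isSheaf⟩ : TopCat.Sheaf Ab X) A V (fun i => homOfLE (hAV i)) hcover sf hsf
  exact ⟨s, hs⟩

end Res

section Main

open TensorProduct

variable {X S X' S' : Scheme.{u}} (f : X ⟶ S) (g : S' ⟶ S) (g' : X' ⟶ X) (f' : X' ⟶ S')
  {W : S.Opens} {W' : S'.Opens} (e : W' ≤ g ⁻¹ᵁ W)

/-- The comparison map `Γ(S',W') ⊗ Γ(F,A) → Γ(g'^*F,A')` is injective. -/
def CompInj (F : X.Modules) (A : X.Opens) (A' : X'.Opens) (hA : A ≤ f ⁻¹ᵁ W)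
    (h1 : A' ≤ g' ⁻¹ᵁ A) (h2 : A' ≤ f' ⁻¹ᵁ W') : Prop :=
  letI : Algebra Γ(S, W) Γ(S', W') := (g.appLE W W' e).hom.toAlgebra
  letI : Module Γ(S, W) Γ(F, A) := Module.compHom _ (f.appLE W A hA).hom
  letI : Module Γ(S', W') Γ((Scheme.Modules.pullback g').obj F, A') :=
    Module.compHom _ (f'.appLE W' A' h2).hom
  ∀ t : Γ(S', W') ⊗[Γ(S, W)] Γ(F, A) →ₗ[Γ(S', W')] Γ((Scheme.Modules.pullback g').obj F, A'),
    (∀ m, t (1 ⊗ₜ m) = pullbackSectionsMap g' h1 F m) → Function.Injective t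

/-- The comparison map `Γ(S',W') ⊗ Γ(F,A) → Γ(g'^*F,A')` is bijective. -/
def CompBij (F : X.Modules) (A : X.Opens) (A' : X'.Opens) (hA : A ≤ f ⁻¹ᵁ W)
    (h1 : A' ≤ g' ⁻¹ᵁ A) (h2 : A' ≤ f' ⁻¹ᵁ W') : Prop :=
  letI : Algebra Γ(S, W) Γ(S', W') := (g.appLE W W' e).hom.toAlgebra
  letI : Module Γ(S, W) Γ(F, A) := Module.compHom _ (f.appLE W A hA).hom
  letI : Module Γ(S', W') Γ((Scheme.Modules.pullback g').obj F, A') :=
    Module.compHom _ (f'.appLE W' A' h2).hom
  ∀ t : Γ(S', W') ⊗[Γ(S, W)] Γ(F, A) →ₗ[Γ(S', W')] Γ((Scheme.Modules.pullback g').obj F, A'),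
    (∀ m, t (1 ⊗ₜ m) = pullbackSectionsMap g' h1 F m) → Function.Bijective t

variable (hw : g' ≫ f = f' ≫ g)

include hw in
/-- Semilinearity of the comparison map over the base rings. -/
lemma pullbackSectionsMap_smul_base (F : X.Modules) {A : X.Opens} {A' : X'.Opens}
    (hA : A ≤ f ⁻¹ᵁ W) (h1 : A' ≤ g' ⁻¹ᵁ A) (h2 : A' ≤ f' ⁻¹ᵁ W') (b : Γ(S, W)) (m : Γ(F, A)) :
    pullbackSectionsMap g' h1 F ((f.appLE W A hA).hom b • m) =
      (f'.appLE W' A' h2).hom ((g.appLE W W' e).hom b) • pullbackSectionsMap g' h1 F m := by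
  rw [pullbackSectionsMap_smul]
  congr 1
  have h3 : f.appLE W A hA ≫ g'.appLE A A' h1 = g.appLE W W' e ≫ f'.appLE W' A' h2 := by
    rw [Scheme.Hom.appLE_comp_appLE, Scheme.Hom.appLE_comp_appLE]
    congr 1
  exact congr($h3 b)

variable (h : IsPullback g' f' f g) (hW : IsAffineOpen W) (hW' : IsAffineOpen W')

include e h hW hW' in
lemma isAffineOpen_over {A : X.Opens} (hA : A ≤ f ⁻¹ᵁ W) (hAaff : IsAffineOpen A) :
    IsAffineOpen (g' ⁻¹ᵁ A ⊓ f' ⁻¹ᵁ W') := by
  have : IsAffine _ := hW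
  have : IsAffine _ := hW'
  have : IsAffine _ := hAaff
  exact .of_isIso (Scheme.Hom.isPullback_resLE h e hA rfl).isoPullback.hom

open ChangeOfRings in
include h hW hW' in
set_option backward.isDefEq.respectTransparency false in
set_option maxHeartbeats 800000 in
/-- Affine case: the comparison map is bijective. -/
theorem compBij_of_isAffineOpen (F : X.Modules) [F.IsQuasicoherent] {A : X.Opens}
    (hA : A ≤ f ⁻¹ᵁ W) (hAaff : IsAffineOpen A) :
    CompBij f g g' f' e F A (g' ⁻¹ᵁ A ⊓ f' ⁻¹ᵁ W') hA inf_le_left inf_le_right := by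
  intro t ht
  let _ : Algebra Γ(S, W) Γ(S', W') := (g.appLE W W' e).hom.toAlgebra
  let _ : Module Γ(S, W) Γ(F, A) := Module.compHom _ (f.appLE W A hA).hom
  let _ : Module Γ(S', W') Γ((Scheme.Modules.pullback g').obj F, g' ⁻¹ᵁ A ⊓ f' ⁻¹ᵁ W') :=
    Module.compHom _ (f'.appLE W' (g' ⁻¹ᵁ A ⊓ f' ⁻¹ᵁ W') inf_le_right).hom
  have hA'aff : IsAffineOpen (g' ⁻¹ᵁ A ⊓ f' ⁻¹ᵁ W') := isAffineOpen_over f g g' f' e h hW hW' hA hAaff
  obtain ⟨κ₂, hκ₂⟩ := exists_iso_extendScalars_pullbackSections g' hAaff hA'aff inf_le_left F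
  have hiso := isIso_pushoutSection_of_isAffineOpen h e hA rfl hW hW' hAaff
  have hpo := ((isIso_pushoutSection_iff h e hA rfl).1 hiso).flip
  exact bijective_of_isPushout' (g.appLE W W' e) (f.appLE W A hA)
    (f'.appLE W' (g' ⁻¹ᵁ A ⊓ f' ⁻¹ᵁ W') inf_le_right)
    (g'.appLE A (g' ⁻¹ᵁ A ⊓ f' ⁻¹ᵁ W') inf_le_left) hpo (M := Γ(F, A)) (fun _ _ => rfl)
    (Iso.refl _) κ₂ t.toAddMonoidHom (fun r x => t.map_smul r x)
    (fun m => (ht m).trans (hκ₂ m).symm)

section Cover

variable {ι : Type*} [Fintype ι] [DecidableEq ι] (F : X.Modules) {A : X.Opens} (hA : A ≤ f ⁻¹ᵁ W)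
  (Ai : ι → X.Opens) (hAi : ∀ i, Ai i ≤ A) (hcov : A ≤ iSup Ai)

omit [Fintype ι] [DecidableEq ι] in
include hcov in
lemma over_le_iSup : g' ⁻¹ᵁ A ⊓ f' ⁻¹ᵁ W' ≤ ⨆ i, g' ⁻¹ᵁ (Ai i) ⊓ f' ⁻¹ᵁ W' := by
  intro x hx
  obtain ⟨hx1, hx2⟩ := hx
  obtain ⟨i, hi⟩ := Opens.mem_iSup.1 (hcov hx1)
  exact Opens.mem_iSup.2 ⟨i, hi, hx2⟩

include hw hcov in
set_option maxHeartbeats 800000 in
/-- Cover step for injectivity. -/
theorem compInj_of_cover (hfl : (g.appLE W W' e).hom.Flat)
    (hinj : ∀ i, CompInj f g g' f' e F (Ai i) (g' ⁻¹ᵁ (Ai i) ⊓ f' ⁻¹ᵁ W')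
      ((hAi i).trans hA) inf_le_left inf_le_right) :
    CompInj f g g' f' e F A (g' ⁻¹ᵁ A ⊓ f' ⁻¹ᵁ W') hA inf_le_left inf_le_right := by
  intro t ht
  let _ : Algebra Γ(S, W) Γ(S', W') := (g.appLE W W' e).hom.toAlgebra
  have : Module.Flat Γ(S, W) Γ(S', W') := hfl
  let P := (Scheme.Modules.pullback g').obj F
  let A' := g' ⁻¹ᵁ A ⊓ f' ⁻¹ᵁ W'
  let A'i : ι → X'.Opens := fun i => g' ⁻¹ᵁ (Ai i) ⊓ f' ⁻¹ᵁ W'
  have hA'i : ∀ i, A'i i ≤ A' := fun i => inf_le_inf_right _ (g'.preimage_mono (hAi i))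
  let _ : Module Γ(S, W) Γ(F, A) := Module.compHom _ (f.appLE W A hA).hom
  let _ : Module Γ(S', W') Γ(P, A') := Module.compHom _ (f'.appLE W' A' inf_le_right).hom
  let _ : ∀ i, Module Γ(S, W) Γ(F, Ai i) := fun i =>
    Module.compHom _ (f.appLE W (Ai i) ((hAi i).trans hA)).hom
  let _ : ∀ i, Module Γ(S', W') Γ(P, A'i i) := fun i =>
    Module.compHom _ (f'.appLE W' (A'i i) inf_le_right).hom
  let r : Γ(F, A) →ₗ[Γ(S, W)] ∀ i, Γ(F, Ai i) := LinearMap.pi fun i =>
    { toFun := fun m => F.presheaf.map (homOfLE (hAi i)).op m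
      map_add' := fun x y => map_add _ x y
      map_smul' := fun b m => res_smul_appLE f F (hAi i) hA b m }
  let s' : Γ(P, A') →ₗ[Γ(S', W')] ∀ i, Γ(P, A'i i) := LinearMap.pi fun i =>
    { toFun := fun m => P.presheaf.map (homOfLE (hA'i i)).op m
      map_add' := fun x y => map_add _ x y
      map_smul' := fun b m => res_smul_appLE f' P (hA'i i) inf_le_right b m }
  have hr : Function.Injective r := by
    intro x y hxy
    exact sections_ext_of_cover F Ai A hAi hcov x y fun i => congrFun hxy i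
  let ti : ∀ i, Γ(S', W') ⊗[Γ(S, W)] Γ(F, Ai i) →ₗ[Γ(S', W')] Γ(P, A'i i) := fun i =>
    semilinearLift (pullbackSectionsMap g' inf_le_left F).hom
      (fun b m => pullbackSectionsMap_smul_base f g g' f' e hw F ((hAi i).trans hA)
        inf_le_left inf_le_right b m)
  have hti : ∀ i, Function.Injective (ti i) := fun i => hinj i (ti i) fun m => by
    simp [ti]
  refine injective_of_flat_of_injective r hr s' t (piLift ti) ?_ (injective_piLift ti hti)
  intro m
  funext i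
  change P.presheaf.map (homOfLE (hA'i i)).op (t (1 ⊗ₜ m)) =
    ti i (1 ⊗ₜ (F.presheaf.map (homOfLE (hAi i)).op m))
  rw [ht m]
  simp only [ti, semilinearLift_tmul, one_smul]
  exact (pullbackSectionsMap_res g' inf_le_left F inf_le_left (hAi i) (hA'i i) m).symm

include hw hcov in
set_option maxHeartbeats 1600000 in
/-- Cover step for bijectivity. -/
theorem compBij_of_cover (hfl : (g.appLE W W' e).hom.Flat)
    (hbij : ∀ i, CompBij f g g' f' e F (Ai i) (g' ⁻¹ᵁ (Ai i) ⊓ f' ⁻¹ᵁ W')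
      ((hAi i).trans hA) inf_le_left inf_le_right)
    (hinj : ∀ i j, CompInj f g g' f' e F (Ai i ⊓ Ai j) (g' ⁻¹ᵁ (Ai i ⊓ Ai j) ⊓ f' ⁻¹ᵁ W')
      (inf_le_left.trans ((hAi i).trans hA)) inf_le_left inf_le_right) :
    CompBij f g g' f' e F A (g' ⁻¹ᵁ A ⊓ f' ⁻¹ᵁ W') hA inf_le_left inf_le_right := by
  intro t ht
  let _ : Algebra Γ(S, W) Γ(S', W') := (g.appLE W W' e).hom.toAlgebra
  have : Module.Flat Γ(S, W) Γ(S', W') := hfl
  let P := (Scheme.Modules.pullback g').obj F
  let A' := g' ⁻¹ᵁ A ⊓ f' ⁻¹ᵁ W'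
  let A'i : ι → X'.Opens := fun i => g' ⁻¹ᵁ (Ai i) ⊓ f' ⁻¹ᵁ W'
  have hA'i : ∀ i, A'i i ≤ A' := fun i => inf_le_inf_right _ (g'.preimage_mono (hAi i))
  have hcov' : A' ≤ iSup A'i := over_le_iSup g' f' Ai hcov
  let Aij : ι × ι → X.Opens := fun p => Ai p.1 ⊓ Ai p.2
  let A'ij : ι × ι → X'.Opens := fun p => g' ⁻¹ᵁ (Aij p) ⊓ f' ⁻¹ᵁ W'
  have hAij : ∀ p, Aij p ≤ A := fun p => inf_le_left.trans (hAi p.1)
  have hl : ∀ p, Aij p ≤ Ai p.1 := fun p => inf_le_left
  have hr₂ : ∀ p, Aij p ≤ Ai p.2 := fun p => inf_le_right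
  have hl' : ∀ p, A'ij p ≤ A'i p.1 := fun p =>
    inf_le_inf_right _ (g'.preimage_mono inf_le_left)
  have hr₂' : ∀ p, A'ij p ≤ A'i p.2 := fun p =>
    inf_le_inf_right _ (g'.preimage_mono inf_le_right)
  let _ : Module Γ(S, W) Γ(F, A) := Module.compHom _ (f.appLE W A hA).hom
  let _ : Module Γ(S', W') Γ(P, A') := Module.compHom _ (f'.appLE W' A' inf_le_right).hom
  let _ : ∀ i, Module Γ(S, W) Γ(F, Ai i) := fun i =>
    Module.compHom _ (f.appLE W (Ai i) ((hAi i).trans hA)).hom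
  let _ : ∀ i, Module Γ(S', W') Γ(P, A'i i) := fun i =>
    Module.compHom _ (f'.appLE W' (A'i i) inf_le_right).hom
  let _ : ∀ p, Module Γ(S, W) Γ(F, Aij p) := fun p =>
    Module.compHom _ (f.appLE W (Aij p) ((hAij p).trans hA)).hom
  let _ : ∀ p, Module Γ(S', W') Γ(P, A'ij p) := fun p =>
    Module.compHom _ (f'.appLE W' (A'ij p) inf_le_right).hom
  let r : Γ(F, A) →ₗ[Γ(S, W)] ∀ i, Γ(F, Ai i) := LinearMap.pi fun i =>
    { toFun := fun m => F.presheaf.map (homOfLE (hAi i)).op m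
      map_add' := fun x y => map_add _ x y
      map_smul' := fun b m => res_smul_appLE f F (hAi i) hA b m }
  let s' : Γ(P, A') →ₗ[Γ(S', W')] ∀ i, Γ(P, A'i i) := LinearMap.pi fun i =>
    { toFun := fun m => P.presheaf.map (homOfLE (hA'i i)).op m
      map_add' := fun x y => map_add _ x y
      map_smul' := fun b m => res_smul_appLE f' P (hA'i i) inf_le_right b m }
  let d : (∀ i, Γ(F, Ai i)) →ₗ[Γ(S, W)] ∀ p, Γ(F, Aij p) := LinearMap.pi fun p =>
    ({ toFun := fun m => F.presheaf.map (homOfLE (hl p)).op m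
       map_add' := fun x y => map_add _ x y
       map_smul' := fun b m => res_smul_appLE f F (hl p) ((hAi p.1).trans hA) b m } :
      Γ(F, Ai p.1) →ₗ[Γ(S, W)] Γ(F, Aij p)) ∘ₗ LinearMap.proj p.1 -
    ({ toFun := fun m => F.presheaf.map (homOfLE (hr₂ p)).op m
       map_add' := fun x y => map_add _ x y
       map_smul' := fun b m => res_smul_appLE f F (hr₂ p) ((hAi p.2).trans hA) b m } :
      Γ(F, Ai p.2) →ₗ[Γ(S, W)] Γ(F, Aij p)) ∘ₗ LinearMap.proj p.2
  let d' : (∀ i, Γ(P, A'i i)) →ₗ[Γ(S', W')] ∀ p, Γ(P, A'ij p) := LinearMap.pi fun p =>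
    ({ toFun := fun m => P.presheaf.map (homOfLE (hl' p)).op m
       map_add' := fun x y => map_add _ x y
       map_smul' := fun b m => res_smul_appLE f' P (hl' p) inf_le_right b m } :
      Γ(P, A'i p.1) →ₗ[Γ(S', W')] Γ(P, A'ij p)) ∘ₗ LinearMap.proj p.1 -
    ({ toFun := fun m => P.presheaf.map (homOfLE (hr₂' p)).op m
       map_add' := fun x y => map_add _ x y
       map_smul' := fun b m => res_smul_appLE f' P (hr₂' p) inf_le_right b m } :
      Γ(P, A'i p.2) →ₗ[Γ(S', W')] Γ(P, A'ij p)) ∘ₗ LinearMap.proj p.2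
  have hd : ∀ (x : ∀ i, Γ(F, Ai i)) (p : ι × ι), d x p =
      F.presheaf.map (homOfLE (hl p)).op (x p.1) - F.presheaf.map (homOfLE (hr₂ p)).op (x p.2) :=
    fun x p => rfl
  have hd' : ∀ (x : ∀ i, Γ(P, A'i i)) (p : ι × ι), d' x p =
      P.presheaf.map (homOfLE (hl' p)).op (x p.1) -
        P.presheaf.map (homOfLE (hr₂' p)).op (x p.2) :=
    fun x p => rfl
  have hr : Function.Injective r := by
    intro x y hxy
    exact sections_ext_of_cover F Ai A hAi hcov x y fun i => congrFun hxy i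
  have hs : Function.Injective s' := by
    intro x y hxy
    exact sections_ext_of_cover P A'i A' hA'i hcov' x y fun i => congrFun hxy i
  have hrd : Function.Exact r d := by
    intro x
    constructor
    · intro hx
      obtain ⟨m, hm⟩ := exists_gluing_of_cover F Ai A hAi hcov x (fun i j => by
        have := congrFun hx (i, j)
        rw [hd] at this
        exact sub_eq_zero.1 this)
      exact ⟨m, funext hm⟩
    · rintro ⟨m, rfl⟩
      funext q
      rw [hd]
      change F.presheaf.map (homOfLE (hl q)).op (F.presheaf.map (homOfLE (hAi q.1)).op m) -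
        F.presheaf.map (homOfLE (hr₂ q)).op (F.presheaf.map (homOfLE (hAi q.2)).op m) = 0
      rw [map_map_apply F _ _ (homOfLE (hAij q)), map_map_apply F _ _ (homOfLE (hAij q)),
        sub_self]
  have hsd : Function.Exact s' d' := by
    intro x
    constructor
    · intro hx
      obtain ⟨m, hm⟩ := exists_gluing_of_cover P A'i A' hA'i hcov' x (fun i j => by
        have h0 := congrFun hx (i, j)
        rw [hd'] at h0
        have h1 := sub_eq_zero.1 h0
        have hle : A'i i ⊓ A'i j ≤ A'ij (i, j) := fun x hx => ⟨⟨hx.1.1, hx.2.1⟩, hx.1.2⟩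
        have h2 := congrArg (P.presheaf.map (homOfLE hle).op) h1
        rw [map_map_apply P _ _ (homOfLE (inf_le_left : A'i i ⊓ A'i j ≤ A'i i)),
          map_map_apply P _ _ (homOfLE (inf_le_right : A'i i ⊓ A'i j ≤ A'i j))] at h2
        exact h2)
      exact ⟨m, funext hm⟩
    · rintro ⟨m, rfl⟩
      funext q
      rw [hd']
      change P.presheaf.map (homOfLE (hl' q)).op (P.presheaf.map (homOfLE (hA'i q.1)).op m) -
        P.presheaf.map (homOfLE (hr₂' q)).op (P.presheaf.map (homOfLE (hA'i q.2)).op m) = 0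
      rw [map_map_apply P _ _ (homOfLE ((hl' q).trans (hA'i q.1))),
        map_map_apply P _ _ (homOfLE ((hl' q).trans (hA'i q.1))), sub_self]
  let ti : ∀ i, Γ(S', W') ⊗[Γ(S, W)] Γ(F, Ai i) →ₗ[Γ(S', W')] Γ(P, A'i i) := fun i =>
    semilinearLift (pullbackSectionsMap g' inf_le_left F).hom
      (fun b m => pullbackSectionsMap_smul_base f g g' f' e hw F ((hAi i).trans hA)
        inf_le_left inf_le_right b m)
  have hti : ∀ i, Function.Bijective (ti i) := fun i => hbij i (ti i) fun m => by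
    simp [ti]
  let tij : ∀ p, Γ(S', W') ⊗[Γ(S, W)] Γ(F, Aij p) →ₗ[Γ(S', W')] Γ(P, A'ij p) := fun p =>
    semilinearLift (pullbackSectionsMap g' inf_le_left F).hom
      (fun b m => pullbackSectionsMap_smul_base f g g' f' e hw F ((hAij p).trans hA)
        inf_le_left inf_le_right b m)
  have htij : ∀ p, Function.Injective (tij p) := fun p => hinj p.1 p.2 (tij p) fun m => by
    simp [tij]
  refine bijective_of_flat_of_exact r d hr hrd s' d' hs hsd t (piLift ti) (piLift tij) ?_ ?_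
    (bijective_piLift ti hti) (injective_piLift tij htij)
  · intro m
    funext i
    change P.presheaf.map (homOfLE (hA'i i)).op (t (1 ⊗ₜ m)) =
      ti i (1 ⊗ₜ (F.presheaf.map (homOfLE (hAi i)).op m))
    rw [ht m]
    simp only [ti, semilinearLift_tmul, one_smul]
    exact (pullbackSectionsMap_res g' inf_le_left F inf_le_left (hAi i) (hA'i i) m).symm
  · intro x
    funext q
    rw [hd']
    change P.presheaf.map (homOfLE (hl' q)).op (ti q.1 (1 ⊗ₜ x q.1)) -
      P.presheaf.map (homOfLE (hr₂' q)).op (ti q.2 (1 ⊗ₜ x q.2)) = tij q (1 ⊗ₜ d x q)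
    rw [hd]
    simp only [ti, tij, semilinearLift_tmul, one_smul, map_sub]
    rw [pullbackSectionsMap_res g' inf_le_left F inf_le_left (hl q) (hl' q) (x q.1),
      pullbackSectionsMap_res g' inf_le_left F inf_le_left (hr₂ q) (hr₂' q) (x q.2)]

end Cover

section QCQS

variable [Flat g] (F : X.Modules) [F.IsQuasicoherent]

include h hW hW' in
/-- Quasi-compact case: the comparison map is injective. -/
theorem compInj_of_isCompact {A : X.Opens} (hA : A ≤ f ⁻¹ᵁ W) (hAc : IsCompact (A : Set X)) :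
    CompInj f g g' f' e F A (g' ⁻¹ᵁ A ⊓ f' ⁻¹ᵁ W') hA inf_le_left inf_le_right := by
  obtain ⟨I, hI, hAI⟩ := isCompact_iff_finite_and_eq_biUnion_affineOpens.mp hAc
  have := hI.to_subtype
  cases nonempty_fintype I
  classical
  have hle : ∀ i : I, (i.1 : X.Opens) ≤ A := fun i => by
    rw [hAI]
    exact le_iSup₂ (f := fun (j : X.affineOpens) (_ : j ∈ I) => (j : X.Opens)) i.1 i.2
  have hcov : A ≤ ⨆ i : I, (i.1 : X.Opens) := by
    rw [hAI]
    exact iSup₂_le fun j hj => le_iSup (fun i : I => (i.1 : X.Opens)) ⟨j, hj⟩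
  exact compInj_of_cover f g g' f' e h.w F hA (fun i : I => (i.1 : X.Opens)) hle hcov
    (g.flat_appLE hW hW' e)
    (fun (i : I) => fun t ht =>
      (compBij_of_isAffineOpen f g g' f' e h hW hW' F ((hle i).trans hA) i.1.2 t ht).1)

include h hW hW' in
/-- Quasi-compact quasi-separated case: the comparison map is bijective. -/
theorem compBij_of_isCompact_of_isQuasiSeparated {A : X.Opens} (hA : A ≤ f ⁻¹ᵁ W)
    (hAc : IsCompact (A : Set X)) (hAqs : IsQuasiSeparated (A : Set X)) :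
    CompBij f g g' f' e F A (g' ⁻¹ᵁ A ⊓ f' ⁻¹ᵁ W') hA inf_le_left inf_le_right := by
  obtain ⟨I, hI, hAI⟩ := isCompact_iff_finite_and_eq_biUnion_affineOpens.mp hAc
  have := hI.to_subtype
  cases nonempty_fintype I
  classical
  have hle : ∀ i : I, (i.1 : X.Opens) ≤ A := fun i => by
    rw [hAI]
    exact le_iSup₂ (f := fun (j : X.affineOpens) (_ : j ∈ I) => (j : X.Opens)) i.1 i.2
  have hcov : A ≤ ⨆ i : I, (i.1 : X.Opens) := by
    rw [hAI]
    exact iSup₂_le fun j hj => le_iSup (fun i : I => (i.1 : X.Opens)) ⟨j, hj⟩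
  exact compBij_of_cover f g g' f' e h.w F hA (fun i : I => (i.1 : X.Opens)) hle hcov
    (g.flat_appLE hW hW' e)
    (fun (i : I) => compBij_of_isAffineOpen f g g' f' e h hW hW' F ((hle i).trans hA) i.1.2)
    (fun (i j : I) => compInj_of_isCompact f g g' f' e h hW hW' F _
      (hAqs _ _ (hle i) i.1.1.2 i.1.2.isCompact (hle j) j.1.1.2 j.1.2.isCompact))

end QCQS

section Transport

omit hw h hW hW'

lemma compBij_congr (F : X.Modules) {A : X.Opens} {A'₁ A'₂ : X'.Opens} (hA' : A'₁ = A'₂)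
    (hA : A ≤ f ⁻¹ᵁ W) (h1 : A'₁ ≤ g' ⁻¹ᵁ A) (h2 : A'₁ ≤ f' ⁻¹ᵁ W')
    (hb : CompBij f g g' f' e F A A'₁ hA h1 h2) :
    CompBij f g g' f' e F A A'₂ hA (hA' ▸ h1) (hA' ▸ h2) := by
  subst hA'
  exact hb

/-- Using `CompBij` with arbitrary (propositionally equal) module structures. -/
lemma compBij_apply (F : X.Modules) {A : X.Opens} {A' : X'.Opens}
    (hA : A ≤ f ⁻¹ᵁ W) (h1 : A' ≤ g' ⁻¹ᵁ A) (h2 : A' ≤ f' ⁻¹ᵁ W')
    (hb : CompBij f g g' f' e F A A' hA h1 h2)
    [I₁ : Module Γ(S, W) Γ(F, A)] (h₁ : ∀ (b : Γ(S, W)) (m : Γ(F, A)),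
      b • m = (f.appLE W A hA).hom b • m)
    [I₂ : Module Γ(S', W') Γ((Scheme.Modules.pullback g').obj F, A')]
    (h₂ : ∀ (b : Γ(S', W')) (m : Γ((Scheme.Modules.pullback g').obj F, A')),
      b • m = (f'.appLE W' A' h2).hom b • m) :
    letI : Algebra Γ(S, W) Γ(S', W') := (g.appLE W W' e).hom.toAlgebra
    ∀ t : Γ(S', W') ⊗[Γ(S, W)] Γ(F, A) →ₗ[Γ(S', W')] Γ((Scheme.Modules.pullback g').obj F, A'),
      (∀ m, t (1 ⊗ₜ m) = pullbackSectionsMap g' h1 F m) → Function.Bijective t := by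
  have e₁ : I₁ = Module.compHom _ (f.appLE W A hA).hom := Module.ext' _ _ h₁
  have e₂ : I₂ = Module.compHom _ (f'.appLE W' A' h2).hom := Module.ext' _ _ h₂
  subst e₁ e₂
  exact hb

end Transport

section Final

variable [QuasiCompact f] [QuasiSeparated f] [Flat g]

include e h hW hW' in
open ChangeOfRings in
set_option backward.isDefEq.respectTransparency false in
set_option maxHeartbeats 1600000 in
/-- On a small enough affine open, the base change map of a flat base change of a qcqs morphism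
is bijective on sections. -/
theorem bijective_baseChangeMap_app_of_flat (F : X.Modules) [F.IsQuasicoherent] :
    Function.Bijective ((baseChangeMap f g g' f' h.w F).app W') := by
  have hq : ((pushforward f).obj F).IsQuasicoherent := isQuasicoherent_pushforward_of_qcqs f F
  obtain ⟨κ₁, hκ₁⟩ := exists_iso_extendScalars_pullbackSections g hW hW' e ((pushforward f).obj F)
  have e' : f' ⁻¹ᵁ W' ≤ g' ⁻¹ᵁ (f ⁻¹ᵁ W) := preimage_le_preimage f g g' f' h.w e
  have hUc : IsCompact (f ⁻¹ᵁ W : Set X) := f.isCompact_preimage hW.isCompact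
  have hUqs : IsQuasiSeparated (f ⁻¹ᵁ W : Set X) :=
    f.isQuasiSeparated_preimage hW.isQuasiSeparated
  have hb0 := compBij_of_isCompact_of_isQuasiSeparated f g g' f' e h hW hW' F (le_refl _) hUc hUqs
  have hA' : g' ⁻¹ᵁ (f ⁻¹ᵁ W) ⊓ f' ⁻¹ᵁ W' = f' ⁻¹ᵁ W' := inf_eq_right.2 e'
  have hb := compBij_congr f g g' f' e F hA' (le_refl _) inf_le_left inf_le_right hb0
  have h₁ : ∀ (b : Γ(S, W)) (m : Γ((pushforward f).obj F, W)),
      b • m = (show Γ(F, f ⁻¹ᵁ W) from
        (f.appLE W (f ⁻¹ᵁ W) (le_refl _)).hom b • (show Γ(F, f ⁻¹ᵁ W) from m)) := by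
    intro b m
    rw [← Scheme.Hom.app_eq_appLE]
    rfl
  have h₂ : ∀ (b : Γ(S', W'))
      (m : Γ((pushforward f').obj ((Scheme.Modules.pullback g').obj F), W')),
      b • m = (show Γ((Scheme.Modules.pullback g').obj F, f' ⁻¹ᵁ W') from
        (f'.appLE W' (f' ⁻¹ᵁ W') (le_refl _)).hom b •
          (show Γ((Scheme.Modules.pullback g').obj F, f' ⁻¹ᵁ W') from m)) := by
    intro b m
    rw [← Scheme.Hom.app_eq_appLE]
    rfl
  have hb' := compBij_apply f g g' f' e F (le_refl _) _ _ hb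
    (I₁ := (show Module Γ(S, W) Γ((pushforward f).obj F, W) from inferInstance)) h₁
    (I₂ := (show Module Γ(S', W')
      Γ((pushforward f').obj ((Scheme.Modules.pullback g').obj F), W') from inferInstance)) h₂
  refine bijective_of_iso_extendScalars (g.appLE W W' e) (M := Γ((pushforward f).obj F, W))
    (T₁ := Γ((Scheme.Modules.pullback g).obj ((pushforward f).obj F), W'))
    (N := Γ((pushforward f').obj ((Scheme.Modules.pullback g').obj F), W')) κ₁
    ((baseChangeMap f g g' f' h.w F).app W').hom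
    (fun b' x => Hom.app_smul _ b' x) (fun m => pullbackSectionsMap g' e' F m) (fun m => ?_) hb'
  rw [hκ₁]
  exact baseChangeMap_app_pullbackSectionsMap f g g' f' h.w e F m

end Final

end Main

section Theorem

variable {X S X' S' : Scheme.{u}} (f : X ⟶ S) (g : S' ⟶ S) (g' : X' ⟶ X) (f' : X' ⟶ S')
  (h : IsPullback g' f' f g)

include h in
/-- **Flat base change**: for a cartesian square with `f` quasi-compact quasi-separated, `g` flat
and `F` quasi-coherent, the base change map `g^* f_* F ⟶ f'_* g'^* F` is an isomorphism. -/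
theorem isIso_baseChangeMap_of_flat_of_qcqs [QuasiCompact f] [QuasiSeparated f] [Flat g]
    (F : X.Modules) [F.IsQuasicoherent] :
    IsIso (baseChangeMap f g g' f' h.w F) := by
  let ι := {W' : S'.Opens // IsAffineOpen W' ∧ ∃ W : S.Opens, IsAffineOpen W ∧ W' ≤ g ⁻¹ᵁ W}
  refine isIso_of_bijective_app_of_isBasis _ (fun i : ι => i.1) ?_ ?_
  · rw [Opens.isBasis_iff_nbhd]
    intro V x hx
    obtain ⟨W, hW, hxW, -⟩ := Opens.isBasis_iff_nbhd.1 S.isBasis_affineOpens
      (show g.base x ∈ (⊤ : S.Opens) from trivial)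
    obtain ⟨W', hW', hxW', hle⟩ := Opens.isBasis_iff_nbhd.1 S'.isBasis_affineOpens
      (show x ∈ V ⊓ g ⁻¹ᵁ W from ⟨hx, hxW⟩)
    exact ⟨W', ⟨⟨W', hW', W, hW, hle.trans inf_le_right⟩, rfl⟩, hxW', hle.trans inf_le_left⟩
  · rintro ⟨W', hW', W, hW, e⟩
    exact bijective_baseChangeMap_app_of_flat f g g' f' e h hW hW' F

/-- The base change map written as a composite of unit, identification and counit. -/
lemma baseChangeMap_eq (hw : g' ≫ f = f' ≫ g) (F : X.Modules) :
    baseChangeMap f g g' f' hw F =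
      (Scheme.Modules.pullback g).map ((Scheme.Modules.pushforward f).map
        ((Scheme.Modules.pullbackPushforwardAdjunction g').unit.app F)) ≫
      (Scheme.Modules.pullback g).map ((Scheme.Modules.pushforwardComp g' f ≪≫
          Scheme.Modules.pushforwardCongr hw ≪≫ (Scheme.Modules.pushforwardComp f' g).symm).hom.app
        ((Scheme.Modules.pullback g').obj F)) ≫
      (Scheme.Modules.pullbackPushforwardAdjunction g).counit.app
        ((Scheme.Modules.pushforward f').obj ((Scheme.Modules.pullback g').obj F)) := by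
  unfold baseChangeMap baseChangeMapAdj
  rw [Adjunction.homEquiv_counit]
  simp only [Iso.trans_hom, Iso.symm_hom, NatTrans.comp_app, Functor.map_comp, Category.assoc]

end Theorem

end Groth.Agent.Lib.QCoh
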