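import Groth.Agent.Lib.QCoh.AffineOpen
import Mathlib.AlgebraicGeometry.Noetherian

universe u

open CategoryTheory CategoryTheory.Limits AlgebraicGeometry Opposite TopologicalSpace

namespace Groth.Agent.Lib.QCoh

open Scheme.Modules

variable {X : Scheme.{u}}

instance preservesEpimorphisms_restrictFunctor {Y : Scheme.{u}} (f : Y ⟶ X) [IsOpenImmersion f] :
    (restrictFunctor f).PreservesEpimorphisms :=
  (restrictFunctor f).preservesEpimorphisms_of_adjunction (restrictAdjunction f)

/-- Finite generating families pass to quotients. -/
theorem exists_generatingSections_of_epi {M N : X.Modules} (p : M ⟶ N) [hp : Epi p]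
    (h : ∃ G : M.GeneratingSections, G.IsFiniteType) :
    ∃ G : N.GeneratingSections, G.IsFiniteType := by
  obtain ⟨G, hG⟩ := h
  have : @Epi (SheafOfModules X.ringCatSheaf) _ _ _ p := hp
  exact ⟨G.ofEpi p, inferInstance⟩

/-- A quotient of a finite type module is of finite type. -/
theorem isFiniteType_of_epi {M N : X.Modules} (p : M ⟶ N) [Epi p] [hM : M.IsFiniteType] :
    N.IsFiniteType := by
  obtain ⟨ι, U, hU, h⟩ := (isFiniteType_iff_exists_isOpenCover M).1 hM
  refine isFiniteType_of_isOpenCover N U hU fun i => ?_
  have : Epi ((restrictFunctor (U i).ι).map p) := (restrictFunctor (U i).ι).map_epi p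
  exact exists_generatingSections_of_epi ((restrictFunctor (U i).ι).map p) (h i)

/-- Finite type is invariant under isomorphisms. -/
theorem isFiniteType_of_iso {M N : X.Modules} (e : M ≅ N) [M.IsFiniteType] : N.IsFiniteType :=
  isFiniteType_of_epi e.hom

/-- On a locally Noetherian scheme, a quasi-coherent submodule of a coherent module is coherent
(finite type part). -/
theorem isFiniteType_of_mono [IsLocallyNoetherian X] {N M : X.Modules} (i : N ⟶ M) [Mono i]
    [M.IsQuasicoherent] [M.IsFiniteType] [N.IsQuasicoherent] : N.IsFiniteType := by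
  rw [isFiniteType_iff_forall_finite]
  intro U
  have : IsNoetherianRing Γ(X, (U : X.Opens)) := IsLocallyNoetherian.component_noetherian U
  have hfin : Module.Finite Γ(X, (U : X.Opens)) Γ(M, (U : X.Opens)) :=
    finite_Γ_of_isAffineOpen U.2 M
  let f : Γ(N, (U : X.Opens)) →ₗ[Γ(X, (U : X.Opens))] Γ(M, (U : X.Opens)) :=
    { toFun := fun x => i.app U x
      map_add' := fun x y => map_add _ x y
      map_smul' := fun r x => Scheme.Modules.Hom.app_smul i r x }
  have hinj : Function.Injective f := app_injective_of_mono i U
  exact Module.Finite.of_injective f hinj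

end Groth.Agent.Lib.QCoh
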