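import Groth.Agent.Lib.QCoh.Helper18_PullbackStalk
import Groth.Agent.Lib.Helper18.LocalTensor
import Mathlib.RingTheory.Localization.Finiteness

/-!
# QCoh API (helper18): finiteness of stalks, support of a pullback

Namespace `Groth.Agent.Lib.QCoh`.

* `finite_stalk` : `F` quasi-coherent of finite type ⇒ `F_x` is a finite `O_{X,x}`-module.
* `stalk_pullback_subsingleton_iff` : `F` q-coh of finite type ⇒ `(f^* F)_x = 0 ↔ F_{f x} = 0`.
* `support_pullback` : `Supp (f^* F) = f⁻¹ (Supp F)` for `F` q-coh of finite type (S4357).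
-/

universe u

open CategoryTheory CategoryTheory.Limits AlgebraicGeometry Opposite TopologicalSpace TensorProduct
open Groth.Agent.Lib.Helper18

namespace Groth.Agent.Lib.QCoh

variable {X S : Scheme.{u}}

theorem finite_stalk (F : X.Modules) [F.IsQuasicoherent] [F.IsFiniteType] (x : X) :
    Module.Finite (X.presheaf.stalk x) (F.presheaf.stalk x) := by
  obtain ⟨U, hU0, hxU, -⟩ := Opens.isBasis_iff_nbhd.1 (X.isBasis_affineOpens)
    (show x ∈ (⊤ : X.Opens) from trivial)
  have hU : IsAffineOpen U := hU0
  let _ := stalkModuleOfOpen F U x hxU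
  let _ : Algebra Γ(X, U) (X.presheaf.stalk x) :=
    TopCat.Presheaf.algebra_section_stalk X.presheaf ⟨x, hxU⟩
  have := hU.isLocalization_stalk ⟨x, hxU⟩
  have := isScalarTower_stalk F U x hxU
  have := isLocalizedModule_germ F hU x hxU
  have : Module.Finite Γ(X, U) Γ(F, U) := finite_Γ_of_isAffineOpen hU F
  exact Module.Finite.of_isLocalizedModule (hU.primeIdealOf ⟨x, hxU⟩).asIdeal.primeCompl
    (germₗ F U x hxU)

theorem stalk_pullback_subsingleton_iff (f : X ⟶ S) (F : S.Modules) [F.IsQuasicoherent]
    [F.IsFiniteType] (x : X) :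
    Subsingleton (((Scheme.Modules.pullback f).obj F).presheaf.stalk x) ↔
      Subsingleton (F.presheaf.stalk (f x)) := by
  let _ : Algebra (S.presheaf.stalk (f x)) (X.presheaf.stalk x) := (f.stalkMap x).hom.toAlgebra
  obtain ⟨e⟩ := nonempty_stalk_pullback_linearEquiv f F x
  have hloc : IsLocalHom (algebraMap (S.presheaf.stalk (f x)) (X.presheaf.stalk x)) := by
    change IsLocalHom (f.stalkMap x).hom
    infer_instance
  have hfin := finite_stalk F (f x)
  rw [e.toEquiv.subsingleton_congr]
  exact subsingleton_tensorProduct_iff_of_isLocalHom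

/-- **Support of a pullback** (quasi-coherent of finite type). -/
theorem support_pullback (f : X ⟶ S) (F : S.Modules) [F.IsQuasicoherent] [F.IsFiniteType] :
    CohB1.support ((Scheme.Modules.pullback f).obj F) = f.base ⁻¹' CohB1.support F := by
  ext x
  change ¬ Subsingleton _ ↔ ¬ Subsingleton _
  rw [stalk_pullback_subsingleton_iff f F x]

end Groth.Agent.Lib.QCoh
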