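import Groth.Agent.Lib.QCoh.Affine

/-!
# QCoh API, part Q2 (lead): locality of quasi-coherence, kernels and cokernels on any scheme

Namespace `Groth.Agent.Lib.QCoh`.

* `isQuasicoherent_of_iso`
* `isQuasicoherent_over_of_restrict` : `M|_V` q-coh ⇒ `M.over V` q-coh (bridge to Mathlib's `over` API)
* `isQuasicoherent_of_isOpenCover` : q-coh is local on an open cover
* `isQuasicoherent_of_forall_affineOpens`, `isOpenCover_affineOpens`
* instances: `restrictFunctor f` (open immersion) is additive, preserves monos and finite limits
* `restrictInvRestrictIso`, `isQuasicoherent_of_restrict_iso` : transport along an isomorphism of schemes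
* `isQuasicoherent_kernel_of_isAffine`, `isQuasicoherent_cokernel_of_isAffine`
* `isQuasicoherent_kernel`, `isQuasicoherent_cokernel` : on ANY scheme
-/

universe u

open CategoryTheory CategoryTheory.Limits AlgebraicGeometry Opposite TopologicalSpace

namespace Groth.Agent.Lib.QCoh

variable {X : Scheme.{u}}

theorem isQuasicoherent_of_iso {M N : X.Modules} (e : M ≅ N) (h : M.IsQuasicoherent) :
    N.IsQuasicoherent :=
  (SheafOfModules.isQuasicoherent X.ringCatSheaf).prop_of_iso e h

set_option backward.isDefEq.respectTransparency false in
theorem isQuasicoherent_overEquiv_inverse (V : X.Opens) (N : (V : Scheme.{u}).Modules)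
    [N.IsQuasicoherent] :
    ((Scheme.Modules.overEquiv V).inverse.obj N).IsQuasicoherent := by
  have hcp : CoverPreserving ((Opens.grothendieckTopology X).over V)
      (Opens.grothendieckTopology (Subtype (· ∈ V)))
      V.overEquivalence.symm.inverse := CoverPreserving.of_isContinuous _ _ _
  have : Functor.PreservesOneHypercovers.{u} V.overEquivalence.symm.inverse
      ((Opens.grothendieckTopology X).over V) (Opens.grothendieckTopology (Subtype (· ∈ V))) :=
    Functor.PreservesOneHypercovers.of_coverPreserving hcp
  have := SheafOfModules.isQuasicoherent_pushforward_of_isLeftAdjoint.{u}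
    (V.overEquivalence.symm.inverse) ((V.sheafRestrictSheafEquivOver.app X.ringCatSheaf).inv)
    (V.sheafOfModulesEquivOverInverseUnit X.ringCatSheaf) (M := N)
  exact this

/-- If the restriction of `M` to the open subscheme `V` is quasi-coherent, then so is `M.over V`
(the form used by Mathlib's `IsQuasicoherent.of_coversTop`). -/
theorem isQuasicoherent_over_of_restrict (M : X.Modules) (V : X.Opens)
    [(M.restrict V.ι).IsQuasicoherent] : (M.over V).IsQuasicoherent := by
  have h := isQuasicoherent_overEquiv_inverse V (M.restrict V.ι)
  let e : M.over V ≅ (Scheme.Modules.overEquiv V).inverse.obj (M.restrict V.ι) :=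
    (Scheme.Modules.overEquiv V).unitIso.app (M.over V) ≪≫
      (Scheme.Modules.overEquiv V).inverse.mapIso ((Scheme.Modules.overFunctorEquiv V).app M)
  exact (SheafOfModules.isQuasicoherent (X.ringCatSheaf.over V)).prop_of_iso e.symm h

/-- Quasi-coherence is local: if the restrictions of `M` to the members of an open cover are
quasi-coherent, so is `M`. -/
theorem isQuasicoherent_of_isOpenCover (M : X.Modules) {ι : Type u} (U : ι → X.Opens)
    (hU : IsOpenCover U) (h : ∀ i, (M.restrict (U i).ι).IsQuasicoherent) :
    M.IsQuasicoherent := by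
  have : ∀ i, (M.over (U i)).IsQuasicoherent := fun i => isQuasicoherent_over_of_restrict M (U i)
  exact SheafOfModules.IsQuasicoherent.of_coversTop M U ((Opens.coversTop_iff _ _).2 hU)

section Restrict

variable {Y : Scheme.{u}} (f : Y ⟶ X) [IsOpenImmersion f]

instance preservesMonomorphisms_restrictFunctor :
    (Scheme.Modules.restrictFunctor f).PreservesMonomorphisms where
  preserves {M N} φ _ := by
    apply mono_of_app_injective
    intro U
    exact app_injective_of_mono φ (f ''ᵁ U)

instance additive_restrictFunctor : (Scheme.Modules.restrictFunctor f).Additive :=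
  have := Limits.preservesBinaryBiproducts_of_preservesBinaryCoproducts
    (Scheme.Modules.restrictFunctor f)
  Functor.additive_of_preservesBinaryBiproducts _

/-- Restriction to an open subscheme is exact. -/
instance preservesFiniteLimits_restrictFunctor :
    PreservesFiniteLimits (Scheme.Modules.restrictFunctor f) := by
  rw [Functor.preservesFiniteLimits_iff_forall_exact_map_and_mono]
  intro S hS
  have hmono : Mono S.f := hS.mono_f
  refine ⟨?_, inferInstance⟩
  have h : PreservesFiniteColimits (Scheme.Modules.restrictFunctor f) := inferInstance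
  exact ((Functor.preservesFiniteColimits_iff_forall_exact_map_and_epi _).1 h S hS).1

/-- For an isomorphism `f`, `M` is the restriction along `f⁻¹` of its restriction along `f`. -/
noncomputable def restrictInvRestrictIso [IsIso f] (M : X.Modules) :
    (M.restrict f).restrict (inv f) ≅ M :=
  ((Scheme.Modules.restrictFunctorComp (inv f) f).app M).symm ≪≫
    (Scheme.Modules.restrictFunctorCongr (IsIso.inv_hom_id f)).app M ≪≫
    Scheme.Modules.restrictFunctorId.app M

/-- Quasi-coherence can be checked after restricting along an isomorphism. -/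
theorem isQuasicoherent_of_restrict_iso [IsIso f] (M : X.Modules)
    [h : (M.restrict f).IsQuasicoherent] : M.IsQuasicoherent :=
  (SheafOfModules.isQuasicoherent X.ringCatSheaf).prop_of_iso (restrictInvRestrictIso f M)
    (inferInstanceAs ((M.restrict f).restrict (inv f)).IsQuasicoherent)

end Restrict

section KerCoker

open Scheme.Modules

theorem isQuasicoherent_kernel_of_isAffine {Y : Scheme.{u}} [IsAffine Y] {M N : Y.Modules}
    [M.IsQuasicoherent] [N.IsQuasicoherent] (φ : M ⟶ N) : (kernel φ).IsQuasicoherent := by
  have : ((kernel φ).restrict Y.isoSpec.inv).IsQuasicoherent :=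
    isQuasicoherent_of_iso (PreservesKernel.iso (restrictFunctor Y.isoSpec.inv) φ).symm
      (isQuasicoherent_kernel_Spec ((restrictFunctor Y.isoSpec.inv).map φ))
  exact isQuasicoherent_of_restrict_iso Y.isoSpec.inv _

theorem isQuasicoherent_cokernel_of_isAffine {Y : Scheme.{u}} [IsAffine Y] {M N : Y.Modules}
    [M.IsQuasicoherent] [N.IsQuasicoherent] (φ : M ⟶ N) : (cokernel φ).IsQuasicoherent := by
  have : ((cokernel φ).restrict Y.isoSpec.inv).IsQuasicoherent :=
    isQuasicoherent_of_iso (PreservesCokernel.iso (restrictFunctor Y.isoSpec.inv) φ).symm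
      (isQuasicoherent_cokernel_Spec ((restrictFunctor Y.isoSpec.inv).map φ))
  exact isQuasicoherent_of_restrict_iso Y.isoSpec.inv _

/-- The cover of a scheme by all its affine opens. -/
theorem isOpenCover_affineOpens (X : Scheme.{u}) :
    IsOpenCover (fun U : X.affineOpens => (U : X.Opens)) := by
  rw [IsOpenCover, ← top_le_iff]
  intro x _
  obtain ⟨U, hU, hx, -⟩ := Opens.isBasis_iff_nbhd.1 (X.isBasis_affineOpens)
    (show x ∈ (⊤ : X.Opens) from trivial)
  exact Opens.mem_iSup.2 ⟨⟨U, hU⟩, hx⟩

/-- Quasi-coherence can be checked on affine opens. -/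
theorem isQuasicoherent_of_forall_affineOpens (M : X.Modules)
    (h : ∀ U : X.affineOpens, (M.restrict (U : X.Opens).ι).IsQuasicoherent) :
    M.IsQuasicoherent :=
  isQuasicoherent_of_isOpenCover M _ (isOpenCover_affineOpens X) h

/-- **Kernels of maps of quasi-coherent modules are quasi-coherent** (any scheme). -/
theorem isQuasicoherent_kernel {M N : X.Modules} [M.IsQuasicoherent] [N.IsQuasicoherent]
    (φ : M ⟶ N) : (kernel φ).IsQuasicoherent := by
  refine isQuasicoherent_of_forall_affineOpens _ fun U => ?_
  have : IsAffine (U : X.Opens) := U.2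
  exact isQuasicoherent_of_iso
    (PreservesKernel.iso (restrictFunctor (U : X.Opens).ι) φ).symm
    (isQuasicoherent_kernel_of_isAffine ((restrictFunctor (U : X.Opens).ι).map φ))

/-- **Cokernels of maps of quasi-coherent modules are quasi-coherent** (any scheme). -/
theorem isQuasicoherent_cokernel {M N : X.Modules} [M.IsQuasicoherent] [N.IsQuasicoherent]
    (φ : M ⟶ N) : (cokernel φ).IsQuasicoherent := by
  refine isQuasicoherent_of_forall_affineOpens _ fun U => ?_
  have : IsAffine (U : X.Opens) := U.2
  exact isQuasicoherent_of_iso
    (PreservesCokernel.iso (restrictFunctor (U : X.Opens).ι) φ).symm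
    (isQuasicoherent_cokernel_of_isAffine ((restrictFunctor (U : X.Opens).ι).map φ))

end KerCoker

end Groth.Agent.Lib.QCoh
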