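import Groth.Agent.Lib.QCoh.Helper18_Stalk
import Groth.Agent.Lib.Helper22.QCohLoc

/-!
# QCoh API (helper18): stalks and supports of quasi-coherent modules on affine opens

Namespace `Groth.Agent.Lib.QCoh`.  Uses helper22's elementwise localization API.

* `res_basicOpen_eq_zero_of_smul_eq_zero` : `g • s = 0` ⇒ `s|_{D(g)} = 0`
* `stalk_subsingleton_iff_of_isAffineOpen` : for `F` q-coh, `U` affine, `x ∈ U`:
  `F_x = 0 ↔ ∀ s ∈ Γ(F,U), ∃ g ∈ Γ(X,U), x ∈ D(g) ∧ g • s = 0`
* `notMem_primeIdealOf_iff` : `r ∉ p_x ↔ x ∈ D(r)`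
* `mem_support_iff_primeIdealOf_mem_support` : `p_x ∈ Supp_{Γ(X,U)} Γ(F,U) ↔ x ∈ Supp F` (S9390)
* `stableUnderSpecialization_support` (S9373)
-/

universe u

open CategoryTheory CategoryTheory.Limits AlgebraicGeometry Opposite TopologicalSpace

namespace Groth.Agent.Lib.QCoh

variable {X : Scheme.{u}}

/-- A section killed by a function `g` vanishes on `D(g)`. -/
lemma res_basicOpen_eq_zero_of_smul_eq_zero (F : X.Modules) {U : X.Opens} (g : Γ(X, U))
    (s : Γ(F, U)) (h : g • s = 0) :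
    F.presheaf.map (homOfLE (X.basicOpen_le g)).op s = 0 := by
  have h1 := Scheme.Modules.map_smul (M := F) (homOfLE (X.basicOpen_le g)) g s
  rw [h, map_zero] at h1
  have hu : IsUnit (X.presheaf.map (homOfLE (X.basicOpen_le g)).op g) :=
    X.toRingedSpace.isUnit_res_basicOpen g
  exact (hu.smul_eq_zero).1 h1.symm

/-- For a quasi-coherent module `F`, an affine open `U` and `x ∈ U`: the stalk `F_x` vanishes iff
every section of `F` over `U` is killed by a function on `U` not vanishing at `x`. -/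
theorem stalk_subsingleton_iff_of_isAffineOpen (F : X.Modules) [F.IsQuasicoherent] {U : X.Opens}
    (hU : IsAffineOpen U) (x : X) (hx : x ∈ U) :
    Subsingleton (F.presheaf.stalk x) ↔
      ∀ s : Γ(F, U), ∃ g : Γ(X, U), x ∈ X.basicOpen g ∧ g • s = 0 := by
  constructor
  · intro hsub s
    have hg : F.presheaf.germ U x hx s = F.presheaf.germ U x hx 0 := Subsingleton.elim _ _
    obtain ⟨W, hxW, iU, iV, hW⟩ := TopCat.Presheaf.germ_eq F.presheaf x hx hx _ _ hg
    obtain ⟨h, hhW, hxh⟩ := hU.exists_basicOpen_le (V := W) ⟨x, hxW⟩ hx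
    have hs : F.presheaf.map (homOfLE (X.basicOpen_le h)).op s = 0 := by
      have e : (homOfLE (X.basicOpen_le h)).op = iU.op ≫ (homOfLE hhW).op := rfl
      rw [e, Functor.map_comp, ConcreteCategory.comp_apply, hW, map_zero, map_zero]
    obtain ⟨n, hn⟩ := Groth.Agent.Lib.Helper22.exists_pow_smul_eq_zero_of_isAffineOpen F hU h s hs
    refine ⟨h ^ n, ?_, hn⟩
    rw [Scheme.mem_basicOpen _ _ x hx] at hxh ⊢
    rw [map_pow]
    exact hxh.pow n
  · intro H
    refine ⟨fun t t' => ?_⟩
    suffices h0 : ∀ t : F.presheaf.stalk x, t = 0 by rw [h0 t, h0 t']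
    intro t
    obtain ⟨W, hxW, s', rfl⟩ := F.presheaf.exists_germ_eq t
    obtain ⟨h, hhW, hxh⟩ := hU.exists_basicOpen_le (V := W) ⟨x, hxW⟩ hx
    set s'' : Γ(F, X.basicOpen h) := F.presheaf.map (homOfLE hhW).op s' with hs''
    obtain ⟨n, s, hs⟩ := Groth.Agent.Lib.Helper22.exists_pow_smul_eq_map_of_isAffineOpen F hU h s''
    obtain ⟨g, hxg, hg⟩ := H s
    have hsg := res_basicOpen_eq_zero_of_smul_eq_zero F g s hg
    -- restrict to W' = D(h) ⊓ D(g)
    set W' : X.Opens := X.basicOpen h ⊓ X.basicOpen g with hW'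
    have hxW' : x ∈ W' := ⟨hxh, hxg⟩
    have e1 : F.presheaf.map (homOfLE (inf_le_left : W' ≤ X.basicOpen h)).op
        (F.presheaf.map (homOfLE (X.basicOpen_le h)).op s) = 0 := by
      have : F.presheaf.map (homOfLE (inf_le_left : W' ≤ X.basicOpen h)).op
          (F.presheaf.map (homOfLE (X.basicOpen_le h)).op s) =
          F.presheaf.map (homOfLE (inf_le_right : W' ≤ X.basicOpen g)).op
          (F.presheaf.map (homOfLE (X.basicOpen_le g)).op s) := by
        rw [← ConcreteCategory.comp_apply, ← ConcreteCategory.comp_apply, ← Functor.map_comp,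
          ← Functor.map_comp]
        rfl
      rw [this, hsg, map_zero]
    rw [hs, Scheme.Modules.map_smul] at e1
    have hu : IsUnit (X.presheaf.map (homOfLE (inf_le_left : W' ≤ X.basicOpen h)).op
        ((X.presheaf.map (homOfLE (X.basicOpen_le h)).op h) ^ n)) :=
      ((X.toRingedSpace.isUnit_res_basicOpen h).pow n).map _
    have e2 := (hu.smul_eq_zero).1 e1
    have e3 : F.presheaf.germ W x hxW s' = F.presheaf.germ W' x hxW'
        (F.presheaf.map (homOfLE (inf_le_left : W' ≤ X.basicOpen h)).op s'') := by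
      rw [hs'', TopCat.Presheaf.germ_res_apply, TopCat.Presheaf.germ_res_apply]
    rw [e3, e2, map_zero]

lemma notMem_primeIdealOf_iff {U : X.Opens} (hU : IsAffineOpen U) (x : X) (hx : x ∈ U)
    (r : Γ(X, U)) : r ∉ (hU.primeIdealOf ⟨x, hx⟩).asIdeal ↔ x ∈ X.basicOpen r := by
  rw [hU.primeIdealOf_eq_map_closedPoint, Scheme.mem_basicOpen _ _ x hx]
  change ¬ (X.presheaf.germ U x hx r ∈ IsLocalRing.maximalIdeal _) ↔ _
  rw [IsLocalRing.mem_maximalIdeal, mem_nonunits_iff, not_not]

/-- For quasi-coherent `F`, affine open `U`, `x ∈ U`: `x ∈ Supp F` iff the prime of `x` lies in the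
support of the `Γ(X,U)`-module `Γ(F,U)`. -/
theorem mem_support_iff_primeIdealOf_mem_support (F : X.Modules) [F.IsQuasicoherent] {U : X.Opens}
    (hU : IsAffineOpen U) (x : X) (hx : x ∈ U) :
    hU.primeIdealOf ⟨x, hx⟩ ∈ Module.support Γ(X, U) Γ(F, U) ↔ x ∈ CohB1.support F := by
  rw [← not_iff_not, notMem_support_iff, Module.notMem_support_iff',
    stalk_subsingleton_iff_of_isAffineOpen F hU x hx]
  refine forall_congr' fun s => ⟨?_, ?_⟩
  · rintro ⟨r, hr, hrs⟩
    exact ⟨r, (notMem_primeIdealOf_iff hU x hx r).1 hr, hrs⟩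
  · rintro ⟨r, hr, hrs⟩
    exact ⟨r, (notMem_primeIdealOf_iff hU x hx r).2 hr, hrs⟩

/-- The support of a quasi-coherent module is stable under specialization. -/
theorem stableUnderSpecialization_support (F : X.Modules) [F.IsQuasicoherent] :
    StableUnderSpecialization (CohB1.support F) := by
  intro x y hxy hx
  by_contra hy
  rw [notMem_support_iff] at hy
  obtain ⟨U, hU, hyU, -⟩ := Opens.isBasis_iff_nbhd.1 (X.isBasis_affineOpens)
    (show y ∈ (⊤ : X.Opens) from trivial)
  have hxU : x ∈ U := hxy.mem_open U.2 hyU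
  have H := (stalk_subsingleton_iff_of_isAffineOpen F hU y hyU).1 hy
  have : Subsingleton (F.presheaf.stalk x) := by
    rw [stalk_subsingleton_iff_of_isAffineOpen F hU x hxU]
    intro s
    obtain ⟨g, hyg, hg⟩ := H s
    exact ⟨g, hxy.mem_open (X.basicOpen g).2 hyg, hg⟩
  exact hx this

end Groth.Agent.Lib.QCoh
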