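import Groth.Agent.Lib.QCoh.Helper18_Ass
import Groth.Prelude.Def_CInt
import Mathlib.AlgebraicGeometry.Noetherian
import Mathlib.AlgebraicGeometry.Morphisms.Flat
import Mathlib.RingTheory.Ideal.AssociatedPrime.Finiteness
import Mathlib.RingTheory.Flat.Basic

/-!
# QCoh API (helper18): schematically dense opens and (weakly) associated points of `O_X`

Namespace `Groth.Agent.Lib.QCoh`.

* `fn_germ_eq_zero_iff`, `fn_eq_zero_of_germ_eq_zero` (functions instead of module sections).
* `isSchematicallyDense_of_weakAss_subset` : an open containing every point `x` such that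
  `rad (ann g) = 𝔪_x` for some `g ∈ O_{X,x}` is schematically dense (no Noetherian hypothesis).
* `isAssociatedPrime_maximalIdeal_of_flat` : `R → S` flat local, `R` Noetherian local, `𝔪_S`
  weakly associated to `S` ⇒ `𝔪_R ∈ Ass R`.
* `isSchematicallyDense_preimage_of_flat` : `f : X' ⟶ X` flat, `X` locally Noetherian, `V` open
  containing the associated points of `X` ⇒ `f⁻¹ V` schematically dense (S3844).
-/

universe u

open CategoryTheory CategoryTheory.Limits AlgebraicGeometry Opposite TopologicalSpace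
open Groth.Agent.Lib.Helper18 IsLocalRing

namespace Groth.Agent.Lib.QCoh

/-- germ of a function at `y` vanishes iff it is killed by a function not vanishing at `y`. -/
lemma fn_germ_eq_zero_iff {X : Scheme.{u}} {W : X.Opens} (hW : IsAffineOpen W) (y : X) (hy : y ∈ W)
    (b : Γ(X, W)) :
    X.presheaf.germ W y hy b = 0 ↔
      ∃ t : Γ(X, W), t ∉ (hW.primeIdealOf ⟨y, hy⟩).asIdeal ∧ t * b = 0 := by
  let _ : Algebra Γ(X, W) (X.presheaf.stalk y) :=
    TopCat.Presheaf.algebra_section_stalk X.presheaf ⟨y, hy⟩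
  have := hW.isLocalization_stalk ⟨y, hy⟩
  have h := WeakAss.map_eq_zero_iff_exists (hW.primeIdealOf ⟨y, hy⟩).asIdeal
    (Algebra.linearMap Γ(X, W) (X.presheaf.stalk y)) b
  exact h

/-- A function on an open set all of whose germs vanish is zero. -/
lemma fn_eq_zero_of_germ_eq_zero {X : Scheme.{u}} (V : X.Opens) (a : Γ(X, V))
    (h : ∀ (x : X) (hx : x ∈ V), X.presheaf.germ V x hx a = 0) : a = 0 := by
  refine TopCat.Presheaf.section_ext X.sheaf V a 0 ?_
  intro x hx
  exact (h x hx).trans (map_zero (X.presheaf.germ V x hx).hom).symm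

theorem isSchematicallyDense_of_weakAss_subset {X : Scheme.{u}} (U : X.Opens)
    (hU : ∀ x : X, (∃ g : X.presheaf.stalk x,
      (WeakAss.ann (X.presheaf.stalk x) g).radical = maximalIdeal (X.presheaf.stalk x)) → x ∈ U) :
    CInt.IsSchematicallyDense U := by
  intro V
  rw [injective_iff_map_eq_zero]
  intro a ha
  apply fn_eq_zero_of_germ_eq_zero
  intro x hxV
  by_contra hne
  obtain ⟨W, hW0, hxW, hWV⟩ := Opens.isBasis_iff_nbhd.1 (X.isBasis_affineOpens) hxV
  have hW : IsAffineOpen W := hW0
  set b : Γ(X, W) := X.presheaf.map (homOfLE hWV).op a with hb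
  have hb0 : b ≠ 0 := by
    intro h0
    apply hne
    rw [← TopCat.Presheaf.germ_res_apply X.presheaf (homOfLE hWV) x hxW a]
    change X.presheaf.germ W x hxW b = 0
    rw [h0, map_zero]
  obtain ⟨p, hp⟩ := WeakAss.exists_minimalPrimes_ann (R := Γ(X, W)) hb0
  have hpp : p.IsPrime := hp.1.1
  set P : PrimeSpectrum Γ(X, W) := ⟨p, hpp⟩ with hP
  have hyW := fromSpec_mem hW P
  set y := hW.fromSpec P with hy
  have hPy : hW.primeIdealOf ⟨y, hyW⟩ = P := primeIdealOf_fromSpec hW P
  have hyass : ∃ g : X.presheaf.stalk y,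
      (WeakAss.ann (X.presheaf.stalk y) g).radical = maximalIdeal (X.presheaf.stalk y) := by
    let _ : Algebra Γ(X, W) (X.presheaf.stalk y) :=
      TopCat.Presheaf.algebra_section_stalk X.presheaf ⟨y, hyW⟩
    have hloc := hW.isLocalization_stalk ⟨y, hyW⟩
    rw [hPy] at hloc
    exact ⟨_, (WeakAss.radical_ann_eq_maximalIdeal_iff (R' := X.presheaf.stalk y) p
      (Algebra.linearMap Γ(X, W) (X.presheaf.stalk y)) b).2 hp⟩
  have hyU : y ∈ U := hU y hyass
  have hgerm : X.presheaf.germ W y hyW b = 0 := by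
    have e1 : X.presheaf.germ W y hyW b = X.presheaf.germ V y (hWV hyW) a :=
      TopCat.Presheaf.germ_res_apply X.presheaf (homOfLE hWV) y hyW a
    have e2 : X.presheaf.germ (V ⊓ U) y ⟨hWV hyW, hyU⟩
        (X.presheaf.map (homOfLE (inf_le_left : V ⊓ U ≤ V)).op a) =
        X.presheaf.germ V y (hWV hyW) a :=
      TopCat.Presheaf.germ_res_apply X.presheaf (homOfLE (inf_le_left : V ⊓ U ≤ V)) y _ a
    rw [e1, ← e2, ha, map_zero]
  rw [fn_germ_eq_zero_iff hW y hyW, hPy] at hgerm
  obtain ⟨t, ht, htb⟩ := hgerm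
  exact ht (hp.1.2 (WeakAss.mem_ann.2 htb))

theorem isAssociatedPrime_maximalIdeal_of_flat {R S : Type*} [CommRing R] [CommRing S]
    [IsLocalRing R] [IsLocalRing S] [IsNoetherianRing R] [Algebra R S] [Module.Flat R S]
    [IsLocalHom (algebraMap R S)] (z : S)
    (hz : (WeakAss.ann S z).radical = maximalIdeal S) :
    IsAssociatedPrime (maximalIdeal R) R := by
  by_contra hnot
  have hnd : ¬ Disjoint (maximalIdeal R : Set R) (nonZeroDivisors R) := by
    intro hdisj
    obtain ⟨P, hP, hle⟩ : ∃ P ∈ associatedPrimes R R, maximalIdeal R ≤ P :=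
      ((maximalIdeal R).subset_union_prime_finite (associatedPrimes.finite ..) (f := id) 0 0
        fun _ h _ _ ↦ h.1).1 <|
      biUnion_associatedPrimes_eq_compl_nonZeroDivisors R ▸ hdisj.subset_compl_right
    have hPprime : P.IsPrime := hP.1
    have : maximalIdeal R = P := (maximalIdeal.isMaximal R).eq_of_le hPprime.ne_top hle
    exact hnot (this ▸ hP)
  obtain ⟨t, htm, htreg⟩ := Set.not_disjoint_iff.1 hnd
  have hreg0 : IsSMulRegular R t := by
    intro a b hab
    have h1 : (a - b) * t = 0 := by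
      have : t * a = t * b := hab
      rw [sub_mul, mul_comm a, mul_comm b, this, sub_self]
    exact sub_eq_zero.1 ((mem_nonZeroDivisors_iff_right.1 htreg) _ h1)
  have hreg : IsSMulRegular S (algebraMap R S t) := hreg0.of_flat
  have htS : algebraMap R S t ∈ maximalIdeal S := by
    rw [mem_maximalIdeal, mem_nonunits_iff]
    intro hu
    exact (mem_nonunits_iff.1 ((mem_maximalIdeal t).1 htm)) (isUnit_of_map_unit (algebraMap R S) t hu)
  rw [← hz] at htS
  obtain ⟨n, hn⟩ := htS
  have hz0 : z = 0 := by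
    apply hreg.pow n
    change (algebraMap R S t) ^ n • z = (algebraMap R S t) ^ n • 0
    rw [smul_zero]
    exact WeakAss.mem_ann.1 hn
  have htop : WeakAss.ann S z = ⊤ := by
    ext r
    simp [hz0]
  rw [htop, Ideal.radical_top] at hz
  exact (maximalIdeal.isMaximal S).ne_top hz.symm

theorem isSchematicallyDense_preimage_of_flat {X X' : Scheme.{u}} (f : X' ⟶ X) [Flat f]
    [IsLocallyNoetherian X] (V : X.Opens)
    (hV : ∀ x : X, IsAssociatedPrime (maximalIdeal (X.presheaf.stalk x)) (X.presheaf.stalk x) →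
      x ∈ V) :
    CInt.IsSchematicallyDense (f ⁻¹ᵁ V) := by
  apply isSchematicallyDense_of_weakAss_subset
  rintro x' ⟨z, hz⟩
  apply hV (f x')
  let _ : Algebra (X.presheaf.stalk (f x')) (X'.presheaf.stalk x') := (f.stalkMap x').hom.toAlgebra
  have hflat : Module.Flat (X.presheaf.stalk (f x')) (X'.presheaf.stalk x') := Flat.stalkMap f x'
  have hloc : IsLocalHom (algebraMap (X.presheaf.stalk (f x')) (X'.presheaf.stalk x')) := by
    change IsLocalHom (f.stalkMap x').hom
    infer_instance
  exact isAssociatedPrime_maximalIdeal_of_flat z hz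

end Groth.Agent.Lib.QCoh
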