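import Groth.Agent.Lib.QCoh.Helper18_StructureAss
import Mathlib.AlgebraicGeometry.Stalk
import Groth.Agent.Lib.QCoh.Helper18_SchDense
import Groth.Prelude.Def_MeroSh

/-!
# Points without proper generizations (helper18)

* `isNilpotent_of_not_isUnit_of_generic` : if `y` has no proper generization, every non-unit of
  `O_{Y,y}` is nilpotent.
* `isUnit_germ_of_mem_nonZeroDivisors_of_generic` : at such a point, nonzerodivisors of
  `O_{Y,y}` are units.
-/

universe u

open CategoryTheory CategoryTheory.Limits AlgebraicGeometry Opposite TopologicalSpace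
open Groth.Agent.Lib.Helper18 IsLocalRing

namespace Groth.Agent.Lib.QCoh

theorem eq_maximalIdeal_of_generic {Y : Scheme.{u}} (y : Y) (hy : ∀ z : Y, z ⤳ y → z = y)
    (p : Ideal (Y.presheaf.stalk y)) [hp : p.IsPrime] : p = maximalIdeal (Y.presheaf.stalk y) := by
  let P : PrimeSpectrum (Y.presheaf.stalk y) := ⟨p, hp⟩
  have hz : Y.fromSpecStalk y P ∈ Set.range (Y.fromSpecStalk y) := ⟨P, rfl⟩
  rw [Scheme.range_fromSpecStalk] at hz
  have h1 : Y.fromSpecStalk y P = y := hy _ hz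
  have h2 : Y.fromSpecStalk y (closedPoint (Y.presheaf.stalk y)) = y :=
    Scheme.fromSpecStalk_closedPoint
  have h3 : P = closedPoint (Y.presheaf.stalk y) :=
    (Y.fromSpecStalk y).isEmbedding.injective (h1.trans h2.symm)
  exact congrArg PrimeSpectrum.asIdeal h3

theorem isNilpotent_of_not_isUnit_of_generic {Y : Scheme.{u}} (y : Y)
    (hy : ∀ z : Y, z ⤳ y → z = y) (a : Y.presheaf.stalk y) (ha : ¬ IsUnit a) : IsNilpotent a := by
  rw [nilpotent_iff_mem_prime]
  intro p hp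
  rw [eq_maximalIdeal_of_generic y hy p]
  exact (IsLocalRing.mem_maximalIdeal a).2 ha

theorem isUnit_of_mem_nonZeroDivisors_of_generic {Y : Scheme.{u}} (y : Y)
    (hy : ∀ z : Y, z ⤳ y → z = y) (a : Y.presheaf.stalk y)
    (ha : a ∈ nonZeroDivisors (Y.presheaf.stalk y)) : IsUnit a := by
  by_contra hnu
  obtain ⟨n, hn⟩ := isNilpotent_of_not_isUnit_of_generic y hy a hnu
  have h1 : a ^ n ∈ nonZeroDivisors (Y.presheaf.stalk y) := pow_mem ha n
  rw [hn] at h1
  exact zero_notMem_nonZeroDivisors h1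

theorem exists_isWeakAssPoint_structureModule_of_ne_zero {X : Scheme.{u}} {W : X.Opens}
    (hW : IsAffineOpen W) (b : Γ(X, W)) (hb : b ≠ 0) :
    ∃ (y : X) (hy : y ∈ W), Curv2.IsWeakAssPoint (Coh.structureModule X) y ∧
      X.presheaf.germ W y hy b ≠ 0 := by
  obtain ⟨p, hp⟩ := WeakAss.exists_minimalPrimes_ann (R := Γ(X, W)) hb
  have hpp : p.IsPrime := hp.1.1
  set P : PrimeSpectrum Γ(X, W) := ⟨p, hpp⟩ with hP
  have hyW := fromSpec_mem hW P
  have hPy : hW.primeIdealOf ⟨hW.fromSpec P, hyW⟩ = P := primeIdealOf_fromSpec hW P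
  refine ⟨hW.fromSpec P, hyW, ?_, ?_⟩
  · rw [isWeakAssPoint_structureModule_iff hW _ hyW, hPy]
    exact ⟨b, hp⟩
  · rw [Ne, fn_germ_eq_zero_iff hW _ hyW, hPy]
    rintro ⟨t, ht, htb⟩
    exact ht (hp.1.2 (WeakAss.mem_ann.2 htb))

lemma res_res {X : Scheme.{u}} {V₁ V₂ V₃ : X.Opens} (h₁₂ : V₂ ≤ V₁) (h₂₃ : V₃ ≤ V₂)
    (z : Γ(X, V₁)) :
    X.presheaf.map (homOfLE h₂₃).op (X.presheaf.map (homOfLE h₁₂).op z) =
      X.presheaf.map (homOfLE (h₂₃.trans h₁₂)).op z := by
  rw [← CommRingCat.comp_apply, ← Functor.map_comp]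
  rfl

/-- Core statement: if at the image of every weakly associated point of `X` all nonzerodivisors of
the local ring of `Y` are units, pullbacks of regular sections are regular. -/
theorem app_mem_regSub_of_isUnit {X Y : Scheme.{u}} (f : X ⟶ Y)
    (h : ∀ x : X, Curv2.IsWeakAssPoint (Coh.structureModule X) x →
      ∀ a ∈ nonZeroDivisors (Y.presheaf.stalk (f x)), IsUnit a)
    (U : Y.Opens) (s : Γ(Y, U)) (hs : s ∈ Mero.regSub Y U) :
    f.app U s ∈ Mero.regSub X (f ⁻¹ᵁ U) := by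
  rintro ⟨x, hx⟩
  change X.presheaf.germ (f ⁻¹ᵁ U) x hx (f.app U s) ∈ nonZeroDivisors _
  rw [mem_nonZeroDivisors_iff_right]
  intro t ht
  obtain ⟨W₁, hxW₁, b₁, rfl⟩ := X.presheaf.exists_germ_eq t
  -- a common open where the product vanishes
  have hxW₂ : x ∈ W₁ ⊓ f ⁻¹ᵁ U := ⟨hxW₁, hx⟩
  set c : Γ(X, W₁ ⊓ f ⁻¹ᵁ U) := X.presheaf.map (homOfLE inf_le_left).op b₁ *
    X.presheaf.map (homOfLE inf_le_right).op (f.app U s) with hc
  have hc0 : X.presheaf.germ (W₁ ⊓ f ⁻¹ᵁ U) x hxW₂ c =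
      X.presheaf.germ (W₁ ⊓ f ⁻¹ᵁ U) x hxW₂ 0 := by
    rw [hc, map_mul, map_zero, TopCat.Presheaf.germ_res_apply, TopCat.Presheaf.germ_res_apply]
    exact ht
  obtain ⟨W₃, hxW₃, i₁, i₂, hres⟩ := TopCat.Presheaf.germ_eq _ x hxW₂ hxW₂ _ _ hc0
  rw [map_zero] at hres
  obtain ⟨W, hW0, hxW, hWW₃⟩ := Opens.isBasis_iff_nbhd.1 (X.isBasis_affineOpens) hxW₃
  have hW : IsAffineOpen W := hW0
  have hWW₂ : W ≤ W₁ ⊓ f ⁻¹ᵁ U := hWW₃.trans i₁.le
  have hWW₁ : W ≤ W₁ := hWW₂.trans inf_le_left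
  have hWU : W ≤ f ⁻¹ᵁ U := hWW₂.trans inf_le_right
  set b : Γ(X, W) := X.presheaf.map (homOfLE hWW₁).op b₁ with hb
  set a : Γ(X, W) := X.presheaf.map (homOfLE hWU).op (f.app U s) with ha
  have hba : b * a = 0 := by
    have h1 : X.presheaf.map (homOfLE hWW₂).op c = 0 := by
      have : X.presheaf.map (homOfLE hWW₂).op c =
          X.presheaf.map (homOfLE hWW₃).op (X.presheaf.map i₁.op c) := by
        rw [← CommRingCat.comp_apply, ← Functor.map_comp]
        rfl
      rw [this, hres, map_zero]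
    rw [hc, map_mul, res_res, res_res] at h1
    rw [hb, ha, ← h1]
  have hgb : X.presheaf.germ W₁ x hxW₁ b₁ = X.presheaf.germ W x hxW b := by
    rw [hb, TopCat.Presheaf.germ_res_apply]
  rw [hgb]
  suffices hb0 : b = 0 by rw [hb0, map_zero]
  by_contra hbne
  obtain ⟨y, hyW, hyw, hyb⟩ := exists_isWeakAssPoint_structureModule_of_ne_zero hW b hbne
  apply hyb
  have hyU : f y ∈ U := hWU hyW
  have hunit : IsUnit (X.presheaf.germ W y hyW a) := by
    have h1 : X.presheaf.germ W y hyW a =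
        f.stalkMap y (Y.presheaf.germ U (f y) hyU s) := by
      rw [Scheme.Hom.germ_stalkMap_apply, ha, TopCat.Presheaf.germ_res_apply]
    rw [h1]
    apply IsUnit.map
    exact h y hyw _ (hs ⟨f y, hyU⟩)
  have h2 : X.presheaf.germ W y hyW b * X.presheaf.germ W y hyW a = 0 := by
    rw [← map_mul, hba, map_zero]
  exact (hunit.mul_left_eq_zero).1 h2

/-- Stacks 02OU-type statement: if every weakly associated point of `X` maps to a point of `Y`
without proper generizations, pullbacks of regular sections are regular. -/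
theorem app_mem_regSub_of_weakAss_generic {X Y : Scheme.{u}} (f : X ⟶ Y)
    (h : ∀ x : X, Curv2.IsWeakAssPoint (Coh.structureModule X) x → ∀ y : Y, y ⤳ f x → y = f x)
    (U : Y.Opens) (s : Γ(Y, U)) (hs : s ∈ Mero.regSub Y U) :
    f.app U s ∈ Mero.regSub X (f ⁻¹ᵁ U) :=
  app_mem_regSub_of_isUnit f
    (fun x hx a ha => isUnit_of_mem_nonZeroDivisors_of_generic (f x) (h x hx) a ha) U s hs

/-- In a local ring whose maximal ideal is the radical of an annihilator, nonzerodivisors are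
units. -/
theorem isUnit_of_mem_nonZeroDivisors_of_radical_ann {R : Type*} [CommRing R] [IsLocalRing R]
    (g : R) (hg : (WeakAss.ann R g).radical = maximalIdeal R) (a : R)
    (ha : a ∈ nonZeroDivisors R) : IsUnit a := by
  by_contra hnu
  have ham : a ∈ maximalIdeal R := (IsLocalRing.mem_maximalIdeal a).2 hnu
  rw [← hg] at ham
  obtain ⟨n, hn⟩ := ham
  rw [WeakAss.mem_ann, smul_eq_mul] at hn
  have h1 : a ^ n ∈ nonZeroDivisors R := pow_mem ha n
  have hg0 : g = 0 := (mem_nonZeroDivisors_iff_right.1 h1) g (by rw [mul_comm]; exact hn)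
  have htop : WeakAss.ann R g = ⊤ := by
    rw [hg0]; ext r; simp
  rw [htop, Ideal.radical_top] at hg
  exact (IsLocalRing.maximalIdeal.isMaximal _).ne_top hg.symm

end Groth.Agent.Lib.QCoh
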