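import Groth.Agent.Lib.QCoh.Helper18_SchDense
import Mathlib.AlgebraicGeometry.Morphisms.Separated

/-!
# Schematically dense opens and separated morphisms (helper18)

* `isIso_of_isClosedImmersion_of_isSchematicallyDense` : a closed immersion `i : E ⟶ X` through
  which a schematically dense open `U` factors is an isomorphism.
* `ext_of_isSchematicallyDense_of_isSeparated` : two morphisms `f g : X ⟶ Y` over `Z` with `Y ⟶ Z`
  separated that agree on a schematically dense open are equal.
* `isSchematicallyDense_of_regular_mem_maximalIdeal` : if for every `z ∉ U` the maximal ideal of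
  `O_{X,z}` contains a regular element, then `U` is schematically dense.
-/

universe u

open CategoryTheory CategoryTheory.Limits AlgebraicGeometry Opposite TopologicalSpace
open Groth.Agent.Lib.Helper18 IsLocalRing

namespace Groth.Agent.Lib.QCoh

theorem isIso_of_isClosedImmersion_of_isSchematicallyDense {X E : Scheme.{u}} (U : X.Opens)
    (hU : CInt.IsSchematicallyDense U) (i : E ⟶ X) [IsClosedImmersion i]
    (l : (U : Scheme.{u}) ⟶ E) (hl : l ≫ i = U.ι) : IsIso i := by
  rw [IsClosedImmersion.isIso_iff_ker_eq_bot]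
  apply Scheme.IdealSheafData.ext
  funext W
  rw [Scheme.Hom.ker_apply]
  change _ = ⊥
  rw [RingHom.ker_eq_bot_iff_eq_zero]
  intro a ha
  apply hU W.1
  rw [map_zero]
  have h2 : (l ≫ i).app W.1 a = 0 := by
    change (l.app (i ⁻¹ᵁ W.1)) ((i.app W.1) a) = 0
    rw [ha, map_zero]
  have h1 : U.ι.app W.1 a = 0 := by
    have := Scheme.Hom.congr_app hl.symm W.1
    rw [this, CommRingCat.comp_apply, h2, map_zero]
  have hle' : U.ι ''ᵁ U.ι ⁻¹ᵁ W.1 ≤ W.1 := Set.image_preimage_subset _ _
  have h1' : X.presheaf.map (homOfLE hle').op a = 0 := h1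
  have hle : W.1 ⊓ U ≤ U.ι ''ᵁ U.ι ⁻¹ᵁ W.1 := by
    rintro x ⟨hxW, hxU⟩
    exact ⟨⟨x, hxU⟩, hxW, rfl⟩
  have : X.presheaf.map (homOfLE (inf_le_left : W.1 ⊓ U ≤ W.1)).op a =
      X.presheaf.map (homOfLE hle).op (X.presheaf.map (homOfLE hle').op a) := by
    rw [← CommRingCat.comp_apply, ← Functor.map_comp]
    rfl
  rw [this, h1', map_zero]

set_option backward.isDefEq.respectTransparency false in
theorem ext_of_isSchematicallyDense_of_isSeparated {X Y Z : Scheme.{u}} (U : X.Opens)
    (hU : CInt.IsSchematicallyDense U) {f g : X ⟶ Y} (s : Y ⟶ Z) [IsSeparated s]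
    (h : f ≫ s = g ≫ s) (hfg : U.ι ≫ f = U.ι ≫ g) : f = g := by
  let X' : Over Z := Over.mk (f ≫ s)
  let Y' : Over Z := Over.mk s
  let U' : Over Z := Over.mk (U.ι ≫ f ≫ s)
  let f' : X' ⟶ Y' := Over.homMk f
  let g' : X' ⟶ Y' := Over.homMk g
  let ι' : U' ⟶ X' := Over.homMk U.ι
  have : IsSeparated Y'.hom := ‹_›
  have hcond : ι' ≫ f' = ι' ≫ g' := by
    ext1; exact hfg
  have hl : (equalizer.lift ι' hcond).left ≫ (equalizer.ι f' g').left = U.ι := by
    rw [← Over.comp_left, equalizer.lift_ι]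
    rfl
  have := isIso_of_isClosedImmersion_of_isSchematicallyDense U hU (equalizer.ι f' g').left
    (equalizer.lift ι' hcond).left hl
  rw [← cancel_epi (equalizer.ι f' g').left]
  exact congr($(equalizer.condition f' g').left)

theorem isSchematicallyDense_of_regular_mem_maximalIdeal {X : Scheme.{u}} (U : X.Opens)
    (hZ : ∀ z : X, z ∉ U → ∃ a ∈ IsLocalRing.maximalIdeal (X.presheaf.stalk z),
      IsSMulRegular (X.presheaf.stalk z) a) : CInt.IsSchematicallyDense U := by
  apply isSchematicallyDense_of_weakAss_subset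
  rintro x ⟨g, hg⟩
  by_contra hx
  obtain ⟨a, ha, hreg⟩ := hZ x hx
  rw [← hg] at ha
  obtain ⟨n, hn⟩ := ha
  rw [WeakAss.mem_ann] at hn
  have hg0 : g = 0 := by
    apply (hreg.pow n)
    change a ^ n • g = a ^ n • 0
    rw [hn, smul_zero]
  have htop : WeakAss.ann (X.presheaf.stalk x) g = ⊤ := by
    rw [hg0]; ext r; simp
  rw [htop, Ideal.radical_top] at hg
  exact (IsLocalRing.maximalIdeal.isMaximal _).ne_top hg.symm

end Groth.Agent.Lib.QCoh
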