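import Groth.Prelude
import Groth.Agent.Lib.QCoh.Helper18_SchDenseSep
import Groth.Agent.Lib.QCoh.Helper18_Generic

/-!
# Schematic density: restriction to opens, and extensionality for morphisms which agree pointwise

* `isSchematicallyDense_preimage_ι` : `U` schematically dense in `X` ⟹ `W ∩ U` schematically dense
  in the open subscheme `W`.
* `ext_of_isSchematicallyDense_of_forall_eq` : two morphisms `f g : X ⟶ Y` that agree on points and
  on a schematically dense open are equal (no separatedness needed).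
-/

universe u

open CategoryTheory CategoryTheory.Limits AlgebraicGeometry Opposite TopologicalSpace

namespace Groth.Agent.Lib.QCoh

theorem isSchematicallyDense_preimage_ι {X : Scheme.{u}} (U : X.Opens)
    (hU : CInt.IsSchematicallyDense U) (W : X.Opens) :
    CInt.IsSchematicallyDense (W.ι ⁻¹ᵁ U) := by
  intro V' a b hab
  have hle' : (W.ι ''ᵁ V') ⊓ U ≤ W.ι ''ᵁ (V' ⊓ W.ι ⁻¹ᵁ U) := by
    rintro x ⟨⟨y, hy, rfl⟩, hxU⟩
    exact ⟨y, ⟨hy, hxU⟩, rfl⟩
  have hle : W.ι ''ᵁ (V' ⊓ W.ι ⁻¹ᵁ U) ≤ W.ι ''ᵁ V' := by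
    rintro x ⟨y, hy, rfl⟩
    exact ⟨y, hy.1, rfl⟩
  obtain ⟨a', rfl⟩ : ∃ a' : Γ(X, W.ι ''ᵁ V'), a' = a := ⟨a, rfl⟩
  obtain ⟨b', rfl⟩ : ∃ b' : Γ(X, W.ι ''ᵁ V'), b' = b := ⟨b, rfl⟩
  have hab' : X.presheaf.map (homOfLE hle).op a' = X.presheaf.map (homOfLE hle).op b' := hab
  apply hU (W.ι ''ᵁ V')
  have h2 := congrArg (X.presheaf.map (homOfLE hle').op) hab'
  rw [res_res hle hle' a', res_res hle hle' b'] at h2
  exact h2

theorem ext_of_isSchematicallyDense_of_forall_eq {X Y : Scheme.{u}} (U : X.Opens)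
    (hU : CInt.IsSchematicallyDense U) {f g : X ⟶ Y} (hpt : ∀ x : X, f x = g x)
    (hfg : U.ι ≫ f = U.ι ≫ g) : f = g := by
  apply Scheme.hom_ext_of_forall
  intro x
  obtain ⟨V₀, hV0, hxV, -⟩ := Opens.isBasis_iff_nbhd.1 (Y.isBasis_affineOpens)
    (show f x ∈ (⊤ : Y.Opens) from trivial)
  obtain ⟨V, rfl⟩ : ∃ V : Y.Opens, V = V₀ := ⟨V₀, rfl⟩
  have hV : IsAffineOpen V := hV0
  refine ⟨f ⁻¹ᵁ V, hxV, ?_⟩
  set W : X.Opens := f ⁻¹ᵁ V with hW
  have hfr : Set.range (W.ι ≫ f) ⊆ Set.range V.ι := by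
    rintro _ ⟨w, rfl⟩
    rw [Scheme.Opens.range_ι]
    exact w.2
  have hgr : Set.range (W.ι ≫ g) ⊆ Set.range V.ι := by
    rintro _ ⟨w, rfl⟩
    rw [Scheme.Opens.range_ι]
    change g w.1 ∈ V
    rw [← hpt]
    exact w.2
  set fW : (W : Scheme.{u}) ⟶ V := IsOpenImmersion.lift V.ι (W.ι ≫ f) hfr with hfW
  set gW : (W : Scheme.{u}) ⟶ V := IsOpenImmersion.lift V.ι (W.ι ≫ g) hgr with hgW
  have hf1 : fW ≫ V.ι = W.ι ≫ f := IsOpenImmersion.lift_fac _ _ _
  have hg1 : gW ≫ V.ι = W.ι ≫ g := IsOpenImmersion.lift_fac _ _ _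
  have : IsAffine (V : Scheme.{u}) := hV
  have hdense := isSchematicallyDense_preimage_ι U hU W
  have key : fW = gW := by
    apply ext_of_isSchematicallyDense_of_isSeparated (W.ι ⁻¹ᵁ U) hdense (terminal.from _)
    · exact terminal.hom_ext _ _
    · rw [← cancel_mono V.ι, Category.assoc, Category.assoc, hf1, hg1]
      have h1 : (W.ι ⁻¹ᵁ U).ι ≫ W.ι = (W.ι ∣_ U) ≫ U.ι := (morphismRestrict_ι W.ι U).symm
      rw [reassoc_of% h1, reassoc_of% h1, hfg]
  rw [← hf1, ← hg1, key]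

end Groth.Agent.Lib.QCoh

namespace Groth.Agent.Lib.QCoh

theorem isSchematicallyDense_of_preimage_of_isIso {X' X : Scheme.{u}} (e : X' ⟶ X) [IsIso e]
    (U : X.Opens) (h : CInt.IsSchematicallyDense (e ⁻¹ᵁ U)) : CInt.IsSchematicallyDense U := by
  intro V a b hab
  have hinj : Function.Injective (e.app V) :=
    (ConcreteCategory.bijective_of_isIso (e.app V)).injective
  apply hinj
  apply h (e ⁻¹ᵁ V)
  have hnat : ∀ c : Γ(X, V),
      X'.presheaf.map (homOfLE (inf_le_left : e ⁻¹ᵁ V ⊓ e ⁻¹ᵁ U ≤ e ⁻¹ᵁ V)).op (e.app V c) =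
        e.app (V ⊓ U) (X.presheaf.map (homOfLE (inf_le_left : V ⊓ U ≤ V)).op c) := by
    intro c
    have := e.naturality (homOfLE (inf_le_left : V ⊓ U ≤ V)).op
    exact (congrArg (fun φ => φ.hom c) this).symm
  rw [hnat a, hnat b, hab]

end Groth.Agent.Lib.QCoh
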