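import Groth.Agent.Lib.QCoh.Helper50_Pullback
import Mathlib.AlgebraicGeometry.Morphisms.Affine

/-!
# QCoh API, part Q3 (helper50): functoriality of quasi-coherence — pushforwards

Namespace `Groth.Agent.Lib.QCoh`.
-/

universe u

open CategoryTheory CategoryTheory.Limits AlgebraicGeometry Opposite TopologicalSpace

namespace Groth.Agent.Lib.QCoh

/-- Pushforward along `Spec φ` preserves quasi-coherence. -/
theorem isQuasicoherent_pushforward_Spec {R S : CommRingCat.{u}} (φ : R ⟶ S)
    (M : (Spec S).Modules) [M.IsQuasicoherent] :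
    ((Scheme.Modules.pushforward (Spec.map φ)).obj M).IsQuasicoherent := by
  rw [isQuasicoherent_iff_isIso_fromTildeΓ]
  exact isIso_fromTildeΓ_pushforward φ M

variable {X Y : Scheme.{u}} (f : X ⟶ Y)

lemma pushforwardRestrict_ring_compat (V : Y.Opens) (W : V.toScheme.Opens) :
    (V.ι.appIso W).inv ≫ f.app (V.ι ''ᵁ W) ≫
      X.presheaf.map (eqToHom (image_morphismRestrict_preimage f V W)).op =
    (f ∣_ V).app W ≫ ((f ⁻¹ᵁ V).ι.appIso ((f ∣_ V) ⁻¹ᵁ W)).inv := by
  rw [morphismRestrict_app]
  simp only [Scheme.Opens.ι_appIso, Iso.refl_inv]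
  erw [Category.comp_id, Category.id_comp]

set_option backward.isDefEq.respectTransparency.types false in
set_option backward.defeqAttrib.useBackward true in
/-- Pushforward commutes with restriction to an open of the target:
`(f_* M)|_V ≅ (f|_{f⁻¹V})_* (M|_{f⁻¹ V})`. -/
noncomputable def pushforwardRestrictIso (V : Y.Opens) :
    Scheme.Modules.pushforward f ⋙ Scheme.Modules.restrictFunctor V.ι ≅
      Scheme.Modules.restrictFunctor (f ⁻¹ᵁ V).ι ⋙ Scheme.Modules.pushforward (f ∣_ V) :=
  letI := CategoryTheory.Functor.isContinuous_comp.{u} V.ι.opensFunctor (Opens.map f.base)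
    (Opens.grothendieckTopology V) (Opens.grothendieckTopology Y) (Opens.grothendieckTopology X)
  letI := CategoryTheory.Functor.isContinuous_comp.{u} (Opens.map (f ∣_ V).base)
    (f ⁻¹ᵁ V).ι.opensFunctor
    (Opens.grothendieckTopology V) (Opens.grothendieckTopology (f ⁻¹ᵁ V))
    (Opens.grothendieckTopology X)
  (SheafOfModules.pushforwardComp _ _) ≪≫
    SheafOfModules.pushforwardCongr₂ _ (NatIso.ofComponents
      (fun W ↦ eqToIso (image_morphismRestrict_preimage f V W)) fun _ ↦ rfl)
      (by
        ext W x
        exact congr($(pushforwardRestrict_ring_compat f V W.unop) x)) ≪≫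
    (SheafOfModules.pushforwardComp _ _).symm

/-- Pushforward along an isomorphism preserves quasi-coherence. -/
theorem isQuasicoherent_pushforward_of_isIso (e : X ⟶ Y) [IsIso e] (M : X.Modules)
    [M.IsQuasicoherent] : ((Scheme.Modules.pushforward e).obj M).IsQuasicoherent := by
  have : (((Scheme.Modules.pushforward e).obj M).restrict e).IsQuasicoherent :=
    isQuasicoherent_of_iso ((Scheme.Modules.restrictFunctorAdjCounitIso e).app M).symm ‹_›
  exact isQuasicoherent_of_restrict_iso e _

/-- Quasi-coherence can be tested after pushing forward along an isomorphism. -/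
theorem isQuasicoherent_of_pushforward_isIso (e : X ⟶ Y) [IsIso e] (M : X.Modules)
    [h : ((Scheme.Modules.pushforward e).obj M).IsQuasicoherent] : M.IsQuasicoherent := by
  have h2 := isQuasicoherent_pushforward_of_isIso (inv e) ((Scheme.Modules.pushforward e).obj M)
  refine isQuasicoherent_of_iso ?_ h2
  exact (Scheme.Modules.pushforwardComp e (inv e)).app M ≪≫
    (Scheme.Modules.pushforwardCongr (IsIso.hom_inv_id e)).app M ≪≫
    (Scheme.Modules.pushforwardId X).app M

/-- Pushforward along a morphism of affine schemes preserves quasi-coherence. -/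
theorem isQuasicoherent_pushforward_of_isAffine [IsAffine X] [IsAffine Y] (M : X.Modules)
    [M.IsQuasicoherent] : ((Scheme.Modules.pushforward f).obj M).IsQuasicoherent := by
  have h1 : ((Scheme.Modules.pushforward X.isoSpec.hom).obj M).IsQuasicoherent :=
    isQuasicoherent_pushforward_of_isIso _ M
  have h2 : ((Scheme.Modules.pushforward (Spec.map f.appTop)).obj
      ((Scheme.Modules.pushforward X.isoSpec.hom).obj M)).IsQuasicoherent :=
    isQuasicoherent_pushforward_Spec _ _
  have h3 : ((Scheme.Modules.pushforward Y.isoSpec.hom).obj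
      ((Scheme.Modules.pushforward f).obj M)).IsQuasicoherent := by
    refine isQuasicoherent_of_iso ?_ h2
    exact (Scheme.Modules.pushforwardComp X.isoSpec.hom (Spec.map f.appTop)).app M ≪≫
      (Scheme.Modules.pushforwardCongr (Scheme.isoSpec_hom_naturality f)).app M ≪≫
      ((Scheme.Modules.pushforwardComp f Y.isoSpec.hom).app M).symm
  exact isQuasicoherent_of_pushforward_isIso Y.isoSpec.hom _

/-- **Pushforward along an affine morphism preserves quasi-coherence.** -/
theorem isQuasicoherent_pushforward_of_isAffineHom [IsAffineHom f] (M : X.Modules)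
    [M.IsQuasicoherent] : ((Scheme.Modules.pushforward f).obj M).IsQuasicoherent := by
  refine isQuasicoherent_of_forall_affineOpens _ fun V => ?_
  have hV : IsAffine (V : Y.Opens) := V.2
  have hU : IsAffine (f ⁻¹ᵁ (V : Y.Opens)) := V.2.preimage f
  have h1 : ((Scheme.Modules.pushforward (f ∣_ (V : Y.Opens))).obj
      (M.restrict (f ⁻¹ᵁ (V : Y.Opens)).ι)).IsQuasicoherent :=
    isQuasicoherent_pushforward_of_isAffine _ _
  exact isQuasicoherent_of_iso ((pushforwardRestrictIso f V).app M).symm h1

end Groth.Agent.Lib.QCoh
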