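import Groth.Agent.Lib.QCoh.Helper50_ExtendScalars
import Groth.Agent.Lib.QCoh.AffineOpen

/-!
# QCoh API (helper18): sections of a pullback over affine opens

Namespace `Groth.Agent.Lib.QCoh`.  `f : X ⟶ S`, `G` quasi-coherent on `S`, `V ⊆ S` and
`U ⊆ f⁻¹ V` affine opens.

* `restrictSpecPullbackIso` : `(f^* G)|_{Spec Γ(X,U)} ≅ (Spec φ)^* (G|_{Spec Γ(S,V)})`,
  `φ = f.appLE V U e`.
* `pullbackΓLinearEquiv` : `Γ(f^* G, U) ≃ₗ[Γ(X,U)] Γ(X,U) ⊗[Γ(S,V)] Γ(G,V)`
  (abstract isomorphism; `Γ(X,U)` is a `Γ(S,V)`-algebra through `φ`).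
-/

universe u

open CategoryTheory CategoryTheory.Limits AlgebraicGeometry Opposite TopologicalSpace TensorProduct

namespace Groth.Agent.Lib.QCoh

open Scheme.Modules

variable {X S : Scheme.{u}} (f : X ⟶ S) (G : S.Modules)
  {V : S.Opens} (hV : IsAffineOpen V) {U : X.Opens} (hU : IsAffineOpen U) (e : U ≤ f ⁻¹ᵁ V)

/-- `(f^* G)|_{Spec Γ(X,U)} ≅ (Spec φ)^* (G|_{Spec Γ(S,V)})`. -/
noncomputable def restrictSpecPullbackIso :
    restrictSpec hU ((Scheme.Modules.pullback f).obj G) ≅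
      (Scheme.Modules.pullback (Spec.map (f.appLE V U e))).obj (restrictSpec hV G) :=
  (Scheme.Modules.restrictFunctorIsoPullback hU.fromSpec).app _ ≪≫
    (Scheme.Modules.pullbackComp hU.fromSpec f).app G ≪≫
    (Scheme.Modules.pullbackCongr (IsAffineOpen.SpecMap_appLE_fromSpec f hV hU e).symm).app G ≪≫
    ((Scheme.Modules.pullbackComp (Spec.map (f.appLE V U e)) hV.fromSpec).app G).symm ≪≫
    (Scheme.Modules.pullback (Spec.map (f.appLE V U e))).mapIso
      ((Scheme.Modules.restrictFunctorIsoPullback hV.fromSpec).app G).symm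

variable [G.IsQuasicoherent]

/-- Sections of `f^* G` over `Spec Γ(X,U)` as an extension of scalars (iso in `ModuleCat Γ(X,U)`). -/
noncomputable def pullbackΓIso :
    moduleSpecΓFunctor.obj (restrictSpec hU ((Scheme.Modules.pullback f).obj G)) ≅
      (ModuleCat.extendScalars (f.appLE V U e).hom).obj
        (moduleSpecΓFunctor.obj (restrictSpec hV G)) :=
  moduleSpecΓFunctor.mapIso (restrictSpecPullbackIso f G hV hU e ≪≫
    (Scheme.Modules.pullback (Spec.map (f.appLE V U e))).mapIso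
      (asIso (restrictSpec hV G).fromTildeΓ).symm ≪≫
    pullbackTildeIso (f.appLE V U e) _) ≪≫
  (tilde.toTildeΓNatIso.app _).symm

/-- **Sections of a pullback over affine opens**: for `G` quasi-coherent, `V ⊆ S`, `U ⊆ f⁻¹ V`
affine opens, `Γ(f^* G, U) ≃ Γ(X,U) ⊗[Γ(S,V)] Γ(G,V)` as `Γ(X,U)`-modules. -/
noncomputable def pullbackΓLinearEquiv :
    letI : Algebra Γ(S, V) Γ(X, U) := (f.appLE V U e).hom.toAlgebra
    Γ((Scheme.Modules.pullback f).obj G, U) ≃ₗ[Γ(X, U)] Γ(X, U) ⊗[Γ(S, V)] Γ(G, V) :=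
  letI : Algebra Γ(S, V) Γ(X, U) := (f.appLE V U e).hom.toAlgebra
  (ΓrestrictSpecLinearEquiv hU ((Scheme.Modules.pullback f).obj G)).symm ≪≫ₗ
    (pullbackΓIso f G hV hU e).toLinearEquiv ≪≫ₗ
    (extendScalarsIso Γ(S, V) Γ(X, U) Γ(restrictSpec hV G, ⊤)).toLinearEquiv ≪≫ₗ
    TensorProduct.AlgebraTensorModule.congr (LinearEquiv.refl Γ(X, U) Γ(X, U))
      (ΓrestrictSpecLinearEquiv hV G)

end Groth.Agent.Lib.QCoh
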