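import Groth.Agent.Lib.QCoh.OmegaAlg
import Groth.Agent.Lib.QCoh.Helper18_PullbackAffine
import Groth.Agent.Lib.QCoh.Helper50_Pushforward
import Groth.Agent.Lib.QCoh.Invertible
import Groth.Agent.Lib.QCoh.Local
import Groth.Prelude.Def_Omega2

universe u
open CategoryTheory CategoryTheory.Limits AlgebraicGeometry Opposite TopologicalSpace TensorProduct

namespace Groth.Agent.Lib.QCoh

open Scheme.Modules

section idealMod

variable {X : Scheme.{u}} (I : X.IdealSheafData)

instance isQuasicoherent_structureModule (X : Scheme.{u}) :
    (Coh.structureModule X).IsQuasicoherent :=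
  (exists_presentation_structureModule X).choose.isQuasicoherent

instance : (ClSub.quotMod I).IsQuasicoherent :=
  isQuasicoherent_pushforward_of_isAffineHom I.subschemeι _

instance isQuasicoherent_idealMod : (ClSub.idealMod I).IsQuasicoherent :=
  isQuasicoherent_kernel (ClSub.toSubscheme I)

end idealMod

section kernelSections

variable {X : Scheme.{u}} {M N : X.Modules} (φ : M ⟶ N) (U : X.Opens)

/-- the sections functor over an open -/
noncomputable abbrev sectionsFunctor (X : Scheme.{u}) (U : X.Opens) : X.Modules ⥤ Ab :=
  Scheme.Modules.toPresheaf X ⋙ (evaluation _ _).obj (op U)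

instance : (sectionsFunctor X U).PreservesZeroMorphisms := ⟨fun _ _ => rfl⟩

instance : PreservesFiniteLimits (sectionsFunctor X U) := by
  have : PreservesFiniteLimits ((evaluation (Opens X)ᵒᵖ Ab.{u}).obj (op U)) := inferInstance
  exact comp_preservesFiniteLimits _ _

/-- a section killed by `φ` comes from a section of `kernel φ` -/
lemma exists_kernel_section (m : Γ(M, U)) (hm : φ.app U m = 0) :
    ∃ s : Γ(kernel φ, U), (kernel.ι φ).app U s = m := by
  have hS : (ShortComplex.mk (kernel.ι φ) φ (kernel.condition φ)).Exact :=
    ShortComplex.exact_kernel φ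
  have hG := hS.map_of_mono_of_preservesKernel (sectionsFunctor X U) inferInstance inferInstance
  rw [ShortComplex.ab_exact_iff] at hG
  exact hG m hm

/-- `φ.app U` as a `Γ(X,U)`-linear map -/
noncomputable def appLin : Γ(M, U) →ₗ[Γ(X, U)] Γ(N, U) where
  toFun := φ.app U
  map_add' := map_add _
  map_smul' := fun r x => Scheme.Modules.Hom.app_smul φ r x

/-- **sections of a kernel are the kernel of the map on sections** -/
noncomputable def kernelΓEquiv : Γ(kernel φ, U) ≃ₗ[Γ(X, U)] LinearMap.ker (appLin φ U) :=
  LinearEquiv.ofBijective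
    (LinearMap.codRestrict (LinearMap.ker (appLin φ U)) (appLin (kernel.ι φ) U) (fun s => by
      change φ.app U ((kernel.ι φ).app U s) = 0
      rw [← ConcreteCategory.comp_apply, ← Scheme.Modules.Hom.comp_app, kernel.condition]
      rfl))
    ⟨fun s t h => app_injective_of_mono (kernel.ι φ) U (congrArg Subtype.val h),
     fun ⟨m, hm⟩ => by
      obtain ⟨s, hs⟩ := exists_kernel_section φ U m hm
      exact ⟨s, Subtype.ext hs⟩⟩

end kernelSections

end Groth.Agent.Lib.QCoh
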