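import Groth.Agent.Lib.QCoh.Helper50_Products
import Mathlib.CategoryTheory.Limits.FullSubcategory

/-!
# QCoh API (helper24): colimits and direct sums of quasi-coherent modules

Namespace `Groth.Agent.Lib.QCoh`.

* `isQuasicoherent_colimit_Spec`, `isQuasicoherent_colimit_of_isAffine`
* `isQuasicoherent_colimit` : the colimit of a (`u`-small) diagram of quasi-coherent modules on any
  scheme is quasi-coherent (in particular filtered colimits and cokernels).
* `isQuasicoherent_of_isColimit` : same for any colimit cocone.
* `isQuasicoherent_sigma` : arbitrary (`u`-small) direct sums of quasi-coherent modules.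
* instance `isClosedUnderColimitsOfShape_isQuasicoherent`.
-/

universe u

open CategoryTheory CategoryTheory.Limits AlgebraicGeometry Opposite TopologicalSpace

namespace Groth.Agent.Lib.QCoh

variable {X Y : Scheme.{u}} {J : Type u} [SmallCategory J]

/-- Colimits of quasi-coherent modules on `Spec R` are quasi-coherent. -/
theorem isQuasicoherent_colimit_Spec {R : CommRingCat.{u}} (F : J ⥤ (Spec R).Modules)
    (h : ∀ j, (F.obj j).IsQuasicoherent) : (colimit F).IsQuasicoherent := by
  have hh := essImage_tilde (R := R)
  have h' : ∀ j, (tilde.functor R).essImage (F.obj j) := fun j => by rw [hh]; exact h j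
  have := ObjectProperty.prop_colimit (tilde.functor R).essImage F h'
  rw [hh] at this
  exact this

open Scheme.Modules in
/-- Colimits of quasi-coherent modules on an affine scheme are quasi-coherent. -/
theorem isQuasicoherent_colimit_of_isAffine [IsAffine Y] (F : J ⥤ Y.Modules)
    (h : ∀ j, (F.obj j).IsQuasicoherent) : (colimit F).IsQuasicoherent := by
  have : ((colimit F).restrict Y.isoSpec.inv).IsQuasicoherent := by
    refine isQuasicoherent_of_iso
      (preservesColimitIso (restrictFunctor Y.isoSpec.inv) F).symm
      (isQuasicoherent_colimit_Spec (F ⋙ restrictFunctor Y.isoSpec.inv) fun j => ?_)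
    have := h j
    exact isQuasicoherent_restrict Y.isoSpec.inv (F.obj j)
  exact isQuasicoherent_of_restrict_iso Y.isoSpec.inv _

open Scheme.Modules in
/-- **Colimits of quasi-coherent modules are quasi-coherent** (any scheme, any `u`-small shape). -/
theorem isQuasicoherent_colimit (F : J ⥤ X.Modules) (h : ∀ j, (F.obj j).IsQuasicoherent) :
    (colimit F).IsQuasicoherent := by
  refine isQuasicoherent_of_forall_affineOpens _ fun U => ?_
  have : IsAffine (U : X.Opens) := U.2
  refine isQuasicoherent_of_iso
    (preservesColimitIso (restrictFunctor (U : X.Opens).ι) F).symm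
    (isQuasicoherent_colimit_of_isAffine (F ⋙ restrictFunctor (U : X.Opens).ι) fun j => ?_)
  have := h j
  exact isQuasicoherent_restrict (U : X.Opens).ι (F.obj j)

/-- The point of any colimit cocone over a diagram of quasi-coherent modules is quasi-coherent. -/
theorem isQuasicoherent_of_isColimit {F : J ⥤ X.Modules} {c : Cocone F} (hc : IsColimit c)
    (h : ∀ j, (F.obj j).IsQuasicoherent) : c.pt.IsQuasicoherent :=
  isQuasicoherent_of_iso ((colimit.isColimit F).coconePointUniqueUpToIso hc)
    (isQuasicoherent_colimit F h)

/-- **Direct sums of quasi-coherent modules are quasi-coherent.** -/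
theorem isQuasicoherent_sigma {ι : Type u} (M : ι → X.Modules)
    (h : ∀ i, (M i).IsQuasicoherent) : (∐ M).IsQuasicoherent :=
  isQuasicoherent_colimit (Discrete.functor M) fun j => h j.as

instance isClosedUnderColimitsOfShape_isQuasicoherent :
    (SheafOfModules.isQuasicoherent X.ringCatSheaf).IsClosedUnderColimitsOfShape J :=
  .mk' (by
    rintro _ ⟨F, hF⟩
    exact isQuasicoherent_colimit F hF)

end Groth.Agent.Lib.QCoh
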