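import Groth.Agent.Lib.QCoh.Tensor
import Mathlib.Algebra.Category.ModuleCat.Presheaf.Colimits
import Mathlib.Algebra.Category.ModuleCat.Monoidal.Closed

/-!
# QCoh API / TENSOR (lead): `- ⊗ G` preserves colimits (right exactness, direct sums)

* `preservesColimitsOfShape_tensorRight_presheaf` : sectionwise tensor of presheaves of modules
  preserves colimits in each variable
* `preservesColimitsOfShape_reflective_comp` : abstract lemma for reflective localizations
* `tensorRightFunctor G : X.Modules ⥤ X.Modules`, `M ↦ tensorMod M G`, with instances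
  `PreservesColimitsOfSize.{u,u}`, `PreservesFiniteColimits`, `Additive`
* `tensorModCokernelIso`, `epi_tensorModMap_id`, `tensorRightFunctor_map_exact`
-/

universe u v₁ u₁
open CategoryTheory MonoidalCategory Opposite Limits

namespace Groth.Agent.Lib.QCoh

section PresheafLevel

variable {C : Type u₁} [Category.{v₁} C] {R : Cᵒᵖ ⥤ CommRingCat.{u}}

instance (A : Type u) [CommRing A] (K : ModuleCat.{u} A) : PreservesColimits (tensorRight K) :=
  preservesColimits_of_natIso (BraidedCategory.tensorLeftIsoTensorRight K)

/-- tensoring on the right preserves colimits of presheaves of modules -/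
instance preservesColimitsOfShape_tensorRight_presheaf
    (K : PresheafOfModules.{u} (R ⋙ forget₂ _ _)) (J : Type u) [SmallCategory J] :
    PreservesColimitsOfShape J (tensorRight K) := by
  constructor
  intro F
  constructor
  intro c hc
  constructor
  refine PresheafOfModules.evaluationJointlyReflectsColimits _ _ (fun V => ?_)
  have h1 : IsColimit ((PresheafOfModules.evaluation _ V).mapCocone c) :=
    isColimitOfPreserves _ hc
  have h2 := isColimitOfPreserves (tensorRight (K.obj V)) h1
  exact h2

end PresheafLevel

section Abstract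

universe w₁ w₂ w₃ t₁ t₂ t₃
variable {C : Type t₁} {D : Type t₂} {E : Type t₃} [Category.{w₁} C] [Category.{w₂} D]
  [Category.{w₃} E]
  {L : C ⥤ D} {R : D ⥤ C} (adj : L ⊣ R) [R.Full] [R.Faithful] (Φ : C ⥤ E)

/-- If `Φ` inverts the unit of a reflective adjunction `L ⊣ R`, then `L ⋙ R ⋙ Φ ≅ Φ`. -/
noncomputable def reflectiveCompIso (hΦ : ∀ P : C, IsIso (Φ.map (adj.unit.app P : P ⟶ R.obj (L.obj P)))) :
    L ⋙ R ⋙ Φ ≅ Φ :=
  (NatIso.ofComponents (F := Φ) (G := L ⋙ R ⋙ Φ)
    (fun P => @asIso _ _ _ _ (Φ.map (adj.unit.app P : P ⟶ R.obj (L.obj P))) (hΦ P))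
    (fun {P Q} f => by
      dsimp
      rw [← Φ.map_comp, ← Φ.map_comp]
      congr 1
      exact adj.unit.naturality f)).symm

/-- If `Φ` preserves colimits of shape `J` and inverts the unit of the reflective adjunction
`L ⊣ R`, then `R ⋙ Φ` preserves colimits of shape `J`. -/
theorem preservesColimitsOfShape_reflective_comp {J : Type*} [Category J]
    [HasColimitsOfShape J C] [PreservesColimitsOfShape J Φ]
    (hΦ : ∀ P : C, IsIso (Φ.map (adj.unit.app P : P ⟶ R.obj (L.obj P)))) :
    PreservesColimitsOfShape J (R ⋙ Φ) := by
  have : PreservesColimitsOfShape J L := adj.leftAdjoint_preservesColimits.preservesColimitsOfShape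
  have hLΨ : PreservesColimitsOfShape J (L ⋙ R ⋙ Φ) :=
    preservesColimitsOfShape_of_natIso (reflectiveCompIso adj Φ hΦ).symm
  constructor
  intro F
  -- `F ≅ (F ⋙ R) ⋙ L`
  have : IsIso adj.counit := inferInstance
  let e : (F ⋙ R) ⋙ L ≅ F :=
    Functor.associator _ _ _ ≪≫ Functor.isoWhiskerLeft F (asIso adj.counit) ≪≫ F.rightUnitor
  have h1 : PreservesColimit (F ⋙ R) (L ⋙ R ⋙ Φ) := inferInstance
  have h2 : PreservesColimit ((F ⋙ R) ⋙ L) (R ⋙ Φ) := by
    refine preservesColimit_of_preserves_colimit_cocone
      (isColimitOfPreserves L (colimit.isColimit (F ⋙ R))) ?_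
    exact isColimitOfPreserves (L ⋙ R ⋙ Φ) (colimit.isColimit (F ⋙ R))
  exact preservesColimit_of_iso_diagram _ e

end Abstract

section Scheme

open AlgebraicGeometry CohB1

variable {X : Scheme.{u}}

instance : (shf X).IsLeftAdjoint := (shfAdj X).isLeftAdjoint

/-- `- ⊗ G` as a functor on `X.Modules` -/
noncomputable def tensorRightFunctor (G : X.Modules) : X.Modules ⥤ X.Modules :=
  incl X ⋙ tensorRight ((incl X).obj G) ⋙ shf X

lemma tensorRightFunctor_obj (M G : X.Modules) :
    (tensorRightFunctor G).obj M = tensorMod M G := rfl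

lemma tensorRightFunctor_map {M M' : X.Modules} (f : M ⟶ M') (G : X.Modules) :
    (tensorRightFunctor G).map f = tensorModMap f (𝟙 G) := by
  rw [tensorModMap_def, (incl X).map_id, tensorHom_id]
  rfl

/-- **`- ⊗ G` preserves (small) colimits**: in particular it is right exact and commutes with
direct sums. -/
instance preservesColimitsOfShape_tensorRightFunctor (G : X.Modules) (J : Type u)
    [SmallCategory J] : PreservesColimitsOfShape J (tensorRightFunctor G) :=
  preservesColimitsOfShape_reflective_comp (shfAdj X)
    (tensorRight ((incl X).obj G) ⋙ shf X)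
    (fun P => (WX_iff_isIso X _).1 ((WX X).whiskerRight_mem _ (WX_unit P) _))

instance preservesColimits_tensorRightFunctor (G : X.Modules) :
    PreservesColimitsOfSize.{u, u} (tensorRightFunctor G) where
  preservesColimitsOfShape := inferInstance

instance (G : X.Modules) : PreservesFiniteColimits (tensorRightFunctor G) :=
  PreservesColimitsOfSize.preservesFiniteColimits _

instance (G : X.Modules) : (tensorRightFunctor G).Additive :=
  have := Limits.preservesBinaryBiproducts_of_preservesBinaryCoproducts (tensorRightFunctor G)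
  Functor.additive_of_preservesBinaryBiproducts _

instance (G : X.Modules) : (tensorRightFunctor G).PreservesEpimorphisms :=
  have : PreservesColimitsOfShape WalkingSpan (tensorRightFunctor G) :=
    (inferInstance : PreservesFiniteColimits (tensorRightFunctor G)).preservesFiniteColimits _
  preservesEpimorphisms_of_preservesColimitsOfShape _

/-- `(coker f) ⊗ G ≅ coker (f ⊗ G)`. -/
noncomputable def tensorModCokernelIso {M M' : X.Modules} (f : M ⟶ M') (G : X.Modules) :
    tensorMod (cokernel f) G ≅ cokernel (tensorModMap f (𝟙 G)) :=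
  PreservesCokernel.iso (tensorRightFunctor G) f ≪≫
    cokernel.mapIso _ _ (Iso.refl _) (Iso.refl _) (by
      simp only [Iso.refl_hom, Category.comp_id, Category.id_comp]
      exact tensorRightFunctor_map f G)

/-- Tensoring preserves epimorphisms. -/
theorem epi_tensorModMap_id {M M' : X.Modules} (f : M ⟶ M') [Epi f] (G : X.Modules) :
    Epi (tensorModMap f (𝟙 G)) := by
  rw [← tensorRightFunctor_map]
  exact (tensorRightFunctor G).map_epi f

/-- Tensoring is right exact: an exact sequence `M' → M → M'' → 0` stays exact after `- ⊗ G`. -/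
theorem tensorRightFunctor_map_exact (S : ShortComplex X.Modules) (hS : S.Exact) [Epi S.g]
    (G : X.Modules) : (S.map (tensorRightFunctor G)).Exact ∧ Epi (S.map (tensorRightFunctor G)).g :=
  ⟨hS.map_of_epi_of_preservesCokernel _ inferInstance inferInstance,
    (tensorRightFunctor G).map_epi S.g⟩

end Scheme

end Groth.Agent.Lib.QCoh
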