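import Groth.Agent.Lib.QCoh.helper5_FTColim
import Mathlib.CategoryTheory.Abelian.GrothendieckCategory.Subobject
import Mathlib.CategoryTheory.Sites.LocallySurjective

/-!
# Cohomology classes of quasi-coherent modules on qcqs schemes come from finite type
quasi-coherent submodules (helper5)

`FTColim.exists_ft_sub_of_HH`.
-/

set_option autoImplicit false
universe u
open CategoryTheory CategoryTheory.Limits AlgebraicGeometry Opposite TopologicalSpace

namespace Groth.Agent.Lib.QCoh.FTColim

open Groth.Agent.Lib.QCoh.Glue74 Groth.Agent.Lib.QCoh Groth.Agent.Lib.QCoh.SubExt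
open Groth.Agent.Lib.Cohomology

variable {X : Scheme.{u}} [CompactSpace X] [QuasiSeparatedSpace X] (G : X.Modules)
  [G.IsQuasicoherent]

instance : IsFiltered (Finset (P G)) := by
  classical
  infer_instance

/-- the diagram of underlying abelian sheaves -/
noncomputable def DD' : Finset (P G) ⥤ Sheaf (Opens.grothendieckTopology X) AddCommGrpCat.{u} :=
  DD G ⋙ HHLES.toAbF X

noncomputable def αα : DD' G ⟶ (Functor.const _).obj (Coh.toAb G) where
  app A := (HHLES.toAbF X).map (inclA G A)
  naturality A B f := by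
    have h := congrArg (fun φ => (HHLES.toAbF X).map φ) (mapAB_inclA G (leOfHom f))
    simp only [Functor.map_comp] at h
    dsimp only [DD', Functor.comp_map, Functor.const_obj_map, Functor.const_obj_obj]
    rw [Category.comp_id]
    exact h

noncomputable def ff : colimit (DD' G) ⟶ Coh.toAb G :=
  colimit.desc (DD' G) ⟨Coh.toAb G, αα G⟩

lemma ι_ff (A : Finset (P G)) :
    colimit.ι (DD' G) A ≫ ff G = (HHLES.toAbF X).map (inclA G A) :=
  colimit.ι_desc _ _

attribute [local instance] IsFiltered.isConnected in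
instance mono_ff : Mono (ff G) := by
  have h1 : ∀ A, Mono ((αα G).app A) := fun A =>
    inferInstanceAs (Mono ((HHLES.toAbF X).map (inclA G A)))
  have : Mono (αα G) := NatTrans.mono_of_mono_app _
  refine colim.map_mono' (αα G) (colimit.isColimit _) (isColimitConstCocone _ _) (ff G) ?_
  intro A
  exact (ι_ff G A).trans (Category.comp_id _).symm

instance epi_ff : Epi (ff G) := by
  have : Sheaf.IsLocallySurjective (ff G) := by
    constructor
    intro W s x hx
    obtain ⟨U, hU, hxU, hUW⟩ := exists_isAffineOpen_mem_and_subset (x := x) (U := W) hx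
    let p : P G := ⟨⟨U, hU⟩, res G hUW s⟩
    obtain ⟨y, hy⟩ := (SubFam.mem_sec_iff (NA G {p}) (NA_isLocal G {p}) p.2).mp (NA_mem G p)
    refine ⟨U, homOfLE hUW, ⟨((colimit.ι (DD' G) {p}).hom.app (op U)) y, ?_⟩, hxU⟩
    have h1 := congrArg (fun φ => (φ.hom.app (op U)) y) (ι_ff G {p})
    exact h1.trans hy
  infer_instance

instance isIso_ff : IsIso (ff G) := isIso_of_mono_of_epi _

/-- On a quasi-compact quasi-separated scheme, every cohomology class of a quasi-coherent module
`G` comes from a quasi-coherent submodule of finite type of `G`. -/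
theorem exists_ft_sub_of_HH (n : ℕ) (ξ : Coh.HH X G n) :
    ∃ (F : X.Modules) (i : F ⟶ G), Mono i ∧ F.IsQuasicoherent ∧ F.IsFiniteType ∧
      ∃ ξ' : Coh.HH X F n, HHLES.hmap i n ξ' = ξ := by
  have : PrespectralSpace ↑X.toTopCat := inferInstanceAs (PrespectralSpace X)
  have : CompactSpace ↑X.toTopCat := inferInstanceAs (CompactSpace X)
  have : QuasiSeparatedSpace ↑X.toTopCat := inferInstanceAs (QuasiSeparatedSpace X)
  let H := Sheaf.functorH (Opens.grothendieckTopology X) n
  have : PreservesColimit (DD' G) H := HSigma.preservesColimit_functorH X.toTopCat n (DD' G)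
  have hc := isColimitOfPreserves H (colimit.isColimit (DD' G))
  let y : H.obj (colimit (DD' G)) := Sheaf.H.map (inv (ff G)) n ξ
  obtain ⟨A, yA, hyA⟩ := Concrete.isColimit_exists_rep (DD' G ⋙ H) hc y
  refine ⟨FA G A, inclA G A, inferInstance, FA_isQuasicoherent G A, FA_isFiniteType G A, yA, ?_⟩
  have h1 : Sheaf.H.map (colimit.ι (DD' G) A) n yA = y := hyA
  have h2 : HHLES.hmap (inclA G A) n yA =
      Sheaf.H.map (ff G) n (Sheaf.H.map (colimit.ι (DD' G) A) n yA) := by
    rw [← Sheaf.H.map_comp_apply, ι_ff]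
    rfl
  rw [h2, h1]
  show Sheaf.H.map (ff G) n (Sheaf.H.map (inv (ff G)) n ξ) = ξ
  rw [← Sheaf.H.map_comp_apply, IsIso.inv_hom_id, Sheaf.H.map_id_apply]

end Groth.Agent.Lib.QCoh.FTColim
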