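import Groth.Agent.Lib.QCoh.Helper74_LocFreeStalk

/-!
# QCoh API (helper74): relative flatness `FlatMod.IsFlatOver(At)` — affine dictionary

Namespace `Groth.Agent.Lib.QCoh`.

For `f : X ⟶ S`, `F` quasi-coherent on `X`, `U ⊆ S`, `V ⊆ X` affine opens with `V ≤ f ⁻¹ᵁ U`, the
sections `Γ(F, V)` are a `Γ(S, U)`-module through `f.appLE U V e` (`sectionsModuleOver`, a
reducible def, *not* an instance).

* `flat_of_isLocalizedModule_of_flat` (algebra): a localisation of an `R`-flat `S`-module is `R`-flat.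
* `flat_of_forall_maximal_localizedModule` (algebra): `R`-flatness of an `S`-module can be checked
  on the localisations at the maximal ideals of `S`.
* `isFlatOverAt_of_flat_Γ`: `Γ(F, V)` flat over `Γ(S, U)` ⟹ `F` flat over `S` at the points of `V`.
* `flat_Γ_of_forall_isFlatOverAt`: the converse.
* `isFlatOver_iff_forall_affine`, `isFlatOver_of_forall_exists_affine`.
-/

universe u

open CategoryTheory CategoryTheory.Limits AlgebraicGeometry Opposite TopologicalSpace

namespace Groth.Agent.Lib.QCoh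

open Scheme.Modules FlatMod TensorProduct

section Algebra

/-- A localisation (as an `S`-module) of an `R`-flat module is `R`-flat. -/
theorem flat_of_isLocalizedModule_of_flat {R S M Mₚ : Type*} [CommRing R] [CommRing S]
    [Algebra R S] [AddCommGroup M] [Module R M]
    [Module S M] [IsScalarTower R S M] [AddCommGroup Mₚ] [Module R Mₚ] [Module S Mₚ]
    [IsScalarTower R S Mₚ] (p : Submonoid S) (f : M →ₗ[S] Mₚ)
    [IsLocalizedModule p f] [Module.Flat R M] : Module.Flat R Mₚ := by
  rw [Module.Flat.iff_lTensor_injectiveₛ]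
  intro P _ _ N
  have h : Function.Injective (N.subtype.lTensor M) :=
    Module.Flat.lTensor_preserves_injective_linearMap _ Subtype.val_injective
  rw [← AlgebraTensorModule.coe_lTensor (A := S)] at h ⊢
  rw [← IsLocalizedModule.map_lTensor (S := p) (f := N.subtype) (g := f)]
  exact IsLocalizedModule.map_injective p _ _ _ h

/-- `R`-flatness of an `S`-module `M` can be checked on the localisations of `M` at the maximal
ideals of `S` (given as arbitrary localised modules, possibly in another universe). -/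
theorem flat_of_forall_maximal_exists_isLocalizedModule {R S M : Type*} [CommRing R] [CommRing S]
    [Algebra R S] [AddCommGroup M] [Module R M] [Module S M] [IsScalarTower R S M]
    (H : ∀ (P : Ideal S) [P.IsMaximal], ∃ (N : Type u) (_ : AddCommGroup N) (_ : Module R N)
      (_ : Module S N) (_ : IsScalarTower R S N) (g : M →ₗ[S] N),
      IsLocalizedModule P.primeCompl g ∧ Module.Flat R N) : Module.Flat R M := by
  refine Module.flat_of_isLocalized_maximal S M (fun P _ => LocalizedModule P.primeCompl M)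
    (fun P _ => LocalizedModule.mkLinearMap P.primeCompl M) fun P hP => ?_
  obtain ⟨N, _, _, _, _, g, hg, hN⟩ := H P
  exact Module.Flat.of_linearEquiv
    ((IsLocalizedModule.iso P.primeCompl g).restrictScalars R)

end Algebra

variable {X S : Scheme.{u}}

/-- `Γ(F, V)` as a module over `Γ(S, U)` for `V ≤ f ⁻¹ᵁ U`, through `f.appLE U V e`. -/
@[reducible] noncomputable def sectionsModuleOver (f : X ⟶ S) (F : X.Modules) {U : S.Opens}
    {V : X.Opens} (e : V ≤ f ⁻¹ᵁ U) : Module Γ(S, U) Γ(F, V) :=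
  Module.compHom Γ(F, V) (f.appLE U V e).hom

section Geom

variable (f : X ⟶ S) (F : X.Modules) {U : S.Opens} {V : X.Opens} (e : V ≤ f ⁻¹ᵁ U)

lemma germ_appLE_apply (x : X) (hx : x ∈ V) (a : Γ(S, U)) :
    X.presheaf.germ V x hx (f.appLE U V e a) =
      f.stalkMap x (S.presheaf.germ U (f x) (e hx) a) := by
  rw [Scheme.Hom.germ_stalkMap_apply, Scheme.Hom.appLE]
  simp [X.presheaf.germ_res_apply]

/-- If `Γ(F, V)` is flat over `Γ(S, U)` (`U`, `V` affine, `V ≤ f ⁻¹ᵁ U`, `F` quasi-coherent), then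
`F` is flat over `S` at the points of `V`. -/
theorem isFlatOverAt_of_flat_Γ [F.IsQuasicoherent] (hU : IsAffineOpen U) (hV : IsAffineOpen V)
    (x : X) (hx : x ∈ V)
    (h : letI := sectionsModuleOver f F e; Module.Flat Γ(S, U) Γ(F, V)) :
    IsFlatOverAt f F x := by
  let _ := sectionsModuleOver f F e
  let _ : Algebra Γ(S, U) Γ(X, V) := (f.appLE U V e).hom.toAlgebra
  have : IsScalarTower Γ(S, U) Γ(X, V) Γ(F, V) := .of_algebraMap_smul fun _ _ => rfl
  let _ := stalkModuleOfOpen F V x hx
  let _ : Module Γ(S, U) (F.presheaf.stalk x) := Module.compHom _ (algebraMap Γ(S, U) Γ(X, V))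
  have : IsScalarTower Γ(S, U) Γ(X, V) (F.presheaf.stalk x) :=
    .of_algebraMap_smul fun _ _ => rfl
  let _ := moduleStalkOver f F x
  let _ := S.presheaf.algebra_section_stalk ⟨f x, e hx⟩
  have : IsScalarTower Γ(S, U) (S.presheaf.stalk (f x)) (F.presheaf.stalk x) :=
    .of_algebraMap_smul fun a m => by
      change (f.stalkMap x (S.presheaf.germ U (f x) (e hx) a)) • m =
        (X.presheaf.germ V x hx (f.appLE U V e a)) • m
      rw [germ_appLE_apply]
  have := isLocalizedModule_germ F hV x hx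
  have hflat : Module.Flat Γ(S, U) (F.presheaf.stalk x) :=
    flat_of_isLocalizedModule_of_flat (hV.primeIdealOf ⟨x, hx⟩).asIdeal.primeCompl
      (germₗ F V x hx)
  have := hU.isLocalization_stalk ⟨f x, e hx⟩
  exact (Module.flat_iff_of_isLocalization (S.presheaf.stalk (f x))
    (hU.primeIdealOf ⟨f x, e hx⟩).asIdeal.primeCompl _).2 hflat

/-- If a quasi-coherent `F` is flat over `S` at all points of an affine open `V ≤ f ⁻¹ᵁ U`
(`U` affine), then `Γ(F, V)` is a flat `Γ(S, U)`-module. -/
theorem flat_Γ_of_forall_isFlatOverAt [F.IsQuasicoherent] (hU : IsAffineOpen U)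
    (hV : IsAffineOpen V) (h : ∀ y ∈ V, IsFlatOverAt f F y) :
    letI := sectionsModuleOver f F e; Module.Flat Γ(S, U) Γ(F, V) := by
  let _ := sectionsModuleOver f F e
  let _ : Algebra Γ(S, U) Γ(X, V) := (f.appLE U V e).hom.toAlgebra
  have : IsScalarTower Γ(S, U) Γ(X, V) Γ(F, V) := .of_algebraMap_smul fun _ _ => rfl
  apply flat_of_forall_maximal_exists_isLocalizedModule.{u} (S := Γ(X, V))
  intro P hP
  let q : Spec Γ(X, V) := ⟨P, hP.isPrime⟩
  let y : X := hV.fromSpec q
  have hy : y ∈ V := by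
    have : y ∈ Set.range hV.fromSpec := ⟨q, rfl⟩
    rwa [hV.range_fromSpec] at this
  have hq : hV.primeIdealOf ⟨y, hy⟩ = q :=
    hV.fromSpec.isOpenEmbedding.injective (hV.fromSpec_primeIdealOf ⟨y, hy⟩)
  let _ := stalkModuleOfOpen F V y hy
  let _ : Module Γ(S, U) (F.presheaf.stalk y) := Module.compHom _ (algebraMap Γ(S, U) Γ(X, V))
  have : IsScalarTower Γ(S, U) Γ(X, V) (F.presheaf.stalk y) :=
    .of_algebraMap_smul fun _ _ => rfl
  let _ := moduleStalkOver f F y
  let _ := S.presheaf.algebra_section_stalk ⟨f y, e hy⟩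
  have : IsScalarTower Γ(S, U) (S.presheaf.stalk (f y)) (F.presheaf.stalk y) :=
    .of_algebraMap_smul fun a m => by
      change (f.stalkMap y (S.presheaf.germ U (f y) (e hy) a)) • m =
        (X.presheaf.germ V y hy (f.appLE U V e a)) • m
      rw [germ_appLE_apply]
  have hlocM := isLocalizedModule_germ F hV y hy
  rw [hq] at hlocM
  have := hU.isLocalization_stalk ⟨f y, e hy⟩
  have : Module.Flat Γ(S, U) (S.presheaf.stalk (f y)) :=
    IsLocalization.flat _ (hU.primeIdealOf ⟨f y, e hy⟩).asIdeal.primeCompl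
  have hflat : Module.Flat (S.presheaf.stalk (f y)) (F.presheaf.stalk y) := h y hy
  exact ⟨F.presheaf.stalk y, inferInstance, inferInstance, inferInstance, inferInstance,
    germₗ F V y hy, hlocM, Module.Flat.trans Γ(S, U) (S.presheaf.stalk (f y)) _⟩

/-- **Relative flatness dictionary**: a quasi-coherent `F` on `X` is flat over `S` iff for all
affine opens `V ⊆ X`, `U ⊆ S` with `V ≤ f ⁻¹ᵁ U`, `Γ(F, V)` is flat over `Γ(S, U)`. -/
theorem isFlatOver_iff_forall_affine [F.IsQuasicoherent] :
    IsFlatOver f F ↔ ∀ (V : X.Opens) (U : S.Opens) (e : V ≤ f ⁻¹ᵁ U), IsAffineOpen V →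
      IsAffineOpen U → letI := sectionsModuleOver f F e; Module.Flat Γ(S, U) Γ(F, V) := by
  constructor
  · intro h V U e hV hU
    exact flat_Γ_of_forall_isFlatOverAt f F e hU hV fun y _ => h y
  · intro h x
    obtain ⟨_, ⟨U, hU : IsAffineOpen U, rfl⟩, hxU, -⟩ :=
      (S.isBasis_affineOpens).exists_subset_of_mem_open (Set.mem_univ (f x)) isOpen_univ
    obtain ⟨_, ⟨V, hV : IsAffineOpen V, rfl⟩, hxV, hVU⟩ :=
      (X.isBasis_affineOpens).exists_subset_of_mem_open (show x ∈ f ⁻¹ᵁ U from hxU) (f ⁻¹ᵁ U).2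
    exact isFlatOverAt_of_flat_Γ f F hVU hU hV x hxV (h V U hVU hV hU)

/-- Local criterion: if every point of `X` has an affine neighbourhood `V` mapping into an affine
open `U ⊆ S` with `Γ(F, V)` flat over `Γ(S, U)`, then `F` is flat over `S`. -/
theorem isFlatOver_of_forall_exists_affine [F.IsQuasicoherent]
    (h : ∀ x : X, ∃ (V : X.Opens) (U : S.Opens) (e : V ≤ f ⁻¹ᵁ U), x ∈ V ∧ IsAffineOpen V ∧
      IsAffineOpen U ∧ letI := sectionsModuleOver f F e; Module.Flat Γ(S, U) Γ(F, V)) :
    IsFlatOver f F := by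
  intro x
  obtain ⟨V, U, e, hxV, hV, hU, hfl⟩ := h x
  exact isFlatOverAt_of_flat_Γ f F e hU hV x hxV hfl

end Geom

section Affine

/-- Affine case of the relative flatness dictionary. -/
theorem isFlatOver_SpecMap_iff {A B : CommRingCat.{u}} (φ : A ⟶ B) (F : (Spec B).Modules)
    [F.IsQuasicoherent] :
    IsFlatOver (Spec.map φ) F ↔
      letI : Module A Γ(F, (⊤ : (Spec B).Opens)) := Module.compHom _ φ.hom
      Module.Flat A Γ(F, (⊤ : (Spec B).Opens)) := by
  have e : (⊤ : (Spec B).Opens) ≤ (Spec.map φ) ⁻¹ᵁ ⊤ := le_rfl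
  let _ := sectionsModuleOver (Spec.map φ) F e
  let _ : Module A Γ(F, (⊤ : (Spec B).Opens)) := Module.compHom _ φ.hom
  let _ : Algebra A Γ(Spec A, ⊤) := (Scheme.ΓSpecIso A).inv.hom.toAlgebra
  have : IsScalarTower A Γ(Spec A, ⊤) Γ(F, (⊤ : (Spec B).Opens)) :=
    .of_algebraMap_smul fun a s => by
      change ((Spec.map φ).appLE ⊤ ⊤ e ((Scheme.ΓSpecIso A).inv a)) • s =
        ((Spec B).presheaf.map (⊤ : (Spec B).Opens).leTop.op) ((Scheme.ΓSpecIso B).inv (φ a)) • s
      congr 1
      have h1 : (Spec B).presheaf.map (⊤ : (Spec B).Opens).leTop.op = 𝟙 _ := by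
        rw [show (⊤ : (Spec B).Opens).leTop = 𝟙 _ from Subsingleton.elim _ _, op_id,
          CategoryTheory.Functor.map_id]
      have h2 : (Spec.map φ).appLE ⊤ ⊤ e = (Spec.map φ).appTop := by
        simp [Scheme.Hom.appLE, Scheme.Hom.appTop]
      rw [h1, h2]
      exact congr($(Scheme.ΓSpecIso_inv_naturality φ) a).symm
  have : IsLocalization (⊥ : Submonoid A) Γ(Spec A, ⊤) := by
    have h0 : IsLocalization (⊥ : Submonoid A) A :=
      IsLocalization.self (by rintro _ (rfl : _ = 1); exact isUnit_one)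
    exact IsLocalization.isLocalization_of_algEquiv (⊥ : Submonoid A)
      (AlgEquiv.ofRingEquiv (f := (Scheme.ΓSpecIso A).symm.commRingCatIsoToRingEquiv)
        (fun _ => rfl))
  have key := Module.flat_iff_of_isLocalization Γ(Spec A, ⊤) (⊥ : Submonoid A)
    Γ(F, (⊤ : (Spec B).Opens))
  constructor
  · intro h
    exact key.1 (flat_Γ_of_forall_isFlatOverAt (Spec.map φ) F e (isAffineOpen_top _)
      (isAffineOpen_top _) fun y _ => h y)
  · intro h x
    exact isFlatOverAt_of_flat_Γ (Spec.map φ) F e (isAffineOpen_top _) (isAffineOpen_top _) x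
      trivial (key.2 h)

/-- Affine case, for `tilde M`. -/
theorem isFlatOver_SpecMap_tilde_iff {A B : CommRingCat.{u}} (φ : A ⟶ B) (M : ModuleCat.{u} B) :
    IsFlatOver (Spec.map φ) (tilde M) ↔
      letI : Module A M := Module.compHom _ φ.hom
      Module.Flat A M := by
  rw [isFlatOver_SpecMap_iff]
  let _ : Module A M := Module.compHom _ φ.hom
  let _ : Module A Γ(tilde M, (⊤ : (Spec B).Opens)) := Module.compHom _ φ.hom
  let _ : Algebra A B := φ.hom.toAlgebra
  have : IsScalarTower A B M := .of_algebraMap_smul fun _ _ => rfl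
  have : IsScalarTower A B Γ(tilde M, (⊤ : (Spec B).Opens)) := .of_algebraMap_smul fun _ _ => rfl
  let e : M ≃ₗ[B] Γ(tilde M, (⊤ : (Spec B).Opens)) :=
    (tilde.toTildeΓNatIso.app M).toLinearEquiv
  exact (Module.Flat.equiv_iff (e.restrictScalars A)).symm

end Affine

end Groth.Agent.Lib.QCoh
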