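import Groth.Agent.Lib.QCoh.Helper18_Ass
import Groth.Agent.Lib.QCoh.AffineOpen
import Mathlib.AlgebraicGeometry.Noetherian
import Mathlib.AlgebraicGeometry.Morphisms.QuasiCompact
import Mathlib.RingTheory.Ideal.AssociatedPrime.Finiteness

/-!
# QCoh API (helper18): associated points vs associated primes on affine opens

Namespace `Groth.Agent.Lib.QCoh`.

* `isAssPoint_of_mem_associatedPrimes` : `p_x ∈ Ass_{Γ(X,U)} Γ(F,U)` ⇒ `x` associated point.
* `mem_associatedPrimes_of_isAssPoint` : converse when `p_x` is finitely generated.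
* `isAssPoint_iff_mem_associatedPrimes` : iff for Noetherian `Γ(X,U)`.
* `finite_isAssPoint_of_isAffineOpen`, `finite_isAssPoint_of_isCompact` : finiteness of associated
  points of a coherent module on a locally Noetherian scheme (in a quasi-compact open).
-/

universe u

open CategoryTheory CategoryTheory.Limits AlgebraicGeometry Opposite TopologicalSpace
open Groth.Agent.Lib.Helper18

namespace Groth.Agent.Lib.QCoh

variable {X : Scheme.{u}} (F : X.Modules) [F.IsQuasicoherent] {U : X.Opens} (hU : IsAffineOpen U)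
  (x : X) (hx : x ∈ U)

include hU in
theorem isAssPoint_of_mem_associatedPrimes
    (h : (hU.primeIdealOf ⟨x, hx⟩).asIdeal ∈ associatedPrimes Γ(X, U) Γ(F, U)) :
    Curv2.IsAssPoint F x := by
  let _ := stalkModuleOfOpen F U x hx
  let _ : Algebra Γ(X, U) (X.presheaf.stalk x) :=
    TopCat.Presheaf.algebra_section_stalk X.presheaf ⟨x, hx⟩
  have := hU.isLocalization_stalk ⟨x, hx⟩
  have := isScalarTower_stalk F U x hx
  have := isLocalizedModule_germ F hU x hx
  have hcomap : (IsLocalRing.maximalIdeal (X.presheaf.stalk x)).comap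
      (algebraMap Γ(X, U) (X.presheaf.stalk x)) = (hU.primeIdealOf ⟨x, hx⟩).asIdeal :=
    IsLocalization.AtPrime.under_maximalIdeal (X.presheaf.stalk x) _
  exact Module.associatedPrimes.mem_associatedPrimes_of_comap_mem_associatedPrimes_of_isLocalizedModule
    (hU.primeIdealOf ⟨x, hx⟩).asIdeal.primeCompl (germₗ F U x hx)
    (IsLocalRing.maximalIdeal (X.presheaf.stalk x)) (hcomap ▸ h)

include hU in
theorem mem_associatedPrimes_of_isAssPoint (hfg : (hU.primeIdealOf ⟨x, hx⟩).asIdeal.FG)
    (h : Curv2.IsAssPoint F x) :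
    (hU.primeIdealOf ⟨x, hx⟩).asIdeal ∈ associatedPrimes Γ(X, U) Γ(F, U) := by
  let _ := stalkModuleOfOpen F U x hx
  let _ : Algebra Γ(X, U) (X.presheaf.stalk x) :=
    TopCat.Presheaf.algebra_section_stalk X.presheaf ⟨x, hx⟩
  have := hU.isLocalization_stalk ⟨x, hx⟩
  have := isScalarTower_stalk F U x hx
  have := isLocalizedModule_germ F hU x hx
  have hcomap : (IsLocalRing.maximalIdeal (X.presheaf.stalk x)).comap
      (algebraMap Γ(X, U) (X.presheaf.stalk x)) = (hU.primeIdealOf ⟨x, hx⟩).asIdeal :=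
    IsLocalization.AtPrime.under_maximalIdeal (X.presheaf.stalk x) _
  have := Module.associatedPrimes.comap_mem_associatedPrimes_of_mem_associatedPrimes_of_isLocalizedModule_of_fg
    (hU.primeIdealOf ⟨x, hx⟩).asIdeal.primeCompl (germₗ F U x hx)
    (IsLocalRing.maximalIdeal (X.presheaf.stalk x)) h (hcomap ▸ hfg)
  rwa [hcomap] at this

include hU in
theorem isAssPoint_iff_mem_associatedPrimes [IsNoetherianRing Γ(X, U)] :
    Curv2.IsAssPoint F x ↔
      (hU.primeIdealOf ⟨x, hx⟩).asIdeal ∈ associatedPrimes Γ(X, U) Γ(F, U) :=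
  ⟨mem_associatedPrimes_of_isAssPoint F hU x hx ((isNoetherianRing_iff_ideal_fg _).1 ‹_› _),
    isAssPoint_of_mem_associatedPrimes F hU x hx⟩

include hU in
theorem finite_isAssPoint_of_isAffineOpen [IsLocallyNoetherian X] [F.IsFiniteType] :
    {x : X | x ∈ U ∧ Curv2.IsAssPoint F x}.Finite := by
  have hN : IsNoetherianRing Γ(X, U) := IsLocallyNoetherian.component_noetherian ⟨U, hU⟩
  have hfin : Module.Finite Γ(X, U) Γ(F, U) := finite_Γ_of_isAffineOpen hU F
  have hA : (associatedPrimes Γ(X, U) Γ(F, U)).Finite := associatedPrimes.finite _ _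
  let g : U → Ideal Γ(X, U) := fun y => (hU.primeIdealOf y).asIdeal
  have hg : Function.Injective g := by
    intro a b hab
    have h1 : hU.primeIdealOf a = hU.primeIdealOf b := PrimeSpectrum.ext hab
    have ha := hU.fromSpec_primeIdealOf a
    have hb := hU.fromSpec_primeIdealOf b
    rw [h1] at ha
    exact Subtype.ext (ha.symm.trans hb)
  have h1 : (g ⁻¹' (associatedPrimes Γ(X, U) Γ(F, U))).Finite := hA.preimage hg.injOn
  refine (h1.image (fun y : U => (y : X))).subset ?_
  rintro x ⟨hxU, hx⟩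
  exact ⟨⟨x, hxU⟩, (isAssPoint_iff_mem_associatedPrimes F hU x hxU).1 hx, rfl⟩

theorem finite_isAssPoint_of_isCompact [IsLocallyNoetherian X] [F.IsFiniteType] (V : X.Opens)
    (hV : IsCompact (V : Set X)) : {x : X | x ∈ V ∧ Curv2.IsAssPoint F x}.Finite := by
  obtain ⟨s, hs, hVs⟩ := isCompact_iff_finite_and_eq_biUnion_affineOpens.1 hV
  have : {x : X | x ∈ V ∧ Curv2.IsAssPoint F x} ⊆
      ⋃ W ∈ s, {x : X | x ∈ (W : X.Opens) ∧ Curv2.IsAssPoint F x} := by
    rintro x ⟨hxV, hx⟩
    rw [hVs] at hxV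
    simp only [Opens.mem_iSup] at hxV
    obtain ⟨W, hW, hxW⟩ := hxV
    exact Set.mem_biUnion hW ⟨hxW, hx⟩
  exact (hs.biUnion fun W _ => finite_isAssPoint_of_isAffineOpen F W.2).subset this

end Groth.Agent.Lib.QCoh
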