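import Groth.Agent.Lib.QCoh.Helper18_HartogsDepth
import Groth.Agent.Lib.QCoh.Helper18_AssNoeth
import Groth.Agent.Lib.Helper29.FlatLocal2
import Groth.Agent.Lib.Helper49.Serre
import Groth.Agent.Lib.Helper49.StalkLoc

/-!
# Serre's conditions on schemes vs affine opens (helper18)

Namespace `Groth.Agent.Lib.QCoh.SerreSk`.

* `supportDim_stalk_eq` : `dim Supp_{O_{X,x}} F_x = dim Supp_{A_p} M_p` (`V` affine, `A = Γ(X,V)`).
* `forall_stalk_Sk_iff` : the stalkwise `(S_k)` condition for a coherent module on a locally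
  Noetherian scheme is `LocCoh.HasSk k Γ(X,V) Γ(F,V)` for all affine opens `V`.
* `noEmbedded_iff` : "no embedded associated points" in terms of affine opens.
-/

set_option autoImplicit false
universe u

open AlgebraicGeometry CategoryTheory Opposite TopologicalSpace

namespace Groth.Agent.Lib.QCoh.SerreSk

open Scheme.Modules Groth.Agent.Lib.QCoh Groth.Agent.Lib.QCoh.Hartogs

section Algebra

open Groth.Agent.Lib.Helper29.FlatLocal in
/-- Support dimension transport: `R` the localization of `A` at `p`, `N` an `R`-module which as an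
`A`-module is the localization of `M` at `p`. -/
theorem supportDim_eq_supportDim_localizedModule {A : Type u} [CommRing A]
    (p : Ideal A) [p.IsPrime]
    (R : Type u) [CommRing R] [Algebra A R] [IsLocalization.AtPrime R p]
    (M : Type u) [AddCommGroup M] [Module A M]
    (N : Type u) [AddCommGroup N] [Module A N] [Module R N] [IsScalarTower A R N]
    [Module.Finite R N] (f : M →ₗ[A] N) [IsLocalizedModule p.primeCompl f] :
    Module.supportDim R N =
      Module.supportDim (Localization.AtPrime p) (LocalizedModule p.primeCompl M) := by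
  let σ : R ≃ₐ[A] Localization.AtPrime p :=
    IsLocalization.algEquiv p.primeCompl R (Localization.AtPrime p)
  let _ : Algebra R (Localization.AtPrime p) := (σ : R →+* Localization.AtPrime p).toAlgebra
  have hsurj : Function.Surjective (algebraMap R (Localization.AtPrime p)) := σ.surjective
  let _ : Module R (LocalizedModule p.primeCompl M) :=
    Module.compHom _ (algebraMap R (Localization.AtPrime p))
  have : IsScalarTower R (Localization.AtPrime p) (LocalizedModule p.primeCompl M) :=
    ⟨fun r a m => by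
      change (σ r * a) • m = σ r • (a • m)
      rw [mul_smul]⟩
  have : IsScalarTower A R (LocalizedModule p.primeCompl M) :=
    IsScalarTower.of_algebraMap_smul (fun a m => by
      change σ (algebraMap A R a) • m = a • m
      rw [σ.commutes, algebraMap_smul])
  let e₀ : N ≃ₗ[A] LocalizedModule p.primeCompl M := (IsLocalizedModule.iso p.primeCompl f).symm
  let e₁ : N ≃ₗ[R] LocalizedModule p.primeCompl M :=
    e₀.extendScalarsOfIsLocalization p.primeCompl R
  have : Module.Finite R (LocalizedModule p.primeCompl M) := Module.Finite.equiv e₁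
  rw [Module.supportDim_eq_of_equiv e₁]
  exact (supportDim_eq_of_surjective R (Localization.AtPrime p) hsurj
    (LocalizedModule p.primeCompl M)).symm

end Algebra

section Scheme

variable {X : Scheme.{u}}

/-- `dim Supp F_x` computed on an affine open. -/
theorem supportDim_stalk_eq (F : X.Modules) [F.IsQuasicoherent]
    [F.IsFiniteType] {V : X.Opens} (hV : IsAffineOpen V) (x : X) (hx : x ∈ V) :
    Module.supportDim (X.presheaf.stalk x) (F.presheaf.stalk x) =
      Module.supportDim (Localization.AtPrime (hV.primeIdealOf ⟨x, hx⟩).asIdeal)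
        (LocalizedModule (hV.primeIdealOf ⟨x, hx⟩).asIdeal.primeCompl Γ(F, V)) := by
  let _ := stalkModuleOfOpen F V x hx
  let _ : Algebra Γ(X, V) (X.presheaf.stalk x) := X.presheaf.algebra_section_stalk ⟨x, hx⟩
  have := hV.isLocalization_stalk ⟨x, hx⟩
  have : IsScalarTower Γ(X, V) (X.presheaf.stalk x) (F.presheaf.stalk x) :=
    IsScalarTower.of_algebraMap_smul fun a n => rfl
  have := finite_stalk F x
  have := isLocalizedModule_germ F hV x hx
  exact supportDim_eq_supportDim_localizedModule _ (X.presheaf.stalk x) Γ(F, V)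
    (F.presheaf.stalk x) (germₗ F V x hx)

/-- The stalkwise `(S_k)` condition is `HasSk k` on all affine opens. -/
theorem forall_stalk_Sk_iff [IsLocallyNoetherian X] (F : X.Modules) [F.IsQuasicoherent]
    [F.IsFiniteType] (k : ℕ) :
    (∀ x : X, min (k : WithBot ℕ∞)
        (Module.supportDim (X.presheaf.stalk x) (F.presheaf.stalk x)) ≤
        ((LocCoh.depth (X.presheaf.stalk x) (F.presheaf.stalk x) : ℕ∞) : WithBot ℕ∞)) ↔
      ∀ V : X.affineOpens, LocCoh.HasSk k Γ(X, V.1) Γ(F, V.1) := by
  constructor
  · intro h V p hp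
    have key : ∀ (y : PrimeSpectrum Γ(X, V.1)) (x : X) (hx : x ∈ V.1),
        V.2.primeIdealOf ⟨x, hx⟩ = y →
        min (k : WithBot ℕ∞) (Module.supportDim (Localization.AtPrime y.asIdeal)
          (LocalizedModule y.asIdeal.primeCompl Γ(F, V.1))) ≤
        ((LocCoh.depth (Localization.AtPrime y.asIdeal)
          (LocalizedModule y.asIdeal.primeCompl Γ(F, V.1)) : ℕ∞) : WithBot ℕ∞) := by
      rintro _ x hx rfl
      rw [← depth_stalk_eq F V.2 x hx, ← supportDim_stalk_eq F V.2 x hx]
      exact h x
    exact key ⟨p, hp⟩ (V.2.fromSpec ⟨p, hp⟩) (fromSpec_mem V.2 _) (primeIdealOf_fromSpec V.2 _)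
  · intro h x
    obtain ⟨V, hV, hxV, -⟩ := Opens.isBasis_iff_nbhd.1 (X.isBasis_affineOpens)
      (show x ∈ (⊤ : X.Opens) from trivial)
    rw [depth_stalk_eq F hV x hxV, supportDim_stalk_eq F hV x hxV]
    exact h ⟨V, hV⟩ (hV.primeIdealOf ⟨x, hxV⟩).asIdeal

/-- "No embedded associated points" in terms of affine opens. -/
theorem noEmbedded_iff [IsLocallyNoetherian X] (F : X.Modules) [F.IsQuasicoherent]
    [F.IsFiniteType] :
    (∀ x : X, Curv2.IsAssPoint F x → ∀ y : X, Curv2.IsAssPoint F y → y ⤳ x → y = x) ↔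
      ∀ V : X.affineOpens, ∀ p ∈ associatedPrimes Γ(X, V.1) Γ(F, V.1),
        p ∈ (Module.annihilator Γ(X, V.1) Γ(F, V.1)).minimalPrimes := by
  constructor
  · intro h V p hp
    have hV : IsAffineOpen V.1 := V.2
    have : IsNoetherianRing Γ(X, V.1) := IsLocallyNoetherian.component_noetherian V
    have : Module.Finite Γ(X, V.1) Γ(F, V.1) := finite_Γ_of_isAffineOpen hV F
    have hpp : p.IsPrime := hp.isPrime
    have hann : Module.annihilator Γ(X, V.1) Γ(F, V.1) ≤ p := by
      rw [← Submodule.annihilator_top]; exact hp.annihilator_le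
    obtain ⟨q, hq, hqp⟩ := Ideal.exists_minimalPrimes_le hann
    have hqass : q ∈ associatedPrimes Γ(X, V.1) Γ(F, V.1) :=
      Module.associatedPrimes.minimalPrimes_annihilator_subset_associatedPrimes _ _ hq
    have hqp' : q.IsPrime := hq.1.1
    set P : PrimeSpectrum Γ(X, V.1) := ⟨p, hpp⟩
    set Q : PrimeSpectrum Γ(X, V.1) := ⟨q, hqp'⟩
    have hx : Curv2.IsAssPoint F (hV.fromSpec P) :=
      isAssPoint_of_mem_associatedPrimes F hV _ (fromSpec_mem hV P)
        (by rw [primeIdealOf_fromSpec hV P]; exact hp)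
    have hy : Curv2.IsAssPoint F (hV.fromSpec Q) :=
      isAssPoint_of_mem_associatedPrimes F hV _ (fromSpec_mem hV Q)
        (by rw [primeIdealOf_fromSpec hV Q]; exact hqass)
    have hspec : hV.fromSpec Q ⤳ hV.fromSpec P := fromSpec_specializes hV hqp
    have heq := h _ hx _ hy hspec
    have hQP : Q = P := hV.fromSpec.isOpenEmbedding.injective heq
    have : q = p := congrArg PrimeSpectrum.asIdeal hQP
    rw [← this]
    exact hq
  · intro h x hx y hy hyx
    obtain ⟨V, hV, hxV, -⟩ := Opens.isBasis_iff_nbhd.1 (X.isBasis_affineOpens)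
      (show x ∈ (⊤ : X.Opens) from trivial)
    have : IsNoetherianRing Γ(X, V) := IsLocallyNoetherian.component_noetherian ⟨V, hV⟩
    have hyV : y ∈ V := hyx.mem_open V.2 hxV
    have hpx := (isAssPoint_iff_mem_associatedPrimes F hV x hxV).1 hx
    have hpy := (isAssPoint_iff_mem_associatedPrimes F hV y hyV).1 hy
    have hle := Groth.Agent.Lib.Helper49.StalkLoc.primeIdealOf_le_of_specializes hV hyV hxV hyx
    have hmin := h ⟨V, hV⟩ _ hpx
    have hle' : (hV.primeIdealOf ⟨x, hxV⟩).asIdeal ≤ (hV.primeIdealOf ⟨y, hyV⟩).asIdeal :=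
      hmin.2 ⟨(hV.primeIdealOf ⟨y, hyV⟩).isPrime, by
        rw [← Submodule.annihilator_top]; exact hpy.annihilator_le⟩ hle
    have heq : hV.primeIdealOf ⟨y, hyV⟩ = hV.primeIdealOf ⟨x, hxV⟩ :=
      PrimeSpectrum.ext (le_antisymm hle hle')
    have := congrArg hV.fromSpec heq
    rwa [hV.fromSpec_primeIdealOf, hV.fromSpec_primeIdealOf] at this

end Scheme

end Groth.Agent.Lib.QCoh.SerreSk
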