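import Groth.Agent.Lib.QCoh.Helper74_LocFreeDeg
import Groth.Agent.Lib.QCoh.Helper50_AffineDict

/-!
# QCoh API (helper74): sections and ranks of biproducts

* `ΓbiprodLinearEquiv M N V : Γ(M ⊞ N, V) ≃ₗ[Γ(X,V)] Γ(M,V) × Γ(N,V)`
* `biprod_desc_app_apply`
* `isFinLocFree_biprod`, `isFinLocFreeOfRank_biprod`
-/

universe u
open CategoryTheory CategoryTheory.Limits AlgebraicGeometry Opposite TopologicalSpace
namespace Groth.Agent.Lib.QCoh
open Scheme.Modules FlatMod
variable {X : Scheme.{u}}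

section
variable (M N : X.Modules) (V : X.Opens)

lemma biprod_total_app (s : Γ(M ⊞ N, V)) :
    (biprod.inl : M ⟶ M ⊞ N).app V ((biprod.fst : M ⊞ N ⟶ M).app V s) +
      (biprod.inr : N ⟶ M ⊞ N).app V ((biprod.snd : M ⊞ N ⟶ N).app V s) = s := by
  have h : (biprod.fst ≫ biprod.inl + biprod.snd ≫ biprod.inr : M ⊞ N ⟶ M ⊞ N).app V s =
      (𝟙 (M ⊞ N) : M ⊞ N ⟶ M ⊞ N).app V s := by rw [biprod.total]
  exact h

/-- Sections of a biproduct. -/
noncomputable def ΓbiprodLinearEquiv : Γ(M ⊞ N, V) ≃ₗ[Γ(X, V)] Γ(M, V) × Γ(N, V) where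
  toFun s := ((biprod.fst : M ⊞ N ⟶ M).app V s, (biprod.snd : M ⊞ N ⟶ N).app V s)
  invFun p := (biprod.inl : M ⟶ M ⊞ N).app V p.1 + (biprod.inr : N ⟶ M ⊞ N).app V p.2
  map_add' s t := by simp
  map_smul' r s := by simp
  left_inv s := biprod_total_app M N V s
  right_inv p := by
    have h1 := congrArg (fun φ : M ⟶ M => φ.app V p.1) (biprod.inl_fst (X := M) (Y := N))
    have h2 := congrArg (fun φ : M ⟶ N => φ.app V p.1) (biprod.inl_snd (X := M) (Y := N))
    have h3 := congrArg (fun φ : N ⟶ M => φ.app V p.2) (biprod.inr_fst (X := M) (Y := N))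
    have h4 := congrArg (fun φ : N ⟶ N => φ.app V p.2) (biprod.inr_snd (X := M) (Y := N))
    simp only [Hom.comp_app, Hom.id_app, Hom.zero_app] at h1 h2 h3 h4
    ext
    · simpa using (by rw [map_add]; exact congrArg₂ (· + ·) h1 h3 :
        (biprod.fst : M ⊞ N ⟶ M).app V ((biprod.inl : M ⟶ M ⊞ N).app V p.1 +
          (biprod.inr : N ⟶ M ⊞ N).app V p.2) = p.1 + 0)
    · simpa using (by rw [map_add]; exact congrArg₂ (· + ·) h2 h4 :
        (biprod.snd : M ⊞ N ⟶ N).app V ((biprod.inl : M ⟶ M ⊞ N).app V p.1 +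
          (biprod.inr : N ⟶ M ⊞ N).app V p.2) = 0 + p.2)

variable {M N} in
lemma biprod_desc_app_apply {K : X.Modules} (f : M ⟶ K) (g : N ⟶ K) (s : Γ(M ⊞ N, V)) :
    (biprod.desc f g).app V s =
      f.app V ((biprod.fst : M ⊞ N ⟶ M).app V s) + g.app V ((biprod.snd : M ⊞ N ⟶ N).app V s) := by
  conv_lhs => rw [← biprod_total_app M N V s]
  rw [map_add]
  have h1 := congrArg (fun φ : M ⟶ K => φ.app V ((biprod.fst : M ⊞ N ⟶ M).app V s))
    (biprod.inl_desc f g)
  have h2 := congrArg (fun φ : N ⟶ K => φ.app V ((biprod.snd : M ⊞ N ⟶ N).app V s))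
    (biprod.inr_desc f g)
  simp only [Hom.comp_app] at h1 h2
  exact congrArg₂ (· + ·) h1 h2

end

/-- A biproduct of finite locally free modules is finite locally free. -/
theorem isFinLocFree_biprod {M N : X.Modules} (hM : IsFinLocFree M) (hN : IsFinLocFree N) :
    IsFinLocFree (M ⊞ N) := by
  have := isQuasicoherent_of_isFinLocFree hM
  have := isQuasicoherent_of_isFinLocFree hN
  have := isQuasicoherent_biprod M N
  rw [isFinLocFree_iff_forall_affineOpens]
  intro U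
  obtain ⟨_, _⟩ := finite_projective_Γ_of_isAffineOpen hM U.2
  obtain ⟨_, _⟩ := finite_projective_Γ_of_isAffineOpen hN U.2
  exact ⟨Module.Finite.equiv (ΓbiprodLinearEquiv M N U.1).symm,
    Module.Projective.of_equiv (ΓbiprodLinearEquiv M N U.1).symm⟩

/-- Ranks add under biproducts. -/
theorem isFinLocFreeOfRank_biprod {M N : X.Modules} {a b : ℕ} (hM : IsFinLocFreeOfRank a M)
    (hN : IsFinLocFreeOfRank b N) : IsFinLocFreeOfRank (a + b) (M ⊞ N) := by
  have hM' := isFinLocFree_of_isFinLocFreeOfRank hM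
  have hN' := isFinLocFree_of_isFinLocFreeOfRank hN
  rw [isFinLocFreeOfRank_iff_rankAtStalk (isFinLocFree_biprod hM' hN')]
  intro V hV p
  obtain ⟨_, _⟩ := finite_projective_Γ_of_isAffineOpen hM' hV
  obtain ⟨_, _⟩ := finite_projective_Γ_of_isAffineOpen hN' hV
  rw [congrFun (Module.rankAtStalk_eq_of_equiv (ΓbiprodLinearEquiv M N V)) p,
    Module.rankAtStalk_prod, Pi.add_apply, rankAtStalk_Γ_of_isFinLocFreeOfRank hM hV,
    rankAtStalk_Γ_of_isFinLocFreeOfRank hN hV]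

end Groth.Agent.Lib.QCoh
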