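import Groth.Agent.Lib.QCoh.FinitePresentation
import Mathlib.RingTheory.LocalProperties.FinitePresentation

/-!
# QCoh API (helper49): finite presentation dictionary

Namespace `Groth.Agent.Lib.QCoh`.

* `presentationRestrictOfOver` : a presentation of `M|_V` from one of `M.over V`
* `isFinitePresentation_iff_exists_isOpenCover`
* `finitePresentation_Γ_of_presentation` : on `Spec R`, a finite global presentation of `M` gives
  `Module.FinitePresentation R Γ(M, ⊤)`
* `exists_presentation_of_le`
* `finitePresentation_Γ_Spec` : `M` of finite presentation on `Spec R` ⇒ `Γ(M, ⊤)` f.p.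
* `finitePresentation_Γ_of_isAffineOpen`
* `isFinitePresentation_iff_forall_finitePresentation`
-/

universe u

open CategoryTheory CategoryTheory.Limits AlgebraicGeometry Opposite TopologicalSpace

namespace Groth.Agent.Lib.QCoh

open Scheme.Modules

variable {X : Scheme.{u}}

set_option backward.isDefEq.respectTransparency false in
/-- A finite presentation of `M|_V` from one of `M.over V`. -/
theorem exists_presentation_restrict_of_over (M : X.Modules) (V : X.Opens)
    (h : ∃ P : (M.over V).Presentation, P.IsFinite) :
    ∃ P : (M.restrict V.ι).Presentation, P.IsFinite := by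
  obtain ⟨P, hP⟩ := h
  have hEq : (overEquiv V).functor.IsEquivalence := inferInstance
  have hPres : PreservesColimitsOfSize.{u, u} (overEquiv V).functor := inferInstance
  have := isFinite_presentation_map P (overEquiv V).functor
    (V.sheafOfModulesEquivOverUnit X.ringCatSheaf).symm
  exact ⟨(P.map (overEquiv V).functor (V.sheafOfModulesEquivOverUnit X.ringCatSheaf).symm).ofIsIso
    ((overFunctorEquiv V).app M).hom, inferInstance⟩

/-- **Finite presentation is: locally finitely presented**, phrased with restrictions to the members
of an open cover. -/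
theorem isFinitePresentation_iff_exists_isOpenCover (M : X.Modules) :
    M.IsFinitePresentation ↔ ∃ (ι : Type u) (U : ι → X.Opens), IsOpenCover U ∧
      ∀ i, ∃ P : (M.restrict (U i).ι).Presentation, P.IsFinite := by
  constructor
  · rintro ⟨σ, hσ⟩
    refine ⟨σ.I, σ.X, (Opens.coversTop_iff _ _).1 σ.coversTop, fun i => ?_⟩
    exact exists_presentation_restrict_of_over M (σ.X i)
      ⟨σ.presentation i, hσ.isFinite_presentation i⟩
  · rintro ⟨ι, U, hU, h⟩
    exact isFinitePresentation_of_isOpenCover M U hU h

section K1FP

variable {R : CommRingCat.{u}}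

/-- The cokernel (in `ModuleCat`) of a map between finite free modules is finitely presented. -/
theorem finitePresentation_cokernel_finsupp {I J : Type u} [Finite I] [Finite J]
    (g : ModuleCat.of R (J →₀ R) ⟶ ModuleCat.of R (I →₀ R)) :
    Module.FinitePresentation R (cokernel g : ModuleCat R) := by
  have h1 : Module.FinitePresentation R ((I →₀ R) ⧸ LinearMap.range g.hom) := by
    refine Module.finitePresentation_of_surjective (LinearMap.range g.hom).mkQ
      (Submodule.mkQ_surjective _) ?_
    rw [Submodule.ker_mkQ, LinearMap.range_eq_map]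
    exact Submodule.FG.map _ Module.Finite.fg_top
  exact Module.FinitePresentation.of_equiv
    (ModuleCat.cokernelIsoRangeQuotient g).toLinearEquiv.symm

set_option backward.isDefEq.respectTransparency false in
/-- On `Spec R`: a module with a finite global presentation has a finitely presented module of
global sections. -/
theorem finitePresentation_Γ_of_presentation (M : (Spec R).Modules) (P : M.Presentation)
    [hP : P.IsFinite] : Module.FinitePresentation R Γ(M, ⊤) := by
  have hiso : IsIso M.fromTildeΓ := isIso_fromTildeΓ_of_presentation M P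
  have hI : Finite P.generators.I := hP.isFiniteType_generators.finite
  have hJ : Finite P.relations.I := hP.isFiniteType_relations.finite
  let g : ModuleCat.of R (P.relations.I →₀ R) ⟶ ModuleCat.of R (P.generators.I →₀ R) :=
    (tilde.functor _).preimage <| (tildeFinsupp _).hom ≫ P.relations.π ≫ kernel.ι _ ≫
      (tildeFinsupp _).inv
  let iso : cokernel ((tilde.functor R).map g) ≅ cokernel (P.relations.π ≫ kernel.ι _) := by
    refine cokernel.mapIso _ _ (tildeFinsupp _) (tildeFinsupp _) ?_
    simp only [g, (tilde.functor R).map_preimage]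
    simp
  let e : (tilde.functor R).obj (cokernel g) ≅ M :=
    PreservesCokernel.iso (tilde.functor R) g ≪≫ iso ≪≫
      IsColimit.coconePointUniqueUpToIso (colimit.isColimit _) P.isColimit
  let N : ModuleCat R := moduleSpecΓFunctor.obj M
  let e' : (tilde.functor R).obj (cokernel g) ≅ (tilde.functor R).obj N :=
    e ≪≫ (asIso M.fromTildeΓ).symm
  let e'' : cokernel g ≅ N := (tilde.functor R).preimageIso e'
  have h1 : Module.FinitePresentation R (cokernel g : ModuleCat R) :=
    finitePresentation_cokernel_finsupp g
  exact Module.FinitePresentation.of_equiv e''.toLinearEquiv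

end K1FP

/-- Finite presentations restrict to smaller opens. -/
theorem exists_presentation_of_le {V U : X.Opens} (h : V ≤ U) (M : X.Modules)
    (hP : ∃ P : (M.restrict U.ι).Presentation, P.IsFinite) :
    ∃ P : (M.restrict V.ι).Presentation, P.IsFinite := by
  refine exists_presentation_of_iso ?_ (exists_presentation_restrict (X.homOfLE h) hP)
  exact ((restrictFunctorComp (X.homOfLE h) U.ι).app M).symm ≪≫
    (restrictFunctorCongr (X.homOfLE_ι h)).app M

/-- For an affine open `U`, a module whose restriction to `U` has a finite presentation has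
`Γ(M, U)` finitely presented over `Γ(X, U)`. -/
theorem finitePresentation_Γ_of_presentation_restrict {U : X.Opens}
    (hU : IsAffineOpen U) (M : X.Modules)
    (h : ∃ P : (M.restrict U.ι).Presentation, P.IsFinite) :
    Module.FinitePresentation Γ(X, U) Γ(M, U) := by
  obtain ⟨P', hP'⟩ := exists_presentation_of_iso (restrictSpecIso hU M).symm
    (exists_presentation_restrict hU.isoSpec.inv h)
  have := finitePresentation_Γ_of_presentation (restrictSpec hU M) P'
  exact Module.FinitePresentation.of_equiv (ΓrestrictSpecLinearEquiv hU M)

section K2FP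

variable {R : CommRingCat.{u}}

set_option backward.isDefEq.respectTransparency false in
open PrimeSpectrum in
/-- On `Spec R`: a module of finite presentation has a finitely presented module of global
sections. -/
theorem finitePresentation_Γ_Spec (M : (Spec R).Modules) [hM : M.IsFinitePresentation] :
    Module.FinitePresentation R Γ(M, ⊤) := by
  obtain ⟨ι, W, hW, hG⟩ := (isFinitePresentation_iff_exists_isOpenCover M).1 hM
  let s : Set R := {f | ∃ i, PrimeSpectrum.basicOpen f ≤ W i}
  have hs : Ideal.span s = ⊤ := by
    by_contra hne
    obtain ⟨m, hm, hle⟩ := Ideal.exists_le_maximal _ hne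
    let x : PrimeSpectrum R := ⟨m, hm.isPrime⟩
    have hx : x ∈ (⊤ : (Spec R).Opens) := trivial
    rw [← hW.iSup_eq_top] at hx
    obtain ⟨i, hi⟩ := Opens.mem_iSup.1 hx
    obtain ⟨_, ⟨f, rfl⟩, hxf, hfW⟩ :=
      Opens.isBasis_iff_nbhd.1 PrimeSpectrum.isBasis_basic_opens hi
    exact hxf (hle (Ideal.subset_span ⟨i, hfW⟩))
  have hloc : IsLocalizing (modulesSpecToSheaf.obj M) :=
    (isIso_fromTildeΓ_iff_isLocalizing M).1 inferInstance
  let φ (g : R) : Γ(M, ⊤) →ₗ[R] Γ(M, PrimeSpectrum.basicOpen g) :=
    ((modulesSpecToSheaf.obj M).obj.map
      (homOfLE le_top : PrimeSpectrum.basicOpen g ⟶ ⊤).op).hom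
  have hφ : ∀ g : s, IsLocalizedModule (Submonoid.powers g.1) (φ g.1) := fun g => hloc g.1
  refine Module.FinitePresentation.of_localizationSpan' s hs
    (Rₚ := fun g => Γ(Spec R, PrimeSpectrum.basicOpen g.1))
    (Mₚ := fun g => Γ(M, PrimeSpectrum.basicOpen g.1))
    (fun g => φ g.1) ?_
  rintro ⟨g, i, hgi⟩
  have hA : IsAffineOpen (X := Spec R) (PrimeSpectrum.basicOpen g) := by
    have := (isAffineOpen_top (Spec R)).basicOpen ((Scheme.ΓSpecIso R).inv g)
    rwa [basicOpen_eq_of_affine] at this
  exact finitePresentation_Γ_of_presentation_restrict hA M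
    (exists_presentation_of_le hgi M (hG i))

end K2FP

/-- For `M` of finite presentation and `U` an affine open, `Γ(M, U)` is a finitely presented
`Γ(X, U)`-module. -/
theorem finitePresentation_Γ_of_isAffineOpen {U : X.Opens} (hU : IsAffineOpen U)
    (M : X.Modules) [hM : M.IsFinitePresentation] :
    Module.FinitePresentation Γ(X, U) Γ(M, U) := by
  obtain ⟨ι, W, hW, hG⟩ := (isFinitePresentation_iff_exists_isOpenCover M).1 hM
  have : (restrictSpec hU M).IsFinitePresentation := by
    refine isFinitePresentation_of_isOpenCover _ (fun i => hU.fromSpec ⁻¹ᵁ W i) ?_ fun i => ?_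
    · rw [IsOpenCover, ← top_le_iff]
      intro y _
      have : hU.fromSpec.base y ∈ (⊤ : X.Opens) := trivial
      rw [← hW.iSup_eq_top] at this
      obtain ⟨i, hi⟩ := Opens.mem_iSup.1 this
      exact Opens.mem_iSup.2 ⟨i, hi⟩
    · refine exists_presentation_of_iso ?_
        (exists_presentation_restrict (hU.fromSpec ∣_ W i) (hG i))
      exact ((restrictFunctorComp (hU.fromSpec ∣_ W i) (W i).ι).app M).symm ≪≫
        (restrictFunctorCongr (morphismRestrict_ι hU.fromSpec (W i))).app M ≪≫
        (restrictFunctorComp (hU.fromSpec ⁻¹ᵁ W i).ι hU.fromSpec).app M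
  have := finitePresentation_Γ_Spec (restrictSpec hU M)
  exact Module.FinitePresentation.of_equiv (ΓrestrictSpecLinearEquiv hU M)

/-- **Characterisation of finite presentation on affine opens**: a quasi-coherent module is of
finite presentation iff its sections over every affine open form a finitely presented module. -/
theorem isFinitePresentation_iff_forall_finitePresentation (M : X.Modules) [M.IsQuasicoherent] :
    M.IsFinitePresentation ↔ ∀ U : X.affineOpens,
      Module.FinitePresentation Γ(X, (U : X.Opens)) Γ(M, (U : X.Opens)) := by
  constructor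
  · intro h U
    exact finitePresentation_Γ_of_isAffineOpen U.2 M
  · intro h
    exact isFinitePresentation_of_forall_finitePresentation M h

end Groth.Agent.Lib.QCoh
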