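import Groth.Agent.Lib.QCoh.Helper50_SpecMap

/-!
# QCoh API (helper50): `extendScalars (algebraMap A' A)` versus `A ⊗[A'] -`

* `extendScalarsIso A' A N'` : `(extendScalars (algebraMap A' A)).obj (of A' N') ≅ of A (A ⊗[A'] N')`
* `pullbackTildeAlgebraIso A' A N'` : `(Spec (algebraMap A' A))^* (N'^~) ≅ (A ⊗[A'] N')^~`
-/

universe u
open CategoryTheory TensorProduct

namespace Groth.Agent.Lib.QCoh

section
variable {R M N : Type*} [CommSemiring R] [AddCommMonoid M] [AddCommMonoid N] [Module R N]

/-- Tensor products for two propositionally equal module structures on the left factor. -/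
noncomputable def tensorInstHom (i1 i2 : Module R M)
    (h : ∀ (r : R) (m : M), i1.smul r m = i2.smul r m) :
    @TensorProduct R _ M N _ _ i1 _ →+ @TensorProduct R _ M N _ _ i2 _ :=
  @TensorProduct.liftAddHom R _ M N (@TensorProduct R _ M N _ _ i2 _) _ _ _ i1 _
    { toFun := fun a =>
        { toFun := fun n => @TensorProduct.tmul R _ M N _ _ i2 _ a n
          map_zero' := by let := i2; simp
          map_add' := fun x y => by let := i2; simp [tmul_add] }
      map_zero' := by let := i2; ext; simp
      map_add' := fun a b => by let := i2; ext; simp [add_tmul] }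
    (fun r a n => by
      change @TensorProduct.tmul R _ M N _ _ i2 _ (i1.smul r a) n =
        @TensorProduct.tmul R _ M N _ _ i2 _ a (r • n)
      rw [h]
      let := i2
      exact TensorProduct.smul_tmul r a n)

@[simp]
lemma tensorInstHom_tmul (i1 i2 : Module R M)
    (h : ∀ (r : R) (m : M), i1.smul r m = i2.smul r m) (m : M) (n : N) :
    tensorInstHom (N := N) i1 i2 h (@TensorProduct.tmul R _ M N _ _ i1 _ m n) =
      @TensorProduct.tmul R _ M N _ _ i2 _ m n := rfl

lemma tensorInstHom_comp (i1 i2 : Module R M)
    (h : ∀ (r : R) (m : M), i1.smul r m = i2.smul r m) (x : @TensorProduct R _ M N _ _ i1 _) :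
    tensorInstHom (N := N) i2 i1 (fun r m => (h r m).symm) (tensorInstHom (N := N) i1 i2 h x) = x := by
  induction x using TensorProduct.induction_on with
  | zero => simp
  | tmul m n => rfl
  | add x y hx hy => rw [map_add, map_add, hx, hy]

end

section
variable (A' A : Type u) [CommRing A'] [CommRing A] [Algebra A' A]
    (N' : Type u) [AddCommGroup N'] [Module A' N']

set_option backward.isDefEq.respectTransparency false in
noncomputable def extendScalarsIso :
    (ModuleCat.extendScalars (algebraMap A' A)).obj (ModuleCat.of A' N') ≅
      ModuleCat.of A (A ⊗[A'] N') := by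
  refine LinearEquiv.toModuleIso ?_
  have h : ∀ (r : A') (m : A), (Module.compHom A (algebraMap A' A)).smul r m =
      (Algebra.toModule : Module A' A).smul r m := fun r m => (Algebra.smul_def r m).symm
  refine
    { toFun := tensorInstHom (N := N') (Module.compHom A (algebraMap A' A)) Algebra.toModule h
      invFun := tensorInstHom (N := N') Algebra.toModule (Module.compHom A (algebraMap A' A)) (fun r m => Algebra.smul_def r m)
      map_add' := map_add _
      map_smul' := fun a x => ?_
      left_inv := fun x => tensorInstHom_comp _ _ h x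
      right_inv := fun x => tensorInstHom_comp _ _ (fun r m => Algebra.smul_def r m) x }
  induction x using TensorProduct.induction_on with
  | zero => simp
  | tmul m n => rfl
  | add x y hx hy => rw [smul_add, map_add, hx, hy, map_add, smul_add]

open AlgebraicGeometry in
/-- Pullback of `N'^~` along `Spec A → Spec A'` is `(A ⊗[A'] N')^~`, for an `Algebra A' A`. -/
noncomputable def pullbackTildeAlgebraIso :
    (Scheme.Modules.pullback (Spec.map (CommRingCat.ofHom (algebraMap A' A)))).obj
        (tilde (ModuleCat.of A' N')) ≅ tilde (ModuleCat.of A (A ⊗[A'] N')) :=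
  pullbackTildeIso (CommRingCat.ofHom (algebraMap A' A)) (ModuleCat.of A' N') ≪≫
    (tilde.functor (CommRingCat.of A)).mapIso (extendScalarsIso A' A N')

end
end Groth.Agent.Lib.QCoh
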