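import Groth.Agent.Lib.QCoh.FinitePresentation
import Groth.Agent.Lib.QCoh.AffineOpen
import Groth.Agent.Lib.QCoh.Helper50_ExtendScalars
import Groth.Agent.Lib.QCoh.Invertible
import Groth.Prelude.Def_FlatMod2
import Mathlib.RingTheory.LocalProperties.FinitePresentation
import Mathlib.RingTheory.Flat.EquationalCriterion
import Mathlib.RingTheory.Spectrum.Prime.FreeLocus

/-!
# QCoh API, part Q5 (helper74): finite locally free modules `FlatMod.IsFinLocFree`

Namespace `Groth.Agent.Lib.QCoh`.
-/

universe u

open CategoryTheory CategoryTheory.Limits AlgebraicGeometry Opposite TopologicalSpace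

namespace Groth.Agent.Lib.QCoh

open Scheme.Modules FlatMod

variable {X Y : Scheme.{u}}

/-- `O_X^n ≅ free (ULift (Fin n))`. -/
noncomputable def freeModIsoFree (X : Scheme.{u}) (n : ℕ) :
    FlatMod.freeMod X n ≅ SheafOfModules.free (R := X.ringCatSheaf) (ULift.{u} (Fin n)) :=
  Sigma.whiskerEquiv (f := fun _ : Fin n => Coh.structureModule X)
    (g := fun _ : ULift.{u} (Fin n) => SheafOfModules.unit X.ringCatSheaf)
    Equiv.ulift.symm (fun _ => Iso.refl _)

/-- Restriction of `O_X^n` along an open immersion is `O_Y^n`. -/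
noncomputable def restrictFreeModIso (f : Y ⟶ X) [IsOpenImmersion f] (n : ℕ) :
    (FlatMod.freeMod X n).restrict f ≅ FlatMod.freeMod Y n :=
  PreservesCoproduct.iso (restrictFunctor f) _ ≪≫ Sigma.mapIso (fun _ => restrictUnitIso f)

/-- Pullback of `O_X^n` is `O_Y^n`. -/
noncomputable def pullbackFreeModIso (f : Y ⟶ X) (n : ℕ) :
    (Scheme.Modules.pullback f).obj (FlatMod.freeMod X n) ≅ FlatMod.freeMod Y n :=
  PreservesCoproduct.iso (Scheme.Modules.pullback f) _ ≪≫ Sigma.mapIso (fun _ => pullbackUnitIso f)

/-! ### Invariance under isomorphism, rank-n ⇒ locally free -/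

theorem isFinLocFreeOfRank_of_iso {n : ℕ} {M N : X.Modules} (e : M ≅ N)
    (h : IsFinLocFreeOfRank n M) : IsFinLocFreeOfRank n N := by
  intro x
  obtain ⟨U, hx, ⟨i⟩⟩ := h x
  exact ⟨U, hx, ⟨(restrictFunctor U.ι).mapIso e.symm ≪≫ i⟩⟩

theorem isFinLocFree_of_iso {M N : X.Modules} (e : M ≅ N)
    (h : IsFinLocFree M) : IsFinLocFree N := by
  intro x
  obtain ⟨U, n, hx, ⟨i⟩⟩ := h x
  exact ⟨U, n, hx, ⟨(restrictFunctor U.ι).mapIso e.symm ≪≫ i⟩⟩

theorem isFinLocFree_of_isFinLocFreeOfRank {n : ℕ} {M : X.Modules}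
    (h : IsFinLocFreeOfRank n M) : IsFinLocFree M := fun x =>
  let ⟨U, hx, i⟩ := h x
  ⟨U, n, hx, i⟩

/-- The free module `O_X^n` is finite locally free of rank `n`. -/
theorem isFinLocFreeOfRank_freeMod (X : Scheme.{u}) (n : ℕ) :
    IsFinLocFreeOfRank n (FlatMod.freeMod X n) := fun _ =>
  ⟨⊤, trivial, ⟨restrictFreeModIso _ n⟩⟩

theorem isFinLocFree_freeMod (X : Scheme.{u}) (n : ℕ) :
    IsFinLocFree (FlatMod.freeMod X n) :=
  isFinLocFree_of_isFinLocFreeOfRank (isFinLocFreeOfRank_freeMod X n)

/-! ### Trivialisations along arbitrary open immersions -/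

/-- A trivialisation of `M` along an open immersion `j` gives a trivialisation over the open
subscheme `j.opensRange`. -/
noncomputable def trivOpensRange (j : Y ⟶ X) [IsOpenImmersion j] {M : X.Modules} {n : ℕ}
    (i : M.restrict j ≅ FlatMod.freeMod Y n) :
    M.restrict j.opensRange.ι ≅ FlatMod.freeMod (↑j.opensRange) n :=
  (restrictInvRestrictIso j.isoOpensRange.hom (M.restrict j.opensRange.ι)).symm ≪≫
    (restrictFunctor (inv j.isoOpensRange.hom)).mapIso
      (((restrictFunctorComp j.isoOpensRange.hom j.opensRange.ι).app M).symm ≪≫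
        (restrictFunctorCongr j.isoOpensRange_hom_ι).app M ≪≫ i) ≪≫
    restrictFreeModIso _ n

/-- Criterion with arbitrary open immersions instead of open subschemes. -/
theorem isFinLocFreeOfRank_of_openImmersions {n : ℕ} {M : X.Modules}
    (h : ∀ x : X, ∃ (Y : Scheme.{u}) (j : Y ⟶ X) (_ : IsOpenImmersion j),
      x ∈ Set.range j.base ∧ Nonempty (M.restrict j ≅ FlatMod.freeMod Y n)) :
    IsFinLocFreeOfRank n M := by
  intro x
  obtain ⟨Y, j, _, hx, ⟨i⟩⟩ := h x
  exact ⟨j.opensRange, hx, ⟨trivOpensRange j i⟩⟩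

theorem isFinLocFree_of_openImmersions {M : X.Modules}
    (h : ∀ x : X, ∃ (Y : Scheme.{u}) (j : Y ⟶ X) (_ : IsOpenImmersion j) (n : ℕ),
      x ∈ Set.range j.base ∧ Nonempty (M.restrict j ≅ FlatMod.freeMod Y n)) :
    IsFinLocFree M := by
  intro x
  obtain ⟨Y, j, _, n, hx, ⟨i⟩⟩ := h x
  exact ⟨j.opensRange, n, hx, ⟨trivOpensRange j i⟩⟩

/-- Being finite locally free of rank `n` is local: it can be checked on the members of a
family of open immersions that is jointly surjective. -/
theorem isFinLocFreeOfRank_of_locally {n : ℕ} {M : X.Modules}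
    (h : ∀ x : X, ∃ (Y : Scheme.{u}) (j : Y ⟶ X) (_ : IsOpenImmersion j),
      x ∈ Set.range j.base ∧ IsFinLocFreeOfRank n (M.restrict j)) :
    IsFinLocFreeOfRank n M := by
  apply isFinLocFreeOfRank_of_openImmersions
  intro x
  obtain ⟨Y, j, _, ⟨y, rfl⟩, hY⟩ := h x
  obtain ⟨V, hy, ⟨i⟩⟩ := hY y
  exact ⟨V, V.ι ≫ j, inferInstance, ⟨⟨y, hy⟩, rfl⟩,
    ⟨(restrictFunctorComp V.ι j).app M ≪≫ i⟩⟩

theorem isFinLocFree_of_locally {M : X.Modules}
    (h : ∀ x : X, ∃ (Y : Scheme.{u}) (j : Y ⟶ X) (_ : IsOpenImmersion j),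
      x ∈ Set.range j.base ∧ IsFinLocFree (M.restrict j)) :
    IsFinLocFree M := by
  apply isFinLocFree_of_openImmersions
  intro x
  obtain ⟨Y, j, _, ⟨y, rfl⟩, hY⟩ := h x
  obtain ⟨V, n, hy, ⟨i⟩⟩ := hY y
  exact ⟨V, V.ι ≫ j, inferInstance, n, ⟨⟨y, hy⟩, rfl⟩,
    ⟨(restrictFunctorComp V.ι j).app M ≪≫ i⟩⟩

/-! ### Restriction and pullback -/

theorem isFinLocFreeOfRank_restrict (f : Y ⟶ X) [IsOpenImmersion f] {n : ℕ} {M : X.Modules}
    (h : IsFinLocFreeOfRank n M) : IsFinLocFreeOfRank n (M.restrict f) := by
  intro y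
  obtain ⟨U, hy, ⟨i⟩⟩ := h (f.base y)
  refine ⟨f ⁻¹ᵁ U, hy, ⟨?_⟩⟩
  exact restrictRestrictIso f M U ≪≫ (restrictFunctor (f ∣_ U)).mapIso i ≪≫
    restrictFreeModIso _ n

theorem isFinLocFree_restrict (f : Y ⟶ X) [IsOpenImmersion f] {M : X.Modules}
    (h : IsFinLocFree M) : IsFinLocFree (M.restrict f) := by
  intro y
  obtain ⟨U, n, hy, ⟨i⟩⟩ := h (f.base y)
  refine ⟨f ⁻¹ᵁ U, n, hy, ⟨?_⟩⟩
  exact restrictRestrictIso f M U ≪≫ (restrictFunctor (f ∣_ U)).mapIso i ≪≫
    restrictFreeModIso _ n

/-- **Pullbacks of finite locally free modules are finite locally free (same rank).** -/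
theorem isFinLocFreeOfRank_pullback (f : Y ⟶ X) {n : ℕ} {M : X.Modules}
    (h : IsFinLocFreeOfRank n M) :
    IsFinLocFreeOfRank n ((Scheme.Modules.pullback f).obj M) := by
  intro y
  obtain ⟨V, hy, ⟨i⟩⟩ := h (f.base y)
  refine ⟨f ⁻¹ᵁ V, hy, ⟨?_⟩⟩
  exact pullbackRestrictIso f M V (f ⁻¹ᵁ V) le_rfl ≪≫
    (Scheme.Modules.pullback (f.resLE V (f ⁻¹ᵁ V) le_rfl)).mapIso i ≪≫ pullbackFreeModIso _ n

theorem isFinLocFree_pullback (f : Y ⟶ X) {M : X.Modules}
    (h : IsFinLocFree M) : IsFinLocFree ((Scheme.Modules.pullback f).obj M) := by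
  intro y
  obtain ⟨V, n, hy, ⟨i⟩⟩ := h (f.base y)
  refine ⟨f ⁻¹ᵁ V, n, hy, ⟨?_⟩⟩
  exact pullbackRestrictIso f M V (f ⁻¹ᵁ V) le_rfl ≪≫
    (Scheme.Modules.pullback (f.resLE V (f ⁻¹ᵁ V) le_rfl)).mapIso i ≪≫ pullbackFreeModIso _ n

theorem isFinLocFree_iff_forall_exists_rank {M : X.Modules} :
    IsFinLocFree M ↔ ∀ x : X, ∃ (U : X.Opens) (n : ℕ), x ∈ U ∧
      IsFinLocFreeOfRank n (M.restrict U.ι) := by
  constructor
  · intro h x
    obtain ⟨U, n, hx, ⟨i⟩⟩ := h x
    exact ⟨U, n, hx, isFinLocFreeOfRank_of_iso i.symm (isFinLocFreeOfRank_freeMod _ n)⟩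
  · intro h
    apply isFinLocFree_of_locally
    intro x
    obtain ⟨U, n, hx, hU⟩ := h x
    exact ⟨U, U.ι, inferInstance, by simpa using hx, isFinLocFree_of_isFinLocFreeOfRank hU⟩

/-! ### Rank one = invertible -/

/-- `O_X^1 ≅ O_X`. -/
noncomputable def freeModOneIso (X : Scheme.{u}) :
    FlatMod.freeMod X 1 ≅ Coh.structureModule X :=
  Limits.coproductUniqueIso (fun _ : Fin 1 => Coh.structureModule X)

theorem isFinLocFreeOfRank_one_iff_isInvertible {L : X.Modules} :
    IsFinLocFreeOfRank 1 L ↔ PicF.IsInvertible L := by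
  constructor
  · intro h x
    obtain ⟨U, hx, ⟨i⟩⟩ := h x
    exact ⟨U, hx, ⟨i ≪≫ freeModOneIso _⟩⟩
  · intro h x
    obtain ⟨U, hx, ⟨i⟩⟩ := h x
    exact ⟨U, hx, ⟨i ≪≫ (freeModOneIso _).symm⟩⟩

theorem isFinLocFree_of_isInvertible {L : X.Modules} (h : PicF.IsInvertible L) :
    IsFinLocFree L :=
  isFinLocFree_of_isFinLocFreeOfRank (isFinLocFreeOfRank_one_iff_isInvertible.2 h)

theorem isFinLocFreeOfRank_structureModule (X : Scheme.{u}) :
    IsFinLocFreeOfRank 1 (Coh.structureModule X) :=
  isFinLocFreeOfRank_one_iff_isInvertible.2 (isInvertible_structureModule X)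

theorem isFinLocFree_structureModule (X : Scheme.{u}) :
    IsFinLocFree (Coh.structureModule X) :=
  isFinLocFree_of_isFinLocFreeOfRank (isFinLocFreeOfRank_structureModule X)

/-! ### Finite presentation, quasi-coherence -/

theorem exists_presentation_freeMod (X : Scheme.{u}) (n : ℕ) :
    ∃ P : (FlatMod.freeMod X n).Presentation, P.IsFinite :=
  exists_presentation_of_iso (freeModIsoFree X n).symm
    (exists_presentation_free X (ULift.{u} (Fin n)))

/-- Finite locally free modules are of finite presentation. -/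
theorem isFinitePresentation_of_isFinLocFree {M : X.Modules} (h : IsFinLocFree M) :
    M.IsFinitePresentation := by
  choose U n hU e using h
  refine isFinitePresentation_of_isOpenCover M U ?_ fun y => ?_
  · rw [IsOpenCover, ← top_le_iff]
    intro y _
    exact Opens.mem_iSup.2 ⟨y, hU y⟩
  · exact exists_presentation_of_iso (e y).some.symm (exists_presentation_freeMod _ _)

/-- Finite locally free modules are quasi-coherent. -/
theorem isQuasicoherent_of_isFinLocFree {M : X.Modules} (h : IsFinLocFree M) :
    M.IsQuasicoherent := by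
  have : M.IsFinitePresentation := isFinitePresentation_of_isFinLocFree h
  infer_instance

/-- Finite locally free modules are of finite type. -/
theorem isFiniteType_of_isFinLocFree {M : X.Modules} (h : IsFinLocFree M) :
    M.IsFiniteType := by
  have : M.IsFinitePresentation := isFinitePresentation_of_isFinLocFree h
  infer_instance

/-- Locality on an open cover. -/
theorem isFinLocFree_of_isOpenCover (M : X.Modules) {ι : Type*} (U : ι → X.Opens)
    (hU : IsOpenCover U) (h : ∀ i, IsFinLocFree (M.restrict (U i).ι)) : IsFinLocFree M := by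
  apply isFinLocFree_of_locally
  intro x
  have hx : x ∈ (⨆ i, U i : X.Opens) := by rw [hU.iSup_eq_top]; trivial
  obtain ⟨i, hi⟩ := Opens.mem_iSup.1 hx
  exact ⟨U i, (U i).ι, inferInstance, by simpa using hi, h i⟩

theorem isFinLocFreeOfRank_of_isOpenCover {n : ℕ} (M : X.Modules) {ι : Type*} (U : ι → X.Opens)
    (hU : IsOpenCover U) (h : ∀ i, IsFinLocFreeOfRank n (M.restrict (U i).ι)) :
    IsFinLocFreeOfRank n M := by
  apply isFinLocFreeOfRank_of_locally
  intro x
  have hx : x ∈ (⨆ i, U i : X.Opens) := by rw [hU.iSup_eq_top]; trivial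
  obtain ⟨i, hi⟩ := Opens.mem_iSup.1 hx
  exact ⟨U i, (U i).ι, inferInstance, by simpa using hi, h i⟩

/-! ### Trivialisations on smaller open immersions, affine charts -/

/-- If `j : Y ⟶ X` is an open immersion landing in an open `U` over which `M` is trivial, then
`M.restrict j` is trivial. -/
noncomputable def trivOfRangeSubset (j : Y ⟶ X) [IsOpenImmersion j] {M : X.Modules}
    {U : X.Opens} {n : ℕ} (hj : Set.range j.base ⊆ U)
    (i : M.restrict U.ι ≅ FlatMod.freeMod (↑U) n) : M.restrict j ≅ FlatMod.freeMod Y n :=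
  have hj' : Set.range j.base ⊆ Set.range U.ι.base := by simpa using hj
  haveI : IsOpenImmersion (IsOpenImmersion.lift U.ι j hj' ≫ U.ι) := by
    rw [IsOpenImmersion.lift_fac]; infer_instance
  haveI : IsOpenImmersion (IsOpenImmersion.lift U.ι j hj') := IsOpenImmersion.of_comp _ U.ι
  (restrictFunctorCongr (IsOpenImmersion.lift_fac U.ι j hj').symm).app M ≪≫
    (restrictFunctorComp (IsOpenImmersion.lift U.ι j hj') U.ι).app M ≪≫
    (restrictFunctor (IsOpenImmersion.lift U.ι j hj')).mapIso i ≪≫ restrictFreeModIso _ n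

/-- A finite locally free module is trivial on an affine chart around any point. -/
theorem exists_affine_triv_of_isFinLocFree {M : X.Modules} (h : IsFinLocFree M) (x : X) :
    ∃ (R : CommRingCat.{u}) (j : Spec R ⟶ X) (_ : IsOpenImmersion j) (n : ℕ),
      x ∈ Set.range j.base ∧ Nonempty (M.restrict j ≅ FlatMod.freeMod (Spec R) n) := by
  obtain ⟨U, n, hx, ⟨i⟩⟩ := h x
  obtain ⟨R, j, hj, hxj, hjU⟩ := Scheme.exists_affine_mem_range_and_range_subset hx
  exact ⟨R, j, hj, n, hxj, ⟨trivOfRangeSubset j hjU i⟩⟩

theorem exists_affine_triv_of_isFinLocFreeOfRank {n : ℕ} {M : X.Modules}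
    (h : IsFinLocFreeOfRank n M) (x : X) :
    ∃ (R : CommRingCat.{u}) (j : Spec R ⟶ X) (_ : IsOpenImmersion j),
      x ∈ Set.range j.base ∧ Nonempty (M.restrict j ≅ FlatMod.freeMod (Spec R) n) := by
  obtain ⟨U, hx, ⟨i⟩⟩ := h x
  obtain ⟨R, j, hj, hxj, hjU⟩ := Scheme.exists_affine_mem_range_and_range_subset hx
  exact ⟨R, j, hj, hxj, ⟨trivOfRangeSubset j hjU i⟩⟩

/-- On `Spec R`, a finite locally free module is trivial on a basic open around any point. -/
theorem exists_basicOpen_triv_of_isFinLocFree {R : CommRingCat.{u}} {M : (Spec R).Modules}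
    (h : IsFinLocFree M) (x : Spec R) :
    ∃ (r : R) (n : ℕ), x ∈ PrimeSpectrum.basicOpen r ∧
      Nonempty (M.restrict (Spec.map (CommRingCat.ofHom (algebraMap R (Localization.Away r)))) ≅
        FlatMod.freeMod (Spec (.of (Localization.Away r))) n) := by
  obtain ⟨U, n, hx, ⟨i⟩⟩ := h x
  obtain ⟨_, ⟨_, ⟨r, rfl⟩, rfl⟩, hr, hr'⟩ :=
    PrimeSpectrum.isBasis_basic_opens.exists_subset_of_mem_open hx U.2
  refine ⟨r, n, hr, ⟨trivOfRangeSubset _ ?_ i⟩⟩
  intro y hy
  apply hr'
  have := Scheme.Hom.opensRange_localizationAway r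
  rw [← this]
  exact hy

/-! ### Tilde of a finite free module -/

/-- `(R^n)^~ ≅ O^n`. -/
noncomputable def tildeFinsuppFreeModIso (R : CommRingCat.{u}) (n : ℕ) :
    tilde (ModuleCat.of R (ULift.{u} (Fin n) →₀ R)) ≅ FlatMod.freeMod (Spec R) n :=
  tildeFinsupp _ ≪≫ (freeModIsoFree (Spec R) n).symm

/-- A basis of `M` indexed by `Fin n` trivialises `M^~`. -/
noncomputable def tildeIsoFreeModOfBasis {R : CommRingCat.{u}} {M : ModuleCat.{u} R} {n : ℕ}
    (b : Module.Basis (Fin n) R M) : tilde M ≅ FlatMod.freeMod (Spec R) n :=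
  (tilde.functor R).mapIso
    (LinearEquiv.toModuleIso (b.repr ≪≫ₗ Finsupp.domLCongr Equiv.ulift.symm)) ≪≫
    tildeFinsuppFreeModIso R n

/-! ### The affine dictionary -/

section Algebra

open TensorProduct

/-- A module which is finite projective on a family of basic opens covering the spectrum is
finite projective. -/
theorem finite_projective_of_forall_exists_away {R : Type*} [CommRing R] {M : Type*}
    [AddCommGroup M] [Module R M]
    (h : ∀ p : Ideal R, p.IsPrime → ∃ r ∉ p,
      Module.Finite (Localization.Away r) (LocalizedModule.Away r M) ∧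
        Module.Projective (Localization.Away r) (LocalizedModule.Away r M)) :
    Module.Finite R M ∧ Module.Projective R M := by
  let s : Set R := {r | Module.Finite (Localization.Away r) (LocalizedModule.Away r M) ∧
    Module.Projective (Localization.Away r) (LocalizedModule.Away r M)}
  have hs : Ideal.span s = ⊤ := by
    by_contra hne
    obtain ⟨m, hm, hle⟩ := Ideal.exists_le_maximal _ hne
    obtain ⟨r, hr, hr'⟩ := h m hm.isPrime
    exact hr (hle (Ideal.subset_span hr'))
  have hfp : Module.FinitePresentation R M :=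
    Module.FinitePresentation.of_localizationSpan s hs (fun g => by
      have := g.2.1
      have := g.2.2
      exact Module.finitePresentation_of_projective _ _)
  have hflat : Module.Flat R M := Module.flat_of_localized_span _ _ s hs (fun g => by
    have := g.2.2
    have : Module.Flat (Localization.Away g.1) (LocalizedModule.Away g.1 M) := inferInstance
    exact Module.Flat.trans R (Localization.Away g.1) _)
  exact ⟨inferInstance, Module.Flat.projective_of_finitePresentation⟩

end Algebra

section Affine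

open TensorProduct

variable {R : CommRingCat.{u}}

/-- Restriction of `M^~` to the basic open `Spec R_r` is `(R_r ⊗ M)^~`. -/
noncomputable def restrictTildeAwayIso (M : ModuleCat.{u} R) (r : R) :
    (tilde M).restrict (Spec.map (CommRingCat.ofHom (algebraMap R (Localization.Away r)))) ≅
      tilde (ModuleCat.of (Localization.Away r) (Localization.Away r ⊗[R] M)) :=
  (restrictFunctorIsoPullback _).app _ ≪≫ pullbackTildeAlgebraIso R (Localization.Away r) M

/-- If `M` is finite projective then `M^~` is finite locally free. -/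
theorem isFinLocFree_tilde_of_finite_projective (M : ModuleCat.{u} R)
    [Module.Finite R M] [Module.Projective R M] : IsFinLocFree (tilde M) := by
  apply isFinLocFree_of_openImmersions
  intro x
  have : Module.FinitePresentation R M := Module.finitePresentation_of_projective R M
  have hfree : Module.Free (Localization.AtPrime x.asIdeal)
      (LocalizedModule x.asIdeal.primeCompl M) := Module.free_of_flat_of_isLocalRing
  obtain ⟨r, hr, hr', _⟩ := Module.FinitePresentation.exists_free_localizedModule_powers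
    x.asIdeal.primeCompl (LocalizedModule.mkLinearMap x.asIdeal.primeCompl M)
    (Localization.AtPrime x.asIdeal)
  have hfin : Module.Finite (Localization.Away r) (LocalizedModule.Away r M) :=
    Module.Finite.of_isLocalizedModule (Submonoid.powers r)
      (LocalizedModule.mkLinearMap (Submonoid.powers r) M)
  let b₀ := Module.Free.chooseBasis (Localization.Away r) (LocalizedModule.Away r M)
  let b := b₀.reindex (Fintype.equivFin _)
  refine ⟨Spec (.of (Localization.Away r)),
    Spec.map (CommRingCat.ofHom (algebraMap R (Localization.Away r))), inferInstance,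
    Fintype.card (Module.Free.ChooseBasisIndex (Localization.Away r)
      (LocalizedModule.Away r M)), ?_, ⟨?_⟩⟩
  · have := Scheme.Hom.opensRange_localizationAway r
    have hx : x ∈ (PrimeSpectrum.basicOpen r : (Spec R).Opens) := hr
    rw [← this] at hx
    exact hx
  · let e : Localization.Away r ⊗[R] M ≃ₗ[Localization.Away r] LocalizedModule.Away r M :=
      (IsLocalizedModule.isBaseChange (Submonoid.powers r) (Localization.Away r)
        (LocalizedModule.mkLinearMap (Submonoid.powers r) M)).equiv
    exact restrictTildeAwayIso M r ≪≫ tildeIsoFreeModOfBasis (b.map e.symm)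

/-- If `M^~` is finite locally free then `M` is finite projective. -/
theorem finite_projective_of_isFinLocFree_tilde (M : ModuleCat.{u} R)
    (h : IsFinLocFree (tilde M)) : Module.Finite R M ∧ Module.Projective R M := by
  apply finite_projective_of_forall_exists_away
  intro p hp
  obtain ⟨r, n, hx, ⟨i⟩⟩ := exists_basicOpen_triv_of_isFinLocFree h ⟨p, hp⟩
  refine ⟨r, hx, ?_⟩
  let e := (restrictTildeAwayIso M r).symm ≪≫ i ≪≫
    (tildeFinsuppFreeModIso (.of (Localization.Away r)) n).symm
  let e' := (tilde.fullyFaithfulFunctor (R := .of (Localization.Away r))).preimageIso e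
  let e'' : (Localization.Away r ⊗[R] M) ≃ₗ[Localization.Away r]
      (ULift.{u} (Fin n) →₀ Localization.Away r) := e'.toLinearEquiv
  let e₃ : LocalizedModule.Away r M ≃ₗ[Localization.Away r]
      (ULift.{u} (Fin n) →₀ Localization.Away r) :=
    (IsLocalizedModule.isBaseChange (Submonoid.powers r) (Localization.Away r)
        (LocalizedModule.mkLinearMap (Submonoid.powers r) M)).equiv.symm ≪≫ₗ e''
  have h1 : Module.Free (Localization.Away r) (LocalizedModule.Away r M) :=
    Module.Free.of_equiv e₃.symm
  have h2 : Module.Finite (Localization.Away r) (LocalizedModule.Away r M) :=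
    Module.Finite.equiv e₃.symm
  exact ⟨h2, inferInstance⟩

/-- **Affine dictionary**: `M^~` is finite locally free iff `M` is finite projective. -/
theorem isFinLocFree_tilde_iff (M : ModuleCat.{u} R) :
    IsFinLocFree (tilde M) ↔ Module.Finite R M ∧ Module.Projective R M :=
  ⟨finite_projective_of_isFinLocFree_tilde M,
    fun ⟨_, _⟩ => isFinLocFree_tilde_of_finite_projective M⟩

/-- `Γ(L)^~ ≅ L` for quasi-coherent `L` on `Spec R`. -/
noncomputable def tildeΓIso (L : (Spec R).Modules) [L.IsQuasicoherent] :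
    tilde (moduleSpecΓFunctor.obj L) ≅ L :=
  haveI := Scheme.Modules.isIso_fromTildeΓ_of_isQuasicoherent L
  letI e := asIso L.fromTildeΓ
  e

/-- **Dictionary on `Spec R` in terms of global sections.** -/
theorem isFinLocFree_Spec_iff (L : (Spec R).Modules) [L.IsQuasicoherent] :
    IsFinLocFree L ↔ Module.Finite R (moduleSpecΓFunctor.obj L) ∧
      Module.Projective R (moduleSpecΓFunctor.obj L) := by
  rw [← isFinLocFree_tilde_iff]
  exact ⟨isFinLocFree_of_iso (tildeΓIso L).symm, isFinLocFree_of_iso (tildeΓIso L)⟩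

theorem finite_projective_Γ_of_isFinLocFree {L : (Spec R).Modules} (h : IsFinLocFree L) :
    Module.Finite R (moduleSpecΓFunctor.obj L) ∧
      Module.Projective R (moduleSpecΓFunctor.obj L) :=
  have := isQuasicoherent_of_isFinLocFree h
  (isFinLocFree_Spec_iff L).1 h

/-- A retract of a finite projective module is finite projective. -/
theorem finite_projective_of_retract {P N : ModuleCat.{u} R} (r : Retract P N)
    (hN : Module.Finite R N ∧ Module.Projective R N) :
    Module.Finite R P ∧ Module.Projective R P := by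
  obtain ⟨h1, h2⟩ := hN
  have hcomp : r.r.hom.comp r.i.hom = LinearMap.id := by
    rw [← ModuleCat.hom_comp, r.retract]; rfl
  refine ⟨Module.Finite.of_surjective r.r.hom ?_, Module.Projective.of_split r.i.hom r.r.hom hcomp⟩
  intro x
  exact ⟨r.i.hom x, by simpa using LinearMap.congr_fun hcomp x⟩

/-- On `Spec R`, a retract of a finite locally free module is finite locally free. -/
theorem isFinLocFree_of_retract_Spec {K L : (Spec R).Modules} (r : Retract K L)
    (hL : IsFinLocFree L) : IsFinLocFree K := by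
  have := isQuasicoherent_of_isFinLocFree hL
  have hiso : IsIso K.fromTildeΓ := by
    have h1 : IsIso (Scheme.Modules.fromTildeΓNatTrans.app L) :=
      inferInstanceAs (IsIso L.fromTildeΓ)
    exact (MorphismProperty.isomorphisms _).of_retract
      (NatTrans.retractArrowApp Scheme.Modules.fromTildeΓNatTrans r) h1
  have hK : K.IsQuasicoherent := (isQuasicoherent_iff_isIso_fromTildeΓ K).2 hiso
  rw [isFinLocFree_Spec_iff]
  exact finite_projective_of_retract (r.map moduleSpecΓFunctor)
    (finite_projective_Γ_of_isFinLocFree hL)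

/-- On `Spec R`: if the localisation `Γ(K)_r` is finite projective over `R_r`, then `K` is finite
locally free on `D(r)`. -/
theorem isFinLocFree_restrict_away_of_projective (K : (Spec R).Modules)
    [K.IsQuasicoherent] (r : R)
    (hfin : Module.Finite (Localization.Away r)
      (LocalizedModule.Away r (moduleSpecΓFunctor.obj K)))
    (hproj : Module.Projective (Localization.Away r)
      (LocalizedModule.Away r (moduleSpecΓFunctor.obj K))) :
    IsFinLocFree (K.restrict (Spec.map (CommRingCat.ofHom
      (algebraMap R (Localization.Away r))))) := by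
  let N' : ModuleCat R := moduleSpecΓFunctor.obj K
  let e : TensorProduct R (Localization.Away r) N' ≃ₗ[Localization.Away r]
      LocalizedModule.Away r N' :=
    (IsLocalizedModule.isBaseChange (Submonoid.powers r) (Localization.Away r)
      (LocalizedModule.mkLinearMap (Submonoid.powers r) N')).equiv
  have hfin2 : Module.Finite (Localization.Away r)
      (TensorProduct R (Localization.Away r) N') := Module.Finite.equiv e.symm
  have hproj2 : Module.Projective (Localization.Away r)
      (TensorProduct R (Localization.Away r) N') := Module.Projective.of_equiv e.symm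
  have h1 : IsFinLocFree (tilde (R := .of (Localization.Away r))
      (ModuleCat.of (Localization.Away r) (TensorProduct R (Localization.Away r) N'))) := by
    rw [isFinLocFree_tilde_iff]
    exact ⟨hfin2, hproj2⟩
  exact isFinLocFree_of_iso ((restrictTildeAwayIso N' r).symm ≪≫
      (restrictFunctor _).mapIso (tildeΓIso K)) h1

end Affine

/-- **A retract (direct summand) of a finite locally free module is finite locally free.** -/
theorem isFinLocFree_of_retract {K L : X.Modules} (r : Retract K L)
    (hL : IsFinLocFree L) : IsFinLocFree K := by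
  apply isFinLocFree_of_locally
  intro x
  obtain ⟨R, j, hj, hxj, -⟩ :=
    Scheme.exists_affine_mem_range_and_range_subset (x := x) (U := ⊤) trivial
  exact ⟨Spec R, j, hj, hxj,
    isFinLocFree_of_retract_Spec (r.map (restrictFunctor j)) (isFinLocFree_restrict j hL)⟩

/-- A direct summand of a finite locally free module is finite locally free. -/
theorem isFinLocFree_of_biprod_iso {M N L : X.Modules} [HasBinaryBiproduct M N]
    (e : M ⊞ N ≅ L) (hL : IsFinLocFree L) : IsFinLocFree M :=
  isFinLocFree_of_retract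
    { i := biprod.inl ≫ e.hom
      r := e.inv ≫ biprod.fst
      retract := by simp } hL

/-! ### Dictionary on affine opens of an arbitrary scheme -/

/-- A finite locally free module has finite projective sections over every affine open. -/
theorem finite_projective_Γ_of_isAffineOpen {M : X.Modules} (h : IsFinLocFree M) {U : X.Opens}
    (hU : IsAffineOpen U) :
    Module.Finite Γ(X, U) Γ(M, U) ∧ Module.Projective Γ(X, U) Γ(M, U) := by
  obtain ⟨h1, h2⟩ := finite_projective_Γ_of_isFinLocFree (isFinLocFree_restrict hU.fromSpec h)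
  have h1' : Module.Finite Γ(X, U) Γ(restrictSpec hU M, ⊤) := h1
  have h2' : Module.Projective Γ(X, U) Γ(restrictSpec hU M, ⊤) := h2
  exact ⟨Module.Finite.equiv (ΓrestrictSpecLinearEquiv hU M),
    Module.Projective.of_equiv (ΓrestrictSpecLinearEquiv hU M)⟩

/-- A quasi-coherent module with finite projective sections over an affine open `U` is finite
locally free on `U` (in the chart `Spec Γ(X, U)`). -/
theorem isFinLocFree_restrictSpec_of_finite_projective (M : X.Modules) [M.IsQuasicoherent]
    {U : X.Opens} (hU : IsAffineOpen U) (h1 : Module.Finite Γ(X, U) Γ(M, U))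
    (h2 : Module.Projective Γ(X, U) Γ(M, U)) : IsFinLocFree (restrictSpec hU M) := by
  rw [isFinLocFree_Spec_iff]
  have h1' : Module.Finite Γ(X, U) Γ(restrictSpec hU M, ⊤) :=
    Module.Finite.equiv (ΓrestrictSpecLinearEquiv hU M).symm
  have h2' : Module.Projective Γ(X, U) Γ(restrictSpec hU M, ⊤) :=
    Module.Projective.of_equiv (ΓrestrictSpecLinearEquiv hU M).symm
  exact ⟨h1', h2'⟩

/-- **Dictionary**: a quasi-coherent module is finite locally free iff its sections over every
affine open are finite projective. -/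
theorem isFinLocFree_iff_forall_affineOpens (M : X.Modules) [M.IsQuasicoherent] :
    IsFinLocFree M ↔ ∀ U : X.affineOpens,
      Module.Finite Γ(X, (U : X.Opens)) Γ(M, (U : X.Opens)) ∧
        Module.Projective Γ(X, (U : X.Opens)) Γ(M, (U : X.Opens)) := by
  constructor
  · intro h U
    exact finite_projective_Γ_of_isAffineOpen h U.2
  · intro h
    apply isFinLocFree_of_locally
    intro x
    obtain ⟨_, ⟨U, hU : IsAffineOpen U, rfl⟩, hxU, -⟩ :=
      (X.isBasis_affineOpens).exists_subset_of_mem_open (Set.mem_univ x) isOpen_univ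
    refine ⟨_, hU.fromSpec, inferInstance, ?_,
      isFinLocFree_restrictSpec_of_finite_projective M hU (h ⟨U, hU⟩).1 (h ⟨U, hU⟩).2⟩
    rw [hU.range_fromSpec]
    exact hxU

/-- Local version: it suffices to have, around every point, one affine open with finite projective
sections. -/
theorem isFinLocFree_of_exists_affineOpen (M : X.Modules) [M.IsQuasicoherent]
    (h : ∀ x : X, ∃ U : X.Opens, IsAffineOpen U ∧ x ∈ U ∧
      Module.Finite Γ(X, U) Γ(M, U) ∧ Module.Projective Γ(X, U) Γ(M, U)) :
    IsFinLocFree M := by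
  apply isFinLocFree_of_locally
  intro x
  obtain ⟨U, hU, hxU, h1, h2⟩ := h x
  refine ⟨_, hU.fromSpec, inferInstance, ?_,
    isFinLocFree_restrictSpec_of_finite_projective M hU h1 h2⟩
  rw [hU.range_fromSpec]
  exact hxU

end Groth.Agent.Lib.QCoh
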