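import Groth.Agent.Lib.QCoh.Helper50_FpqcReflect
import Mathlib.RingTheory.Nakayama
import Mathlib.LinearAlgebra.TensorProduct.Quotient
import Mathlib.AlgebraicGeometry.Morphisms.ClosedImmersion

/-!
# QCoh API (helper50): Nakayama for surjective closed immersions

Namespace `Groth.Agent.Lib.QCoh`.

* `surjective_of_lTensor_surjective_of_le_jacobson` (algebra).
* `epi_of_epi_pullback_map_of_isClosedImmersion` : for a surjective closed immersion `i`, a map
  `u : F ⟶ G` of quasi-coherent modules with `G` of finite type is an epimorphism as soon as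
  `i^* u` is.
-/

universe u

open CategoryTheory CategoryTheory.Limits AlgebraicGeometry Opposite TopologicalSpace TensorProduct

namespace Groth.Agent.Lib.QCoh

section Alg

variable {A B : Type*} [CommRing A] [CommRing B] [Algebra A B]

/-- If `A → B` is surjective with kernel `I` and `1 ⊗ y = 0` in `B ⊗ N`, then `y ∈ I N`. -/
theorem mem_smul_top_of_one_tmul_eq_zero (hsurj : Function.Surjective (algebraMap A B))
    {N : Type*} [AddCommGroup N] [Module A N] (y : N) (hy : (1 : B) ⊗ₜ[A] y = 0) :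
    y ∈ RingHom.ker (algebraMap A B) • (⊤ : Submodule A N) := by
  let I := RingHom.ker (algebraMap A B)
  let e₀ : (A ⧸ I) ≃ₐ[A] B :=
    Ideal.quotientKerAlgEquivOfSurjective (f := Algebra.ofId A B) hsurj
  let e : B ⊗[A] N ≃ₗ[A] N ⧸ (I • (⊤ : Submodule A N)) :=
    (TensorProduct.congr e₀.symm.toLinearEquiv (LinearEquiv.refl A N)) ≪≫ₗ
      TensorProduct.quotTensorEquivQuotSMul N I
  have h1 : e ((1 : B) ⊗ₜ[A] y) = Submodule.Quotient.mk y := by
    have : e₀.symm (1 : B) = Ideal.Quotient.mk I 1 := by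
      rw [map_one, map_one]
    simp only [e, LinearEquiv.trans_apply, TensorProduct.congr_tmul, AlgEquiv.toLinearEquiv_apply,
      LinearEquiv.refl_apply, this, TensorProduct.quotTensorEquivQuotSMul_mk_tmul, one_smul]
  rw [hy, map_zero] at h1
  exact (Submodule.Quotient.mk_eq_zero _).1 h1.symm

/-- **Nakayama**: if `A → B` is surjective with kernel in the Jacobson radical, `N` is a finite
`A`-module and `B ⊗ f` is surjective, then `f : M → N` is surjective. -/
theorem surjective_of_lTensor_surjective_of_le_jacobson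
    (hsurj : Function.Surjective (algebraMap A B))
    (hker : RingHom.ker (algebraMap A B) ≤ Ideal.jacobson ⊥)
    {M N : Type*} [AddCommGroup M] [Module A M] [AddCommGroup N] [Module A N] [Module.Finite A N]
    (f : M →ₗ[A] N) (h : Function.Surjective (f.lTensor B)) : Function.Surjective f := by
  rw [← LinearMap.range_eq_top, eq_top_iff]
  refine Submodule.le_of_le_smul_of_le_jacobson_bot Module.Finite.fg_top hker ?_
  intro n _
  -- `1 ⊗ n = (B ⊗ f)(z)`, and `z = 1 ⊗ m` for some `m`
  obtain ⟨z, hz⟩ := h ((1 : B) ⊗ₜ n)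
  have hz' : ∀ z : B ⊗[A] M, ∃ m : M, z = (1 : B) ⊗ₜ m := by
    intro z
    induction z with
    | zero => exact ⟨0, by simp⟩
    | add a b ha hb =>
      obtain ⟨m₁, rfl⟩ := ha
      obtain ⟨m₂, rfl⟩ := hb
      exact ⟨m₁ + m₂, (TensorProduct.tmul_add _ _ _).symm⟩
    | tmul b m =>
      obtain ⟨a, rfl⟩ := hsurj b
      refine ⟨a • m, ?_⟩
      rw [TensorProduct.tmul_smul, TensorProduct.smul_tmul', Algebra.smul_def, mul_one]
  obtain ⟨m, rfl⟩ := hz' z
  have h0 : (1 : B) ⊗ₜ[A] (n - f m) = 0 := by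
    rw [TensorProduct.tmul_sub, ← hz]
    simp
  have h1 := mem_smul_top_of_one_tmul_eq_zero hsurj (n - f m) h0
  have : n = f m + (n - f m) := by abel
  rw [this]
  exact Submodule.add_mem_sup ⟨m, rfl⟩ h1

end Alg

section Geom

open Scheme.Modules

variable {X₀ X : Scheme.{u}} (i : X₀ ⟶ X) [IsClosedImmersion i] [Surjective i]

/-- For a surjective closed immersion, a morphism of quasi-coherent modules with target of finite
type is an epimorphism as soon as its pullback is. -/
theorem epi_of_epi_pullback_map_of_isClosedImmersion {F G : X.Modules} [F.IsQuasicoherent]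
    [G.IsQuasicoherent] (hG : G.IsFiniteType) (u : F ⟶ G)
    (h : Epi ((Scheme.Modules.pullback i).map u)) : Epi u := by
  have hF' : ((Scheme.Modules.pullback i).obj F).IsQuasicoherent := isQuasicoherent_pullback i F
  have hG' : ((Scheme.Modules.pullback i).obj G).IsQuasicoherent := isQuasicoherent_pullback i G
  refine epi_of_forall_affine_surjective u fun U => ?_
  have hV : IsAffineOpen (i ⁻¹ᵁ (U : X.Opens)) := U.2.preimage i
  let _ : Algebra Γ(X, (U : X.Opens)) Γ(X₀, i ⁻¹ᵁ (U : X.Opens)) :=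
    (i.appLE U (i ⁻¹ᵁ (U : X.Opens)) le_rfl).hom.toAlgebra
  have hsurj : Function.Surjective
      (algebraMap Γ(X, (U : X.Opens)) Γ(X₀, i ⁻¹ᵁ (U : X.Opens))) := by
    change Function.Surjective (i.appLE U (i ⁻¹ᵁ (U : X.Opens)) le_rfl).hom
    rw [← Scheme.Hom.app_eq_appLE]
    exact i.app_surjective U U.2
  have hker : RingHom.ker (algebraMap Γ(X, (U : X.Opens)) Γ(X₀, i ⁻¹ᵁ (U : X.Opens))) ≤
      Ideal.jacobson ⊥ := by
    refine le_trans ?_ (Ideal.radical_le_jacobson (I := ⊥))
    intro a ha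
    change a ∈ nilradical _
    rw [nilradical_eq_sInf, Ideal.mem_sInf]
    intro J hJ
    have hJ' : J.IsPrime := hJ
    obtain ⟨_, q, hq⟩ := exists_comap_eq_of_surjective i U.2
      (fun _ : Unit => i ⁻¹ᵁ (U : X.Opens)) (fun _ => hV) (fun _ => le_rfl)
      (le_iSup (fun _ : Unit => i ⁻¹ᵁ (U : X.Opens)) ()) ⟨J, hJ'⟩
    have h1 : a ∈ (PrimeSpectrum.comap (i.appLE U (i ⁻¹ᵁ (U : X.Opens)) le_rfl).hom q).asIdeal := by
      change (i.appLE U (i ⁻¹ᵁ (U : X.Opens)) le_rfl).hom a ∈ q.asIdeal
      have : (i.appLE U (i ⁻¹ᵁ (U : X.Opens)) le_rfl).hom a = 0 := ha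
      rw [this]
      exact zero_mem _
    rw [hq] at h1
    exact h1
  have hfin : Module.Finite Γ(X, (U : X.Opens)) Γ(G, (U : X.Opens)) :=
    (isFiniteType_iff_forall_finite G).1 hG U
  have h1 : Function.Surjective (((Scheme.Modules.pullback i).map u).app (i ⁻¹ᵁ (U : X.Opens))) :=
    surjective_app_of_epi _ hV
  rw [pullback_map_app_surjective_iff i le_rfl U.2 hV u] at h1
  exact surjective_of_lTensor_surjective_of_le_jacobson hsurj hker (appLinear u U) h1

end Geom

end Groth.Agent.Lib.QCoh
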