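import Groth.Agent.Lib.QCoh.Helper18_IntegralSpec
import Groth.Agent.Lib.QCoh.Helper18_StalkQCoh

/-!
# Weakly associated generizations (helper18)

* `nontrivial_stalk_of_isWeakAssPoint` : weakly associated points lie in the support.
* `exists_isWeakAssPoint_specializes_of_nontrivial_stalk` : if `F_x ≠ 0` (`F` q-coh) then some
  weakly associated point of `F` specializes to `x`.
-/

universe u

open CategoryTheory CategoryTheory.Limits AlgebraicGeometry Opposite TopologicalSpace
open Groth.Agent.Lib.Helper18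

namespace Groth.Agent.Lib.QCoh

variable {X : Scheme.{u}}

theorem nontrivial_stalk_of_isWeakAssPoint (F : X.Modules) (x : X)
    (hx : Curv2.IsWeakAssPoint F x) : Nontrivial (F.presheaf.stalk x) := by
  obtain ⟨m, hm⟩ := hx
  refine ⟨⟨m, 0, ?_⟩⟩
  rintro rfl
  have htop : LinearMap.ker (LinearMap.toSpanSingleton (X.presheaf.stalk x)
      (F.presheaf.stalk x) 0) = ⊤ := by
    ext r; simp
  rw [htop, Ideal.radical_top] at hm
  exact (IsLocalRing.maximalIdeal.isMaximal _).ne_top hm.symm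

theorem exists_isWeakAssPoint_specializes_of_nontrivial_stalk (F : X.Modules)
    [F.IsQuasicoherent] (x : X) (hx : Nontrivial (F.presheaf.stalk x)) :
    ∃ y : X, Curv2.IsWeakAssPoint F y ∧ y ⤳ x := by
  obtain ⟨V, hV0, hxV, -⟩ := Opens.isBasis_iff_nbhd.1 (X.isBasis_affineOpens)
    (show x ∈ (⊤ : X.Opens) from trivial)
  have hV : IsAffineOpen V := hV0
  have hns : ¬ Subsingleton (F.presheaf.stalk x) := not_subsingleton_iff_nontrivial.2 hx
  rw [stalk_subsingleton_iff_of_isAffineOpen F hV x hxV] at hns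
  obtain ⟨s, hs⟩ := not_forall.1 hns
  -- `ann s ≤ p_x`
  have hle : WeakAss.ann Γ(X, V) s ≤ (hV.primeIdealOf ⟨x, hxV⟩).asIdeal := by
    intro t ht
    by_contra htx
    exact hs ⟨t, (notMem_primeIdealOf_iff hV x hxV t).1 htx, WeakAss.mem_ann.1 ht⟩
  obtain ⟨p, hpmin, hple⟩ := Ideal.exists_minimalPrimes_le hle
  have hpp : p.IsPrime := hpmin.1.1
  set P : PrimeSpectrum Γ(X, V) := ⟨p, hpp⟩ with hP
  have hyV := fromSpec_mem hV P
  have hPy : hV.primeIdealOf ⟨hV.fromSpec P, hyV⟩ = P := primeIdealOf_fromSpec hV P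
  refine ⟨hV.fromSpec P, ?_, ?_⟩
  · rw [isWeakAssPoint_iff_of_isAffineOpen F hV _ hyV, hPy]
    exact ⟨s, hpmin⟩
  · rw [specializes_iff_primeIdealOf_le hV hxV hyV, hPy]
    exact hple

end Groth.Agent.Lib.QCoh
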