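import Groth.Agent.Lib.QCoh.Helper18_PullbackAffine
import Groth.Agent.Lib.QCoh.Helper18_Ass
import Groth.Agent.Lib.Helper18.LocBaseChange

/-!
# QCoh API (helper18): the stalk of a pullback is the base change of the stalk

Namespace `Groth.Agent.Lib.QCoh`.

* `exists_affine_nhds_le_preimage` : affine `V ∋ f x`, affine `U ∋ x` with `U ≤ f⁻¹ V`.
* `nonempty_stalk_pullback_linearEquiv` : for `G` quasi-coherent on `S`, `f : X ⟶ S`, `x : X`:
  `(f^* G)_x ≃ₗ[O_{X,x}] O_{X,x} ⊗[O_{S,f x}] G_{f x}` (`O_{X,x}` an `O_{S,f x}`-algebra through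
  `(f.stalkMap x).hom.toAlgebra`).
-/

universe u

open CategoryTheory CategoryTheory.Limits AlgebraicGeometry Opposite TopologicalSpace TensorProduct
open Groth.Agent.Lib.Helper18

namespace Groth.Agent.Lib.QCoh

variable {X S : Scheme.{u}} (f : X ⟶ S)

lemma exists_affine_nhds_le_preimage (x : X) :
    ∃ (V : S.Opens) (_ : IsAffineOpen V) (U : X.Opens) (_ : IsAffineOpen U),
      f x ∈ V ∧ x ∈ U ∧ U ≤ f ⁻¹ᵁ V := by
  obtain ⟨V, hV0, hsV, -⟩ := Opens.isBasis_iff_nbhd.1 (S.isBasis_affineOpens)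
    (show f x ∈ (⊤ : S.Opens) from trivial)
  have hx : x ∈ f ⁻¹ᵁ V := hsV
  obtain ⟨U, hU0, hxU, hUV⟩ := Opens.isBasis_iff_nbhd.1 (X.isBasis_affineOpens) hx
  exact ⟨V, hV0, U, hU0, hsV, hxU, hUV⟩

theorem nonempty_stalk_pullback_linearEquiv (G : S.Modules) [G.IsQuasicoherent] (x : X) :
    letI : Algebra (S.presheaf.stalk (f x)) (X.presheaf.stalk x) := (f.stalkMap x).hom.toAlgebra
    Nonempty (((Scheme.Modules.pullback f).obj G).presheaf.stalk x ≃ₗ[X.presheaf.stalk x]
      (X.presheaf.stalk x) ⊗[S.presheaf.stalk (f x)] (G.presheaf.stalk (f x))) := by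
  obtain ⟨V, hV, U, hU, hsV, hxU, e⟩ := exists_affine_nhds_le_preimage f x
  have hq : ((Scheme.Modules.pullback f).obj G).IsQuasicoherent := isQuasicoherent_pullback f G
  let _ : Algebra (S.presheaf.stalk (f x)) (X.presheaf.stalk x) := (f.stalkMap x).hom.toAlgebra
  let _ : Algebra Γ(S, V) Γ(X, U) := (f.appLE V U e).hom.toAlgebra
  let _ : Algebra Γ(S, V) (S.presheaf.stalk (f x)) :=
    TopCat.Presheaf.algebra_section_stalk S.presheaf ⟨f x, hsV⟩
  let _ : Algebra Γ(X, U) (X.presheaf.stalk x) :=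
    TopCat.Presheaf.algebra_section_stalk X.presheaf ⟨x, hxU⟩
  let _ : Algebra Γ(S, V) (X.presheaf.stalk x) :=
    ((algebraMap (S.presheaf.stalk (f x)) (X.presheaf.stalk x)).comp
      (algebraMap Γ(S, V) (S.presheaf.stalk (f x)))).toAlgebra
  have t1 : IsScalarTower Γ(S, V) (S.presheaf.stalk (f x)) (X.presheaf.stalk x) :=
    IsScalarTower.of_algebraMap_eq (fun _ => rfl)
  have t2 : IsScalarTower Γ(S, V) Γ(X, U) (X.presheaf.stalk x) := by
    refine IsScalarTower.of_algebraMap_eq (fun a => ?_)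
    change f.stalkMap x (S.presheaf.germ V (f x) hsV a) =
      X.presheaf.germ U x hxU (f.appLE V U e a)
    rw [Scheme.Hom.germ_stalkMap_apply, Scheme.Hom.appLE]
    exact (TopCat.Presheaf.germ_res_apply X.presheaf (homOfLE e) x hxU (f.app V a)).symm
  have l1 := hV.isLocalization_stalk ⟨f x, hsV⟩
  have l2 := hU.isLocalization_stalk ⟨x, hxU⟩
  let _ := stalkModuleOfOpen G V (f x) hsV
  have t3 := isScalarTower_stalk G V (f x) hsV
  have l3 := isLocalizedModule_germ G hV (f x) hsV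
  let _ := stalkModuleOfOpen ((Scheme.Modules.pullback f).obj G) U x hxU
  have t4 := isScalarTower_stalk ((Scheme.Modules.pullback f).obj G) U x hxU
  have l4 := isLocalizedModule_germ ((Scheme.Modules.pullback f).obj G) hU x hxU
  exact nonempty_linearEquiv_localization_tensor
    (hV.primeIdealOf ⟨f x, hsV⟩).asIdeal.primeCompl (hU.primeIdealOf ⟨x, hxU⟩).asIdeal.primeCompl
    (germₗ G V (f x) hsV) (germₗ ((Scheme.Modules.pullback f).obj G) U x hxU)
    (pullbackΓLinearEquiv f G hV hU e)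

end Groth.Agent.Lib.QCoh
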