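import Groth.Agent.Lib.QCoh.Coherent

universe u

open CategoryTheory CategoryTheory.Limits AlgebraicGeometry Opposite TopologicalSpace

namespace Groth.Agent.Lib.QCoh

open Scheme.Modules

variable {X : Scheme.{u}}

/-- `Presentation.map` preserves finiteness. -/
theorem isFinite_presentation_map {C D : Type*} [Category C] [Category D]
    {J : GrothendieckTopology C} {K : GrothendieckTopology D}
    {R : Sheaf J RingCat.{u}} {S : Sheaf K RingCat.{u}}
    [HasSheafify J AddCommGrpCat.{u}] [J.WEqualsLocallyBijective AddCommGrpCat.{u}]
    [HasSheafify K AddCommGrpCat.{u}] [K.WEqualsLocallyBijective AddCommGrpCat.{u}]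
    {M : SheafOfModules.{u} R} (P : M.Presentation) [P.IsFinite]
    (F : SheafOfModules.{u} R ⥤ SheafOfModules.{u} S) [PreservesColimitsOfSize.{u, u} F]
    (η : SheafOfModules.unit S ≅ F.obj (SheafOfModules.unit R)) : (P.map F η).IsFinite :=
  { isFiniteType_generators := ⟨inferInstanceAs (Finite P.generators.I)⟩
    isFiniteType_relations := ⟨inferInstanceAs (Finite P.relations.I)⟩ }

/-- A finite presentation of `M.over V` from one of `M|_V`. -/
theorem exists_presentation_over_of_restrict (M : X.Modules) (V : X.Opens)
    (h : ∃ P : (M.restrict V.ι).Presentation, P.IsFinite) :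
    ∃ P : (M.over V).Presentation, P.IsFinite := by
  obtain ⟨P, hP⟩ := h
  have := isFinite_presentation_map P (overEquiv V).inverse
    (V.sheafOfModulesEquivOverInverseUnit X.ringCatSheaf).symm
  exact ⟨(P.map (overEquiv V).inverse
      (V.sheafOfModulesEquivOverInverseUnit X.ringCatSheaf).symm).ofIsIso
    ((overEquiv V).inverse.mapIso ((overFunctorEquiv V).app M).symm ≪≫
      ((overEquiv V).unitIso.app (M.over V)).symm).hom, inferInstance⟩

/-- Finite presentation is local: enough to have finite presentations on an open cover. -/
theorem isFinitePresentation_of_isOpenCover (M : X.Modules) {ι : Type u} (U : ι → X.Opens)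
    (hU : IsOpenCover U) (h : ∀ i, ∃ P : (M.restrict (U i).ι).Presentation, P.IsFinite) :
    M.IsFinitePresentation := by
  have h' := fun i => exists_presentation_over_of_restrict M (U i) (h i)
  choose P hP using h'
  let σ : SheafOfModules.QuasicoherentData.{u, u, u, u} (R := X.ringCatSheaf) M :=
    { I := ι, X := U, coversTop := (Opens.coversTop_iff _ _).2 hU, presentation := P }
  have hσ : σ.IsFinitePresentation := { isFinite_presentation := hP }
  exact { exists_quasicoherentData := ⟨σ, hσ⟩ }

/-- `N^~` has a finite global presentation if `N` is finitely presented. -/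
theorem exists_presentation_tilde {R : CommRingCat.{u}} (N : ModuleCat.{u} R)
    [h : Module.FinitePresentation R N] : ∃ P : (tilde N).Presentation, P.IsFinite := by
  obtain ⟨s, hs, t, ht⟩ := h.out
  let P := presentationTilde.{u} N (s : Set N) hs (t : Set _) ht
  have h1 : Finite P.generators.I := by
    change Finite (s : Set N)
    infer_instance
  have h2 : Finite P.relations.I := by
    change Finite (t : Set ((s : Set N) →₀ R))
    infer_instance
  exact ⟨P, { isFiniteType_generators := ⟨h1⟩, isFiniteType_relations := ⟨h2⟩ }⟩

/-- Transport of finite presentations along an isomorphism. -/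
theorem exists_presentation_of_iso {M N : X.Modules} (e : M ≅ N)
    (h : ∃ P : M.Presentation, P.IsFinite) : ∃ P : N.Presentation, P.IsFinite := by
  obtain ⟨P, hP⟩ := h
  exact ⟨P.ofIsIso e.hom, inferInstance⟩

set_option backward.isDefEq.respectTransparency false in
/-- Finite presentations restrict along open immersions. -/
theorem exists_presentation_restrict {Y : Scheme.{u}} (g : Y ⟶ X) [IsOpenImmersion g]
    {M : X.Modules} (h : ∃ P : M.Presentation, P.IsFinite) :
    ∃ P : (M.restrict g).Presentation, P.IsFinite := by
  obtain ⟨P, hP⟩ := h
  have : PreservesColimitsOfSize.{u, u} (restrictFunctor g) := inferInstance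
  exact ⟨presentationRestrict g P,
    isFinite_presentation_map P (restrictFunctor.{u} g) (restrictUnitIso g).symm⟩

set_option backward.isDefEq.respectTransparency false in
/-- On `Spec R`, a quasi-coherent module with finitely presented module of global sections has a
finite global presentation. -/
theorem exists_presentation_of_finitePresentation_Γ {R : CommRingCat.{u}}
    (M : (Spec R).Modules) [M.IsQuasicoherent] [h : Module.FinitePresentation R Γ(M, ⊤)] :
    ∃ P : M.Presentation, P.IsFinite := by
  have hiso : IsIso M.fromTildeΓ := Scheme.Modules.isIso_fromTildeΓ_of_isQuasicoherent M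
  have : Module.FinitePresentation R (moduleSpecΓFunctor.obj M) := h
  exact exists_presentation_of_iso (asIso M.fromTildeΓ)
    (exists_presentation_tilde (moduleSpecΓFunctor.obj M))

/-- For an affine open `U` and quasi-coherent `M` with `Γ(M, U)` finitely presented over
`Γ(X, U)`, the restriction `M|_U` has a finite presentation. -/
theorem exists_presentation_restrict_of_finitePresentation {U : X.Opens}
    (hU : IsAffineOpen U) (M : X.Modules) [M.IsQuasicoherent]
    (h : Module.FinitePresentation Γ(X, U) Γ(M, U)) :
    ∃ P : (M.restrict U.ι).Presentation, P.IsFinite := by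
  have : Module.FinitePresentation Γ(X, U) Γ(restrictSpec hU M, ⊤) :=
    Module.finitePresentation_of_surjective (ΓrestrictSpecLinearEquiv hU M).symm.toLinearMap
      (ΓrestrictSpecLinearEquiv hU M).symm.surjective
      (by rw [LinearEquiv.ker]; exact Submodule.fg_bot)
  have h1 := exists_presentation_of_finitePresentation_Γ (restrictSpec hU M)
  have h2 := exists_presentation_of_iso (restrictSpecIso hU M) h1
  have h3 := exists_presentation_restrict hU.isoSpec.hom h2
  refine exists_presentation_of_iso ?_ h3
  exact ((restrictFunctorComp hU.isoSpec.hom hU.isoSpec.inv).app (M.restrict U.ι)).symm ≪≫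
    (restrictFunctorCongr (hU.isoSpec.hom_inv_id)).app _ ≪≫ restrictFunctorId.app _

/-- A quasi-coherent module whose sections over all affine opens are finitely presented is of
finite presentation. -/
theorem isFinitePresentation_of_forall_finitePresentation (M : X.Modules) [M.IsQuasicoherent]
    (h : ∀ U : X.affineOpens,
      Module.FinitePresentation Γ(X, (U : X.Opens)) Γ(M, (U : X.Opens))) :
    M.IsFinitePresentation :=
  isFinitePresentation_of_isOpenCover M _ (isOpenCover_affineOpens X)
    fun U => exists_presentation_restrict_of_finitePresentation U.2 M (h U)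

/-- **On a locally Noetherian scheme, coherent (= q-coh of finite type) implies finite
presentation.** -/
theorem isFinitePresentation_of_isLocallyNoetherian [IsLocallyNoetherian X] (M : X.Modules)
    [M.IsQuasicoherent] [M.IsFiniteType] : M.IsFinitePresentation := by
  refine isFinitePresentation_of_forall_finitePresentation M fun U => ?_
  have : IsNoetherianRing Γ(X, (U : X.Opens)) := IsLocallyNoetherian.component_noetherian U
  have : Module.Finite Γ(X, (U : X.Opens)) Γ(M, (U : X.Opens)) := finite_Γ_of_isAffineOpen U.2 M
  exact Module.finitePresentation_of_finite _ _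

end Groth.Agent.Lib.QCoh
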