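import Groth.Agent.Lib.QCoh.Helper50_FlatBC

/-!
# QCoh API (helper74): gluing natural families of functions on sections from a basis

Namespace `Groth.Agent.Lib.QCoh.Glue74`.

Given `M N : X.Modules`, a predicate `good` on opens forming a basis, functions
`φ W : Γ(M,W) → Γ(N,W)` on good opens, compatible with restriction along a relation `rel W' W`
(e.g. "`W'` is a basic open of `W`") such that any two good opens are locally refined by a common
`rel`-smaller good open, there is a unique natural family `ψ U : Γ(M,U) → Γ(N,U)` on all opens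
extending `φ` (`exists_family`).  Additivity / linearity / multiplicativity transfer
(`eq_of_good` is the tool), and `homOfFamily` turns an additive linear natural family into a
morphism of modules.
-/

universe u
open CategoryTheory CategoryTheory.Limits AlgebraicGeometry Opposite TopologicalSpace

namespace Groth.Agent.Lib.QCoh.Glue74
open Scheme.Modules Groth.Agent.Lib.QCoh

variable {X : Scheme.{u}}

/-- Restriction of sections (for readability). -/
noncomputable abbrev res (M : X.Modules) {U' U : X.Opens} (h : U' ≤ U) (a : Γ(M, U)) : Γ(M, U') :=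
  M.presheaf.map (homOfLE h).op a

lemma res_res (M : X.Modules) {U'' U' U : X.Opens} (h' : U'' ≤ U') (h : U' ≤ U) (a : Γ(M, U)) :
    res M h' (res M h a) = res M (h'.trans h) a := by
  change (M.presheaf.map (homOfLE h).op ≫ M.presheaf.map (homOfLE h').op) a = _
  rw [← Functor.map_comp]
  rfl

lemma res_self (M : X.Modules) {U : X.Opens} (a : Γ(M, U)) : res M le_rfl a = a := by
  change M.presheaf.map (𝟙 _) a = a
  rw [M.presheaf.map_id]
  rfl

lemma res_add (M : X.Modules) {U' U : X.Opens} (h : U' ≤ U) (a b : Γ(M, U)) :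
    res M h (a + b) = res M h a + res M h b := map_add _ _ _

lemma res_smul (M : X.Modules) {U' U : X.Opens} (h : U' ≤ U) (r : Γ(X, U)) (a : Γ(M, U)) :
    res M h (r • a) = X.presheaf.map (homOfLE h).op r • res M h a :=
  M.map_smul (homOfLE h) r a

section Basis

variable (N : X.Modules) (good : X.Opens → Prop)
  (hbasis : ∀ (V : X.Opens) (x : X), x ∈ V → ∃ W : X.Opens, good W ∧ x ∈ W ∧ W ≤ V)

include hbasis in
/-- Sections agreeing on all good opens are equal. -/
lemma eq_of_good {U : X.Opens} (s t : Γ(N, U))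
    (h : ∀ (W : X.Opens) (_ : good W) (hWU : W ≤ U), res N hWU s = res N hWU t) : s = t := by
  choose W hW hxW hWU using hbasis U
  refine sections_ext_of_cover N (fun x : U => W x.1 x.2) U (fun x => hWU x.1 x.2) ?_ s t
    fun x => h _ (hW x.1 x.2) _
  intro y hy
  exact Opens.mem_iSup.2 ⟨⟨y, hy⟩, hxW y hy⟩

end Basis

section Extend

variable (M N : X.Modules) (good : X.Opens → Prop)
  (hbasis : ∀ (V : X.Opens) (x : X), x ∈ V → ∃ W : X.Opens, good W ∧ x ∈ W ∧ W ≤ V)
  (φ : ∀ W : X.Opens, good W → Γ(M, W) → Γ(N, W))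
  (rel : X.Opens → X.Opens → Prop) (hrel : ∀ {W' W : X.Opens}, rel W' W → W' ≤ W)
  (H1 : ∀ {W' W : X.Opens} (hW' : good W') (hW : good W) (h : rel W' W) (a : Γ(M, W)),
    φ W' hW' (res M (hrel h) a) = res N (hrel h) (φ W hW a))
  (H2 : ∀ (W₁ W₂ : X.Opens), good W₁ → good W₂ → ∀ x : X, x ∈ W₁ ⊓ W₂ →
    ∃ W' : X.Opens, good W' ∧ x ∈ W' ∧ rel W' W₁ ∧ rel W' W₂)

include H1 H2 in
/-- Compatibility with restriction for arbitrary pairs of good opens. -/
lemma compat_of_le {W' W : X.Opens} (hW' : good W') (hW : good W) (h : W' ≤ W) (a : Γ(M, W)) :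
    φ W' hW' (res M h a) = res N h (φ W hW a) := by
  have key : ∀ x : W', ∃ W'' : X.Opens, good W'' ∧ x.1 ∈ W'' ∧ rel W'' W' ∧ rel W'' W :=
    fun x => H2 W' W hW' hW x.1 ⟨x.2, h x.2⟩
  choose W'' hg hx hr' hr using key
  refine sections_ext_of_cover N W'' W' (fun x => hrel (hr' x)) ?_ _ _ fun x => ?_
  · intro y hy
    exact Opens.mem_iSup.2 ⟨⟨y, hy⟩, hx ⟨y, hy⟩⟩
  · change res N (hrel (hr' x)) (φ W' hW' (res M h a)) = res N (hrel (hr' x)) (res N h (φ W hW a))
    rw [← H1 (hg x) hW' (hr' x), res_res, res_res, ← H1 (hg x) hW (hr x)]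

include hbasis H1 H2 in
/-- **Extension from a basis**: a unique natural family on all opens extending `φ`. -/
theorem exists_family :
    ∃ ψ : ∀ U : X.Opens, Γ(M, U) → Γ(N, U),
      (∀ {U' U : X.Opens} (h : U' ≤ U) (a : Γ(M, U)), ψ U' (res M h a) = res N h (ψ U a)) ∧
      (∀ (W : X.Opens) (hW : good W) (a : Γ(M, W)), ψ W a = φ W hW a) := by
  have hc := @compat_of_le X M N good φ rel @hrel @H1 H2
  -- gluing
  have hglue : ∀ (U : X.Opens) (a : Γ(M, U)), ∃ t : Γ(N, U),
      ∀ (W : X.Opens) (hW : good W) (hWU : W ≤ U), res N hWU t = φ W hW (res M hWU a) := by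
    intro U a
    obtain ⟨t, ht⟩ := exists_gluing_of_cover N
      (fun W : {W : X.Opens // good W ∧ W ≤ U} => W.1) U (fun W => W.2.2)
      (by
        intro y hy
        obtain ⟨W, hW, hyW, hWU⟩ := hbasis U y hy
        exact Opens.mem_iSup.2 ⟨⟨W, hW, hWU⟩, hyW⟩)
      (fun W => φ W.1 W.2.1 (res M W.2.2 a))
      (by
        intro W₁ W₂
        refine eq_of_good N good hbasis _ _ fun W'' hW'' hle => ?_
        change res N hle (res N inf_le_left (φ W₁.1 W₁.2.1 (res M W₁.2.2 a))) =
          res N hle (res N inf_le_right (φ W₂.1 W₂.2.1 (res M W₂.2.2 a)))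
        rw [res_res, res_res, ← hc hW'' W₁.2.1, ← hc hW'' W₂.2.1, res_res, res_res])
    exact ⟨t, fun W hW hWU => ht ⟨W, hW, hWU⟩⟩
  choose ψ hψ using hglue
  refine ⟨ψ, ?_, ?_⟩
  · intro U' U h a
    refine eq_of_good N good hbasis _ _ fun W hW hWU' => ?_
    rw [hψ U' _ W hW hWU', res_res, res_res, hψ U a W hW (hWU'.trans h)]
  · intro W hW a
    have := hψ W a W hW le_rfl
    rwa [res_self, res_self] at this

end Extend

section Hom

variable {M N : X.Modules}

/-- An additive, linear, natural family of functions on sections is a morphism of modules. -/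
noncomputable def homOfFamily (ψ : ∀ U : X.Opens, Γ(M, U) → Γ(N, U))
    (hnat : ∀ {U' U : X.Opens} (h : U' ≤ U) (a : Γ(M, U)), ψ U' (res M h a) = res N h (ψ U a))
    (hadd : ∀ (U : X.Opens) (a b : Γ(M, U)), ψ U (a + b) = ψ U a + ψ U b)
    (hsmul : ∀ (U : X.Opens) (r : Γ(X, U)) (a : Γ(M, U)), ψ U (r • a) = r • ψ U a) : M ⟶ N :=
  ⟨PresheafOfModules.homMk
    { app := fun U => AddCommGrpCat.ofHom (AddMonoidHom.mk' (ψ U.unop) (hadd U.unop))
      naturality := fun U V i => by
        ext a
        have hi : i = (homOfLE (leOfHom i.unop)).op := Subsingleton.elim _ _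
        rw [hi]
        exact hnat (leOfHom i.unop) a }
    (fun U r a => hsmul U.unop r a)⟩

@[simp] lemma homOfFamily_app (ψ : ∀ U : X.Opens, Γ(M, U) → Γ(N, U)) (hnat) (hadd) (hsmul)
    (U : X.Opens) (a : Γ(M, U)) : (homOfFamily ψ hnat hadd hsmul).app U a = ψ U a := rfl

end Hom

end Groth.Agent.Lib.QCoh.Glue74
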