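import Groth.Agent.Lib.QCoh.Helper74_RefHullAffine
import Groth.Agent.Lib.QCoh.Helper74_GlueFamily
import Groth.Agent.Lib.QCoh.FinitePresentation

/-!
# Spreading out a linear map between stalks of coherent modules (helper18; S9526)

Namespace `Groth.Agent.Lib.QCoh.StalkHomSpread`.
-/

set_option autoImplicit false
universe u

open CategoryTheory CategoryTheory.Limits AlgebraicGeometry Opposite TopologicalSpace

namespace Groth.Agent.Lib.QCoh.StalkHomSpread

open RefHull Groth.Agent.Lib.QCoh Groth.Agent.Lib.QCoh.RefHull74 Groth.Agent.Lib.QCoh.Glue74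

variable {X : Scheme.{u}} {G F : X.Modules} {U : X.Opens} (g : Γ(homSh G F, U))

/-- The section `g` restricted to `U.ι ''ᵁ W`. -/
noncomputable def gRes (W : (U : Scheme.{u}).Opens) : Γ(homSh G F, U.ι ''ᵁ W) :=
  (homSh G F).presheaf.map (homOfLE (U.ι_image_le W)).op g

/-- The family of maps on sections of the restricted modules defined by a section of the sheaf
Hom. -/
noncomputable def fam (W : (U : Scheme.{u}).Opens)
    (m : Γ((Scheme.Modules.restrictFunctor U.ι).obj G, W)) :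
    Γ((Scheme.Modules.restrictFunctor U.ι).obj F, W) :=
  (show Γ(F, U.ι ''ᵁ W) from applySec (F := G) (G := F) (U := U.ι ''ᵁ W) (gRes g W)
    (show Γ(G, U.ι ''ᵁ W) from m))

lemma fam_nat {W' W : (U : Scheme.{u}).Opens} (h : W' ≤ W)
    (m : Γ((Scheme.Modules.restrictFunctor U.ι).obj G, W)) :
    fam g W' (res _ h m) = res _ h (fam g W m) := by
  have h' : U.ι ''ᵁ W' ≤ U.ι ''ᵁ W := U.ι.image_mono h
  have e : gRes g W' = (homSh G F).presheaf.map (homOfLE h').op (gRes g W) := by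
    unfold gRes
    rw [← ConcreteCategory.comp_apply, ← Functor.map_comp]
    rfl
  change applySec (gRes g W') (G.presheaf.map (homOfLE h').op m) =
    F.presheaf.map (homOfLE h').op (applySec (gRes g W) m)
  rw [e]
  exact applySec_res h' (gRes g W) (show Γ(G, U.ι ''ᵁ W) from m)

lemma restrict_smul (M : X.Modules) (W : (U : Scheme.{u}).Opens) (r : Γ((U : Scheme.{u}), W))
    (a : Γ((Scheme.Modules.restrictFunctor U.ι).obj M, W)) :
    (show Γ(M, U.ι ''ᵁ W) from r • a) =
      (show Γ(X, U.ι ''ᵁ W) from r) • (show Γ(M, U.ι ''ᵁ W) from a) := by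
  change ((U.ι.appIso W).inv r) • (show Γ(M, U.ι ''ᵁ W) from a) = _
  rw [Scheme.Opens.ι_appIso]
  rfl

lemma fam_smul (W : (U : Scheme.{u}).Opens) (r : Γ((U : Scheme.{u}), W))
    (a : Γ((Scheme.Modules.restrictFunctor U.ι).obj G, W)) :
    fam g W (r • a) = r • fam g W a := by
  have h1 := restrict_smul F W r (fam g W a)
  have h2 := restrict_smul G W r a
  have h3 : fam g W (r • a) = applySec (gRes g W) (show Γ(G, U.ι ''ᵁ W) from r • a) := rfl
  rw [h3]
  refine Eq.trans ?_ h1.symm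
  refine (congrArg (applySec (gRes g W)) h2).trans ?_
  exact applySec_smul (gRes g W) _ _

/-- The morphism `G|_U ⟶ F|_U` defined by a section of the sheaf Hom over `U`. -/
noncomputable def homOfSection :
    (Scheme.Modules.restrictFunctor U.ι).obj G ⟶ (Scheme.Modules.restrictFunctor U.ι).obj F :=
  homOfFamily (fam g) (fun h m => fam_nat g h m)
    (fun W a b => applySec_add (gRes g W) a b)
    (fun W r a => fam_smul g W r a)

lemma homOfSection_app (W : (U : Scheme.{u}).Opens)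
    (m : Γ((Scheme.Modules.restrictFunctor U.ι).obj G, W)) :
    (homOfSection g).app W m = fam g W m := rfl

/-- The stalk of `homOfSection g` at `x ∈ U` is `g_x`. -/
theorem stalk_homOfSection_apply (x : X) (hx : x ∈ U) (a : G.presheaf.stalk x) :
    ((Scheme.Modules.restrictStalkNatIso U.ι (⟨x, hx⟩ : (U : Scheme.{u}))).hom.app F)
      (((TopCat.Presheaf.stalkFunctor _ (⟨x, hx⟩ : (U : Scheme.{u}))).map
        (homOfSection g).mapPresheaf)
        (((Scheme.Modules.restrictStalkNatIso U.ι (⟨x, hx⟩ : (U : Scheme.{u}))).inv.app G) a)) =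
      g.1 ⟨x, hx⟩ a := by
  obtain ⟨V, hxV, m0, rfl⟩ := TopCat.Presheaf.exists_germ_eq G.presheaf a
  set W : (U : Scheme.{u}).Opens := U.ι ⁻¹ᵁ V with hW
  have huW : (⟨x, hx⟩ : (U : Scheme.{u})) ∈ W := hxV
  have hle : U.ι ''ᵁ W ≤ V := U.ι.image_preimage_le V
  have hxιW : x ∈ U.ι ''ᵁ W := ⟨⟨x, hx⟩, huW, rfl⟩
  set m : Γ(G, U.ι ''ᵁ W) := G.presheaf.map (homOfLE hle).op m0 with hm
  have e0 : G.presheaf.germ V x hxV m0 = G.presheaf.germ (U.ι ''ᵁ W) x hxιW m :=
    (TopCat.Presheaf.germ_res_apply G.presheaf (homOfLE hle) x hxιW m0).symm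
  rw [e0]
  have e1 : ((Scheme.Modules.restrictStalkNatIso U.ι (⟨x, hx⟩ : (U : Scheme.{u}))).inv.app G)
      (G.presheaf.germ (U.ι ''ᵁ W) x hxιW m) =
      ((Scheme.Modules.restrictFunctor U.ι).obj G).presheaf.germ W ⟨x, hx⟩ huW m :=
    ConcreteCategory.congr_hom
      (Scheme.Modules.germ_restrictStalkNatIso_inv_app U.ι ⟨x, hx⟩ G huW) m
  rw [e1]
  have e2 := TopCat.Presheaf.stalkFunctor_map_germ_apply W (⟨x, hx⟩ : (U : Scheme.{u})) huW
    (homOfSection g).mapPresheaf m
  rw [e2]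
  have e3 : ((Scheme.Modules.restrictStalkNatIso U.ι (⟨x, hx⟩ : (U : Scheme.{u}))).hom.app F)
      (((Scheme.Modules.restrictFunctor U.ι).obj F).presheaf.germ W ⟨x, hx⟩ huW (fam g W m)) =
      F.presheaf.germ (U.ι ''ᵁ W) x hxιW (fam g W m) :=
    ConcreteCategory.congr_hom
      (Scheme.Modules.germ_restrictStalkNatIso_hom_app U.ι ⟨x, hx⟩ F huW) (fam g W m)
  refine Eq.trans e3 ?_
  exact germ_applySec (gRes g W) m x hxιW

/-- **S9526**: a linear map between stalks of coherent modules spreads out to a neighbourhood. -/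
theorem exists_hom_restrict_with_stalk_eq (X : Scheme.{u}) [IsLocallyNoetherian X]
    (F G : X.Modules) (hF : Coh.IsCoh F) (hG : Coh.IsCoh G) (x : X)
    (ψ : ↑(G.presheaf.stalk x) →ₗ[X.presheaf.stalk x] ↑(F.presheaf.stalk x)) :
    ∃ (U : X.Opens) (hx : x ∈ U)
      (φ : (Scheme.Modules.restrictFunctor U.ι).obj G ⟶ (Scheme.Modules.restrictFunctor U.ι).obj F),
      (Scheme.Modules.restrictStalkNatIso U.ι (⟨x, hx⟩ : U)).inv.app G ≫
          (TopCat.Presheaf.stalkFunctor _ (⟨x, hx⟩ : U)).map φ.mapPresheaf ≫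
            (Scheme.Modules.restrictStalkNatIso U.ι (⟨x, hx⟩ : U)).hom.app F =
        AddCommGrpCat.ofHom ψ.toAddMonoidHom := by
  have := hF.1
  have := hG.1
  have := hG.2
  have : G.IsFinitePresentation := isFinitePresentation_of_isLocallyNoetherian G
  obtain ⟨θ, hθ⟩ := (evalStalk_bijective G F x).2 ψ
  obtain ⟨U, hxU, g, rfl⟩ := TopCat.Presheaf.exists_germ_eq (homSh G F).presheaf θ
  rw [evalStalk_germ] at hθ
  refine ⟨U, hxU, homOfSection g, ?_⟩
  ext a
  refine (stalk_homOfSection_apply g x hxU a).trans ?_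
  rw [hθ]
  rfl

end Groth.Agent.Lib.QCoh.StalkHomSpread
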