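import Groth.Agent.Lib.QCoh.Helper18_ZClosOpen

/-!
# Spreading out stalk properties of maps of coherent modules (helper18; S9525)

Namespace `Groth.Agent.Lib.QCoh.StalkLocal`.
-/

set_option autoImplicit false
universe u v w

open CategoryTheory CategoryTheory.Limits AlgebraicGeometry Opposite TopologicalSpace
open Groth.Agent.Lib.Helper18

namespace Groth.Agent.Lib.QCoh.StalkLocal

open Groth.Agent.Lib.QCoh Groth.Agent.Lib.QCoh.ZClosLib

section Loc

variable {R : Type u} [CommRing R] (S : Submonoid R)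
  {M : Type v} [AddCommGroup M] [Module R M] {N : Type w} [AddCommGroup N] [Module R N]
  {M' : Type v} [AddCommGroup M'] [Module R M'] {N' : Type w} [AddCommGroup N'] [Module R N']
  (f : M →ₗ[R] M') (g : N →ₗ[R] N') [IsLocalizedModule S f] [IsLocalizedModule S g]
  (φ : M →ₗ[R] N) (ψ : M' →ₗ[R] N') (hsq : ∀ m, ψ (f m) = g (φ m))

include hsq in
theorem injective_iff_of_isLocalizedModule :
    Function.Injective ψ ↔ (∀ m, φ m = 0 → ∃ s ∈ S, s • m = 0) := by
  constructor
  · intro hinj m hm
    have h1 : f m = 0 := by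
      apply hinj
      rw [hsq, hm, map_zero, map_zero]
    obtain ⟨s, hs⟩ := (IsLocalizedModule.eq_zero_iff S f).1 h1
    exact ⟨s.1, s.2, hs⟩
  · intro hker
    rw [injective_iff_map_eq_zero]
    intro a' ha'
    obtain ⟨⟨m, s⟩, hms⟩ := IsLocalizedModule.surj S f a'
    have hms' : s.1 • a' = f m := hms
    have h1 : g (φ m) = 0 := by
      rw [← hsq, ← hms', map_smul, ha', smul_zero]
    obtain ⟨t, ht⟩ := (IsLocalizedModule.eq_zero_iff S g).1 h1
    have ht' : φ (t.1 • m) = 0 := by rw [map_smul]; exact ht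
    obtain ⟨s', hs', hs'm⟩ := hker _ ht'
    have h2 : f m = 0 := by
      rw [IsLocalizedModule.eq_zero_iff S f]
      exact ⟨⟨s' * t.1, S.mul_mem hs' t.2⟩, by
        show (s' * t.1) • m = 0
        rw [mul_smul]; exact hs'm⟩
    have h3 : s.1 • a' = 0 := by rw [hms', h2]
    exact (IsLocalizedModule.smul_injective f s)
      (show s • a' = s • (0 : M') from by
        show s.1 • a' = s.1 • (0 : M')
        rw [h3, smul_zero])

end Loc

variable {X : Scheme.{u}}

theorem injective_stalkMap_iff {M N : X.Modules} [M.IsQuasicoherent] [N.IsQuasicoherent]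
    (φ : M ⟶ N) {V : X.Opens} (hV : IsAffineOpen V) (x : X) (hx : x ∈ V) :
    Function.Injective (stalkMap φ x) ↔
      (∀ m : Γ(M, V), φ.app V m = 0 → ∃ s : Γ(X, V),
        s ∉ (hV.primeIdealOf ⟨x, hx⟩).asIdeal ∧ s • m = 0) := by
  let _ := stalkModuleOfOpen M V x hx
  let _ := stalkModuleOfOpen N V x hx
  have hlocM := isLocalizedModule_germ M hV x hx
  have hlocN := isLocalizedModule_germ N hV x hx
  let ψ : M.presheaf.stalk x →ₗ[Γ(X, V)] N.presheaf.stalk x :=
    { toFun := stalkMap φ x
      map_add' := map_add _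
      map_smul' := fun r m => stalkMap_smul φ x (X.presheaf.germ V x hx r) m }
  have key := injective_iff_of_isLocalizedModule
    (hV.primeIdealOf ⟨x, hx⟩).asIdeal.primeCompl (germₗ M V x hx) (germₗ N V x hx)
    (appLinear φ V) ψ (fun m => stalkMap_germ φ x V hx m)
  refine Iff.trans ?_ (key.trans ?_)
  · rfl
  · constructor
    · intro h1 m hm
      obtain ⟨s, hs, hsm⟩ := h1 m hm
      exact ⟨s, hs, hsm⟩
    · intro h1 m hm
      obtain ⟨s, hs, hsm⟩ := h1 m hm
      exact ⟨s, hs, hsm⟩

theorem isOpen_setOf_injective_stalkMap [IsLocallyNoetherian X] {M N : X.Modules}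
    (hM : Coh.IsCoh M) [N.IsQuasicoherent] (φ : M ⟶ N) :
    IsOpen {x : X | Function.Injective (stalkMap φ x)} := by
  have := hM.1
  have := hM.2
  rw [isOpen_iff_forall_mem_open]
  intro x hx
  obtain ⟨V, hV0, hxV, -⟩ := Opens.isBasis_iff_nbhd.1 (X.isBasis_affineOpens)
    (show x ∈ (⊤ : X.Opens) from trivial)
  have hV : IsAffineOpen V := hV0
  have hNR : IsNoetherianRing Γ(X, V) := IsLocallyNoetherian.component_noetherian ⟨V, hV⟩
  have hfinM : Module.Finite Γ(X, V) Γ(M, V) := finite_Γ_of_isAffineOpen hV M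
  have hNM : IsNoetherian Γ(X, V) Γ(M, V) := isNoetherian_of_isNoetherianRing_of_finite _ _
  rw [Set.mem_ofPred_eq, injective_stalkMap_iff φ hV x hxV] at hx
  set p := (hV.primeIdealOf ⟨x, hxV⟩).asIdeal with hp
  obtain ⟨k₁, hk₁p, hk₁⟩ := exists_notMem_forall_smul_eq_zero
    (LinearMap.ker (appLinear φ V)) (IsNoetherian.noetherian _) p
    (fun k hk => hx k (by simpa using hk))
  refine ⟨X.basicOpen k₁, ?_, (X.basicOpen _).isOpen, ?_⟩
  · intro y hy
    have hyV : y ∈ V := X.basicOpen_le _ hy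
    rw [Set.mem_ofPred_eq, injective_stalkMap_iff φ hV y hyV]
    have hky : k₁ ∉ (hV.primeIdealOf ⟨y, hyV⟩).asIdeal :=
      (notMem_primeIdealOf_iff hV y hyV _).2 hy
    exact fun m hm => ⟨k₁, hky, hk₁ m (by simpa using hm)⟩
  · exact (notMem_primeIdealOf_iff hV x hxV _).1 hk₁p

theorem isOpen_setOf_subsingleton_stalk (F : X.Modules) [F.IsQuasicoherent] [F.IsFiniteType] :
    IsOpen {x : X | Subsingleton (F.presheaf.stalk x)} := by
  rw [isOpen_iff_forall_mem_open]
  intro x hx
  obtain ⟨V, hV0, hxV, -⟩ := Opens.isBasis_iff_nbhd.1 (X.isBasis_affineOpens)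
    (show x ∈ (⊤ : X.Opens) from trivial)
  have hV : IsAffineOpen V := hV0
  have hfin : Module.Finite Γ(X, V) Γ(F, V) := finite_Γ_of_isAffineOpen hV F
  rw [Set.mem_ofPred_eq, stalk_subsingleton_iff_of_isAffineOpen F hV x hxV] at hx
  obtain ⟨k, hkp, hk⟩ := exists_notMem_forall_smul_eq_zero
    (⊤ : Submodule Γ(X, V) Γ(F, V)) Module.Finite.fg_top (hV.primeIdealOf ⟨x, hxV⟩).asIdeal
    (fun m _ => by
      obtain ⟨r, hr, hrm⟩ := hx m
      exact ⟨r, (notMem_primeIdealOf_iff hV x hxV r).2 hr, hrm⟩)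
  refine ⟨X.basicOpen k, ?_, (X.basicOpen _).isOpen, (notMem_primeIdealOf_iff hV x hxV _).1 hkp⟩
  intro y hy
  have hyV : y ∈ V := X.basicOpen_le _ hy
  rw [Set.mem_ofPred_eq, stalk_subsingleton_iff_of_isAffineOpen F hV y hyV]
  exact fun m => ⟨k, hy, hk m trivial⟩

section Restrict

variable (U : X.Opens) {G F : X.Modules} (φ : G ⟶ F) (u : U)

lemma stalkMap_restrict_comm :
    stalkMap ((Scheme.Modules.restrictFunctor U.ι).map φ) u ≫
        (Scheme.Modules.restrictStalkNatIso U.ι u).hom.app F =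
      (Scheme.Modules.restrictStalkNatIso U.ι u).hom.app G ≫ stalkMap φ (U.ι u) :=
  (Scheme.Modules.restrictStalkNatIso U.ι u).hom.naturality φ

lemma stalkMap_restrict_apply (a : ((Scheme.Modules.restrictFunctor U.ι).obj G).presheaf.stalk u) :
    (Scheme.Modules.restrictStalkNatIso U.ι u).hom.app F
        (stalkMap ((Scheme.Modules.restrictFunctor U.ι).map φ) u a) =
      stalkMap φ (U.ι u) ((Scheme.Modules.restrictStalkNatIso U.ι u).hom.app G a) := by
  exact ConcreteCategory.congr_hom (stalkMap_restrict_comm U φ u) a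

lemma bijective_restrictStalkNatIso_app (M : X.Modules) :
    Function.Bijective ((Scheme.Modules.restrictStalkNatIso U.ι u).hom.app M) :=
  ConcreteCategory.bijective_of_isIso _

theorem injective_stalkMap_restrict_iff :
    Function.Injective (stalkMap ((Scheme.Modules.restrictFunctor U.ι).map φ) u) ↔
      Function.Injective (stalkMap φ (U.ι u)) := by
  have hF := bijective_restrictStalkNatIso_app U u F
  have hG := bijective_restrictStalkNatIso_app U u G
  have key := stalkMap_restrict_apply U φ u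
  constructor
  · intro hi b1 b2 hb
    obtain ⟨a1, rfl⟩ := hG.2 b1
    obtain ⟨a2, rfl⟩ := hG.2 b2
    have hb' := (key a1).trans (hb.trans (key a2).symm)
    exact congrArg _ (hi (hF.1 hb'))
  · intro hi a1 a2 ha
    apply hG.1
    apply hi
    exact (key a1).symm.trans ((congrArg _ ha).trans (key a2))

theorem surjective_stalkMap_restrict_iff :
    Function.Surjective (stalkMap ((Scheme.Modules.restrictFunctor U.ι).map φ) u) ↔
      Function.Surjective (stalkMap φ (U.ι u)) := by
  have hF := bijective_restrictStalkNatIso_app U u F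
  have hG := bijective_restrictStalkNatIso_app U u G
  have key := stalkMap_restrict_apply U φ u
  constructor
  · intro hs b
    obtain ⟨b', rfl⟩ := hF.2 b
    obtain ⟨a, rfl⟩ := hs b'
    exact ⟨_, (key a).symm⟩
  · intro hs b
    obtain ⟨a, ha⟩ := hs ((Scheme.Modules.restrictStalkNatIso U.ι u).hom.app F b)
    obtain ⟨a', rfl⟩ := hG.2 a
    exact ⟨a', hF.1 ((key a').trans ha)⟩

theorem bijective_stalkMap_restrict_iff :
    Function.Bijective (stalkMap ((Scheme.Modules.restrictFunctor U.ι).map φ) u) ↔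
      Function.Bijective (stalkMap φ (U.ι u)) := by
  unfold Function.Bijective
  rw [injective_stalkMap_restrict_iff, surjective_stalkMap_restrict_iff]

theorem subsingleton_stalk_restrict_iff (M : X.Modules) :
    Subsingleton (((Scheme.Modules.restrictFunctor U.ι).obj M).presheaf.stalk u) ↔
      Subsingleton (M.presheaf.stalk (U.ι u)) :=
  (Equiv.ofBijective _ (bijective_restrictStalkNatIso_app U u M)).subsingleton_congr

end Restrict

/-- Spreading out of vanishing, injectivity and bijectivity at a stalk (S9525). -/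
theorem exists_open_restrict [IsLocallyNoetherian X] (F G : X.Modules) (hF : Coh.IsCoh F)
    (hG : Coh.IsCoh G) (φ : G ⟶ F) (x : X) :
    (Subsingleton ↑(F.presheaf.stalk x) →
      ∃ U : X.Opens, x ∈ U ∧ IsZero ((Scheme.Modules.restrictFunctor U.ι).obj F)) ∧
    (Function.Injective (stalkMap φ x) →
      ∃ U : X.Opens, x ∈ U ∧ Mono ((Scheme.Modules.restrictFunctor U.ι).map φ)) ∧
    (Function.Bijective (stalkMap φ x) →
      ∃ U : X.Opens, x ∈ U ∧ IsIso ((Scheme.Modules.restrictFunctor U.ι).map φ)) := by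
  have := hF.1
  have := hF.2
  have := hG.1
  refine ⟨fun h => ?_, fun h => ?_, fun h => ?_⟩
  · refine ⟨⟨_, isOpen_setOf_subsingleton_stalk F⟩, h, ?_⟩
    apply isZero_of_forall_stalk_subsingleton
    intro u
    exact (subsingleton_stalk_restrict_iff _ u F).2 u.2
  · refine ⟨⟨_, isOpen_setOf_injective_stalkMap hG φ⟩, h, ?_⟩
    apply mono_of_forall_stalkMap_injective
    intro u
    exact (injective_stalkMap_restrict_iff _ φ u).2 u.2
  · refine ⟨⟨_, isOpen_setOf_bijective_stalkMap hG hF φ⟩, h, ?_⟩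
    apply isIso_of_forall_stalkMap_bijective
    intro u
    exact (bijective_stalkMap_restrict_iff _ φ u).2 u.2

end Groth.Agent.Lib.QCoh.StalkLocal
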