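import Groth.Prelude.Def_Coh
import Groth.Agent.Lib.QCoh.Coherent
import Groth.Agent.Lib.QCoh.Local

/-!
# Coherent modules (`Coh.IsCoh`): kernels, cokernels, subobjects, quotients (lead)

ns `Groth.Agent.Lib.QCoh`.
* `isCoh_kernel` : `X` locally Noetherian, `φ : M ⟶ N` between `IsCoh` modules ⇒ `kernel φ` is `IsCoh`
* `isCoh_cokernel` : any scheme
* `isCoh_of_mono` (locally Noetherian, quasi-coherent source), `isCoh_of_epi` (quasi-coherent target), `isCoh_of_iso`
-/

universe u

open CategoryTheory CategoryTheory.Limits AlgebraicGeometry Opposite TopologicalSpace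

namespace Groth.Agent.Lib.QCoh

open Scheme.Modules

variable {X : Scheme.{u}}

theorem isCoh_of_iso {M N : X.Modules} (e : M ≅ N) (hM : Coh.IsCoh M) : Coh.IsCoh N := by
  obtain ⟨h1, h2⟩ := hM
  have : M.IsQuasicoherent := h1
  have : M.IsFiniteType := h2
  exact ⟨isQuasicoherent_of_iso e inferInstance, isFiniteType_of_iso e⟩

/-- a quasi-coherent quotient of a coherent module is coherent -/
theorem isCoh_of_epi {M N : X.Modules} (p : M ⟶ N) [Epi p] (hM : Coh.IsCoh M)
    (hN : N.IsQuasicoherent) : Coh.IsCoh N := by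
  have : M.IsFiniteType := hM.2
  exact ⟨hN, isFiniteType_of_epi p⟩

/-- on a locally Noetherian scheme a quasi-coherent submodule of a coherent module is coherent -/
theorem isCoh_of_mono [IsLocallyNoetherian X] {N M : X.Modules} (i : N ⟶ M) [Mono i]
    (hM : Coh.IsCoh M) (hN : N.IsQuasicoherent) : Coh.IsCoh N := by
  have : M.IsQuasicoherent := hM.1
  have : M.IsFiniteType := hM.2
  exact ⟨hN, isFiniteType_of_mono i⟩

/-- **the kernel of a map of coherent modules on a locally Noetherian scheme is coherent** -/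
theorem isCoh_kernel [IsLocallyNoetherian X] {M N : X.Modules} (hM : Coh.IsCoh M)
    (hN : Coh.IsCoh N) (φ : M ⟶ N) : Coh.IsCoh (kernel φ) := by
  have : M.IsQuasicoherent := hM.1
  have : N.IsQuasicoherent := hN.1
  exact isCoh_of_mono (kernel.ι φ) hM (isQuasicoherent_kernel φ)

/-- the cokernel of a map of coherent modules is coherent (any scheme) -/
theorem isCoh_cokernel {M N : X.Modules} (hM : Coh.IsCoh M) (hN : Coh.IsCoh N) (φ : M ⟶ N) :
    Coh.IsCoh (cokernel φ) := by
  have : M.IsQuasicoherent := hM.1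
  have : N.IsQuasicoherent := hN.1
  exact isCoh_of_epi (cokernel.π φ) hN (isQuasicoherent_cokernel φ)

end Groth.Agent.Lib.QCoh
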