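import Groth.Agent.Lib.QCoh.Helper18_StalkLinear
import Groth.Agent.Lib.QCoh.Helper18_Stalk
import Groth.Agent.Lib.QCoh.CohKernel
import Groth.Agent.Lib.QCoh.Helper74_LocFree

/-!
# QCoh API (helper74): the locus where a morphism of modules is an isomorphism on stalks

Namespace `Groth.Agent.Lib.QCoh.IsoLocus74`.

* `stalkMap_injective_iff` : `φ_x` injective iff `(kernel φ)_x = 0`.
* `stalkMap_surjective_iff` : `φ_x` surjective iff `(cokernel φ)_x = 0`.
* `isOpen_bijective_locus` : on a locally Noetherian scheme, for `φ` between coherent modules the set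
  of points where `φ_x` is bijective is open.
-/

set_option linter.style.haveILetI false
universe u
open CategoryTheory CategoryTheory.Limits AlgebraicGeometry Opposite TopologicalSpace

namespace Groth.Agent.Lib.QCoh.IsoLocus74
open Groth.Agent.Lib.QCoh

variable {X : Scheme.{u}} {M N : X.Modules} (φ : M ⟶ N)

theorem stalkMap_injective_iff (x : X) :
    Function.Injective (stalkMap φ x) ↔ Subsingleton ((kernel φ).presheaf.stalk x) := by
  let S : ShortComplex X.Modules := ShortComplex.mk (kernel.ι φ) φ (kernel.condition φ)
  have hS : S.Exact := ShortComplex.exact_kernel φ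
  have hE := hS.map (stalkFunctor X x)
  rw [ShortComplex.ab_exact_iff] at hE
  have hι : Function.Injective (stalkMap (kernel.ι φ) x) := stalkMap_injective_of_mono _ x
  constructor
  · intro hinj
    refine ⟨fun a b => hι ?_⟩
    have h0 : ∀ c : (kernel φ).presheaf.stalk x, stalkMap (kernel.ι φ) x c = 0 := by
      intro c
      apply hinj
      have h1 : (stalkFunctor X x).map (kernel.ι φ) ≫ (stalkFunctor X x).map φ = 0 := by
        rw [← Functor.map_comp, kernel.condition, Functor.map_zero]
      rw [map_zero]
      exact congr($h1 c)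
    rw [h0 a, h0 b]
  · intro hsub
    rw [injective_iff_map_eq_zero]
    intro a ha
    obtain ⟨c, hc⟩ := hE a ha
    have hc0 : c = 0 := hsub.elim (α := (kernel φ).presheaf.stalk x) c 0
    rw [← hc, hc0]
    exact map_zero _

theorem stalkMap_surjective_iff (x : X) :
    Function.Surjective (stalkMap φ x) ↔ Subsingleton ((cokernel φ).presheaf.stalk x) := by
  let S : ShortComplex X.Modules := ShortComplex.mk φ (cokernel.π φ) (cokernel.condition φ)
  have hS : S.Exact := ShortComplex.exact_cokernel φ
  have hE := hS.map (stalkFunctor X x)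
  rw [ShortComplex.ab_exact_iff] at hE
  have hπ : Function.Surjective (stalkMap (cokernel.π φ) x) := stalkMap_surjective_of_epi _ x
  constructor
  · intro hsurj
    refine ⟨fun a b => ?_⟩
    have h0 : ∀ c : (cokernel φ).presheaf.stalk x, c = 0 := by
      intro c
      obtain ⟨n, rfl⟩ := hπ c
      obtain ⟨m, rfl⟩ := hsurj n
      have h1 : (stalkFunctor X x).map φ ≫ (stalkFunctor X x).map (cokernel.π φ) = 0 := by
        rw [← Functor.map_comp, cokernel.condition, Functor.map_zero]
      exact congr($h1 m)
    rw [h0 a, h0 b]
  · intro hsub n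
    have : stalkMap (cokernel.π φ) x n = 0 := Subsingleton.elim _ _
    exact hE n this

theorem bijective_locus_eq :
    {x : X | Function.Bijective (stalkMap φ x)} =
      (CohB1.support (kernel φ))ᶜ ∩ (CohB1.support (cokernel φ))ᶜ := by
  ext x
  simp only [Set.mem_ofPred_eq, Set.mem_inter_iff, Set.mem_compl_iff, notMem_support_iff]
  rw [← stalkMap_injective_iff, ← stalkMap_surjective_iff]
  rfl

/-- On a locally Noetherian scheme, the locus where a morphism of coherent modules is an
isomorphism on stalks is open. -/
theorem isOpen_bijective_locus [IsLocallyNoetherian X] (hM : Coh.IsCoh M) (hN : Coh.IsCoh N) :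
    IsOpen {x : X | Function.Bijective (stalkMap φ x)} := by
  rw [bijective_locus_eq]
  exact (isClosed_support_of_isFT _ (isCoh_kernel hM hN φ).2).isOpen_compl.inter
    (isClosed_support_of_isFT _ (isCoh_cokernel hM hN φ).2).isOpen_compl

theorem isCoh_structureModule (X : Scheme.{u}) : Coh.IsCoh (Coh.structureModule X) :=
  ⟨isQuasicoherent_of_isFinLocFree (isFinLocFree_structureModule X),
    isFiniteType_of_isFinLocFree (isFinLocFree_structureModule X)⟩

end Groth.Agent.Lib.QCoh.IsoLocus74
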