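import Groth.Agent.Lib.QCoh.Helper74_FittGen

/-!
# QCoh API (helper74): finite locally free of rank `r` in terms of Fitting ideal sheaves

Namespace `Groth.Agent.Lib.QCoh.FittSheaf74`.
-/

set_option linter.style.haveILetI false
universe u
open CategoryTheory CategoryTheory.Limits AlgebraicGeometry Opposite TopologicalSpace

namespace Groth.Agent.Lib.QCoh.FittSheaf74
open Scheme.Modules FlatMod Groth.Agent.Lib.QCoh Groth.Agent.Lib.Helper61.QCohSections
  Groth.Agent.Lib.Helper45.Fitting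

variable {X : Scheme.{u}} (F : X.Modules) [F.IsQuasicoherent] [F.IsFiniteType]

/-- Fitting ideal sheaves of a finite locally free module of rank `r`. -/
theorem sheafIdeal_of_isFinLocFreeOfRank {r : ℕ} (h : IsFinLocFreeOfRank r F) (k : ℕ) :
    (k < r → Fitt.sheafIdeal F k = ⊥) ∧ (r ≤ k → Fitt.sheafIdeal F k = ⊤) := by
  have key : ∀ x : X, ∃ U : X.Opens, IsAffineOpen U ∧ x ∈ U ∧ U ≤ ⊤ ∧
      Nonempty (Module.Basis (Fin r) Γ(X, U) Γ(F, U)) :=
    fun x => exists_affine_basis_of_isFinLocFreeOfRank h (V := ⊤) (x := x) trivial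
  choose U hU hxU _ hb using key
  have hcov : ⨆ x : X, ((⟨U x, hU x⟩ : X.affineOpens) : X.Opens) = ⊤ :=
    top_le_iff.1 fun x _ => Opens.mem_iSup.2 ⟨x, hxU x⟩
  constructor
  · intro hk
    refine Scheme.IdealSheafData.ext_of_iSup_eq_top (fun x : X => (⟨U x, hU x⟩ : X.affineOpens))
      hcov fun x => ?_
    obtain ⟨b⟩ := hb x
    rw [sheafIdeal_ideal]
    exact (fitt_of_basis b k).1 hk
  · intro hk
    refine Scheme.IdealSheafData.ext_of_iSup_eq_top (fun x : X => (⟨U x, hU x⟩ : X.affineOpens))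
      hcov fun x => ?_
    obtain ⟨b⟩ := hb x
    rw [sheafIdeal_ideal]
    exact (fitt_of_basis b k).2 hk

/-- Conversely. -/
theorem isFinLocFreeOfRank_of_sheafIdeal {r : ℕ}
    (h0 : ∀ k : ℕ, k < r → Fitt.sheafIdeal F k = ⊥) (h1 : Fitt.sheafIdeal F r = ⊤) :
    IsFinLocFreeOfRank r F := by
  have key : ∀ x : X, ∃ D : X.Opens, IsAffineOpen D ∧ x ∈ D ∧
      Nonempty (Module.Basis (Fin r) Γ(X, D) Γ(F, D)) := by
    intro x
    obtain ⟨_, ⟨V, hV, rfl⟩, hxV, -⟩ :=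
      X.isBasis_affineOpens.exists_subset_of_mem_open (Set.mem_univ x) isOpen_univ
    have htop : Fitt.ideal Γ(X, V) Γ(F, V) r = ⊤ := by
      rw [← sheafIdeal_ideal F r ⟨V, hV⟩, h1]; rfl
    have hnot : ¬ Fitt.ideal Γ(X, V) Γ(F, V) r ≤ (hV.primeIdealOf ⟨x, hxV⟩).asIdeal := by
      rw [htop]
      exact fun hle => (hV.primeIdealOf ⟨x, hxV⟩).isPrime.ne_top (top_le_iff.1 hle)
    obtain ⟨g, hxg, t, ht⟩ := exists_basicOpen_span F hV hxV r hnot
    refine ⟨X.basicOpen g, hV.basicOpen g, hxg, ?_⟩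
    rcases r with _ | r
    · exact ⟨Module.Basis.mk (v := t) linearIndependent_empty_type (by rw [ht])⟩
    · have hbot : Fitt.ideal Γ(X, X.basicOpen g) Γ(F, X.basicOpen g) r = ⊥ := by
        rw [← sheafIdeal_ideal F r ⟨X.basicOpen g, hV.basicOpen g⟩, h0 r (Nat.lt_succ_self r)]
        rfl
      exact ⟨Module.Basis.mk (linearIndependent_of_fitt_eq_bot t ht hbot) (by rw [ht])⟩
  have hlf : IsFinLocFree F := by
    refine isFinLocFree_of_exists_affineOpen F fun x => ?_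
    obtain ⟨D, hD, hxD, ⟨b⟩⟩ := key x
    have hfree : Module.Free Γ(X, D) Γ(F, D) := Module.Free.of_basis b
    exact ⟨D, hD, hxD, Module.Finite.of_basis b, inferInstance⟩
  refine isFinLocFreeOfRank_of_rankAtStalk_eq hlf r fun x => ?_
  obtain ⟨D, hD, hxD, ⟨b⟩⟩ := key x
  refine ⟨D, hD, hxD, fun p => ?_⟩
  have hfree : Module.Free Γ(X, D) Γ(F, D) := Module.Free.of_basis b
  have : Nontrivial Γ(X, D) := p.nontrivial
  rw [Module.rankAtStalk_eq_finrank_of_free, Pi.natCast_apply, Module.finrank_eq_card_basis b,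
    Fintype.card_fin]
  rfl

/-- **`F` is finite locally free of rank `r` iff `Fit_k F = 0` for `k < r` and `Fit_k F = O`
for `k ≥ r`.** -/
theorem isFinLocFreeOfRank_iff_sheafIdeal (r : ℕ) :
    IsFinLocFreeOfRank r F ↔
      (∀ k : ℕ, k < r → Fitt.sheafIdeal F k = ⊥) ∧ (∀ k : ℕ, r ≤ k → Fitt.sheafIdeal F k = ⊤) :=
  ⟨fun h => ⟨fun k => (sheafIdeal_of_isFinLocFreeOfRank F h k).1,
    fun k => (sheafIdeal_of_isFinLocFreeOfRank F h k).2⟩,
   fun h => isFinLocFreeOfRank_of_sheafIdeal F h.1 (h.2 r le_rfl)⟩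

end Groth.Agent.Lib.QCoh.FittSheaf74
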