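import Groth.Agent.Lib.QCoh.Helper74_FittComap
import Groth.Agent.Lib.QCoh.Helper74_FittFree

/-!
# QCoh API (helper74): the flattening stratum where a module is locally free of rank `r`

Namespace `Groth.Agent.Lib.QCoh.FittSheaf74`.
-/

set_option linter.style.haveILetI false
universe u
open CategoryTheory CategoryTheory.Limits AlgebraicGeometry Opposite TopologicalSpace

namespace Groth.Agent.Lib.QCoh.FittSheaf74
open Scheme.Modules FlatMod Groth.Agent.Lib.QCoh Groth.Agent.Lib.Helper45.Fitting

variable {X : Scheme.{u}} (F : X.Modules) [F.IsQuasicoherent] [F.IsFiniteType]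

theorem sheafIdeal_mono {k k' : ℕ} (h : k ≤ k') :
    Fitt.sheafIdeal F k ≤ Fitt.sheafIdeal F k' := by
  intro U
  rw [sheafIdeal_ideal, sheafIdeal_ideal]
  have := finite_Γ_of_isAffineOpen U.2 F
  exact fitt_mono h

theorem isFinLocFreeOfRank_pullback_iff {T : Scheme.{u}} (f : T ⟶ X) (r : ℕ) :
    IsFinLocFreeOfRank r ((Scheme.Modules.pullback f).obj F) ↔
      (∀ k : ℕ, k < r → (Fitt.sheafIdeal F k).comap f = ⊥) ∧
        (Fitt.sheafIdeal F r).comap f = ⊤ := by
  have := isFiniteType_pullback f F
  constructor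
  · intro h
    refine ⟨fun k hk => ?_, ?_⟩
    · rw [comap_sheafIdeal]
      exact (sheafIdeal_of_isFinLocFreeOfRank _ h k).1 hk
    · rw [comap_sheafIdeal]
      exact (sheafIdeal_of_isFinLocFreeOfRank _ h r).2 le_rfl
  · rintro ⟨h0, h1⟩
    apply isFinLocFreeOfRank_of_sheafIdeal
    · intro k hk
      rw [← comap_sheafIdeal]
      exact h0 k hk
    · rw [← comap_sheafIdeal]
      exact h1

/-- **Flattening stratum**: there is an immersion `Z → X` such that `f : T → X` factors through
it iff `f^* F` is finite locally free of rank `r`. -/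
theorem exists_immersion_flattening (r : ℕ) :
    ∃ (Z : Scheme.{u}) (i : Z ⟶ X), IsImmersion i ∧ ∀ (T : Scheme.{u}) (f : T ⟶ X),
      (∃ g : T ⟶ Z, g ≫ i = f) ↔
        IsFinLocFreeOfRank r ((Scheme.Modules.pullback f).obj F) := by
  let J : X.IdealSheafData := if r = 0 then ⊥ else Fitt.sheafIdeal F (r - 1)
  let W : X.Opens := (Fitt.sheafIdeal F r).support.compl
  let U : J.subscheme.Opens := J.subschemeι ⁻¹ᵁ W
  have hJk : ∀ k : ℕ, k < r → Fitt.sheafIdeal F k ≤ J := by
    intro k hk
    have hr : r ≠ 0 := by omega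
    simp only [J, if_neg hr]
    exact sheafIdeal_mono F (by omega)
  refine ⟨U, U.ι ≫ J.subschemeι, inferInstance, fun T f => ?_⟩
  rw [isFinLocFreeOfRank_pullback_iff]
  constructor
  · rintro ⟨g, rfl⟩
    refine ⟨fun k hk => ?_, ?_⟩
    · rw [eq_bot_iff, ← Scheme.IdealSheafData.le_map_iff_comap_le, Scheme.IdealSheafData.map_bot]
      calc Fitt.sheafIdeal F k ≤ J := hJk k hk
        _ = J.subschemeι.ker := J.ker_subschemeι.symm
        _ ≤ ((g ≫ U.ι) ≫ J.subschemeι).ker := Scheme.Hom.le_ker_comp _ _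
        _ = (g ≫ U.ι ≫ J.subschemeι).ker := by rw [Category.assoc]
    · rw [← Scheme.IdealSheafData.support_eq_bot_iff, Scheme.IdealSheafData.support_comap]
      apply TopologicalSpace.Closeds.ext
      ext t
      simp only [Closeds.coe_preimage, Set.mem_preimage, SetLike.mem_coe, Closeds.coe_bot,
        Set.mem_empty_iff_false, iff_false]
      have h1 : (U.ι (g t) : J.subscheme) ∈ U := (g t).2
      have h2 : J.subschemeι (U.ι (g t)) ∈ W := h1
      exact h2
  · rintro ⟨h0, h1⟩
    have hJ : J ≤ f.ker := by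
      by_cases hr : r = 0
      · simp only [J, if_pos hr]; exact bot_le
      · simp only [J, if_neg hr]
        rw [← Scheme.IdealSheafData.map_bot, Scheme.IdealSheafData.le_map_iff_comap_le,
          h0 (r - 1) (by omega)]
    have hJ' : J.subschemeι.ker ≤ f.ker := by rwa [J.ker_subschemeι]
    let g₀ : T ⟶ J.subscheme := IsClosedImmersion.lift J.subschemeι f hJ'
    have hg₀ : g₀ ≫ J.subschemeι = f := IsClosedImmersion.lift_fac _ _ _
    have hsupp : ∀ t : T, f t ∉ (Fitt.sheafIdeal F r).support := by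
      intro t ht
      have h2 : t ∈ ((Fitt.sheafIdeal F r).comap f).support := by
        rw [Scheme.IdealSheafData.support_comap]; exact ht
      rw [h1, Scheme.IdealSheafData.support_top] at h2
      exact h2
    have hrange : Set.range g₀ ⊆ Set.range U.ι := by
      rintro _ ⟨t, rfl⟩
      rw [Scheme.Opens.range_ι]
      show J.subschemeι (g₀ t) ∈ W
      have : J.subschemeι (g₀ t) = f t := by rw [← hg₀]; rfl
      rw [this]
      exact hsupp t
    refine ⟨IsOpenImmersion.lift U.ι g₀ hrange, ?_⟩
    rw [← Category.assoc, IsOpenImmersion.lift_fac, hg₀]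

end Groth.Agent.Lib.QCoh.FittSheaf74
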