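import Groth.Agent.Lib.QCoh.Helper18_Stalk
import Groth.Agent.Lib.Helper4.ProperOver2

/-!
# QCoh API (helper18): supports, short exact sequences and properness of supports

Namespace `Groth.Agent.Lib.QCoh`.

* `support_eq_union_of_shortExact` : `Supp E.X₂ = Supp E.X₁ ∪ Supp E.X₃` for a short exact sequence
* `support_subset_of_mono`, `support_subset_of_epi`, `support_eq_of_iso`
* `isProperOver_of_subset` : a closed subset of a proper-over closed subset is proper-over
* `isProperOver_union` : union of two proper-over closed subsets is proper-over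
-/

universe u

open CategoryTheory CategoryTheory.Limits AlgebraicGeometry Opposite TopologicalSpace

namespace Groth.Agent.Lib.QCoh

variable {X : Scheme.{u}}

/-- The support is additive on short exact sequences. -/
theorem support_eq_union_of_shortExact (E : ShortComplex X.Modules) (hE : E.ShortExact) :
    CohB1.support E.X₂ = CohB1.support E.X₁ ∪ CohB1.support E.X₃ := by
  ext x
  have hE' : (E.map (stalkFunctor X x)).ShortExact := hE.map_of_exact (stalkFunctor X x)
  have hf : Function.Injective (stalkMap E.f x) :=
    (AddCommGrpCat.mono_iff_injective _).1 hE'.mono_f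
  have hg : Function.Surjective (stalkMap E.g x) :=
    (AddCommGrpCat.epi_iff_surjective _).1 hE'.epi_g
  have hex := (ShortComplex.ab_exact_iff _).1 hE'.exact
  rw [Set.mem_union, mem_support_iff, mem_support_iff, mem_support_iff, ← not_and_or, not_iff_not]
  constructor
  · intro h2
    exact ⟨hf.subsingleton, hg.subsingleton⟩
  · rintro ⟨h1, h3⟩
    refine ⟨fun a b => ?_⟩
    suffices h0 : ∀ t : E.X₂.presheaf.stalk x, t = 0 by rw [h0 a, h0 b]
    intro t
    have h3' : Subsingleton ((E.map (stalkFunctor X x)).X₃) := h3
    have h1' : Subsingleton ((E.map (stalkFunctor X x)).X₁) := h1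
    obtain ⟨s, hs⟩ := hex t (Subsingleton.elim _ _)
    rw [← hs, Subsingleton.elim s 0]
    exact map_zero _

/-- The support of a subobject is contained in the support. -/
theorem support_subset_of_mono {M N : X.Modules} (φ : M ⟶ N) [Mono φ] :
    CohB1.support M ⊆ CohB1.support N := by
  intro x hx hN
  exact hx (stalkMap_injective_of_mono φ x).subsingleton

/-- The support of a quotient is contained in the support. -/
theorem support_subset_of_epi {M N : X.Modules} (φ : M ⟶ N) [Epi φ] :
    CohB1.support N ⊆ CohB1.support M := by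
  intro x hx hM
  exact hx (stalkMap_surjective_of_epi φ x).subsingleton

/-- Isomorphic modules have the same support. -/
theorem support_eq_of_iso {M N : X.Modules} (e : M ≅ N) :
    CohB1.support M = CohB1.support N :=
  Set.Subset.antisymm (support_subset_of_mono e.hom) (support_subset_of_epi e.hom)

section ProperOver

variable {X S : Scheme.{u}}

open ClSub Groth.Agent.Lib.Helper4

/-- A closed subset of a closed subset proper over `S` is proper over `S`. -/
theorem isProperOver_of_subset (f : X ⟶ S) {A C : Set X} (hA : IsClosed A)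
    (hAC : A ⊆ C) (hC : IsProperOver f C) : IsProperOver f A := by
  obtain ⟨hCc, hCp⟩ := hC
  refine ⟨hA, ?_⟩
  have hle : Scheme.IdealSheafData.vanishingIdeal ⟨C, hCc⟩ ≤
      Scheme.IdealSheafData.vanishingIdeal ⟨A, hA⟩ :=
    Scheme.IdealSheafData.vanishingIdeal_antimono (S := ⟨A, hA⟩) (T := ⟨C, hCc⟩) hAC
  have hj : Scheme.IdealSheafData.inclusion hle ≫
      (Scheme.IdealSheafData.vanishingIdeal ⟨C, hCc⟩).subschemeι =
      (Scheme.IdealSheafData.vanishingIdeal ⟨A, hA⟩).subschemeι :=
    Scheme.IdealSheafData.inclusion_subschemeι hle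
  have hci : IsClosedImmersion (Scheme.IdealSheafData.inclusion hle) := by
    have : IsClosedImmersion (Scheme.IdealSheafData.inclusion hle ≫
        (Scheme.IdealSheafData.vanishingIdeal ⟨C, hCc⟩).subschemeι) := by
      rw [hj]; infer_instance
    exact IsClosedImmersion.of_comp _ (Scheme.IdealSheafData.vanishingIdeal ⟨C, hCc⟩).subschemeι
  rw [← hj, Category.assoc]
  infer_instance

/-- A finite union of closed subsets proper over `S` is proper over `S`. -/
theorem isProperOver_union (f : X ⟶ S) [LocallyOfFiniteType f] {A B : Set X}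
    (hA : IsProperOver f A) (hB : IsProperOver f B) : IsProperOver f (A ∪ B) := by
  obtain ⟨hAc, hAp⟩ := hA
  obtain ⟨hBc, hBp⟩ := hB
  have hUc : IsClosed (A ∪ B) := hAc.union hBc
  refine ⟨hUc, ?_⟩
  set IA := Scheme.IdealSheafData.vanishingIdeal ⟨A, hAc⟩ with hIA
  set IB := Scheme.IdealSheafData.vanishingIdeal ⟨B, hBc⟩ with hIB
  set IU := Scheme.IdealSheafData.vanishingIdeal ⟨A ∪ B, hUc⟩ with hIU
  have hleA : IU ≤ IA :=
    Scheme.IdealSheafData.vanishingIdeal_antimono (S := ⟨A, hAc⟩) (T := ⟨A ∪ B, hUc⟩)
      Set.subset_union_left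
  have hleB : IU ≤ IB :=
    Scheme.IdealSheafData.vanishingIdeal_antimono (S := ⟨B, hBc⟩) (T := ⟨A ∪ B, hUc⟩)
      Set.subset_union_right
  have hjA := Scheme.IdealSheafData.inclusion_subschemeι hleA
  have hjB := Scheme.IdealSheafData.inclusion_subschemeι hleB
  have hciA : IsClosedImmersion (Scheme.IdealSheafData.inclusion hleA) := by
    have : IsClosedImmersion (Scheme.IdealSheafData.inclusion hleA ≫ IU.subschemeι) := by
      rw [hjA]; infer_instance
    exact IsClosedImmersion.of_comp _ IU.subschemeι
  have hciB : IsClosedImmersion (Scheme.IdealSheafData.inclusion hleB) := by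
    have : IsClosedImmersion (Scheme.IdealSheafData.inclusion hleB ≫ IU.subschemeι) := by
      rw [hjB]; infer_instance
    exact IsClosedImmersion.of_comp _ IU.subschemeι
  let Ti : Bool → Scheme.{u} := fun b => if b then IA.subscheme else IB.subscheme
  let a : ∀ b, Ti b ⟶ IU.subscheme := fun b =>
    match b with
    | true => Scheme.IdealSheafData.inclusion hleA
    | false => Scheme.IdealSheafData.inclusion hleB
  refine isProper_of_jointly_surjective (ι := Bool) (Ti := Ti) a (IU.subschemeι ≫ f) ?_ ?_ ?_
  · intro x
    have hx : IU.subschemeι x ∈ A ∪ B := by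
      have := range_vanishingIdeal_subschemeι (A ∪ B) hUc
      rw [← this]; exact ⟨x, rfl⟩
    rcases hx with hx | hx
    · refine ⟨true, ?_⟩
      have : IU.subschemeι x ∈ Set.range IA.subschemeι := by
        rw [range_vanishingIdeal_subschemeι A hAc]; exact hx
      obtain ⟨z, hz⟩ := this
      refine ⟨z, IU.subschemeι.isClosedEmbedding.injective ?_⟩
      rw [← hz, ← hjA, Scheme.Hom.comp_apply]
    · refine ⟨false, ?_⟩
      have : IU.subschemeι x ∈ Set.range IB.subschemeι := by
        rw [range_vanishingIdeal_subschemeι B hBc]; exact hx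
      obtain ⟨z, hz⟩ := this
      refine ⟨z, IU.subschemeι.isClosedEmbedding.injective ?_⟩
      rw [← hz, ← hjB, Scheme.Hom.comp_apply]
  · intro b
    cases b
    · exact inferInstanceAs (UniversallyClosed (Scheme.IdealSheafData.inclusion hleB))
    · exact inferInstanceAs (UniversallyClosed (Scheme.IdealSheafData.inclusion hleA))
  · intro b
    cases b
    · change IsProper (Scheme.IdealSheafData.inclusion hleB ≫ IU.subschemeι ≫ f)
      rw [← Category.assoc, hjB]; exact hBp
    · change IsProper (Scheme.IdealSheafData.inclusion hleA ≫ IU.subschemeι ≫ f)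
      rw [← Category.assoc, hjA]; exact hAp

end ProperOver

end Groth.Agent.Lib.QCoh
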