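import Groth.Agent.Lib.QCoh.Helper18_GlobGen
import Groth.Agent.Lib.Ample.GlobGenSection
import Groth.Agent.Lib.QCoh.Helper74_GlueFamily
import Groth.Prelude.Def_ZClos

/-!
# Stalks of the Z-closure `H⁰_{X/Z}(F)` (helper18)

Namespace `Groth.Agent.Lib.QCoh.ZClosLib`.
-/

set_option autoImplicit false
universe u

open CategoryTheory CategoryTheory.Limits AlgebraicGeometry Opposite TopologicalSpace

namespace Groth.Agent.Lib.QCoh.ZClosLib

open ZClos Groth.Agent.Lib.QCoh Groth.Agent.Lib.Ample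

variable {X : Scheme.{u}}

section General

/-- A morphism of `O_X`-modules injective on all stalks is a monomorphism. -/
theorem mono_of_forall_stalkMap_injective {M N : X.Modules} (φ : M ⟶ N)
    (h : ∀ x : X, Function.Injective (stalkMap φ x)) : Mono φ := by
  have hz : IsZero (kernel φ) := by
    apply isZero_of_forall_stalk_subsingleton
    intro x
    have hι := stalkMap_injective_of_mono (kernel.ι φ) x
    have h0 : ∀ m : (kernel φ).presheaf.stalk x, stalkMap φ x (stalkMap (kernel.ι φ) x m) = 0 := by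
      intro m
      have h1 : stalkMap (kernel.ι φ) x ≫ stalkMap φ x = 0 := by
        change (stalkFunctor X x).map (kernel.ι φ) ≫ (stalkFunctor X x).map φ = 0
        rw [← Functor.map_comp, kernel.condition, Functor.map_zero]
      have h2 := congrArg (fun f => (ConcreteCategory.hom f) m) h1
      simpa using h2
    constructor
    intro a b
    apply hι
    apply h x
    rw [h0, h0]
  exact Preadditive.mono_of_isZero_kernel φ hz

/-- A morphism of `O_X`-modules bijective on all stalks is an isomorphism. -/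
theorem isIso_of_forall_stalkMap_bijective {M N : X.Modules} (φ : M ⟶ N)
    (h : ∀ x : X, Function.Bijective (stalkMap φ x)) : IsIso φ := by
  have := mono_of_forall_stalkMap_injective φ fun x => (h x).1
  have := epi_of_forall_stalkMap_surjective φ fun x => (h x).2
  exact isIso_of_mono_of_epi φ

lemma stalkMap_comp_apply {M N P : X.Modules} (φ : M ⟶ N) (ψ : N ⟶ P) (x : X)
    (m : M.presheaf.stalk x) : stalkMap (φ ≫ ψ) x m = stalkMap ψ x (stalkMap φ x m) := by
  have e : (stalkFunctor X x).map (φ ≫ ψ) =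
      (stalkFunctor X x).map φ ≫ (stalkFunctor X x).map ψ := (stalkFunctor X x).map_comp _ _
  exact (ConcreteCategory.congr_hom e m).trans (ConcreteCategory.comp_apply _ _ _)

lemma stalkMap_bijective_of_isIso {M N : X.Modules} (φ : M ⟶ N) [IsIso φ] (x : X) :
    Function.Bijective (stalkMap φ x) := by
  have : IsIso ((stalkFunctor X x).map φ) := inferInstance
  exact (ConcreteCategory.isIso_iff_bijective _).1 this

end General

variable (Z : Set X) (F : X.Modules) (x : X)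

theorem exists_rep_stalk_H0 (g : ((H0 Z).obj F).presheaf.stalk x) :
    ∃ (T : Cl Z) (h : ((resPush T.U).obj F).presheaf.stalk x),
      stalkMap (colimit.ι ((diagram Z).obj F) T) x h = g := by
  have hc : IsColimit ((stalkFunctor X x).mapCocone (colimit.cocone ((diagram Z).obj F))) :=
    isColimitOfPreserves (stalkFunctor X x) (colimit.isColimit _)
  obtain ⟨T, h, hh⟩ := Concrete.isColimit_exists_rep _ hc g
  exact ⟨T, h, hh⟩

theorem exists_of_stalkMap_ι_eq {T T' : Cl Z} (h : ((resPush T.U).obj F).presheaf.stalk x)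
    (h' : ((resPush T'.U).obj F).presheaf.stalk x)
    (e : stalkMap (colimit.ι ((diagram Z).obj F) T) x h =
      stalkMap (colimit.ι ((diagram Z).obj F) T') x h') :
    ∃ (T'' : Cl Z) (f : T ≤ T'') (f' : T' ≤ T''),
      stalkMap (resPushMapApp (Cl.U_anti f) F) x h =
        stalkMap (resPushMapApp (Cl.U_anti f') F) x h' := by
  have hc : IsColimit ((stalkFunctor X x).mapCocone (colimit.cocone ((diagram Z).obj F))) :=
    isColimitOfPreserves (stalkFunctor X x) (colimit.isColimit _)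
  obtain ⟨T'', f, f', hff⟩ := Concrete.isColimit_exists_of_rep_eq _ hc h h' e
  exact ⟨T'', f.le, f'.le, hff⟩


/-- `V ⊓ U = U.ι ''ᵁ U.ι ⁻¹ᵁ V`. -/
lemma inf_eq (U V : X.Opens) : V ⊓ U = U.ι ''ᵁ U.ι ⁻¹ᵁ V := by
  rw [ι_image_preimage, inf_comm]

section ResPush

variable (U : X.Opens)

/-- Sections of `j_*(F|_U)` over `V` are sections of `F` over `U ∩ V` (identity map). -/
def toF (V : X.Opens) (s : Γ((resPush U).obj F, V)) : Γ(F, U.ι ''ᵁ U.ι ⁻¹ᵁ V) := s

/-- Sections of `F` over `U ∩ V` are sections of `j_*(F|_U)` over `V` (identity map). -/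
def ofF (V : X.Opens) (s : Γ(F, U.ι ''ᵁ U.ι ⁻¹ᵁ V)) : Γ((resPush U).obj F, V) := s

@[simp] lemma toF_ofF (V : X.Opens) (s : Γ(F, U.ι ''ᵁ U.ι ⁻¹ᵁ V)) : toF F U V (ofF F U V s) = s := rfl
@[simp] lemma ofF_toF (V : X.Opens) (s : Γ((resPush U).obj F, V)) : ofF F U V (toF F U V s) = s := rfl

lemma ofF_add (V : X.Opens) (s t : Γ(F, U.ι ''ᵁ U.ι ⁻¹ᵁ V)) :
    ofF F U V (s + t) = ofF F U V s + ofF F U V t := rfl

lemma ofF_zero (V : X.Opens) : ofF F U V 0 = 0 := rfl

lemma resPush_map_ofF {V W : X.Opens} (h : W ≤ V) (s : Γ(F, U.ι ''ᵁ U.ι ⁻¹ᵁ V)) :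
    ((resPush U).obj F).presheaf.map (homOfLE h).op (ofF F U V s) =
      ofF F U W (Glue74.res F
        (((inf_eq U W).ge.trans (inf_le_inf_right U h)).trans (inf_eq U V).le) s) := rfl

/-- The germ at `x ∈ V` in `(j_*(F|_U))_x` of a section of `F` over `V ∩ U`. -/
noncomputable def germRP (V : X.Opens) (hx : x ∈ V) (s : Γ(F, V ⊓ U)) :
    ((resPush U).obj F).presheaf.stalk x :=
  ((resPush U).obj F).presheaf.germ V x hx (ofF F U V (Glue74.res F (inf_eq U V).ge s))

lemma germRP_res {V W : X.Opens} (hx : x ∈ V) (hxW : x ∈ W) (hWV : W ≤ V) (s : Γ(F, V ⊓ U)) :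
    germRP F x U V hx s = germRP F x U W hxW (Glue74.res F (inf_le_inf_right U hWV) s) := by
  unfold germRP
  have e3 := TopCat.Presheaf.germ_res_apply ((resPush U).obj F).presheaf (homOfLE hWV) x hxW
    (ofF F U V (Glue74.res F (inf_eq U V).ge s))
  rw [← e3, resPush_map_ofF, Glue74.res_res, Glue74.res_res]

lemma exists_germRP_eq (h : ((resPush U).obj F).presheaf.stalk x) (W : X.Opens) (hxW : x ∈ W) :
    ∃ (V : X.Opens) (hx : x ∈ V) (_ : V ≤ W) (s : Γ(F, V ⊓ U)), germRP F x U V hx s = h := by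
  obtain ⟨V, hxV, s, rfl⟩ := TopCat.Presheaf.exists_germ_eq ((resPush U).obj F).presheaf h
  refine ⟨V ⊓ W, ⟨hxV, hxW⟩, inf_le_right,
    Glue74.res F ((inf_le_inf_right U inf_le_left).trans (inf_eq U V).le) (toF F U V s), ?_⟩
  unfold germRP
  have e3 := TopCat.Presheaf.germ_res_apply ((resPush U).obj F).presheaf
    (homOfLE (inf_le_left : V ⊓ W ≤ V)) x ⟨hxV, hxW⟩ s
  rw [← e3]
  congr 1
  have : s = ofF F U V (toF F U V s) := rfl
  rw [this, resPush_map_ofF, Glue74.res_res]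
  rfl

lemma exists_of_germRP_eq {V V' : X.Opens} (hx : x ∈ V) (hx' : x ∈ V') (s : Γ(F, V ⊓ U))
    (s' : Γ(F, V' ⊓ U)) (e : germRP F x U V hx s = germRP F x U V' hx' s') :
    ∃ (W : X.Opens) (_ : x ∈ W) (hWV : W ≤ V) (hWV' : W ≤ V'),
      Glue74.res F (inf_le_inf_right U hWV) s = Glue74.res F (inf_le_inf_right U hWV') s' := by
  obtain ⟨W, hxW, iV, iV', hW⟩ := TopCat.Presheaf.germ_eq ((resPush U).obj F).presheaf x
    hx hx' _ _ e
  refine ⟨W, hxW, iV.le, iV'.le, ?_⟩
  have h1 : iV = homOfLE iV.le := rfl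
  have h2 : iV' = homOfLE iV'.le := rfl
  rw [h1, h2, resPush_map_ofF, resPush_map_ofF, Glue74.res_res, Glue74.res_res] at hW
  have hW' := congrArg (fun t => Glue74.res F (inf_eq U W).le (toF F U W t)) hW
  simp only [toF_ofF, Glue74.res_res] at hW'
  exact hW'

lemma germRP_add (V : X.Opens) (hx : x ∈ V) (s t : Γ(F, V ⊓ U)) :
    germRP F x U V hx (s + t) = germRP F x U V hx s + germRP F x U V hx t := by
  unfold germRP
  rw [Glue74.res_add, ofF_add, map_add]

lemma germRP_zero (V : X.Opens) (hx : x ∈ V) : germRP F x U V hx 0 = 0 := by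
  unfold germRP
  have : Glue74.res F (inf_eq U V).ge (0 : Γ(F, V ⊓ U)) = 0 := map_zero _
  rw [this, ofF_zero, map_zero]

/-- The unit `F ⟶ j_*(F|_U)` on germs. -/
lemma stalkMap_resPushUnit_germ (V : X.Opens) (hx : x ∈ V) (s : Γ(F, V)) :
    stalkMap (show F ⟶ (resPush U).obj F from (resPushUnit U).app F) x
        (F.presheaf.germ V x hx s) =
      germRP F x U V hx (Glue74.res F inf_le_left s) := by
  unfold germRP
  refine (stalkMap_germ (show F ⟶ (resPush U).obj F from (resPushUnit U).app F) x V hx s).trans ?_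
  congr 1
  have e := ConcreteCategory.congr_hom (resPushUnit_app_app U F V) s
  refine e.trans ?_
  rw [Glue74.res_res]
  rfl

/-- The transition maps on germs. -/
lemma stalkMap_resPushMapApp_germRP {U' : X.Opens} (h : U' ≤ U) (V : X.Opens) (hx : x ∈ V)
    (s : Γ(F, V ⊓ U)) :
    stalkMap (resPushMapApp h F) x (germRP F x U V hx s) =
      germRP F x U' V hx (Glue74.res F (inf_le_inf_left V h) s) := by
  unfold germRP
  rw [stalkMap_germ, resPushMapApp_app]
  congr 1
  change Glue74.res F _ (Glue74.res F _ s) = Glue74.res F _ (Glue74.res F _ s)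
  rw [Glue74.res_res, Glue74.res_res]

end ResPush

section H0

/-- The colimit injection `j_*(F|_{X∖T}) ⟶ H⁰_{X/Z}(F)`. -/
noncomputable def ιH0 (T : Cl Z) : (resPush T.U).obj F ⟶ (H0 Z).obj F :=
  colimit.ι ((diagram Z).obj F) T

lemma toDiagram_ιH0 (T : Cl Z) :
    (show F ⟶ (resPush T.U).obj F from (resPushUnit T.U).app F) ≫ ιH0 Z F T = rhoApp Z F :=
  (rhoApp_eq Z F T).symm

lemma resPushMapApp_ιH0 {T T'' : Cl Z} (hT : T ≤ T'') :
    resPushMapApp (Cl.U_anti hT) F ≫ ιH0 Z F T'' = ιH0 Z F T :=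
  colimit.w ((diagram Z).obj F) (homOfLE hT)

/-- The class in the stalk `(H⁰_{X/Z} F)_x` of a section of `F` over `V ∖ T`, `V ∋ x`. -/
noncomputable def germH0 (T : Cl Z) (V : X.Opens) (hx : x ∈ V) (s : Γ(F, V ⊓ T.U)) :
    ((H0 Z).obj F).presheaf.stalk x :=
  stalkMap (ιH0 Z F T) x (germRP F x T.U V hx s)

lemma germH0_res {T T'' : Cl Z} (hT : T ≤ T'') {V W : X.Opens} (hx : x ∈ V) (hxW : x ∈ W)
    (hWV : W ≤ V) (s : Γ(F, V ⊓ T.U)) :
    germH0 Z F x T V hx s =
      germH0 Z F x T'' W hxW (Glue74.res F (inf_le_inf hWV (Cl.U_anti hT)) s) := by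
  unfold germH0
  rw [← resPushMapApp_ιH0 Z F hT, stalkMap_comp_apply, stalkMap_resPushMapApp_germRP,
    germRP_res F x T''.U hx hxW hWV, Glue74.res_res]

lemma rhoStalk_germ (T : Cl Z) (V : X.Opens) (hx : x ∈ V) (s : Γ(F, V)) :
    rhoStalk Z F x (F.presheaf.germ V x hx s) =
      germH0 Z F x T V hx (Glue74.res F inf_le_left s) := by
  unfold germH0
  change stalkMap (rhoApp Z F) x _ = _
  rw [← toDiagram_ιH0 Z F T, stalkMap_comp_apply, stalkMap_resPushUnit_germ]

lemma exists_germH0_eq (g : ((H0 Z).obj F).presheaf.stalk x) (W : X.Opens) (hxW : x ∈ W) :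
    ∃ (T : Cl Z) (V : X.Opens) (hx : x ∈ V) (_ : V ≤ W) (s : Γ(F, V ⊓ T.U)),
      germH0 Z F x T V hx s = g := by
  obtain ⟨T, h, rfl⟩ := exists_rep_stalk_H0 Z F x g
  obtain ⟨V, hxV, hVW, s, rfl⟩ := exists_germRP_eq F x T.U h W hxW
  exact ⟨T, V, hxV, hVW, s, rfl⟩

lemma exists_of_germH0_eq {T T' : Cl Z} {V V' : X.Opens} (hx : x ∈ V) (hx' : x ∈ V')
    (s : Γ(F, V ⊓ T.U)) (s' : Γ(F, V' ⊓ T'.U))
    (e : germH0 Z F x T V hx s = germH0 Z F x T' V' hx' s') :
    ∃ (T'' : Cl Z) (hT : T ≤ T'') (hT' : T' ≤ T'') (W : X.Opens) (_ : x ∈ W) (hWV : W ≤ V)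
      (hWV' : W ≤ V'),
      Glue74.res F (inf_le_inf hWV (Cl.U_anti hT)) s =
        Glue74.res F (inf_le_inf hWV' (Cl.U_anti hT')) s' := by
  obtain ⟨T'', hT, hT', h⟩ := exists_of_stalkMap_ι_eq Z F x _ _ e
  rw [stalkMap_resPushMapApp_germRP, stalkMap_resPushMapApp_germRP] at h
  obtain ⟨W, hxW, hWV, hWV', hW⟩ := exists_of_germRP_eq F x T''.U hx hx' _ _ h
  refine ⟨T'', hT, hT', W, hxW, hWV, hWV', ?_⟩
  rw [Glue74.res_res, Glue74.res_res] at hW
  exact hW

lemma germH0_eq_of_res_eq {T T' T'' : Cl Z} (hT : T ≤ T'') (hT' : T' ≤ T'') {V V' W : X.Opens}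
    (hx : x ∈ V) (hx' : x ∈ V') (hxW : x ∈ W) (hWV : W ≤ V) (hWV' : W ≤ V')
    (s : Γ(F, V ⊓ T.U)) (s' : Γ(F, V' ⊓ T'.U))
    (h : Glue74.res F (inf_le_inf hWV (Cl.U_anti hT)) s =
      Glue74.res F (inf_le_inf hWV' (Cl.U_anti hT')) s') :
    germH0 Z F x T V hx s = germH0 Z F x T' V' hx' s' := by
  rw [germH0_res Z F x hT hx hxW hWV s, germH0_res Z F x hT' hx' hxW hWV' s', h]

lemma germH0_add (T : Cl Z) (V : X.Opens) (hx : x ∈ V) (s t : Γ(F, V ⊓ T.U)) :
    germH0 Z F x T V hx (s + t) = germH0 Z F x T V hx s + germH0 Z F x T V hx t := by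
  unfold germH0
  rw [germRP_add, map_add]

lemma germH0_zero (T : Cl Z) (V : X.Opens) (hx : x ∈ V) :
    germH0 Z F x T V hx 0 = 0 := by
  unfold germH0
  rw [germRP_zero, map_zero]

end H0

end Groth.Agent.Lib.QCoh.ZClosLib
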