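import Groth.Agent.Lib.QCoh.Helper50_FTIdeal
import Groth.Agent.Lib.Ample.Helper50_SpanGen

/-!
# Global generation of finite type ideals gives affine basic opens (helper50)

ns `Groth.Agent.Lib.QCoh.QAffIdeal`.
-/

set_option autoImplicit false
universe u
open CategoryTheory CategoryTheory.Limits AlgebraicGeometry Opposite TopologicalSpace

namespace Groth.Agent.Lib.QCoh.QAffIdeal

open Groth.Agent.Lib.QCoh Groth.Agent.Lib.QCoh.FTIdeal Scheme.Modules Groth.Agent.Lib.Ample
open Groth.Agent.Lib.Ample.SpanGen

variable {X : Scheme.{u}}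

/-- the stalk map of `I ⟶ O_X` is surjective at points having an affine neighbourhood on which the
ideal is the unit ideal -/
lemma stalkMap_idealModι_surjective (I : X.IdealSheafData) {V : X.Opens} (hV : IsAffineOpen V)
    (htop : I.ideal ⟨V, hV⟩ = ⊤) (x : X) (hx : x ∈ V) :
    Function.Surjective (stalkMap (ClSub.idealModι I) x) := by
  intro m
  obtain ⟨r, rfl⟩ := exists_smul_germOne x m
  have h1 : (1 : Γ(X, V)) ∈ I.ideal ⟨V, hV⟩ := by rw [htop]; trivial
  set a := (EffCartier74.idealModΓEquivIdeal I ⟨V, hV⟩).symm ⟨1, h1⟩ with ha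
  have h2 : (ClSub.idealModι I).app V a = oneSec V := by
    have := idealModι_app_eq I ⟨V, hV⟩ a
    rw [ha, LinearEquiv.apply_symm_apply] at this
    exact this
  have h3 : (Coh.structureModule X).presheaf.germ V x hx (oneSec V) = germOne x := by
    have := TopCat.Presheaf.germ_res_apply (Coh.structureModule X).presheaf
      (homOfLE (le_top : V ≤ ⊤)) x hx (oneSec ⊤)
    refine Eq.trans ?_ this
    congr 1
    exact (map_one (X.presheaf.map (homOfLE (le_top : V ≤ ⊤)).op).hom).symm
  refine ⟨r • (ClSub.idealMod I).presheaf.germ V x hx a, ?_⟩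
  rw [stalkMap_smul, stalkMap_germ, h2, h3]

/-- functions in the image of `Γ(I, ⊤) → Γ(X, ⊤)` have basic opens disjoint from the support -/
lemma basicOpen_le_of_support (I : X.IdealSheafData) {V : X.Opens}
    (hsupp : (I.support : Set X) = (V : Set X)ᶜ) (s : Γ(ClSub.idealMod I, ⊤)) :
    X.basicOpen (show Γ(X, ⊤) from (ClSub.idealModι I).app ⊤ s) ≤ V := by
  intro y hy
  by_contra hyV
  have hys : y ∈ I.support := by
    change y ∈ (I.support : Set X)
    rw [hsupp]; exact hyV
  obtain ⟨W, hW, hyW, -⟩ := exists_isAffineOpen_mem_and_subset (x := y) (U := ⊤) trivial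
  rw [Scheme.IdealSheafData.mem_support_iff_of_mem (U := ⟨W, hW⟩) hyW,
    Scheme.mem_zeroLocus_iff] at hys
  set r : Γ(X, ⊤) := (ClSub.idealModι I).app ⊤ s with hr
  have h1 : X.presheaf.map (homOfLE (le_top : W ≤ ⊤)).op r ∈ I.ideal ⟨W, hW⟩ := by
    have h2 := SubExt.app_res (ClSub.idealModι I) (le_top : W ≤ ⊤) s
    have h3 := idealModι_app_eq I ⟨W, hW⟩ (Glue74.res (ClSub.idealMod I) (le_top : W ≤ ⊤) s)
    have h4 : X.presheaf.map (homOfLE (le_top : W ≤ ⊤)).op r =
        (show Γ(X, W) from (ClSub.idealModι I).app W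
          (Glue74.res (ClSub.idealMod I) (le_top : W ≤ ⊤) s)) := h2.symm
    rw [h4, h3]
    exact Subtype.property _
  apply hys _ h1
  rw [Scheme.basicOpen_res]
  exact ⟨hyW, hy⟩

/-- **key**: if the ideal sheaf `I` with support `Vᶜ` (`V` affine, `I|_V` the unit ideal) is
globally generated, every point of `V` lies in an affine basic open `X_r ≤ V` of a global function -/
theorem exists_isAffineOpen_basicOpen (I : X.IdealSheafData)
    (hgg : Curv2.IsGloballyGenerated (ClSub.idealMod I))
    {V : X.Opens} (hV : IsAffineOpen V) (hsupp : (I.support : Set X) = (V : Set X)ᶜ)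
    (htop : I.ideal ⟨V, hV⟩ = ⊤) (x : X) (hx : x ∈ V) :
    ∃ r : Γ(X, ⊤), IsAffineOpen (X.basicOpen r) ∧ x ∈ X.basicOpen r := by
  obtain ⟨ι, p, hp⟩ := hgg
  let t : ι → (Coh.structureModule X ⟶ Coh.structureModule X) :=
    fun i => (SheafOfModules.ιFree (R := X.ringCatSheaf) i ≫ p) ≫ ClSub.idealModι I
  have hspanJ := @span_germ_eq_top_of_epi_free X (ClSub.idealMod I) ι p hp x
  have hsurj := stalkMap_idealModι_surjective I hV htop x hx
  have hspan : Submodule.span (X.presheaf.stalk x) (Set.range fun i : ι =>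
      stalkMap (t i) x (germOne x)) = ⊤ := by
    have h1 : Submodule.map (stalkMapₗ (ClSub.idealModι I) x)
        (Submodule.span (X.presheaf.stalk x) (Set.range fun i : ι =>
          stalkMap (SheafOfModules.ιFree i ≫ p) x (germOne x))) = ⊤ := by
      rw [hspanJ, Submodule.map_top, LinearMap.range_eq_top]
      exact hsurj
    rw [Submodule.map_span, ← Set.range_comp] at h1
    rw [← h1]
    congr 2
    funext i
    have e3 : (stalkFunctor X x).map (t i) =
        (stalkFunctor X x).map (SheafOfModules.ιFree i ≫ p) ≫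
          (stalkFunctor X x).map (ClSub.idealModι I) :=
      (stalkFunctor X x).map_comp _ _
    exact (ConcreteCategory.congr_hom e3 (germOne x)).trans (ConcreteCategory.comp_apply _ _ _)
  obtain ⟨i, hi⟩ := exists_mem_genLocus_of_span_eq_top (isInvertible_structureModule X) t x hspan
  rw [genLocus_unit] at hi
  refine ⟨fnOf (t i), ?_, hi⟩
  have hle : X.basicOpen (fnOf (t i)) ≤ V := by
    have := basicOpen_le_of_support I hsupp
      (secOf (SheafOfModules.ιFree (R := X.ringCatSheaf) i ≫ p :
        Coh.structureModule X ⟶ ClSub.idealMod I))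
    exact this
  have h2 := X.basicOpen_res (fnOf (t i)) (homOfLE (le_top : V ≤ ⊤)).op
  rw [inf_eq_right.mpr hle] at h2
  rw [← h2]
  exact hV.basicOpen _

/-- the ideal module of an ideal sheaf with finitely generated ideals is of finite type -/
theorem isFiniteType_idealMod (I : X.IdealSheafData) (hI : ∀ V : X.affineOpens, (I.ideal V).FG) :
    (ClSub.idealMod I).IsFiniteType := by
  rw [isFiniteType_iff_forall_finite]
  intro V
  have h1 : Module.Finite Γ(X, V.1) (I.ideal V) := Module.Finite.of_fg (hI V)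
  exact Module.Finite.equiv (EffCartier74.idealModΓEquivIdeal I V).symm

/-- **quasi-affineness from global generation of finite type ideals** -/
theorem isQuasiAffine_of_isGloballyGenerated_idealMod [CompactSpace X] [QuasiSeparatedSpace X]
    (h : ∀ I : X.IdealSheafData, (∀ V : X.affineOpens, (I.ideal V).FG) →
      Curv2.IsGloballyGenerated (ClSub.idealMod I)) : X.IsQuasiAffine := by
  refine Scheme.IsQuasiAffine.of_forall_exists_mem_basicOpen X fun x => ?_
  obtain ⟨V, hV, hxV, -⟩ := exists_isAffineOpen_mem_and_subset (x := x) (U := ⊤) trivial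
  obtain ⟨I, hfg, hsupp, htop⟩ := exists_fg_ideal_support_eq_compl V hV.isCompact
  exact exists_isAffineOpen_basicOpen I (h I hfg) hV hsupp (htop V hV le_rfl) x hxV

end Groth.Agent.Lib.QCoh.QAffIdeal
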