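import Mathlib.AlgebraicGeometry.Modules.Tilde
import Mathlib.Algebra.Homology.ShortComplex.ExactFunctor
import Mathlib.Algebra.Module.LocalizedModule.Exact

/-!
# QCoh API, part Q1 (lead): the affine dictionary

Namespace `Groth.Agent.Lib.QCoh`.  `R : CommRingCat`.

* `comapFun_injective`, `tilde_map_app_injective`, `mono_tilde_map` : `M ↦ M^~` preserves monos
* `mono_of_app_injective`, `app_injective_of_mono` : monos of `O_X`-modules = sectionwise injective
* instances `PreservesFiniteLimits (tilde.functor R)`, `(tilde.functor R).PreservesHomology`
  (`tilde` is exact; it already preserves all colimits, being a left adjoint)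
* `essImage_kernel`, `essImage_cokernel` : essential image of a full exact functor is closed under
  kernels / cokernels
* `isQuasicoherent_kernel_Spec`, `isQuasicoherent_cokernel_Spec` : on `Spec R`
-/

universe u

open CategoryTheory CategoryTheory.Limits AlgebraicGeometry Opposite TopologicalSpace

namespace Groth.Agent.Lib.QCoh

variable {R : CommRingCat.{u}}

theorem comapFun_injective {M N : ModuleCat.{u} R} (f : M ⟶ N)
    (hf : Function.Injective f.hom) (y : PrimeSpectrum.Top R) :
    Function.Injective (StructureSheaf.Localizations.comapFun (σ := RingHom.id R) f.hom y) := by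
  intro a b hab
  induction a using LocalizedModule.induction_on with | h a s =>
  induction b using LocalizedModule.induction_on with | h b t =>
  erw [StructureSheaf.Localizations.comapFun_mk, StructureSheaf.Localizations.comapFun_mk] at hab
  rw [LocalizedModule.mk_eq] at hab ⊢
  obtain ⟨u, hu⟩ := hab
  refine ⟨u, hf ?_⟩
  simp only [Submonoid.smul_def, RingHom.id_apply] at hu ⊢
  change f.hom ((u : R) • (t : R) • a) = f.hom ((u : R) • (s : R) • b)
  rw [map_smul, map_smul, map_smul, map_smul]
  exact hu

theorem tilde_map_app_injective {M N : ModuleCat.{u} R} (f : M ⟶ N)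
    (hf : Function.Injective f.hom) (U : (Spec R).Opens) :
    Function.Injective ((tilde.map f).app U) := by
  intro s t hst
  apply Subtype.ext
  funext y
  have := congr_arg (fun z => z.1 y) hst
  exact comapFun_injective f hf y.1 this

/-- A morphism of `O_X`-modules that is injective on sections over every open is a monomorphism. -/
theorem mono_of_app_injective {X : Scheme.{u}} {M N : X.Modules} (φ : M ⟶ N)
    (h : ∀ U : X.Opens, Function.Injective (φ.app U)) : Mono φ := by
  apply (Scheme.Modules.toPresheaf X).mono_of_mono_map
  rw [NatTrans.mono_iff_mono_app]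
  intro U
  rw [AddCommGrpCat.mono_iff_injective]
  exact h U.unop

/-- Conversely a monomorphism of `O_X`-modules is injective on sections. -/
theorem app_injective_of_mono {X : Scheme.{u}} {M N : X.Modules} (φ : M ⟶ N) [Mono φ]
    (U : X.Opens) : Function.Injective (φ.app U) := by
  have : Mono ((Scheme.Modules.toPresheaf X).map φ) := inferInstance
  rw [NatTrans.mono_iff_mono_app] at this
  exact (AddCommGrpCat.mono_iff_injective _).1 (this (op U))

instance mono_tilde_map {M N : ModuleCat.{u} R} (f : M ⟶ N) [Mono f] : Mono (tilde.map f) :=
  mono_of_app_injective _ (tilde_map_app_injective f ((ModuleCat.mono_iff_injective f).1 ‹_›))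

instance : (tilde.functor R).PreservesMonomorphisms where
  preserves f _ := mono_tilde_map f

/-- `M ↦ M^~` is left exact (hence exact, being a left adjoint). -/
instance preservesFiniteLimits_tilde : PreservesFiniteLimits (tilde.functor R) := by
  rw [Functor.preservesFiniteLimits_iff_forall_exact_map_and_mono]
  intro S hS
  have hmono : Mono S.f := hS.mono_f
  refine ⟨?_, inferInstance⟩
  have h : PreservesFiniteColimits (tilde.functor R) := inferInstance
  exact ((Functor.preservesFiniteColimits_iff_forall_exact_map_and_epi (tilde.functor R)).1 h S hS).1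

instance preservesHomology_tilde : (tilde.functor R).PreservesHomology :=
  have h : PreservesFiniteLimits (tilde.functor R) ∧ PreservesFiniteColimits (tilde.functor R) :=
    ⟨inferInstance, inferInstance⟩
  ((Functor.exact_tfae (tilde.functor R)).out 3 2).1 h

section EssImage

variable {C D : Type*} [Category C] [Category D] [Abelian C] [Abelian D]
  (F : C ⥤ D) [F.Full]

/-- The essential image of a full functor preserving kernels is closed under kernels. -/
theorem essImage_kernel [PreservesFiniteLimits F] {M N : D} (φ : M ⟶ N)
    (hM : F.essImage M) (hN : F.essImage N) : F.essImage (kernel φ) := by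
  obtain ⟨A, ⟨eA⟩⟩ := hM
  obtain ⟨B, ⟨eB⟩⟩ := hN
  obtain ⟨g, hg⟩ := F.map_surjective (eA.hom ≫ φ ≫ eB.inv)
  refine ⟨kernel g, ⟨?_⟩⟩
  refine (PreservesKernel.iso F g) ≪≫ kernel.mapIso (F.map g) φ eA eB ?_
  rw [hg]; simp

/-- The essential image of a full functor preserving cokernels is closed under cokernels. -/
theorem essImage_cokernel [PreservesFiniteColimits F] {M N : D} (φ : M ⟶ N)
    (hM : F.essImage M) (hN : F.essImage N) : F.essImage (cokernel φ) := by
  obtain ⟨A, ⟨eA⟩⟩ := hM
  obtain ⟨B, ⟨eB⟩⟩ := hN
  obtain ⟨g, hg⟩ := F.map_surjective (eA.hom ≫ φ ≫ eB.inv)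
  refine ⟨cokernel g, ⟨?_⟩⟩
  refine (PreservesCokernel.iso F g) ≪≫ cokernel.mapIso (F.map g) φ eA eB ?_
  rw [hg]; simp

end EssImage

/-- On an affine scheme the kernel of a map of quasi-coherent modules is quasi-coherent. -/
theorem isQuasicoherent_kernel_Spec {M N : (Spec R).Modules} [hM : M.IsQuasicoherent]
    [hN : N.IsQuasicoherent] (φ : M ⟶ N) : (kernel φ).IsQuasicoherent := by
  have h := essImage_tilde (R := R)
  have hM' : (tilde.functor R).essImage M := by rw [h]; exact hM
  have hN' : (tilde.functor R).essImage N := by rw [h]; exact hN
  have := essImage_kernel (tilde.functor R) φ hM' hN'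
  rw [h] at this
  exact this

/-- On an affine scheme the cokernel of a map of quasi-coherent modules is quasi-coherent. -/
theorem isQuasicoherent_cokernel_Spec {M N : (Spec R).Modules} [hM : M.IsQuasicoherent]
    [hN : N.IsQuasicoherent] (φ : M ⟶ N) : (cokernel φ).IsQuasicoherent := by
  have h := essImage_tilde (R := R)
  have hM' : (tilde.functor R).essImage M := by rw [h]; exact hM
  have hN' : (tilde.functor R).essImage N := by rw [h]; exact hN
  have := essImage_cokernel (tilde.functor R) φ hM' hN'
  rw [h] at this
  exact this

end Groth.Agent.Lib.QCoh
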