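import Mathlib
import Groth.Agent.Lib.QCoh.AffineOpen
import Groth.Agent.Lib.Helper22.QCohLoc

/-!
# An elementwise criterion for quasi-coherence (helper66)

Converse of helper22's `QCohLoc`: if for an affine open `V` (or an open immersion `j : Spec R ⟶ X`) and every
function `g` on `V`
* every section of `F` over `D(g)` extends to `V` after multiplication by a power of `g`, and
* every section of `F` over `V` vanishing on `D(g)` is killed by a power of `g`,
then `F|_V` is quasi-coherent.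
-/

set_option autoImplicit false

namespace Groth.Agent.Lib.QCoh.LocCrit

open AlgebraicGeometry CategoryTheory Opposite TopologicalSpace
open Groth.Agent.Lib.Helper22

universe u

variable {X : Scheme.{u}} (F : X.Modules)

/-- the function on `j ''ᵁ ⊤` attached to `r : R` -/
noncomputable def ofR {R : CommRingCat.{u}} (j : Spec R ⟶ X) [IsOpenImmersion j] (r : R) :
    Γ(X, j ''ᵁ ⊤) :=
  (j.appIso ⊤).inv ((Scheme.ΓSpecIso R).inv r)

theorem toR_ofR {R : CommRingCat.{u}} (j : Spec R ⟶ X) [IsOpenImmersion j] (r : R) :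
    toR j (ofR j r) = r := by
  simp [toR, ofR]

theorem away_of_elementwise {R : CommRingCat.{u}} (j : Spec R ⟶ X) [IsOpenImmersion j]
    (g : Γ(X, j ''ᵁ ⊤))
    (hsurj : ∀ y : Γ(F, X.basicOpen g), ∃ (n : ℕ) (x : Γ(F, j ''ᵁ ⊤)),
      F.presheaf.map (homOfLE (X.basicOpen_le g)).op x =
        (X.presheaf.map (homOfLE (X.basicOpen_le g)).op g) ^ n • y)
    (hinj : ∀ x : Γ(F, j ''ᵁ ⊤), F.presheaf.map (homOfLE (X.basicOpen_le g)).op x = 0 →
      ∃ n : ℕ, g ^ n • x = 0) :
    IsLocalizedModule (.powers (toR j g))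
      ((modulesSpecToSheaf.obj (F.restrict j)).obj.map
        (PrimeSpectrum.basicOpen (toR j g)).leTop.op).hom := by
  have e := image_basicOpen_toR j g
  have h3 : X.presheaf.map (homOfLE (j.image_mono le_top : j ''ᵁ ⊤ ≤ j ''ᵁ ⊤)).op g = g := by
    have : (homOfLE (j.image_mono le_top : j ''ᵁ ⊤ ≤ j ''ᵁ ⊤)) = 𝟙 _ := Subsingleton.elim _ _
    rw [this]; simp
  refine IsLocalizedModule.Away.mk_of_addCommGroup ?_ ?_ ?_
  · exact Scheme.Modules.isUnit_algebraMap_end_of_le_basicOpen (toR j g) le_rfl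
  · intro y
    -- `y` is a section of `F` over `j ''ᵁ D(toR j g) = D(g)`
    obtain ⟨n, x, hx⟩ := hsurj (F.presheaf.map (eqToHom e.symm).op
      (show Γ(F, j ''ᵁ (PrimeSpectrum.basicOpen (toR j g))) from y))
    refine ⟨n, x, ?_⟩
    have h1 := toR_smul F j g _ n y
    refine h1.trans ?_
    change _ = F.presheaf.map (homOfLE (j.image_mono le_top) :
      j ''ᵁ (PrimeSpectrum.basicOpen (toR j g)) ⟶ j ''ᵁ ⊤).op x
    have h7 : F.presheaf.map (homOfLE (j.image_mono le_top) :
        j ''ᵁ (PrimeSpectrum.basicOpen (toR j g)) ⟶ j ''ᵁ ⊤).op x =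
        F.presheaf.map (eqToHom e).op (F.presheaf.map (homOfLE (X.basicOpen_le g)).op x) := by
      rw [← ConcreteCategory.comp_apply, ← Functor.map_comp, ← op_comp]
      rfl
    rw [h7, hx]
    have h4 := Scheme.Modules.map_smul F (eqToHom e)
      ((X.presheaf.map (homOfLE (X.basicOpen_le g)).op g) ^ n)
      (F.presheaf.map (eqToHom e.symm).op
        (show Γ(F, j ''ᵁ (PrimeSpectrum.basicOpen (toR j g))) from y))
    refine Eq.trans ?_ h4.symm
    have h6 : F.presheaf.map (eqToHom e).op (F.presheaf.map (eqToHom e.symm).op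
        (show Γ(F, j ''ᵁ (PrimeSpectrum.basicOpen (toR j g))) from y)) = y := by
      rw [← ConcreteCategory.comp_apply, ← Functor.map_comp, ← op_comp, eqToHom_trans, eqToHom_refl,
        op_id, CategoryTheory.Functor.map_id]
      rfl
    rw [h6, map_pow, ← ConcreteCategory.comp_apply, ← Functor.map_comp, ← op_comp]
    rfl
  · intro x hx
    have hx' : F.presheaf.map (homOfLE (j.image_mono le_top) :
        j ''ᵁ (PrimeSpectrum.basicOpen (toR j g)) ⟶ j ''ᵁ ⊤).op
        (show Γ(F, j ''ᵁ ⊤) from x) = 0 := hx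
    have hx'' : F.presheaf.map (homOfLE (X.basicOpen_le g)).op (show Γ(F, j ''ᵁ ⊤) from x) = 0 := by
      have : (homOfLE (X.basicOpen_le g) : X.basicOpen g ⟶ j ''ᵁ ⊤) =
          eqToHom e.symm ≫ (homOfLE (j.image_mono le_top) :
            j ''ᵁ (PrimeSpectrum.basicOpen (toR j g)) ⟶ j ''ᵁ ⊤) := Subsingleton.elim _ _
      rw [this, op_comp, Functor.map_comp, ConcreteCategory.comp_apply, hx', map_zero]
    obtain ⟨n, hn⟩ := hinj x hx''
    refine ⟨n, ?_⟩
    have h1 := toR_smul F j g ⊤ n x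
    rw [h3] at h1
    exact h1.trans hn

/-- **Elementwise criterion**, open-immersion version. -/
theorem isLocalizing_restrict_of_elementwise {R : CommRingCat.{u}} (j : Spec R ⟶ X)
    [IsOpenImmersion j]
    (hsurj : ∀ (g : Γ(X, j ''ᵁ ⊤)) (y : Γ(F, X.basicOpen g)), ∃ (n : ℕ) (x : Γ(F, j ''ᵁ ⊤)),
      F.presheaf.map (homOfLE (X.basicOpen_le g)).op x =
        (X.presheaf.map (homOfLE (X.basicOpen_le g)).op g) ^ n • y)
    (hinj : ∀ (g : Γ(X, j ''ᵁ ⊤)) (x : Γ(F, j ''ᵁ ⊤)),
      F.presheaf.map (homOfLE (X.basicOpen_le g)).op x = 0 → ∃ n : ℕ, g ^ n • x = 0) :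
    IsLocalizing (modulesSpecToSheaf.obj (F.restrict j)) := by
  intro r
  have := away_of_elementwise F j (ofR j r) (hsurj _) (hinj _)
  rwa [toR_ofR] at this

theorem isQuasicoherent_restrict_of_elementwise {R : CommRingCat.{u}} (j : Spec R ⟶ X)
    [IsOpenImmersion j]
    (hsurj : ∀ (g : Γ(X, j ''ᵁ ⊤)) (y : Γ(F, X.basicOpen g)), ∃ (n : ℕ) (x : Γ(F, j ''ᵁ ⊤)),
      F.presheaf.map (homOfLE (X.basicOpen_le g)).op x =
        (X.presheaf.map (homOfLE (X.basicOpen_le g)).op g) ^ n • y)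
    (hinj : ∀ (g : Γ(X, j ''ᵁ ⊤)) (x : Γ(F, j ''ᵁ ⊤)),
      F.presheaf.map (homOfLE (X.basicOpen_le g)).op x = 0 → ∃ n : ℕ, g ^ n • x = 0) :
    (F.restrict j).IsQuasicoherent := by
  rw [isQuasicoherent_iff_isIso_fromTildeΓ, isIso_fromTildeΓ_iff_isLocalizing]
  exact isLocalizing_restrict_of_elementwise F j hsurj hinj

/-- **Elementwise criterion**, affine-open version: `F|_V` is quasi-coherent as soon as, for every
function `g` on the affine open `V`, sections over `D(g)` extend after multiplication by a power of `g`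
and sections over `V` vanishing on `D(g)` are killed by a power of `g`. -/
theorem isQuasicoherent_restrict_of_isAffineOpen {V : X.Opens} (hV : IsAffineOpen V)
    (hsurj : ∀ (g : Γ(X, V)) (y : Γ(F, X.basicOpen g)), ∃ (n : ℕ) (x : Γ(F, V)),
      F.presheaf.map (homOfLE (X.basicOpen_le g)).op x =
        (X.presheaf.map (homOfLE (X.basicOpen_le g)).op g) ^ n • y)
    (hinj : ∀ (g : Γ(X, V)) (x : Γ(F, V)),
      F.presheaf.map (homOfLE (X.basicOpen_le g)).op x = 0 → ∃ n : ℕ, g ^ n • x = 0) :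
    (F.restrict V.ι).IsQuasicoherent := by
  have key : ∀ (V' : X.Opens) (_ : V' = V),
      (∀ (g : Γ(X, V')) (y : Γ(F, X.basicOpen g)), ∃ (n : ℕ) (x : Γ(F, V')),
        F.presheaf.map (homOfLE (X.basicOpen_le g)).op x =
          (X.presheaf.map (homOfLE (X.basicOpen_le g)).op g) ^ n • y) ∧
      (∀ (g : Γ(X, V')) (x : Γ(F, V')),
        F.presheaf.map (homOfLE (X.basicOpen_le g)).op x = 0 → ∃ n : ℕ, g ^ n • x = 0) := by
    rintro _ rfl
    exact ⟨hsurj, hinj⟩
  obtain ⟨h1, h2⟩ := key (hV.fromSpec ''ᵁ ⊤) (fromSpec_image_top hV)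
  have hq : (restrictSpec hV F).IsQuasicoherent :=
    isQuasicoherent_restrict_of_elementwise F hV.fromSpec h1 h2
  have hq' : ((F.restrict V.ι).restrict hV.isoSpec.inv).IsQuasicoherent :=
    isQuasicoherent_of_iso (restrictSpecIso hV F) hq
  exact isQuasicoherent_of_restrict_iso hV.isoSpec.inv (F.restrict V.ι)

/-- **Elementwise criterion**, cover version. -/
theorem isQuasicoherent_of_elementwise {ι : Type u} (U : ι → X.Opens) (hU : IsOpenCover U)
    (hUa : ∀ i, IsAffineOpen (U i))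
    (hsurj : ∀ (i : ι) (g : Γ(X, U i)) (y : Γ(F, X.basicOpen g)), ∃ (n : ℕ) (x : Γ(F, U i)),
      F.presheaf.map (homOfLE (X.basicOpen_le g)).op x =
        (X.presheaf.map (homOfLE (X.basicOpen_le g)).op g) ^ n • y)
    (hinj : ∀ (i : ι) (g : Γ(X, U i)) (x : Γ(F, U i)),
      F.presheaf.map (homOfLE (X.basicOpen_le g)).op x = 0 → ∃ n : ℕ, g ^ n • x = 0) :
    F.IsQuasicoherent :=
  isQuasicoherent_of_isOpenCover F U hU fun i =>
    isQuasicoherent_restrict_of_isAffineOpen F (hUa i) (hsurj i) (hinj i)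

end Groth.Agent.Lib.QCoh.LocCrit
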