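import Mathlib
import Groth.Agent.Lib.QCoh.Helper74_GlueFamily
import Groth.Agent.Lib.QCoh.Helper66_LocCrit
import Groth.Agent.Lib.Helper22.QCohLoc

/-!
# Extension of quasi-coherent subsheaves of finite type (helper66), EGA I 9.4.7

Concrete approach: a subsheaf of `F : X.Modules` is a `PresheafOfModules.Submodule F.val`
(family of submodules stable under restriction) which is *local*.

ns `Groth.Agent.Lib.QCoh.SubExt`.
-/

set_option autoImplicit false
universe u
open CategoryTheory AlgebraicGeometry Opposite TopologicalSpace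

namespace Groth.Agent.Lib.QCoh.SubExt

open Groth.Agent.Lib.QCoh.Glue74

variable {X : Scheme.{u}} (F : X.Modules)

/-- families of submodules of the sections of `F`, stable under restriction -/
abbrev SubFam := PresheafOfModules.Submodule F.val

variable {F}

/-- the sections of the family over `V` -/
abbrev SubFam.sec (N : SubFam F) (V : X.Opens) : Submodule Γ(X, V) Γ(F, V) := N.obj (op V)

lemma SubFam.res_mem (N : SubFam F) {V' V : X.Opens} (h : V' ≤ V) {s : Γ(F, V)} (hs : s ∈ N.sec V) :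
    res F h s ∈ N.sec V' :=
  N.map_mem (homOfLE h).op hs

/-- locality -/
def SubFam.IsLocal (N : SubFam F) : Prop :=
  ∀ (V : X.Opens) (s : Γ(F, V)),
    (∀ x ∈ V, ∃ (V' : X.Opens) (h : V' ≤ V), x ∈ V' ∧ res F h s ∈ N.sec V') → s ∈ N.sec V

/-- saturation with respect to an open `W`: membership only depends on the restriction to `W` -/
def SubFam.IsSat (N : SubFam F) (W : X.Opens) : Prop :=
  ∀ (V : X.Opens) (s : Γ(F, V)), res F (inf_le_left : V ⊓ W ≤ V) s ∈ N.sec (V ⊓ W) → s ∈ N.sec V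

/-- `N` is generated over `V` by the finite family `t` -/
structure SubFam.LocGen (N : SubFam F) (V : X.Opens) {n : ℕ} (t : Fin n → Γ(F, V)) : Prop where
  mem : ∀ i, t i ∈ N.sec V
  gen : ∀ (V' : X.Opens) (h : V' ≤ V) (s : Γ(F, V')), s ∈ N.sec V' → ∀ x ∈ V',
    ∃ (V'' : X.Opens) (h' : V'' ≤ V'), x ∈ V'' ∧
      res F h' s ∈ Submodule.span Γ(X, V'') (Set.range fun i => res F (h'.trans h) (t i))

/-- `N` is locally finitely generated on `W` -/
def SubFam.IsLFG (N : SubFam F) (W : X.Opens) : Prop :=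
  ∀ x ∈ W, ∃ (V : X.Opens), V ≤ W ∧ x ∈ V ∧ ∃ (n : ℕ) (t : Fin n → Γ(F, V)), N.LocGen V t

section Span

variable (F)

/-- restriction of functions -/
noncomputable abbrev resO {V' V : X.Opens} (h : V' ≤ V) (r : Γ(X, V)) : Γ(X, V') :=
  X.presheaf.map (homOfLE h).op r

lemma res_zero {V' V : X.Opens} (h : V' ≤ V) : res F h (0 : Γ(F, V)) = 0 := map_zero _

lemma res_sub {V' V : X.Opens} (h : V' ≤ V) (a b : Γ(F, V)) :
    res F h (a - b) = res F h a - res F h b := map_sub _ _ _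

lemma res_sum {V' V : X.Opens} (h : V' ≤ V) {ι : Type*} (s : Finset ι) (f : ι → Γ(F, V)) :
    res F h (∑ i ∈ s, f i) = ∑ i ∈ s, res F h (f i) := map_sum _ _ _

lemma res_mem_span {V' V : X.Opens} (h : V' ≤ V) {n : ℕ} (t : Fin n → Γ(F, V)) {s : Γ(F, V)}
    (hs : s ∈ Submodule.span Γ(X, V) (Set.range t)) :
    res F h s ∈ Submodule.span Γ(X, V') (Set.range fun i => res F h (t i)) := by
  induction hs using Submodule.span_induction with
  | mem x hx =>
    obtain ⟨i, rfl⟩ := hx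
    exact Submodule.subset_span ⟨i, rfl⟩
  | zero => rw [res_zero]; exact zero_mem _
  | add x y _ _ hx hy => rw [res_add]; exact add_mem hx hy
  | smul a x _ hx => rw [res_smul]; exact Submodule.smul_mem _ _ hx

variable [F.IsQuasicoherent]

/-- a section whose restriction to `D(g)` is a combination of the `t i` is, up to a power of `g`, a
combination of the `t i` -/
lemma exists_pow_smul_mem_span {V : X.Opens} (hV : IsAffineOpen V) (g : Γ(X, V)) {n : ℕ}
    (t : Fin n → Γ(F, V)) (s : Γ(F, V))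
    (h : res F (X.basicOpen_le g) s ∈ Submodule.span Γ(X, X.basicOpen g)
      (Set.range fun i => res F (X.basicOpen_le g) (t i))) :
    ∃ e : ℕ, g ^ e • s ∈ Submodule.span Γ(X, V) (Set.range t) := by
  obtain ⟨a, ha⟩ := (Submodule.mem_span_range_iff_exists_fun _).mp h
  have hloc := hV.isLocalization_basicOpen g
  -- clear denominators
  have key : ∀ i, ∃ (e : ℕ) (c : Γ(X, V)), X.presheaf.map (homOfLE (X.basicOpen_le g)).op c =
      X.presheaf.map (homOfLE (X.basicOpen_le g)).op g ^ e * a i := by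
    intro i
    obtain ⟨⟨c, ⟨_, e, rfl⟩⟩, hc⟩ := IsLocalization.surj (Submonoid.powers g) (a i)
    refine ⟨e, c, ?_⟩
    change algebraMap Γ(X, V) Γ(X, X.basicOpen g) c = algebraMap Γ(X, V) Γ(X, X.basicOpen g) g ^ e * a i
    rw [← hc, map_pow, mul_comm]
  choose e c hc using key
  obtain ⟨E, hE⟩ : ∃ E : ℕ, ∀ i, e i ≤ E := ⟨Finset.univ.sup e, fun i => Finset.le_sup (Finset.mem_univ i)⟩
  set y : Γ(F, V) := g ^ E • s - ∑ i, (g ^ (E - e i) * c i) • t i with hy
  have hy0 : res F (X.basicOpen_le g) y = 0 := by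
    rw [hy, res_sub, res_smul, res_sum, ← ha, Finset.smul_sum, sub_eq_zero]
    refine Finset.sum_congr rfl fun i _ => ?_
    rw [res_smul, map_mul, map_pow, map_pow, hc i, smul_smul]
    congr 1
    rw [← mul_assoc, ← pow_add, Nat.sub_add_cancel (hE i)]
  obtain ⟨e', he'⟩ := Groth.Agent.Lib.Helper22.exists_pow_smul_eq_zero_of_isAffineOpen F hV g y hy0
  refine ⟨e' + E, ?_⟩
  rw [hy, smul_sub, sub_eq_zero, smul_smul, ← pow_add] at he'
  rw [he', Finset.smul_sum]
  refine Submodule.sum_mem _ fun i _ => ?_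
  rw [smul_smul]
  exact Submodule.smul_mem _ _ (Submodule.subset_span ⟨i, rfl⟩)

/-- **Fact A**: on an affine open, a section which is locally a combination of the `t i` is a
combination of the `t i` -/
lemma mem_span_of_locally {V : X.Opens} (hV : IsAffineOpen V) {n : ℕ}
    (t : Fin n → Γ(F, V)) (s : Γ(F, V))
    (h : ∀ x ∈ V, ∃ (V'' : X.Opens) (h' : V'' ≤ V), x ∈ V'' ∧
      res F h' s ∈ Submodule.span Γ(X, V'') (Set.range fun i => res F h' (t i))) :
    s ∈ Submodule.span Γ(X, V) (Set.range t) := by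
  -- the colon ideal
  set P : Submodule Γ(X, V) Γ(F, V) := Submodule.span Γ(X, V) (Set.range t) with hP
  let I : Ideal Γ(X, V) :=
    { carrier := {r | r • s ∈ P}
      add_mem' := fun {a b} ha hb => by
        show (a + b) • s ∈ P
        rw [add_smul]; exact add_mem ha hb
      zero_mem' := by
        show (0 : Γ(X, V)) • s ∈ P
        rw [zero_smul]; exact zero_mem _
      smul_mem' := fun c {a} ha => by
        show (c • a) • s ∈ P
        rw [smul_assoc]; exact Submodule.smul_mem _ _ ha }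
  have hcov : V ≤ ⨆ f : (I : Set Γ(X, V)), X.basicOpen f.1 := by
    intro x hx
    obtain ⟨V'', h', hxV'', hmem⟩ := h x hx
    obtain ⟨g, hg, hxg⟩ := hV.exists_basicOpen_le (⟨x, hxV''⟩ : V'') hx
    have h1 := res_mem_span F hg (fun i => res F h' (t i)) hmem
    simp only [res_res] at h1
    obtain ⟨e, he⟩ := exists_pow_smul_mem_span F hV g t s h1
    have he' : g ^ (e + 1) • s ∈ P := by
      rw [pow_succ', mul_smul]
      exact Submodule.smul_mem _ _ he
    refine Opens.mem_iSup.mpr ⟨⟨g ^ (e + 1), he'⟩, ?_⟩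
    rw [Scheme.basicOpen_pow _ _ (Nat.succ_pos e)]
    exact hxg
  have := hV.self_le_iSup_basicOpen_iff.mp hcov
  rw [Ideal.span_eq] at this
  have h1 : (1 : Γ(X, V)) ∈ I := this ▸ Submodule.mem_top
  have h2 : (1 : Γ(X, V)) • s ∈ P := h1
  rwa [one_smul] at h2

/-- **Fact A'** -/
lemma exists_pow_smul_mem_span_of_locally {V D : X.Opens} (hV : IsAffineOpen V) (r : Γ(X, V))
    (hD : D = X.basicOpen r) (hDV : D ≤ V) {n : ℕ} (t : Fin n → Γ(F, V)) (s : Γ(F, V))
    (h : ∀ x ∈ D, ∃ (V'' : X.Opens) (h' : V'' ≤ D), x ∈ V'' ∧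
      res F (h'.trans hDV) s ∈ Submodule.span Γ(X, V'')
        (Set.range fun i => res F (h'.trans hDV) (t i))) :
    ∃ b : ℕ, r ^ b • s ∈ Submodule.span Γ(X, V) (Set.range t) := by
  subst hD
  apply exists_pow_smul_mem_span F hV r t s
  apply mem_span_of_locally F (hV.basicOpen r) (fun i => res F _ (t i)) (res F _ s)
  intro x hx
  obtain ⟨V'', h', hx'', hm⟩ := h x hx
  refine ⟨V'', h', hx'', ?_⟩
  simpa only [res_res] using hm

omit [F.IsQuasicoherent] in
lemma resO_resO {V'' V' V : X.Opens} (h' : V'' ≤ V') (h : V' ≤ V) (r : Γ(X, V)) :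
    resO h' (resO h r) = resO (h'.trans h) r := by
  change (X.presheaf.map (homOfLE h).op ≫ X.presheaf.map (homOfLE h').op) r = _
  rw [← Functor.map_comp]
  rfl

omit [F.IsQuasicoherent] in
lemma isUnit_resO_of_le_basicOpen {V V'' : X.Opens} (r : Γ(X, V)) (h : V'' ≤ X.basicOpen r) :
    IsUnit (resO (h.trans (X.basicOpen_le r)) r) := by
  have h1 : IsUnit (resO (X.basicOpen_le r) r) := RingedSpace.isUnit_res_basicOpen _ r
  have h2 := h1.map (X.presheaf.map (homOfLE h).op).hom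
  have h3 : (X.presheaf.map (homOfLE h).op).hom (resO (X.basicOpen_le r) r) =
      resO (h.trans (X.basicOpen_le r)) r := resO_resO h _ r
  rwa [h3] at h2

end Span

lemma SubFam.LocGen.restrict {N : SubFam F} {V V₁ : X.Opens} {n : ℕ} {t : Fin n → Γ(F, V)}
    (hg : N.LocGen V t) (h₁ : V₁ ≤ V) : N.LocGen V₁ (fun i => res F h₁ (t i)) where
  mem i := N.res_mem h₁ (hg.mem i)
  gen V' h s hs x hx := by
    obtain ⟨V'', h', hxV'', hm⟩ := hg.gen V' (h.trans h₁) s hs x hx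
    refine ⟨V'', h', hxV'', ?_⟩
    simpa only [res_res] using hm

/-- constructor of families from a predicate -/
def SubFam.ofPred (P : ∀ V : X.Opens, Submodule Γ(X, V) Γ(F, V))
    (hP : ∀ (V' V : X.Opens) (h : V' ≤ V) (s : Γ(F, V)), s ∈ P V → res F h s ∈ P V') : SubFam F where
  obj V := P V.unop
  map {A B} f := fun s hs => hP B.unop A.unop (leOfHom f.unop) s hs

@[simp] lemma SubFam.ofPred_sec (P : ∀ V : X.Opens, Submodule Γ(X, V) Γ(F, V))
    (hP : ∀ (V' V : X.Opens) (h : V' ≤ V) (s : Γ(F, V)), s ∈ P V → res F h s ∈ P V') (V : X.Opens) :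
    (SubFam.ofPred P hP).sec V = P V := rfl

section LocSpan

variable (F)

/-- `s` is locally a combination of the (restrictions of the) `t i` -/
def LocSpan {V : X.Opens} {n : ℕ} (t : Fin n → Γ(F, V)) (D : X.Opens) (hD : D ≤ V) (s : Γ(F, D)) :
    Prop :=
  ∀ x ∈ D, ∃ (D' : X.Opens) (h' : D' ≤ D), x ∈ D' ∧
    res F h' s ∈ Submodule.span Γ(X, D') (Set.range fun i => res F (h'.trans hD) (t i))

variable {F} {V : X.Opens} {n : ℕ} {t : Fin n → Γ(F, V)}

lemma span_res_mono {D' D'' : X.Opens} (h'' : D'' ≤ D') (hD' : D' ≤ V) {s : Γ(F, D')}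
    (hs : s ∈ Submodule.span Γ(X, D') (Set.range fun i => res F hD' (t i))) :
    res F h'' s ∈ Submodule.span Γ(X, D'') (Set.range fun i => res F (h''.trans hD') (t i)) := by
  have := res_mem_span F h'' _ hs
  simpa only [res_res] using this

lemma LocSpan.restrict {D D₁ : X.Opens} {hD : D ≤ V} {s : Γ(F, D)} (hs : LocSpan F t D hD s)
    (h₁ : D₁ ≤ D) : LocSpan F t D₁ (h₁.trans hD) (res F h₁ s) := by
  intro x hx
  obtain ⟨D', h', hxD', hm⟩ := hs x (h₁ hx)
  refine ⟨D' ⊓ D₁, inf_le_right, ⟨hxD', hx⟩, ?_⟩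
  have := span_res_mono (inf_le_left : D' ⊓ D₁ ≤ D') (h'.trans hD) hm
  rw [res_res] at this ⊢
  exact this

lemma LocSpan.of_locally {D : X.Opens} {hD : D ≤ V} {s : Γ(F, D)}
    (h : ∀ x ∈ D, ∃ (D₁ : X.Opens) (h₁ : D₁ ≤ D), x ∈ D₁ ∧
      LocSpan F t D₁ (h₁.trans hD) (res F h₁ s)) : LocSpan F t D hD s := by
  intro x hx
  obtain ⟨D₁, h₁, hx₁, hs₁⟩ := h x hx
  obtain ⟨D', h', hxD', hm⟩ := hs₁ x hx₁
  refine ⟨D', h'.trans h₁, hxD', ?_⟩
  rw [res_res] at hm
  exact hm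

lemma LocSpan.zero {D : X.Opens} {hD : D ≤ V} : LocSpan F t D hD 0 := by
  intro x hx
  refine ⟨D, le_rfl, hx, ?_⟩
  rw [res_zero]
  exact zero_mem _

lemma LocSpan.add {D : X.Opens} {hD : D ≤ V} {s s' : Γ(F, D)} (hs : LocSpan F t D hD s)
    (hs' : LocSpan F t D hD s') : LocSpan F t D hD (s + s') := by
  intro x hx
  obtain ⟨D₁, h₁, hx₁, hm₁⟩ := hs x hx
  obtain ⟨D₂, h₂, hx₂, hm₂⟩ := hs' x hx
  refine ⟨D₁ ⊓ D₂, inf_le_left.trans h₁, ⟨hx₁, hx₂⟩, ?_⟩
  have e₁ := span_res_mono (inf_le_left : D₁ ⊓ D₂ ≤ D₁) (h₁.trans hD) hm₁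
  have e₂ := span_res_mono (inf_le_right : D₁ ⊓ D₂ ≤ D₂) (h₂.trans hD) hm₂
  rw [res_res] at e₁ e₂
  rw [res_add]
  exact add_mem e₁ e₂

lemma LocSpan.smul {D : X.Opens} {hD : D ≤ V} {s : Γ(F, D)} (r : Γ(X, D))
    (hs : LocSpan F t D hD s) : LocSpan F t D hD (r • s) := by
  intro x hx
  obtain ⟨D₁, h₁, hx₁, hm₁⟩ := hs x hx
  refine ⟨D₁, h₁, hx₁, ?_⟩
  rw [res_smul]
  exact Submodule.smul_mem _ _ hm₁

lemma LocSpan.gen {D : X.Opens} (hD : D ≤ V) (i : Fin n) : LocSpan F t D hD (res F hD (t i)) := by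
  intro x hx
  refine ⟨D, le_rfl, hx, ?_⟩
  rw [res_res]
  exact Submodule.subset_span ⟨i, rfl⟩

lemma LocSpan.mem_span [F.IsQuasicoherent] (hV : IsAffineOpen V) {s : Γ(F, V)}
    (hs : LocSpan F t V le_rfl s) : s ∈ Submodule.span Γ(X, V) (Set.range t) :=
  mem_span_of_locally F hV t s hs

end LocSpan

section AffineLemma

variable [F.IsQuasicoherent]

/-- extension of one local generator -/
lemma exists_extension_of_gen (N : SubFam F) (hloc : N.IsLocal) {V W : X.Opens}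
    (hV : IsAffineOpen V) {ι : Type*} (R : Finset ι) (r : ι → Γ(X, V)) (n : ι → ℕ)
    (t : ∀ j, Fin (n j) → Γ(F, X.basicOpen (r j)))
    (hg : ∀ j, N.LocGen (X.basicOpen (r j)) (t j))
    (hcov : ∀ y ∈ V ⊓ W, ∃ j ∈ R, y ∈ X.basicOpen (r j))
    (hrW : ∀ j, X.basicOpen (r j) ≤ W) (j : ι) (i : Fin (n j)) :
    ∃ (m : Γ(F, V)) (e : ℕ), res F (inf_le_left : V ⊓ W ≤ V) m ∈ N.sec (V ⊓ W) ∧
      res F (X.basicOpen_le (r j)) m = (resO (X.basicOpen_le (r j)) (r j)) ^ e • t j i := by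
  obtain ⟨a, m₀, hm₀⟩ :=
    Groth.Agent.Lib.Helper22.exists_pow_smul_eq_map_of_isAffineOpen F hV (r j) (t j i)
  have hm₀' : res F (X.basicOpen_le (r j)) m₀ = (resO (X.basicOpen_le (r j)) (r j)) ^ a • t j i :=
    hm₀
  have key : ∀ j', ∃ b : ℕ, res F (X.basicOpen_le (r j')) ((r j) ^ b • m₀) ∈
      N.sec (X.basicOpen (r j')) := by
    intro j'
    set ρ : Γ(X, X.basicOpen (r j')) := resO (X.basicOpen_le (r j')) (r j) with hρ
    have hD : X.basicOpen (r j') ⊓ X.basicOpen (r j) = X.basicOpen ρ :=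
      (Scheme.basicOpen_res X (r j) (homOfLE (X.basicOpen_le (r j'))).op).symm
    have hDV : X.basicOpen (r j') ⊓ X.basicOpen (r j) ≤ X.basicOpen (r j') := inf_le_left
    have hmem : res F (inf_le_right.trans (X.basicOpen_le (r j)) :
        X.basicOpen (r j') ⊓ X.basicOpen (r j) ≤ V) m₀ ∈
        N.sec (X.basicOpen (r j') ⊓ X.basicOpen (r j)) := by
      have h1 : res F (inf_le_right : X.basicOpen (r j') ⊓ X.basicOpen (r j) ≤ X.basicOpen (r j))
          (res F (X.basicOpen_le (r j)) m₀) ∈ N.sec (X.basicOpen (r j') ⊓ X.basicOpen (r j)) := by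
        rw [hm₀', res_smul]
        exact Submodule.smul_mem _ _ (N.res_mem _ ((hg j).mem i))
      rwa [res_res] at h1
    have hls := (hg j').gen _ hDV _ hmem
    obtain ⟨b, hb⟩ := exists_pow_smul_mem_span_of_locally F (hV.basicOpen (r j')) ρ hD hDV (t j')
      (res F (X.basicOpen_le (r j')) m₀) (by
        intro x hx
        obtain ⟨V'', h', hxV'', hm⟩ := hls x hx
        refine ⟨V'', h', hxV'', ?_⟩
        rw [res_res] at hm ⊢
        exact hm)
    refine ⟨b, ?_⟩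
    rw [res_smul, map_pow]
    exact (Submodule.span_le.mpr (by rintro _ ⟨k, rfl⟩; exact (hg j').mem k)) hb
  choose b hb using key
  refine ⟨(r j) ^ (R.sup b) • m₀, R.sup b + a, ?_, ?_⟩
  · apply hloc
    intro x hx
    obtain ⟨j', hj', hxj'⟩ := hcov x hx
    refine ⟨X.basicOpen (r j'), le_inf (X.basicOpen_le _) (hrW j'), hxj', ?_⟩
    rw [res_res]
    have hle : b j' ≤ R.sup b := Finset.le_sup hj'
    have : (r j) ^ (R.sup b) • m₀ = (r j) ^ (R.sup b - b j') • ((r j) ^ (b j') • m₀) := by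
      rw [smul_smul, ← pow_add, Nat.sub_add_cancel hle]
    rw [this, res_smul]
    exact Submodule.smul_mem _ _ (hb j')
  · rw [res_smul, hm₀', map_pow, smul_smul, ← pow_add]

/-- **Affine lemma**: finitely many sections over the affine open `V` generating `N` on `V ⊓ W` -/
theorem exists_finite_gen (N : SubFam F) (hloc : N.IsLocal) {V W : X.Opens} (hV : IsAffineOpen V)
    (hO : IsCompact ((V ⊓ W : X.Opens) : Set X)) (hlfg : N.IsLFG W) :
    ∃ (n : ℕ) (T : Fin n → Γ(F, V)),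
      (∀ i, res F (inf_le_left : V ⊓ W ≤ V) (T i) ∈ N.sec (V ⊓ W)) ∧
      (∀ (V' : X.Opens) (h : V' ≤ V ⊓ W) (s : Γ(F, V')), s ∈ N.sec V' →
        LocSpan F T V' (h.trans inf_le_left) s) := by
  have key : ∀ x : ↥(V ⊓ W), ∃ (r : Γ(X, V)) (n : ℕ) (t : Fin n → Γ(F, X.basicOpen r)),
      x.1 ∈ X.basicOpen r ∧ X.basicOpen r ≤ W ∧ N.LocGen (X.basicOpen r) t := by
    rintro ⟨x, hxV, hxW⟩
    obtain ⟨V₀, hV₀W, hxV₀, n, t, hg⟩ := hlfg x hxW
    obtain ⟨r, hr, hxr⟩ := hV.exists_basicOpen_le (⟨x, hxV₀⟩ : V₀) hxV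
    exact ⟨r, n, fun i => res F hr (t i), hxr, hr.trans hV₀W, hg.restrict hr⟩
  choose r n t hxr hrW hg using key
  obtain ⟨R, hR⟩ := hO.elim_finite_subcover (fun x => (X.basicOpen (r x) : Set X))
    (fun x => (X.basicOpen (r x)).2) (fun y hy => Set.mem_iUnion.2 ⟨⟨y, hy⟩, hxr _⟩)
  have hcov : ∀ y ∈ V ⊓ W, ∃ j ∈ R, y ∈ X.basicOpen (r j) := by
    intro y hy
    obtain ⟨j, hj, hyj⟩ := Set.mem_iUnion₂.mp (hR hy)
    exact ⟨j, hj, hyj⟩
  have ex := fun j i => exists_extension_of_gen N hloc hV R r n t hg hcov hrW j i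
  choose m e hm1 hm2 using ex
  let ε := Fintype.equivFin (Σ j : R, Fin (n j.1))
  refine ⟨_, fun k => m (ε.symm k).1.1 (ε.symm k).2, fun k => hm1 _ _, ?_⟩
  intro V' h s hs x hx
  obtain ⟨j, hj, hxj⟩ := hcov x (h hx)
  have hs₁ : res F (inf_le_left : V' ⊓ X.basicOpen (r j) ≤ V') s ∈ N.sec (V' ⊓ X.basicOpen (r j)) :=
    N.res_mem _ hs
  obtain ⟨D'', h'', hxD'', hm⟩ := (hg j).gen _ inf_le_right _ hs₁ x ⟨hx, hxj⟩
  refine ⟨D'', h''.trans inf_le_left, hxD'', ?_⟩
  rw [res_res] at hm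
  refine (Submodule.span_le.mpr ?_) hm
  rintro _ ⟨i, rfl⟩
  -- the generator `t j i` restricted to `D''`
  have hD''j : D'' ≤ X.basicOpen (r j) := h''.trans inf_le_right
  have hu := isUnit_resO_of_le_basicOpen (r j) hD''j
  obtain ⟨w, hw⟩ := (hu.pow (e j i)).exists_left_inv
  have hk : m (ε.symm (ε ⟨⟨j, hj⟩, i⟩)).1.1 (ε.symm (ε ⟨⟨j, hj⟩, i⟩)).2 = m j i := by
    rw [Equiv.symm_apply_apply]
  have h1 : res F (hD''j.trans (X.basicOpen_le (r j))) (m j i) =
      (resO (hD''j.trans (X.basicOpen_le (r j))) (r j)) ^ (e j i) • res F hD''j (t j i) := by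
    rw [← res_res F hD''j (X.basicOpen_le (r j)), hm2, res_smul, map_pow]
    exact congrArg (fun z => z ^ e j i • res F hD''j (t j i))
      (resO_resO hD''j (X.basicOpen_le (r j)) (r j))
  have h2 : res F hD''j (t j i) = w • res F (hD''j.trans (X.basicOpen_le (r j))) (m j i) := by
    rw [h1, smul_smul, hw, one_smul]
  show res F _ (t j i) ∈ _
  rw [h2]
  refine Submodule.smul_mem _ _ (Submodule.subset_span ⟨ε ⟨⟨j, hj⟩, i⟩, ?_⟩)
  show res F _ (m (ε.symm (ε ⟨⟨j, hj⟩, i⟩)).1.1 (ε.symm (ε ⟨⟨j, hj⟩, i⟩)).2) = _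
  rw [hk]

end AffineLemma

section ExtStep

lemma SubFam.IsSat.mono {N : SubFam F} {W W' : X.Opens} (h : N.IsSat W) (hW : W ≤ W') :
    N.IsSat W' := by
  intro D s hs
  apply h D s
  have := N.res_mem (inf_le_inf le_rfl hW : D ⊓ W ≤ D ⊓ W') hs
  rwa [res_res] at this

lemma SubFam.LocGen.congr {N N' : SubFam F} {V₀ : X.Opens} {n : ℕ} {t : Fin n → Γ(F, V₀)}
    (hg : N.LocGen V₀ t) (h : ∀ D : X.Opens, D ≤ V₀ → N.sec D = N'.sec D) : N'.LocGen V₀ t where
  mem i := by rw [← h V₀ le_rfl]; exact hg.mem i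
  gen V' hV' s hs := hg.gen V' hV' s (by rw [h V' hV']; exact hs)

lemma SubFam.IsLFG.anti {N : SubFam F} {W W' : X.Opens} (h : N.IsLFG W) (hW : W' ≤ W) :
    N.IsLFG W' := by
  intro x hx
  obtain ⟨V₀, hV₀, hxV₀, n, t, hg⟩ := h x (hW hx)
  exact ⟨V₀ ⊓ W', inf_le_right, ⟨hxV₀, hx⟩, n, _, hg.restrict inf_le_left⟩

/-- the extended family -/
def SubFam.extend (N : SubFam F) (W V : X.Opens) {n : ℕ} (T : Fin n → Γ(F, V)) : SubFam F :=
  SubFam.ofPred (fun D =>
    { carrier := {s | res F (inf_le_left : D ⊓ W ≤ D) s ∈ N.sec (D ⊓ W) ∧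
        LocSpan F T (D ⊓ V) inf_le_right (res F (inf_le_left : D ⊓ V ≤ D) s)}
      add_mem' := fun {a b} ha hb => by
        refine ⟨?_, ?_⟩
        · show res F _ (a + b) ∈ _
          rw [res_add]; exact add_mem ha.1 hb.1
        · show LocSpan F T _ _ (res F _ (a + b))
          rw [res_add]; exact ha.2.add hb.2
      zero_mem' := by
        refine ⟨?_, ?_⟩
        · show res F _ 0 ∈ _
          rw [res_zero]; exact zero_mem _
        · show LocSpan F T _ _ (res F _ 0)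
          rw [res_zero]; exact LocSpan.zero
      smul_mem' := fun c {a} ha => by
        refine ⟨?_, ?_⟩
        · show res F _ (c • a) ∈ _
          rw [res_smul]; exact Submodule.smul_mem _ _ ha.1
        · show LocSpan F T _ _ (res F _ (c • a))
          rw [res_smul]; exact ha.2.smul _ })
    (by
      rintro D' D h s ⟨hs1, hs2⟩
      refine ⟨?_, ?_⟩
      · show res F _ (res F h s) ∈ _
        have := N.res_mem (inf_le_inf h le_rfl : D' ⊓ W ≤ D ⊓ W) hs1
        rw [res_res] at this ⊢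
        exact this
      · show LocSpan F T _ _ (res F _ (res F h s))
        have := hs2.restrict (inf_le_inf h le_rfl : D' ⊓ V ≤ D ⊓ V)
        rw [res_res] at this ⊢
        exact this)

lemma SubFam.mem_extend_iff (N : SubFam F) (W V : X.Opens) {n : ℕ} (T : Fin n → Γ(F, V))
    {D : X.Opens} (s : Γ(F, D)) :
    s ∈ (N.extend W V T).sec D ↔ res F (inf_le_left : D ⊓ W ≤ D) s ∈ N.sec (D ⊓ W) ∧
        LocSpan F T (D ⊓ V) inf_le_right (res F (inf_le_left : D ⊓ V ≤ D) s) := Iff.rfl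

variable {N : SubFam F} {W V : X.Opens} {n : ℕ} {T : Fin n → Γ(F, V)}

lemma SubFam.extend_sec_of_le
    (hT2 : ∀ (V' : X.Opens) (h : V' ≤ V ⊓ W) (s : Γ(F, V')), s ∈ N.sec V' →
        LocSpan F T V' (h.trans inf_le_left) s) {D : X.Opens} (hD : D ≤ W) :
    (N.extend W V T).sec D = N.sec D := by
  ext s
  rw [SubFam.mem_extend_iff]
  constructor
  · rintro ⟨h1, -⟩
    have := N.res_mem (le_inf le_rfl hD : D ≤ D ⊓ W) h1
    rwa [res_res, res_self] at this
  · intro hs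
    exact ⟨N.res_mem _ hs, hT2 _ (le_inf inf_le_right (inf_le_left.trans hD)) _ (N.res_mem _ hs)⟩

lemma SubFam.extend_isLocal (hloc : N.IsLocal) : (N.extend W V T).IsLocal := by
  intro D s hs
  rw [SubFam.mem_extend_iff]
  refine ⟨?_, ?_⟩
  · apply hloc
    rintro x ⟨hxD, hxW⟩
    obtain ⟨D', h', hxD', hm⟩ := hs x hxD
    rw [SubFam.mem_extend_iff] at hm
    refine ⟨D' ⊓ W, inf_le_inf h' le_rfl, ⟨hxD', hxW⟩, ?_⟩
    have := hm.1
    rw [res_res] at this ⊢
    exact this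
  · apply LocSpan.of_locally
    rintro x ⟨hxD, hxV⟩
    obtain ⟨D', h', hxD', hm⟩ := hs x hxD
    rw [SubFam.mem_extend_iff] at hm
    refine ⟨D' ⊓ V, inf_le_inf h' le_rfl, ⟨hxD', hxV⟩, ?_⟩
    have := hm.2
    rw [res_res] at this ⊢
    exact this

lemma SubFam.extend_isSat : (N.extend W V T).IsSat (W ⊔ V) := by
  intro D s hs
  rw [SubFam.mem_extend_iff] at hs ⊢
  refine ⟨?_, ?_⟩
  · have := N.res_mem (le_inf (le_inf inf_le_left (inf_le_right.trans le_sup_left)) inf_le_right :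
      D ⊓ W ≤ D ⊓ (W ⊔ V) ⊓ W) hs.1
    rw [res_res, res_res] at this
    exact this
  · have := hs.2.restrict (le_inf (le_inf inf_le_left (inf_le_right.trans le_sup_right)) inf_le_right :
      D ⊓ V ≤ D ⊓ (W ⊔ V) ⊓ V)
    rw [res_res, res_res] at this
    exact this

lemma SubFam.extend_isLFG (hlfg : N.IsLFG W)
    (hT1 : ∀ i, res F (inf_le_left : V ⊓ W ≤ V) (T i) ∈ N.sec (V ⊓ W))
    (hT2 : ∀ (V' : X.Opens) (h : V' ≤ V ⊓ W) (s : Γ(F, V')), s ∈ N.sec V' →
        LocSpan F T V' (h.trans inf_le_left) s) : (N.extend W V T).IsLFG (W ⊔ V) := by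
  rintro x (hx | hx)
  · obtain ⟨V₀, hV₀, hxV₀, n₀, t₀, hg⟩ := hlfg x hx
    refine ⟨V₀, hV₀.trans le_sup_left, hxV₀, n₀, t₀, hg.congr fun D hD => ?_⟩
    rw [SubFam.extend_sec_of_le hT2 (hD.trans hV₀)]
  · refine ⟨V, le_sup_right, hx, n, T, ?_, ?_⟩
    · intro i
      rw [SubFam.mem_extend_iff]
      exact ⟨hT1 i, LocSpan.gen _ i⟩
    · intro V' hV' s hs
      rw [SubFam.mem_extend_iff] at hs
      have := hs.2.restrict (le_inf le_rfl hV' : V' ≤ V' ⊓ V)
      rw [res_res, res_self] at this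
      exact this

end ExtStep

section Zorn

universe v

variable {L : Type v} (V : L → X.Opens) (U : X.Opens) (N₀ : SubFam F)

/-- the open `U ∪ ⋃_{m ∈ I} V m` -/
def Wof (I : Set L) : X.Opens := U ⊔ ⨆ m : I, V m.1

lemma mem_Wof {I : Set L} {x : X} : x ∈ Wof V U I ↔ x ∈ U ∨ ∃ m ∈ I, x ∈ V m := by
  constructor
  · rintro (hx | hx)
    · exact Or.inl hx
    · obtain ⟨m, hm⟩ := Opens.mem_iSup.mp hx
      exact Or.inr ⟨m.1, m.2, hm⟩
  · rintro (hx | ⟨m, hm, hx⟩)
    · exact Or.inl hx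
    · exact Or.inr (Opens.mem_iSup.mpr ⟨⟨m, hm⟩, hx⟩)

lemma Wof_mono {I I' : Set L} (h : I ⊆ I') : Wof V U I ≤ Wof V U I' := by
  intro x hx
  rw [mem_Wof] at hx ⊢
  rcases hx with hx | ⟨m, hm, hx⟩
  · exact Or.inl hx
  · exact Or.inr ⟨m, h hm, hx⟩

lemma le_Wof (I : Set L) : U ≤ Wof V U I := le_sup_left

variable [LinearOrder L]

/-- partial extensions -/
structure Ext where
  I : Set L
  lower : IsLowerSet I
  N : SubFam F
  isLocal : N.IsLocal
  isSat : N.IsSat (Wof V U I)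
  isLFG : N.IsLFG (Wof V U I)
  base : ∀ D : X.Opens, D ≤ U → N.sec D = N₀.sec D

instance : Preorder (Ext V U N₀) where
  le a b := a.I ⊆ b.I ∧ ∀ D : X.Opens, D ≤ Wof V U a.I → a.N.sec D = b.N.sec D
  le_refl a := ⟨subset_rfl, fun _ _ => rfl⟩
  le_trans a b c hab hbc := ⟨hab.1.trans hbc.1, fun D hD =>
    (hab.2 D hD).trans (hbc.2 D (hD.trans (Wof_mono V U hab.1)))⟩

lemma Ext.le_def {a b : Ext V U N₀} :
    a ≤ b ↔ a.I ⊆ b.I ∧ ∀ D : X.Opens, D ≤ Wof V U a.I → a.N.sec D = b.N.sec D := Iff.rfl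

/-- the intersection of a chain -/
noncomputable def Nstar (c : Set (Ext V U N₀)) : SubFam F :=
  SubFam.ofPred (fun D => ⨅ a : c, a.1.N.sec D) (by
    intro D' D h s hs
    rw [Submodule.mem_iInf] at hs ⊢
    exact fun a => a.1.N.res_mem h (hs a))

lemma mem_Nstar {c : Set (Ext V U N₀)} {D : X.Opens} {s : Γ(F, D)} :
    s ∈ (Nstar V U N₀ c).sec D ↔ ∀ a ∈ c, s ∈ a.N.sec D := by
  show s ∈ ⨅ a : c, a.1.N.sec D ↔ _
  rw [Submodule.mem_iInf]
  exact ⟨fun h a ha => h ⟨a, ha⟩, fun h a => h a.1 a.2⟩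

lemma Nstar_sec_of_le {c : Set (Ext V U N₀)} (hc : IsChain (· ≤ ·) c) {a : Ext V U N₀}
    (ha : a ∈ c) {D : X.Opens} (hD : D ≤ Wof V U a.I) :
    (Nstar V U N₀ c).sec D = a.N.sec D := by
  ext s
  rw [mem_Nstar]
  refine ⟨fun h => h a ha, fun hs b hb => ?_⟩
  rcases hc.total ha hb with hab | hba
  · rw [← hab.2 D hD]; exact hs
  · apply b.isSat D s
    rw [hba.2 _ inf_le_right]
    exact a.N.res_mem _ hs

lemma exists_bound (hN₀loc : N₀.IsLocal) (hN₀sat : N₀.IsSat U) (hN₀lfg : N₀.IsLFG U)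
    (c : Set (Ext V U N₀)) (hc : IsChain (· ≤ ·) c) : BddAbove c := by
  rcases c.eq_empty_or_nonempty with rfl | ⟨a₀, ha₀⟩
  · refine ⟨⟨∅, isLowerSet_empty, N₀, hN₀loc, hN₀sat.mono (le_Wof V U _), hN₀lfg.anti ?_,
      fun _ _ => rfl⟩, fun a ha => ha.elim⟩
    intro x hx
    rw [mem_Wof] at hx
    rcases hx with hx | ⟨m, hm, -⟩
    · exact hx
    · exact hm.elim
  · let b : Ext V U N₀ :=
      { I := ⋃ a : c, a.1.I
        lower := isLowerSet_iUnion fun a => a.1.lower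
        N := Nstar V U N₀ c
        isLocal := by
          intro D s hs
          rw [mem_Nstar]
          intro a ha
          apply a.isLocal
          intro x hx
          obtain ⟨D', h', hxD', hm⟩ := hs x hx
          exact ⟨D', h', hxD', (mem_Nstar V U N₀).mp hm a ha⟩
        isSat := by
          intro D s hs
          rw [mem_Nstar] at hs ⊢
          intro a ha
          apply a.isSat
          have hle : Wof V U a.I ≤ Wof V U (⋃ a : c, a.1.I) :=
            Wof_mono V U (Set.subset_iUnion (fun a : c => a.1.I) ⟨a, ha⟩)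
          have := a.N.res_mem (inf_le_inf le_rfl hle) (hs a ha)
          rwa [res_res] at this
        isLFG := by
          intro x hx
          rw [mem_Wof] at hx
          have : ∃ a ∈ c, x ∈ Wof V U a.I := by
            rcases hx with hx | ⟨m, hm, hx⟩
            · exact ⟨a₀, ha₀, le_Wof V U _ hx⟩
            · obtain ⟨a, hma⟩ := Set.mem_iUnion.mp hm
              exact ⟨a.1, a.2, (mem_Wof V U).mpr (Or.inr ⟨m, hma, hx⟩)⟩
          obtain ⟨a, ha, hxa⟩ := this
          obtain ⟨V₀, hV₀, hxV₀, n, t, hg⟩ := a.isLFG x hxa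
          refine ⟨V₀, hV₀.trans (Wof_mono V U (Set.subset_iUnion (fun a : c => a.1.I) ⟨a, ha⟩)),
            hxV₀, n, t, hg.congr fun D hD => ?_⟩
          rw [Nstar_sec_of_le V U N₀ hc ha (hD.trans hV₀)]
        base := by
          intro D hD
          rw [Nstar_sec_of_le V U N₀ hc ha₀ (hD.trans (le_Wof V U _))]
          exact a₀.base D hD }
    refine ⟨b, fun a ha => ⟨Set.subset_iUnion (fun a : c => a.1.I) ⟨a, ha⟩, fun D hD => ?_⟩⟩
    exact (Nstar_sec_of_le V U N₀ hc ha hD).symm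

variable [WellFoundedLT L]

/-- **Transfinite extension** -/
theorem exists_extension [F.IsQuasicoherent] (hV : ∀ l, IsAffineOpen (V l))
    (hcomp : ∀ l, IsCompact ((V l ⊓ Wof V U (Set.Iio l) : X.Opens) : Set X))
    (hN₀loc : N₀.IsLocal) (hN₀sat : N₀.IsSat U) (hN₀lfg : N₀.IsLFG U) :
    ∃ N : SubFam F, N.IsLocal ∧ N.IsLFG (Wof V U Set.univ) ∧
      ∀ D : X.Opens, D ≤ U → N.sec D = N₀.sec D := by
  obtain ⟨a, ha⟩ := zorn_le (exists_bound V U N₀ hN₀loc hN₀sat hN₀lfg)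
  suffices hI : a.I = Set.univ from ⟨a.N, a.isLocal, hI ▸ a.isLFG, a.base⟩
  by_contra hne
  obtain ⟨l, hl⟩ := (Set.ne_univ_iff_exists_notMem _).mp hne
  obtain ⟨l₀, hl₀, hmin⟩ := wellFounded_lt.has_min (a.Iᶜ) ⟨l, hl⟩
  have hI : a.I = Set.Iio l₀ := by
    ext m
    constructor
    · intro hm
      by_contra hlt
      exact hl₀ (a.lower (not_lt.mp hlt) hm)
    · intro hm
      by_contra hmI
      exact hmin m hmI hm
  have hO : IsCompact ((V l₀ ⊓ Wof V U a.I : X.Opens) : Set X) := by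
    rw [hI]; exact hcomp l₀
  obtain ⟨n, T, hT1, hT2⟩ := exists_finite_gen a.N a.isLocal (hV l₀) hO a.isLFG
  have h1 : Wof V U a.I ⊔ V l₀ ≤ Wof V U (insert l₀ a.I) := by
    refine sup_le (Wof_mono V U (Set.subset_insert _ _)) ?_
    intro x hx
    exact (mem_Wof V U).mpr (Or.inr ⟨l₀, Set.mem_insert _ _, hx⟩)
  have h2 : Wof V U (insert l₀ a.I) ≤ Wof V U a.I ⊔ V l₀ := by
    intro x hx
    rw [mem_Wof] at hx
    rcases hx with hx | ⟨m, hm, hx⟩
    · exact Or.inl (le_Wof V U _ hx)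
    · rcases hm with rfl | hm
      · exact Or.inr hx
      · exact Or.inl ((mem_Wof V U).mpr (Or.inr ⟨m, hm, hx⟩))
  let b : Ext V U N₀ :=
    { I := insert l₀ a.I
      lower := by
        intro m m' hm'm hm
        rcases hm with rfl | hm
        · rcases hm'm.eq_or_lt with h | h
          · exact h ▸ Set.mem_insert _ _
          · exact Set.mem_insert_of_mem _ (hI ▸ h)
        · exact Set.mem_insert_of_mem _ (a.lower hm'm hm)
      N := a.N.extend (Wof V U a.I) (V l₀) T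
      isLocal := SubFam.extend_isLocal a.isLocal
      isSat := SubFam.extend_isSat.mono h1
      isLFG := (SubFam.extend_isLFG a.isLFG hT1 hT2).anti h2
      base := by
        intro D hD
        rw [SubFam.extend_sec_of_le hT2 (hD.trans (le_Wof V U _))]
        exact a.base D hD }
  have hab : a ≤ b := ⟨Set.subset_insert _ _, fun D hD => (SubFam.extend_sec_of_le hT2 hD).symm⟩
  exact hl₀ ((ha hab).1 (Set.mem_insert l₀ a.I))

end Zorn

end Groth.Agent.Lib.QCoh.SubExt
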