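import Mathlib
import Groth.Agent.Lib.QCoh.Helper66_SubExt
import Groth.Agent.Lib.QCoh.Affine
import Groth.Agent.Lib.QCoh.AffineOpen
import Groth.Agent.Lib.QCoh.Local

/-!
# Extension of quasi-coherent subsheaves of finite type II (helper66)

Conversion between local families of submodules and subsheaves.
ns `Groth.Agent.Lib.QCoh.SubExt`.
-/

set_option autoImplicit false
universe u
open CategoryTheory AlgebraicGeometry Opposite TopologicalSpace

namespace Groth.Agent.Lib.QCoh.SubExt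

open Groth.Agent.Lib.QCoh.Glue74 Groth.Agent.Lib.QCoh

variable {X : Scheme.{u}} {F : X.Modules}

section ToModules

theorem SubFam.isSheaf (N : SubFam F) (hloc : N.IsLocal) :
    Presheaf.IsSheaf (Opens.grothendieckTopology X) N.toPresheafOfModules.presheaf := by
  show TopCat.Presheaf.IsSheaf _
  rw [TopCat.Presheaf.isSheaf_iff_isSheafUniqueGluing]
  intro ι U sf hsf
  have hF : TopCat.Presheaf.IsSheafUniqueGluing F.val.presheaf :=
    (TopCat.Presheaf.isSheaf_iff_isSheafUniqueGluing _).mp F.isSheaf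
  obtain ⟨s, hs, huniq⟩ := hF U (fun i => (sf i).1) (fun i j => congrArg Subtype.val (hsf i j))
  have hsN : s ∈ N.sec (iSup U) := by
    apply hloc
    intro x hx
    obtain ⟨i, hi⟩ := Opens.mem_iSup.mp hx
    refine ⟨U i, le_iSup U i, hi, ?_⟩
    have := hs i
    show F.val.presheaf.map (Opens.leSupr U i).op s ∈ _
    rw [this]
    exact (sf i).2
  refine ⟨⟨s, hsN⟩, fun i => Subtype.ext (hs i), fun s' hs' =>
    Subtype.ext (huniq s'.1 (fun i => congrArg Subtype.val (hs' i)))⟩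

/-- the sheaf of modules associated to a local family -/
noncomputable def SubFam.toModules (N : SubFam F) (hloc : N.IsLocal) : X.Modules where
  val := N.toPresheafOfModules
  isSheaf := N.isSheaf hloc

/-- the inclusion -/
noncomputable def SubFam.incl (N : SubFam F) (hloc : N.IsLocal) : N.toModules hloc ⟶ F :=
  ⟨N.ι⟩

variable (N : SubFam F) (hloc : N.IsLocal)

/-- sections of the associated sheaf -/
def SubFam.secEquiv (V : X.Opens) : Γ(N.toModules hloc, V) ≃ N.sec V := Equiv.refl _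

lemma SubFam.incl_app (V : X.Opens) (x : Γ(N.toModules hloc, V)) :
    (N.incl hloc).app V x = (N.secEquiv hloc V x).1 := rfl

lemma SubFam.secEquiv_res {V' V : X.Opens} (h : V' ≤ V) (x : Γ(N.toModules hloc, V)) :
    (N.secEquiv hloc V' (res (N.toModules hloc) h x)).1 = res F h (N.secEquiv hloc V x).1 := rfl

lemma SubFam.secEquiv_smul {V : X.Opens} (r : Γ(X, V)) (x : Γ(N.toModules hloc, V)) :
    (N.secEquiv hloc V (r • x)).1 = r • (N.secEquiv hloc V x).1 := rfl

lemma SubFam.secEquiv_zero {V : X.Opens} :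
    (N.secEquiv hloc V (0 : Γ(N.toModules hloc, V))).1 = 0 := rfl

instance SubFam.mono_incl : Mono (N.incl hloc) :=
  mono_of_app_injective _ fun V _ _ hxy => (N.secEquiv hloc V).injective (Subtype.ext hxy)

lemma SubFam.mem_sec_iff {V : X.Opens} (s : Γ(F, V)) :
    s ∈ N.sec V ↔ ∃ y : Γ(N.toModules hloc, V), (N.incl hloc).app V y = s :=
  ⟨fun hs => ⟨(N.secEquiv hloc V).symm ⟨s, hs⟩, rfl⟩, by rintro ⟨y, rfl⟩; exact (N.secEquiv hloc V y).2⟩

end ToModules

section Props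

variable [F.IsQuasicoherent] (N : SubFam F) (hloc : N.IsLocal)

include hloc in
lemma exists_locGen_of_isAffineOpen (hlfg : N.IsLFG ⊤) {V : X.Opens} (hV : IsAffineOpen V) :
    ∃ (n : ℕ) (T : Fin n → Γ(F, V)), N.LocGen V T := by
  have hO : IsCompact ((V ⊓ ⊤ : X.Opens) : Set X) := by rw [inf_top_eq]; exact hV.isCompact
  obtain ⟨n, T, hT1, hT2⟩ := exists_finite_gen N hloc hV hO hlfg
  refine ⟨n, T, ⟨fun i => ?_, fun V' h s hs => hT2 V' (le_inf h le_top) s hs⟩⟩
  have := N.res_mem (le_inf le_rfl le_top : V ≤ V ⊓ ⊤) (hT1 i)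
  rwa [res_res, res_self] at this

variable {N}

omit [F.IsQuasicoherent] in
lemma SubFam.LocGen.span_le {V : X.Opens} {n : ℕ} {T : Fin n → Γ(F, V)} (hg : N.LocGen V T) :
    Submodule.span Γ(X, V) (Set.range T) ≤ N.sec V :=
  Submodule.span_le.mpr (by rintro _ ⟨k, rfl⟩; exact hg.mem k)

lemma SubFam.LocGen.sec_eq_span {V : X.Opens} {n : ℕ} {T : Fin n → Γ(F, V)} (hg : N.LocGen V T)
    (hV : IsAffineOpen V) : N.sec V = Submodule.span Γ(X, V) (Set.range T) :=
  le_antisymm (fun s hs => LocSpan.mem_span hV (hg.gen V le_rfl s hs)) hg.span_le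

lemma SubFam.LocGen.exists_pow_smul_mem {V : X.Opens} {n : ℕ} {T : Fin n → Γ(F, V)}
    (hg : N.LocGen V T) (hV : IsAffineOpen V) (g : Γ(X, V)) (s : Γ(F, V))
    (hs : res F (X.basicOpen_le g) s ∈ N.sec (X.basicOpen g)) : ∃ b : ℕ, g ^ b • s ∈ N.sec V := by
  obtain ⟨b, hb⟩ := exists_pow_smul_mem_span_of_locally F hV g rfl (X.basicOpen_le g) T s (by
    intro x hx
    obtain ⟨V'', h', hxV'', hm⟩ := hg.gen _ (X.basicOpen_le g) _ hs x hx
    refine ⟨V'', h', hxV'', ?_⟩
    rw [res_res] at hm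
    exact hm)
  exact ⟨b, hg.span_le hb⟩

variable (N)

theorem SubFam.isQuasicoherent_toModules (hlfg : N.IsLFG ⊤) :
    (N.toModules hloc).IsQuasicoherent := by
  refine LocCrit.isQuasicoherent_of_elementwise (N.toModules hloc)
    (fun V : X.affineOpens => (V : X.Opens)) (isOpenCover_affineOpens X) (fun V => V.2) ?_ ?_
  · intro V g y
    obtain ⟨n, T, hg⟩ := exists_locGen_of_isAffineOpen N hloc hlfg V.2
    obtain ⟨a, m₀, hm₀⟩ := Groth.Agent.Lib.Helper22.exists_pow_smul_eq_map_of_isAffineOpen F V.2 g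
      (N.secEquiv hloc _ y).1
    have hm₀' : res F (X.basicOpen_le g) m₀ =
        (resO (X.basicOpen_le g) g) ^ a • (N.secEquiv hloc _ y).1 := hm₀
    have hmem : res F (X.basicOpen_le g) m₀ ∈ N.sec (X.basicOpen g) := by
      rw [hm₀']
      exact Submodule.smul_mem _ _ (N.secEquiv hloc _ y).2
    obtain ⟨b, hb⟩ := hg.exists_pow_smul_mem V.2 g m₀ hmem
    refine ⟨b + a, (N.secEquiv hloc _).symm ⟨g ^ b • m₀, hb⟩, ?_⟩
    apply (N.secEquiv hloc _).injective
    apply Subtype.ext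
    show res F (X.basicOpen_le g) (g ^ b • m₀) =
      (resO (X.basicOpen_le g) g) ^ (b + a) • (N.secEquiv hloc _ y).1
    rw [res_smul, hm₀', map_pow, smul_smul, ← pow_add]
  · intro V g x hx
    have hx' : res F (X.basicOpen_le g) (N.secEquiv hloc _ x).1 = 0 :=
      congrArg (fun z => (N.secEquiv hloc _ z).1) hx
    obtain ⟨n, hn⟩ := Groth.Agent.Lib.Helper22.exists_pow_smul_eq_zero_of_isAffineOpen F V.2 g _ hx'
    refine ⟨n, ?_⟩
    apply (N.secEquiv hloc _).injective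
    apply Subtype.ext
    exact hn

theorem SubFam.isFiniteType_toModules (hlfg : N.IsLFG ⊤) :
    (N.toModules hloc).IsFiniteType := by
  have := N.isQuasicoherent_toModules hloc hlfg
  rw [isFiniteType_iff_forall_finite]
  intro V
  obtain ⟨n, T, hg⟩ := exists_locGen_of_isAffineOpen N hloc hlfg V.2
  have hfg : (N.sec (V : X.Opens)).FG := by
    rw [hg.sec_eq_span V.2]
    exact Submodule.fg_span (Set.finite_range T)
  have h1 : Module.Finite Γ(X, (V : X.Opens)) (N.sec (V : X.Opens)) := Module.Finite.iff_fg.mpr hfg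
  exact h1

end Props

section Base

open Scheme.Modules

lemma app_res {Y : Scheme.{u}} {M N : Y.Modules} (φ : M ⟶ N) {A B : Y.Opens} (h : A ≤ B)
    (x : Γ(M, B)) : φ.app A (res M h x) = res N h (φ.app B x) := by
  have h1 : M.presheaf.map (homOfLE h).op ≫ φ.app A = φ.app B ≫ N.presheaf.map (homOfLE h).op := by
    simpa using φ.mapPresheaf.naturality (homOfLE h).op
  exact congr($h1 x)

variable (U : X.Opens)

/-- `O` is the preimage of `D` in `U` -/
def IsPre (D : X.Opens) (O : (U : Scheme.{u}).Opens) : Prop :=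
  U.ι ''ᵁ O ≤ D ∧ D ⊓ U ≤ U.ι ''ᵁ O

variable {U} in
lemma IsPre.unique {D : X.Opens} {O₁ O₂ : (U : Scheme.{u}).Opens} (h₁ : IsPre U D O₁)
    (h₂ : IsPre U D O₂) : O₁ = O₂ :=
  U.ι.image_injective (le_antisymm ((le_inf h₁.1 (U.ι_image_le O₁)).trans h₂.2)
    ((le_inf h₂.1 (U.ι_image_le O₂)).trans h₁.2))

lemma isPre_preimage (D : X.Opens) : IsPre U D (U.ι ⁻¹ᵁ D) :=
  ⟨U.ι.image_preimage_le D, by
    rw [U.ι.image_preimage_eq_opensRange_inf, U.opensRange_ι, inf_comm]⟩

lemma isPre_image (O : (U : Scheme.{u}).Opens) : IsPre U (U.ι ''ᵁ O) O := ⟨le_rfl, inf_le_left⟩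

variable {U} in
lemma IsPre.le_of_le {D D' : X.Opens} {O O' : (U : Scheme.{u}).Opens} (h : IsPre U D O)
    (h' : IsPre U D' O') (hD : D' ≤ D) : O' ≤ O := by
  rw [← U.ι.image_le_image_iff]
  exact (le_inf (h'.1.trans hD) (U.ι_image_le _)).trans h.2

lemma restrict_smul (O : (U : Scheme.{u}).Opens) (c : Γ(X, U.ι ''ᵁ O)) (z : Γ(F, U.ι ''ᵁ O)) :
    (show Γ(F, U.ι ''ᵁ O) from
      ((U.ι.appIso O).hom c) • (show Γ(F.restrict U.ι, O) from z)) = c • z := by
  have : (U.ι.appIso O).inv ((U.ι.appIso O).hom c) = c := by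
    rw [Scheme.Opens.ι_appIso]; rfl
  conv_rhs => rw [← this]
  rfl

variable {G : (U : Scheme.{u}).Modules} (i : G ⟶ F.restrict U.ι)

/-- membership predicate of the base family -/
def baseMem (D : X.Opens) (s : Γ(F, D)) : Prop :=
  ∃ (O : (U : Scheme.{u}).Opens) (h : IsPre U D O) (y : Γ(G, O)), i.app O y = res F h.1 s

/-- the base family: sections whose restriction to `U` lies in the image of `i` -/
noncomputable def baseFam : SubFam F := SubFam.ofPred (fun D =>
  { carrier := {s | baseMem U i D s}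
    add_mem' := by
      rintro a b ⟨O₁, h₁, y₁, e₁⟩ ⟨O₂, h₂, y₂, e₂⟩
      obtain rfl := h₁.unique h₂
      exact ⟨O₁, h₁, y₁ + y₂, by rw [map_add, e₁, e₂, res_add]; rfl⟩
    zero_mem' := ⟨_, isPre_preimage U D, 0, by rw [map_zero, res_zero]; rfl⟩
    smul_mem' := by
      rintro c a ⟨O, h, y, e⟩
      refine ⟨O, h, (U.ι.appIso O).hom (resO h.1 c) • y, ?_⟩
      rw [Hom.app_smul, e, res_smul]
      exact restrict_smul U O _ _ })
  (by
    rintro D' D hD s ⟨O, h, y, e⟩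
    have hO' : IsPre U D' (U.ι ⁻¹ᵁ D') := isPre_preimage U D'
    have hle : U.ι ⁻¹ᵁ D' ≤ O := h.le_of_le hO' hD
    refine ⟨_, hO', res G hle y, ?_⟩
    rw [app_res, e]
    show res F (U.ι.image_mono hle) (res F h.1 s) = _
    rw [res_res, res_res])

lemma mem_baseFam_iff {D : X.Opens} (s : Γ(F, D)) :
    s ∈ (baseFam U i).sec D ↔ baseMem U i D s := Iff.rfl

lemma mem_baseFam_image_iff (O : (U : Scheme.{u}).Opens) (s : Γ(F, U.ι ''ᵁ O)) :
    s ∈ (baseFam U i).sec (U.ι ''ᵁ O) ↔ ∃ y : Γ(G, O), i.app O y = s := by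
  constructor
  · rintro ⟨O', h, y, e⟩
    obtain rfl := h.unique (isPre_image U O)
    exact ⟨y, by rw [e, res_self]⟩
  · rintro ⟨y, rfl⟩
    exact ⟨O, isPre_image U O, y, (res_self _ _).symm⟩

lemma baseFam_isSat : (baseFam U i).IsSat U := by
  rintro D s ⟨O, h, y, e⟩
  refine ⟨O, ⟨h.1.trans inf_le_left, (le_inf le_rfl inf_le_right).trans h.2⟩, y, ?_⟩
  rw [e, res_res]

lemma baseFam_isLocal [Mono i] : (baseFam U i).IsLocal := by
  intro D s hs
  have hO := isPre_preimage U D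
  have key : ∀ x' : (U.ι ⁻¹ᵁ D : (U : Scheme.{u}).Opens), ∃ (A : (U : Scheme.{u}).Opens)
      (hA : A ≤ U.ι ⁻¹ᵁ D) (y : Γ(G, A)), x'.1 ∈ A ∧
      i.app A y = res F ((U.ι.image_mono hA).trans hO.1) s := by
    intro x'
    have hx : U.ι x'.1 ∈ D := x'.2
    obtain ⟨D', h', hxD', O', hO', y, e⟩ := hs _ hx
    have hxU : U.ι x'.1 ∈ U := U.ι_image_le ⊤ ⟨x'.1, trivial, rfl⟩
    refine ⟨O', hO.le_of_le hO' h', y, ?_, ?_⟩
    · have : x'.1 ∈ U.ι ⁻¹ᵁ (U.ι ''ᵁ O') := hO'.2 ⟨hxD', hxU⟩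
      rwa [U.ι.preimage_image_eq] at this
    · rw [e, res_res]
  choose A hA y hxA e using key
  have compat : ∀ x₁ x₂, G.presheaf.map (homOfLE (inf_le_left : A x₁ ⊓ A x₂ ≤ A x₁)).op (y x₁) =
      G.presheaf.map (homOfLE (inf_le_right : A x₁ ⊓ A x₂ ≤ A x₂)).op (y x₂) := by
    intro x₁ x₂
    apply app_injective_of_mono i (A x₁ ⊓ A x₂)
    have h1 := app_res i (inf_le_left : A x₁ ⊓ A x₂ ≤ A x₁) (y x₁)
    have h2 := app_res i (inf_le_right : A x₁ ⊓ A x₂ ≤ A x₂) (y x₂)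
    refine h1.trans (Eq.trans ?_ h2.symm)
    rw [e, e]
    show res F (U.ι.image_mono inf_le_left) (res F _ s) = res F (U.ι.image_mono inf_le_right) (res F _ s)
    rw [res_res, res_res]
  have hcover : U.ι ⁻¹ᵁ D ≤ iSup A := fun x' hx' => Opens.mem_iSup.mpr ⟨⟨x', hx'⟩, hxA ⟨x', hx'⟩⟩
  obtain ⟨yy, hyy⟩ := exists_gluing_of_cover G A (U.ι ⁻¹ᵁ D) hA hcover y compat
  refine ⟨_, hO, yy, ?_⟩
  refine sections_ext_of_cover (F.restrict U.ι) A (U.ι ⁻¹ᵁ D) hA hcover _ _ fun x' => ?_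
  have h1 := app_res i (hA x') yy
  refine h1.symm.trans ?_
  have h2 : res G (hA x') yy = y x' := hyy x'
  rw [h2, e]
  show _ = res F (U.ι.image_mono (hA x')) (res F _ s)
  rw [res_res]

/-- generators of the sections over an affine open generate the sections over basic opens -/
lemma mem_span_res_of_span_eq_top {Y : Scheme.{u}} (G : Y.Modules) [G.IsQuasicoherent]
    {O : Y.Opens} (hO : IsAffineOpen O) {n : ℕ} (y : Fin n → Γ(G, O))
    (hy : Submodule.span Γ(Y, O) (Set.range y) = ⊤) (g : Γ(Y, O)) (z : Γ(G, Y.basicOpen g)) :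
    z ∈ Submodule.span Γ(Y, Y.basicOpen g)
      (Set.range fun k => res G (Y.basicOpen_le g) (y k)) := by
  obtain ⟨a, m, hm⟩ := Groth.Agent.Lib.Helper22.exists_pow_smul_eq_map_of_isAffineOpen G hO g z
  have hm' : res G (Y.basicOpen_le g) m = (resO (Y.basicOpen_le g) g) ^ a • z := hm
  have h1 : res G (Y.basicOpen_le g) m ∈ Submodule.span Γ(Y, Y.basicOpen g)
      (Set.range fun k => res G (Y.basicOpen_le g) (y k)) :=
    res_mem_span G _ y (hy ▸ Submodule.mem_top)
  have hu : IsUnit (resO (Y.basicOpen_le g) g) := RingedSpace.isUnit_res_basicOpen _ g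
  obtain ⟨w, hw⟩ := (hu.pow a).exists_left_inv
  have : z = w • res G (Y.basicOpen_le g) m := by rw [hm', smul_smul, hw, one_smul]
  rw [this]
  exact Submodule.smul_mem _ _ h1

/-- image of a span under `i` -/
lemma app_mem_span (O₁ : (U : Scheme.{u}).Opens) {n : ℕ} (w : Fin n → Γ(G, O₁)) (z : Γ(G, O₁))
    (hz : z ∈ Submodule.span Γ((U : Scheme.{u}), O₁) (Set.range w)) :
    (show Γ(F, U.ι ''ᵁ O₁) from i.app O₁ z) ∈ Submodule.span Γ(X, U.ι ''ᵁ O₁)
      (Set.range fun k => (show Γ(F, U.ι ''ᵁ O₁) from i.app O₁ (w k))) := by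
  induction hz using Submodule.span_induction with
  | mem x hx =>
    obtain ⟨k, rfl⟩ := hx
    exact Submodule.subset_span ⟨k, rfl⟩
  | zero =>
    have : i.app O₁ 0 = 0 := map_zero _
    rw [this]
    exact zero_mem _
  | add x y _ _ hx hy =>
    have : i.app O₁ (x + y) = i.app O₁ x + i.app O₁ y := map_add _ _ _
    rw [this]
    exact add_mem hx hy
  | smul c x _ hx =>
    have : i.app O₁ (c • x) = c • i.app O₁ x := Hom.app_smul _ _ _
    rw [this]
    exact Submodule.smul_mem _ ((U.ι.appIso O₁).inv c) hx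

lemma baseFam_isLFG [G.IsQuasicoherent] [G.IsFiniteType] : (baseFam U i).IsLFG U := by
  intro x hx
  obtain ⟨O, hO, hxO, -⟩ := exists_isAffineOpen_mem_and_subset (X := (U : Scheme.{u}))
    (x := (⟨x, hx⟩ : U)) (U := ⊤) trivial
  have hfin : Module.Finite Γ((U : Scheme.{u}), O) Γ(G, O) := finite_Γ_of_isAffineOpen hO G
  obtain ⟨n, y, hy⟩ := Module.Finite.exists_fin (R := Γ((U : Scheme.{u}), O)) (M := Γ(G, O))
  refine ⟨U.ι ''ᵁ O, U.ι_image_le O, ⟨⟨x, hx⟩, hxO, rfl⟩, n, fun k => i.app O (y k), ?_, ?_⟩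
  · intro k
    exact (mem_baseFam_image_iff U i O _).mpr ⟨y k, rfl⟩
  · rintro V' hV' s ⟨O', hO', z, e⟩ x₁ hx₁
    have hle : O' ≤ O := (isPre_image U O).le_of_le hO' hV'
    have hx₁U : x₁ ∈ U := U.ι_image_le O (hV' hx₁)
    obtain ⟨x₁', hx₁', rfl⟩ := hO'.2 ⟨hx₁, hx₁U⟩
    obtain ⟨g, hg, hxg⟩ := hO.exists_basicOpen_le (⟨x₁', hx₁'⟩ : O') (hle hx₁')
    have hV'' : U.ι ''ᵁ (U : Scheme.{u}).basicOpen g ≤ V' := (U.ι.image_mono hg).trans hO'.1
    refine ⟨U.ι ''ᵁ (U : Scheme.{u}).basicOpen g, hV'', ⟨x₁', hxg, rfl⟩, ?_⟩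
    have h1 := mem_span_res_of_span_eq_top G hO y hy g (res G hg z)
    have h2 := app_mem_span U i _ _ _ h1
    have e1 : i.app _ (res G hg z) = res F hV'' s := by
      rw [app_res, e]
      show res F (U.ι.image_mono hg) (res F _ s) = _
      rw [res_res]
    have e2 : ∀ k, i.app _ (res G ((U : Scheme.{u}).basicOpen_le g) (y k)) =
        res F (hV''.trans hV') (i.app O (y k)) := by
      intro k
      rw [app_res]
      rfl
    simp only [e2] at h2
    rw [e1] at h2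
    exact h2

end Base

section Main

open Scheme.Modules CategoryTheory.Limits

/-- two subobjects with the same sections are isomorphic -/
lemma exists_iso_of_range_eq {Y : Scheme.{u}} {A B C : Y.Modules} (a : A ⟶ C) (b : B ⟶ C)
    [Mono a] [Mono b]
    (h : ∀ (O : Y.Opens) (s : Γ(C, O)), (∃ y, a.app O y = s) ↔ ∃ y, b.app O y = s) :
    ∃ e : A ≅ B, e.hom ≫ b = a := by
  have h₁ : a ≫ cokernel.π b = 0 := by
    ext O x
    obtain ⟨y, hy⟩ := (h O _).mp ⟨x, rfl⟩
    show (cokernel.π b).app O (a.app O x) = 0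
    rw [← hy]
    show (b ≫ cokernel.π b).app O y = 0
    rw [cokernel.condition]
    rfl
  have h₂ : b ≫ cokernel.π a = 0 := by
    ext O x
    obtain ⟨y, hy⟩ := (h O _).mpr ⟨x, rfl⟩
    show (cokernel.π a).app O (b.app O x) = 0
    rw [← hy]
    show (a ≫ cokernel.π a).app O y = 0
    rw [cokernel.condition]
    rfl
  refine ⟨⟨Abelian.monoLift b a h₁, Abelian.monoLift a b h₂, ?_, ?_⟩, Abelian.monoLift_comp _ _ _⟩
  · rw [← cancel_mono a, Category.assoc, Abelian.monoLift_comp, Abelian.monoLift_comp,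
      Category.id_comp]
  · rw [← cancel_mono b, Category.assoc, Abelian.monoLift_comp, Abelian.monoLift_comp,
      Category.id_comp]

universe v

/-- **Extension of quasi-coherent subsheaves of finite type along a well-ordered affine cover** -/
theorem exists_extension_subsheaf {L : Type v} [LinearOrder L] [WellFoundedLT L]
    (V : L → X.Opens) (hV : ∀ l, IsAffineOpen (V l)) (hcov : ∀ x : X, ∃ l, x ∈ V l)
    (U : X.Opens) (hcomp : ∀ l, IsCompact ((V l ⊓ Wof V U (Set.Iio l) : X.Opens) : Set X))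
    (F : X.Modules) [F.IsQuasicoherent] (G : (U : Scheme.{u}).Modules) (i : G ⟶ F.restrict U.ι)
    [Mono i] [G.IsQuasicoherent] [G.IsFiniteType] :
    ∃ (G' : X.Modules) (i' : G' ⟶ F) (e : G'.restrict U.ι ≅ G), Mono i' ∧ G'.IsQuasicoherent ∧
      G'.IsFiniteType ∧ e.hom ≫ i = (restrictFunctor U.ι).map i' := by
  obtain ⟨N, hloc, hlfg, hbase⟩ := exists_extension V U (baseFam U i) hV hcomp
    (baseFam_isLocal U i) (baseFam_isSat U i) (baseFam_isLFG U i)
  have hlfg' : N.IsLFG ⊤ := by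
    intro x _
    obtain ⟨l, hl⟩ := hcov x
    obtain ⟨V₀, -, hxV₀, n, t, hg⟩ := hlfg x ((mem_Wof V U).mpr (Or.inr ⟨l, trivial, hl⟩))
    exact ⟨V₀, le_top, hxV₀, n, t, hg⟩
  have : Mono ((restrictFunctor U.ι).map (N.incl hloc)) :=
    mono_of_app_injective _ fun O => app_injective_of_mono (N.incl hloc) (U.ι ''ᵁ O)
  obtain ⟨e, he⟩ := exists_iso_of_range_eq ((restrictFunctor U.ι).map (N.incl hloc)) i (by
    intro O s
    have h1 := N.mem_sec_iff hloc (V := U.ι ''ᵁ O) s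
    have h2 := mem_baseFam_image_iff U i O s
    rw [hbase _ (U.ι_image_le O)] at h1
    exact h1.symm.trans h2)
  exact ⟨N.toModules hloc, N.incl hloc, e, inferInstance, N.isQuasicoherent_toModules hloc hlfg',
    N.isFiniteType_toModules hloc hlfg', he⟩

end Main

end Groth.Agent.Lib.QCoh.SubExt
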