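import Mathlib
import Groth.Agent.Lib.QCoh.Helper66_SubExt2

/-!
# Extension of quasi-coherent subsheaves of finite type III (helper66)

The master theorem (EGA I 9.4.7 along a well-ordered affine cover) and its corollaries.
ns `Groth.Agent.Lib.QCoh.SubExt`.
-/

set_option autoImplicit false
universe u v
open CategoryTheory AlgebraicGeometry Opposite TopologicalSpace

namespace Groth.Agent.Lib.QCoh.SubExt

open Groth.Agent.Lib.QCoh.Glue74 Groth.Agent.Lib.QCoh

variable {X : Scheme.{u}}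

/-- compactness of `K ∩ U` for a compact open `K` when `U.ι` is quasi-compact -/
lemma isCompact_inf_of_quasiCompact (U : X.Opens) [QuasiCompact U.ι] {K : X.Opens}
    (hK : IsCompact (K : Set X)) : IsCompact ((K ⊓ U : X.Opens) : Set X) := by
  have h1 : IsCompact ((U.ι ⁻¹ᵁ K : (U : Scheme.{u}).Opens) : Set (U : Scheme.{u})) :=
    U.ι.isCompact_preimage hK
  have h2 := h1.image U.ι.continuous
  have : ((K ⊓ U : X.Opens) : Set X) =
      U.ι '' ((U.ι ⁻¹ᵁ K : (U : Scheme.{u}).Opens) : Set (U : Scheme.{u})) := by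
    have := U.ι.image_preimage_eq_opensRange_inf K
    rw [U.opensRange_ι] at this
    rw [inf_comm, ← this]
    rfl
  rw [this]
  exact h2

/-- **Master theorem** (EGA I 9.4.7 along a well-ordered affine cover) -/
theorem master {L : Type v} [LinearOrder L] [WellFoundedLT L]
    (V : L → X.Opens) (hV : ∀ l, IsAffineOpen (V l)) (hcov : ⨆ l, V l = ⊤)
    (hW : ∀ l, IsCompact ((V l : Set X) ∩ ⋃ m ∈ Set.Iio l, (V m : Set X)))
    (U : X.Opens) [QuasiCompact U.ι] (F : X.Modules) [F.IsQuasicoherent]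
    (G : (U : Scheme.{u}).Modules) (i : G ⟶ F.restrict U.ι) [Mono i]
    [G.IsQuasicoherent] [G.IsFiniteType] :
    ∃ (G' : X.Modules) (i' : G' ⟶ F) (e : G'.restrict U.ι ≅ G), Mono i' ∧ G'.IsQuasicoherent ∧
      G'.IsFiniteType ∧ e.hom ≫ i = (Scheme.Modules.restrictFunctor U.ι).map i' := by
  apply exists_extension_subsheaf V hV ?_ U ?_ F G i
  · intro x
    have : x ∈ (⨆ l, V l : X.Opens) := hcov ▸ trivial
    exact Opens.mem_iSup.mp this
  · intro l
    have : ((V l ⊓ Wof V U (Set.Iio l) : X.Opens) : Set X) =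
        ((V l ⊓ U : X.Opens) : Set X) ∪ ((V l : Set X) ∩ ⋃ m ∈ Set.Iio l, (V m : Set X)) := by
      ext x
      constructor
      · rintro ⟨hxV, hxW⟩
        rcases (mem_Wof V U).mp hxW with h | ⟨m, hm, h⟩
        · exact Or.inl ⟨hxV, h⟩
        · exact Or.inr ⟨hxV, Set.mem_iUnion₂.mpr ⟨m, hm, h⟩⟩
      · rintro (⟨hxV, h⟩ | ⟨hxV, h⟩)
        · exact ⟨hxV, (mem_Wof V U).mpr (Or.inl h)⟩
        · obtain ⟨m, hm, h⟩ := Set.mem_iUnion₂.mp h
          exact ⟨hxV, (mem_Wof V U).mpr (Or.inr ⟨m, hm, h⟩)⟩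
    rw [this]
    exact (isCompact_inf_of_quasiCompact U (hV l).isCompact).union (hW l)

section LocallyNoetherian

variable (hX : ∀ x : X, ∃ U : X.Opens, x ∈ U ∧ NoetherianSpace (U : Set X))
include hX

/-- in a locally Noetherian space every subset of a compact set is compact -/
lemma isCompact_of_subset_isCompact {K S : Set X} (hK : IsCompact K) (hS : S ⊆ K) :
    IsCompact S := by
  choose U' hxU' hU' using hX
  obtain ⟨t, ht⟩ := hK.elim_finite_subcover (fun x : X => (U' x : Set X)) (fun x => (U' x).2)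
    (fun x _ => Set.mem_iUnion.mpr ⟨x, hxU' x⟩)
  have : S = ⋃ x ∈ t, (S ∩ (U' x : Set X)) := by
    ext y
    constructor
    · intro hy
      obtain ⟨x, hx, hyx⟩ := Set.mem_iUnion₂.mp (ht (hS hy))
      exact Set.mem_iUnion₂.mpr ⟨x, hx, hy, hyx⟩
    · intro hy
      obtain ⟨x, hx, hy', -⟩ := Set.mem_iUnion₂.mp hy
      exact hy'
  rw [this]
  refine t.isCompact_biUnion fun x _ => ?_
  have := hU' x
  have h1 : IsCompact (Subtype.val ⁻¹' S : Set (U' x : Set X)) := NoetherianSpace.isCompact _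
  have h2 := h1.image continuous_subtype_val
  rwa [Subtype.image_preimage_coe, Set.inter_comm] at h2

lemma quasiCompact_ι (U : X.Opens) : QuasiCompact U.ι := by
  constructor
  intro K _ hK
  have h1 : IsCompact (K ∩ Set.range U.ι) :=
    isCompact_of_subset_isCompact hX hK Set.inter_subset_left
  have := U.ι.isOpenEmbedding.isInducing.isCompact_preimage_iff (K := K ∩ Set.range U.ι)
    Set.inter_subset_right
  rw [Set.preimage_inter_range] at this
  exact this.mpr h1

/-- **EGA I 9.4.7, locally Noetherian case** -/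
theorem master_locallyNoetherian (U : X.Opens) (F : X.Modules) [F.IsQuasicoherent]
    (G : (U : Scheme.{u}).Modules) (i : G ⟶ F.restrict U.ι) [Mono i]
    [G.IsQuasicoherent] [G.IsFiniteType] :
    ∃ (G' : X.Modules) (i' : G' ⟶ F) (e : G'.restrict U.ι ≅ G), Mono i' ∧ G'.IsQuasicoherent ∧
      G'.IsFiniteType ∧ e.hom ≫ i = (Scheme.Modules.restrictFunctor U.ι).map i' := by
  obtain ⟨_, _⟩ := exists_wellFoundedLT X.affineOpens
  have := quasiCompact_ι hX U
  exact master (fun V : X.affineOpens => (V : X.Opens)) (fun V => V.2) (iSup_affineOpens_eq_top X)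
    (fun V => isCompact_of_subset_isCompact hX V.2.isCompact Set.inter_subset_left) U F G i

/-- **EGA I 9.4.9 (sectionwise)**: every section over an open lies in a quasi-coherent submodule of
finite type -/
theorem exists_subsheaf_through_section (F : X.Modules) [F.IsQuasicoherent] (U : X.Opens)
    (s : Γ(F, U)) :
    ∃ (G' : X.Modules) (i' : G' ⟶ F), Mono i' ∧ G'.IsQuasicoherent ∧ G'.IsFiniteType ∧
      ∃ g : Γ(G', U), i'.app U g = s := by
  obtain ⟨_, _⟩ := exists_wellFoundedLT X.affineOpens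
  let T : Fin 1 → Γ(F, U) := fun _ => s
  let N₀ : SubFam F := (⊤ : SubFam F).extend ⊥ U T
  have htop : ∀ (D : X.Opens) (m : Γ(F, D)), m ∈ (⊤ : SubFam F).sec D := fun D m => (Submodule.mem_top : m ∈ (⊤ : Submodule Γ(X, D) Γ(F, D)))
  have hT2 : ∀ (V' : X.Opens) (h : V' ≤ U ⊓ ⊥) (m : Γ(F, V')), m ∈ (⊤ : SubFam F).sec V' →
      LocSpan F T V' (h.trans inf_le_left) m := by
    intro V' h m _ x hx
    exact (h hx).2.elim
  have hloc₀ : N₀.IsLocal := SubFam.extend_isLocal (fun D m _ => htop D m)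
  have hsat₀ : N₀.IsSat U := SubFam.extend_isSat.mono (sup_le bot_le le_rfl)
  have hlfg₀ : N₀.IsLFG U :=
    (SubFam.extend_isLFG (N := (⊤ : SubFam F)) (W := ⊥) (fun x hx => hx.elim) (fun i => htop _ _)
      hT2).anti le_sup_right
  obtain ⟨N, hloc, hlfg, hbase⟩ := exists_extension (fun V : X.affineOpens => (V : X.Opens)) U N₀
    (fun V => V.2)
    (fun V => isCompact_of_subset_isCompact hX V.2.isCompact Set.inter_subset_left) hloc₀ hsat₀ hlfg₀
  have hlfg' : N.IsLFG ⊤ := by
    intro x _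
    obtain ⟨V, hV, hxV, -⟩ := exists_isAffineOpen_mem_and_subset (x := x) (U := ⊤) trivial
    obtain ⟨V₀, -, hxV₀, n, t, hg⟩ := hlfg x ((mem_Wof _ U).mpr (Or.inr ⟨⟨V, hV⟩, trivial, hxV⟩))
    exact ⟨V₀, le_top, hxV₀, n, t, hg⟩
  have hs : s ∈ N.sec U := by
    rw [hbase U le_rfl]
    exact (SubFam.mem_extend_iff _ _ _ _ _).mpr ⟨htop _ _, LocSpan.gen _ 0⟩
  exact ⟨N.toModules hloc, N.incl hloc, inferInstance, N.isQuasicoherent_toModules hloc hlfg',
    N.isFiniteType_toModules hloc hlfg', (N.mem_sec_iff hloc s).mp hs⟩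

end LocallyNoetherian

/-- **EGA I 9.4.7, quasi-compact quasi-separated case** -/
theorem master_qcqs [CompactSpace X] [QuasiSeparatedSpace X] (U : X.Opens)
    (hU : IsCompact (U : Set X)) (F : X.Modules) [F.IsQuasicoherent]
    (G : (U : Scheme.{u}).Modules) (i : G ⟶ F.restrict U.ι) [Mono i]
    [G.IsQuasicoherent] [G.IsFiniteType] :
    ∃ (G' : X.Modules) (i' : G' ⟶ F) (e : G'.restrict U.ι ≅ G), Mono i' ∧ G'.IsQuasicoherent ∧
      G'.IsFiniteType ∧ e.hom ≫ i = (Scheme.Modules.restrictFunctor U.ι).map i' := by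
  have hqc : QuasiCompact U.ι := by
    constructor
    intro K hKo hK
    have h1 : IsCompact (K ∩ Set.range U.ι) := by
      rw [Scheme.Opens.range_ι]
      exact QuasiSeparatedSpace.inter_isCompact K U hKo hK U.2 hU
    have := U.ι.isOpenEmbedding.isInducing.isCompact_preimage_iff (K := K ∩ Set.range U.ι)
      Set.inter_subset_right
    rw [Set.preimage_inter_range] at this
    exact this.mpr h1
  obtain ⟨s, hs, hcov⟩ := (isCompact_and_isOpen_iff_finite_and_eq_biUnion_affineOpens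
    (X := X) (U := Set.univ)).mp ⟨isCompact_univ, isOpen_univ⟩
  have : Finite s := hs
  obtain ⟨_, _⟩ := exists_wellFoundedLT s
  refine master (fun V : s => (V.1 : X.Opens)) (fun V => V.1.2) ?_ ?_ U F G i
  · apply top_unique
    intro x _
    have hx : x ∈ ⋃ i ∈ s, ((i : X.Opens) : Set X) := hcov ▸ Set.mem_univ x
    obtain ⟨V, hV, hxV⟩ := Set.mem_iUnion₂.mp hx
    exact Opens.mem_iSup.mpr ⟨⟨V, hV⟩, hxV⟩
  · intro l
    rw [Set.inter_iUnion₂]
    exact (Set.toFinite _).isCompact_biUnion fun m _ =>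
      QuasiSeparatedSpace.inter_isCompact _ _ l.1.1.2 l.1.2.isCompact m.1.1.2 m.1.2.isCompact

end Groth.Agent.Lib.QCoh.SubExt
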