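import Groth.Agent.Lib.QCoh.Helper74_LocFreeDeg
import Groth.Agent.Lib.QCoh.Helper50_AffineDict
import Groth.Agent.Lib.Helper61.QCohSections
import Groth.Agent.Lib.QCoh.Helper18_StalkQCoh

/-!
# QCoh API (helper74): small affine opens with a basis; local hom-ext

* `basisOfIsLocalizedModule` : transfer a basis of `LocalizedModule S N` over `Localization S` to any
  other model `(R', N')` of the localization.
* `exists_affine_basis_of_isFinLocFreeOfRank` : for `E` locally free of rank `d`, every point of an
  open `V` has an affine open neighbourhood `U ≤ V` with a basis `Fin d` of `Γ(E,U)` over `Γ(X,U)`.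
* `hom_ext_of_locally` : morphisms of modules agreeing on a neighbourhood basis are equal.
* `nsmul_app_apply`.
-/

universe u
open CategoryTheory CategoryTheory.Limits AlgebraicGeometry Opposite TopologicalSpace
namespace Groth.Agent.Lib.QCoh
open Scheme.Modules FlatMod

section Algebra

variable {R : Type*} [CommRing R] (S : Submonoid R) {N : Type*} [AddCommGroup N] [Module R N]
  {R' : Type*} [CommRing R'] [Algebra R R'] [IsLocalization S R']
  {N' : Type*} [AddCommGroup N'] [Module R N'] [Module R' N'] [IsScalarTower R R' N']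
  (f : N →ₗ[R] N') [IsLocalizedModule S f]

/-- Transfer of a basis between two models of a localized module. -/
noncomputable def basisOfIsLocalizedModule {ι : Type*}
    (b : Module.Basis ι (Localization S) (LocalizedModule S N)) : Module.Basis ι R' N' :=
  let φ : Localization S ≃ₐ[R] R' := IsLocalization.algEquiv S (Localization S) R'
  letI : Module (Localization S) N' := Module.compHom N' (φ : Localization S →+* R')
  haveI : IsScalarTower R (Localization S) N' := ⟨fun r a x => by
    change φ (r • a) • x = r • (φ a • x)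
    rw [show φ (r • a) = r • φ a from _root_.map_smul φ r a, smul_assoc]⟩
  let e : LocalizedModule S N ≃ₗ[Localization S] N' :=
    (IsLocalizedModule.linearEquiv S (LocalizedModule.mkLinearMap S N) f).extendScalarsOfIsLocalization
      S (Localization S)
  (b.map e).mapCoeffs φ.toRingEquiv (fun _ _ => rfl)

end Algebra

variable {X : Scheme.{u}}

/-- For `E` locally free of rank `d`, small affine opens have a basis of cardinality `d`. -/
theorem exists_affine_basis_of_isFinLocFreeOfRank {E : X.Modules} {d : ℕ}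
    (hE : IsFinLocFreeOfRank d E) {V : X.Opens} {x : X} (hx : x ∈ V) :
    ∃ U : X.Opens, IsAffineOpen U ∧ x ∈ U ∧ U ≤ V ∧
      Nonempty (Module.Basis (Fin d) Γ(X, U) Γ(E, U)) := by
  have hlf := isFinLocFree_of_isFinLocFreeOfRank hE
  have : E.IsQuasicoherent := isQuasicoherent_of_isFinLocFree hlf
  obtain ⟨_, ⟨U₀, hU₀ : IsAffineOpen U₀, rfl⟩, hxU₀, hU₀V⟩ :=
    (X.isBasis_affineOpens).exists_subset_of_mem_open hx V.2
  obtain ⟨_, _⟩ := finite_projective_Γ_of_isAffineOpen hlf hU₀
  obtain ⟨s, hs, ⟨b⟩⟩ := exists_basis_away_of_rankAtStalk_eq Γ(X, U₀) Γ(E, U₀) d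
    (rankAtStalk_Γ_of_isFinLocFreeOfRank hE hU₀) {hU₀.primeIdealOf ⟨x, hxU₀⟩}
    (Set.finite_singleton _)
  refine ⟨X.basicOpen s, hU₀.basicOpen s, (notMem_primeIdealOf_iff hU₀ x hxU₀ s).1 (hs _ rfl),
    (X.basicOpen_le s).trans hU₀V, ?_⟩
  let _ := Groth.Agent.Lib.Helper61.QCohSections.resModule E (X.basicOpen_le s)
  let _ := Groth.Agent.Lib.Helper61.QCohSections.resAlgebra (X := X) (X.basicOpen_le s)
  have := Groth.Agent.Lib.Helper61.QCohSections.isScalarTower_res E (X.basicOpen_le s)
  have : IsLocalization.Away s Γ(X, X.basicOpen s) := hU₀.isLocalization_basicOpen s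
  have := Groth.Agent.Lib.Helper61.QCohSections.isLocalizedModule_res_basicOpen E hU₀ s
  exact ⟨basisOfIsLocalizedModule (Submonoid.powers s)
    (Groth.Agent.Lib.Helper61.QCohSections.resLinear E (X.basicOpen_le s)) b⟩

/-- Morphisms of modules that agree on a neighbourhood basis are equal. -/
theorem hom_ext_of_locally {M N : X.Modules} (φ ψ : M ⟶ N)
    (h : ∀ (V : X.Opens) (x : X), x ∈ V → ∃ U : X.Opens, x ∈ U ∧ U ≤ V ∧ φ.app U = ψ.app U) :
    φ = ψ := by
  apply Scheme.Modules.hom_ext
  intro V
  ext s
  choose W hxW hWV hW using h V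
  refine sections_ext_of_cover N (fun x : V => W x.1 x.2) V (fun x => hWV x.1 x.2) ?_ _ _ fun x => ?_
  · intro y hy
    exact Opens.mem_iSup.2 ⟨⟨y, hy⟩, hxW y hy⟩
  · rw [← app_naturality_apply φ (homOfLE (hWV x.1 x.2)) s,
      ← app_naturality_apply ψ (homOfLE (hWV x.1 x.2)) s, hW x.1 x.2]

lemma nsmul_app_apply {M N : X.Modules} (n : ℕ) (φ : M ⟶ N) (U : X.Opens) (s : Γ(M, U)) :
    (n • φ).app U s = n • φ.app U s := by
  induction n with
  | zero => simp
  | succ k ih =>
    rw [succ_nsmul, succ_nsmul, Hom.add_app]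
    change (k • φ).app U s + φ.app U s = _
    rw [ih]

end Groth.Agent.Lib.QCoh
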