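import Groth.Agent.Lib.QCoh.OmegaS1

universe u
open CategoryTheory CategoryTheory.Limits AlgebraicGeometry Opposite TopologicalSpace TensorProduct

namespace Groth.Agent.Lib.QCoh

open Scheme.Modules

variable {X : Scheme.{u}} (I : X.IdealSheafData) (U : X.Opens)

/-- sections of the ideal module: `Γ(idealMod I, U) ≃ ker (Γ(X,U) → Γ(Z, i⁻¹U))` -/
noncomputable def idealModΓEquiv :
    Γ(ClSub.idealMod I, U) ≃ₗ[Γ(X, U)] (RingHom.ker (I.subschemeι.app U).hom : Ideal Γ(X, U)) where
  toFun s := ⟨(show Γ(X, U) from (kernelΓEquiv (ClSub.toSubscheme I) U s).1),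
    (kernelΓEquiv (ClSub.toSubscheme I) U s).2⟩
  map_add' s t := by
    apply Subtype.ext
    exact congrArg Subtype.val (map_add (kernelΓEquiv (ClSub.toSubscheme I) U) s t)
  map_smul' r s := by
    apply Subtype.ext
    exact congrArg Subtype.val (map_smul (kernelΓEquiv (ClSub.toSubscheme I) U) r s)
  invFun x := (kernelΓEquiv (ClSub.toSubscheme I) U).symm ⟨(show Γ(Coh.structureModule X, U) from x.1), x.2⟩
  left_inv s := by
    exact (kernelΓEquiv (ClSub.toSubscheme I) U).symm_apply_apply s
  right_inv x := by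
    apply Subtype.ext
    exact congrArg Subtype.val ((kernelΓEquiv (ClSub.toSubscheme I) U).apply_symm_apply ⟨(show Γ(Coh.structureModule X, U) from x.1), x.2⟩)

end Groth.Agent.Lib.QCoh
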