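import Groth.Agent.Lib.QCoh.Helper74_GenericFree
import Groth.Agent.Lib.QCoh.Helper74_LocFreeBasis
import Groth.Agent.Lib.QCoh.OmegaS2
import Groth.Prelude.Def_BlowUp2

/-!
# QCoh API (helper74): effective Cartier ideals vs. invertibility of the ideal module

Namespace `Groth.Agent.Lib.QCoh.EffCartier74`.
-/

set_option linter.style.haveILetI false
universe u
open CategoryTheory CategoryTheory.Limits AlgebraicGeometry Opposite TopologicalSpace

namespace Groth.Agent.Lib.QCoh.EffCartier74
open Groth.Agent.Lib.QCoh

section Algebra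

variable {R : Type u} [CommRing R] (J : Ideal R)

/-- An ideal with a one-element basis is generated by a nonzerodivisor. -/
lemma exists_nonZeroDivisor_span_of_basis (b : Module.Basis (Fin 1) R J) :
    ∃ f : R, f ∈ nonZeroDivisors R ∧ J = Ideal.span {f} := by
  refine ⟨(b 0 : R), ?_, ?_⟩
  · rw [mem_nonZeroDivisors_iff_right]
    intro a ha
    have h1 : a • b 0 = 0 := by
      apply Subtype.ext
      simpa using ha
    have h2 := congrArg (fun v => b.repr v 0) h1
    simpa using h2
  · have h1 := b.span_eq
    have hrange : Set.range b = {b 0} := by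
      ext v
      constructor
      · rintro ⟨i, rfl⟩
        rw [Subsingleton.elim i 0]; rfl
      · rintro rfl
        exact ⟨0, rfl⟩
    rw [hrange] at h1
    have h2 := congrArg (Submodule.map J.subtype) h1
    rw [Submodule.map_span, Submodule.map_subtype_top, Set.image_singleton] at h2
    exact h2.symm

/-- A principal ideal generated by a nonzerodivisor has a one-element basis. -/
lemma nonempty_basis_of_span (f : R) (hf : f ∈ nonZeroDivisors R) (hJ : J = Ideal.span {f}) :
    Nonempty (Module.Basis (Fin 1) R J) := by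
  have hfJ : f ∈ J := by rw [hJ]; exact Ideal.mem_span_singleton_self f
  let φ : R →ₗ[R] J := LinearMap.toSpanSingleton R J ⟨f, hfJ⟩
  have hinj : Function.Injective φ := by
    rw [injective_iff_map_eq_zero]
    intro a ha
    have h1 : a * f = 0 := by
      have := congrArg Subtype.val ha
      simpa [φ, LinearMap.toSpanSingleton_apply] using this
    exact (mem_nonZeroDivisors_iff_right.1 hf) a h1
  have hsurj : Function.Surjective φ := by
    rintro ⟨j, hj⟩
    have hj' := hj
    rw [hJ, Ideal.mem_span_singleton'] at hj'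
    obtain ⟨a, ha⟩ := hj'
    refine ⟨a, Subtype.ext ?_⟩
    simpa [φ, LinearMap.toSpanSingleton_apply] using ha
  let e : R ≃ₗ[R] J := LinearEquiv.ofBijective φ ⟨hinj, hsurj⟩
  exact ⟨(Module.Basis.singleton (Fin 1) R).map e⟩

end Algebra

variable {X : Scheme.{u}} (I : X.IdealSheafData)

/-- Sections of the ideal module over an affine open are the ideal. -/
noncomputable def idealModΓEquivIdeal (U : X.affineOpens) :
    Γ(ClSub.idealMod I, U.1) ≃ₗ[Γ(X, U.1)] I.ideal U :=
  idealModΓEquiv I U.1 ≪≫ₗ LinearEquiv.ofEq _ _ (I.ker_subschemeι_app U)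

theorem isInvertible_idealMod_iff :
    PicF.IsInvertible (ClSub.idealMod I) ↔ BlowUp.IsEffCartierIdeal I := by
  rw [← isFinLocFreeOfRank_one_iff_isInvertible]
  constructor
  · intro h x
    obtain ⟨U, hU, hxU, -, ⟨b⟩⟩ :=
      exists_affine_basis_of_isFinLocFreeOfRank h (V := ⊤) (x := x) trivial
    let U' : X.affineOpens := ⟨U, hU⟩
    obtain ⟨f, hf, hspan⟩ :=
      exists_nonZeroDivisor_span_of_basis (I.ideal U') (b.map (idealModΓEquivIdeal I U'))
    exact ⟨U', hxU, f, hf, hspan⟩
  · intro h x
    obtain ⟨U, hxU, f, hf, hspan⟩ := h x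
    obtain ⟨b⟩ := nonempty_basis_of_span (I.ideal U) f hf hspan
    have hb := FittSheaf74.exists_iso_of_basis (ClSub.idealMod I) U.2
      (b.map (idealModΓEquivIdeal I U).symm)
    exact ⟨U.1, hxU, hb⟩

end Groth.Agent.Lib.QCoh.EffCartier74
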