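import Groth.Agent.Lib.QCoh.Helper50_Pushforward
import Groth.Agent.Lib.QCoh.AffineOpen
import Mathlib.AlgebraicGeometry.Morphisms.Finite

/-!
# QCoh API (helper50): pushforward along affine / finite morphisms and finite type

Namespace `Groth.Agent.Lib.QCoh`.

* `pushforward_smul_def` : the `Γ(Y,V)`-action on `Γ(f_*F, V) = Γ(F, f⁻¹V)` is through `f.app V`.
* `isFiniteType_of_pushforward_isAffineHom` : `f` affine, `F` qcoh, `f_*F` of finite type ⇒ `F` f.t.
* `isFiniteType_pushforward_of_isFinite` : `f` finite, `F` qcoh f.t. ⇒ `f_*F` f.t.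
-/

universe u

open CategoryTheory CategoryTheory.Limits AlgebraicGeometry Opposite TopologicalSpace

namespace Groth.Agent.Lib.QCoh

variable {X Y : Scheme.{u}} (f : X ⟶ Y)

lemma pushforward_smul_def (F : X.Modules) (V : Y.Opens) (a : Γ(Y, V))
    (x : Γ((Scheme.Modules.pushforward f).obj F, V)) :
    a • x = (show Γ(F, f ⁻¹ᵁ V) from (f.app V a) • (show Γ(F, f ⁻¹ᵁ V) from x)) := rfl

section algebra

variable {A B M : Type*} [CommRing A] [CommRing B] [AddCommGroup M] [Module A M] [Module B M]
  (φ : A →+* B) (h : ∀ (a : A) (m : M), a • m = φ a • m)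

include h in
lemma finite_of_finite_restrict (hM : Module.Finite A M) : Module.Finite B M := by
  let _ : Algebra A B := φ.toAlgebra
  have : IsScalarTower A B M := ⟨fun a b m => by
    change (φ a * b) • m = a • (b • m)
    rw [mul_smul, h]⟩
  exact Module.Finite.of_restrictScalars_finite A B M

include h in
lemma finite_restrict_of_finite (hφ : φ.Finite) (hM : Module.Finite B M) : Module.Finite A M := by
  let _ : Algebra A B := φ.toAlgebra
  have : IsScalarTower A B M := ⟨fun a b m => by
    change (φ a * b) • m = a • (b • m)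
    rw [mul_smul, h]⟩
  have : Module.Finite A B := hφ
  exact Module.Finite.trans B M

end algebra

/-- `Γ(F, f⁻¹V)` is finite over `Γ(X, f⁻¹V)` as soon as `Γ(f_*F, V)` is finite over `Γ(Y, V)`. -/
theorem finite_Γ_of_finite_Γ_pushforward (F : X.Modules) (V : Y.Opens)
    (h : Module.Finite Γ(Y, V) Γ((Scheme.Modules.pushforward f).obj F, V)) :
    Module.Finite Γ(X, f ⁻¹ᵁ V) Γ(F, f ⁻¹ᵁ V) := by
  have key := @finite_of_finite_restrict Γ(Y, V) Γ(X, f ⁻¹ᵁ V)
    Γ((Scheme.Modules.pushforward f).obj F, V) _ _ _ _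
    (show Module Γ(X, f ⁻¹ᵁ V) Γ(F, f ⁻¹ᵁ V) from inferInstance)
    (f.app V).hom (fun _ _ => rfl) h
  exact key

/-- For a finite morphism, `Γ(f_*F, V)` is finite over `Γ(Y, V)` (`V` affine) as soon as
`Γ(F, f⁻¹V)` is finite over `Γ(X, f⁻¹V)`. -/
theorem finite_Γ_pushforward_of_finite_Γ [IsFinite f] (F : X.Modules) (V : Y.Opens)
    (hV : IsAffineOpen V) (h : Module.Finite Γ(X, f ⁻¹ᵁ V) Γ(F, f ⁻¹ᵁ V)) :
    Module.Finite Γ(Y, V) Γ((Scheme.Modules.pushforward f).obj F, V) := by
  have key := @finite_restrict_of_finite Γ(Y, V) Γ(X, f ⁻¹ᵁ V)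
    Γ((Scheme.Modules.pushforward f).obj F, V) _ _ _ _
    (show Module Γ(X, f ⁻¹ᵁ V) Γ(F, f ⁻¹ᵁ V) from inferInstance)
    (f.app V).hom (fun _ _ => rfl) (IsFinite.finite_app f V hV) h
  exact key

/-- The preimages of the affine opens of `Y` cover `X`. -/
theorem isOpenCover_preimage_affineOpens :
    IsOpenCover (fun V : Y.affineOpens => f ⁻¹ᵁ (V : Y.Opens)) := by
  rw [IsOpenCover, ← top_le_iff]
  intro x _
  have := (isOpenCover_affineOpens Y)
  rw [IsOpenCover, ← top_le_iff] at this
  obtain ⟨V, hV⟩ := Opens.mem_iSup.1 (this (show f.base x ∈ (⊤ : Y.Opens) from trivial))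
  exact Opens.mem_iSup.2 ⟨V, hV⟩

/-- **Finite type descends along affine pushforward**: if `f` is affine, `F` quasi-coherent and
`f_*F` is of finite type, then so is `F`. -/
theorem isFiniteType_of_pushforward_isAffineHom [IsAffineHom f] (F : X.Modules) [F.IsQuasicoherent]
    [h : ((Scheme.Modules.pushforward f).obj F).IsFiniteType] : F.IsFiniteType := by
  have hq : ((Scheme.Modules.pushforward f).obj F).IsQuasicoherent :=
    isQuasicoherent_pushforward_of_isAffineHom f F
  refine isFiniteType_of_isOpenCover F _ (isOpenCover_preimage_affineOpens f) fun V => ?_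
  refine exists_generatingSections_restrict_of_finite (V.2.preimage f) F ?_
  exact finite_Γ_of_finite_Γ_pushforward f F V (finite_Γ_of_isAffineOpen V.2 _)

/-- **Finite pushforward preserves finite type** (for quasi-coherent modules). -/
theorem isFiniteType_pushforward_of_isFinite [IsFinite f] (F : X.Modules) [F.IsQuasicoherent]
    [h : F.IsFiniteType] : ((Scheme.Modules.pushforward f).obj F).IsFiniteType := by
  have hq : ((Scheme.Modules.pushforward f).obj F).IsQuasicoherent :=
    isQuasicoherent_pushforward_of_isAffineHom f F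
  rw [isFiniteType_iff_forall_finite]
  intro V
  exact finite_Γ_pushforward_of_finite_Γ f F V V.2 (finite_Γ_of_isAffineOpen (V.2.preimage f) F)

end Groth.Agent.Lib.QCoh
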