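import Groth.Agent.Lib.QCoh.Helper74_LocFree
import Groth.Agent.Lib.QCoh.Helper50_FinitePush
import Groth.Prelude.Def_Mor2

/-!
# QCoh API, part Q5c (helper74): finite locally free morphisms and `f_* O_X`

* `pushforwardUnitΓLinearEquiv f V : Γ(f_* O_X, V) ≃ₗ[Γ(Y,V)] Γ(X, f⁻¹V)`
* `hasRingHomProperty_iff_of_isAffineHom` : for affine `f`, `P f ↔ ∀ affine U, Q (f.app U)`
* `isAffineHom_and_isFinLocFree_pushforward_iff` :
  `IsAffineHom f ∧ IsFinLocFree (f_* O_X) ↔ Mor2.IsFinLocFree f` (finite, flat, lfp)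
-/

open CategoryTheory CategoryTheory.Limits AlgebraicGeometry Opposite TopologicalSpace
namespace Groth.Agent.Lib.QCoh
open Scheme.Modules FlatMod
universe u
variable {X Y : Scheme.{u}}

/-- `Γ(f_* O_X, V) = Γ(X, f⁻¹V)` as `Γ(Y, V)`-modules. -/
noncomputable def pushforwardUnitΓLinearEquiv (f : X ⟶ Y) (V : Y.Opens) :
    letI := (f.app V).hom.toAlgebra
    Γ((Scheme.Modules.pushforward f).obj (Coh.structureModule X), V) ≃ₗ[Γ(Y, V)] Γ(X, f ⁻¹ᵁ V) :=
  letI := (f.app V).hom.toAlgebra
  { toFun := fun x => x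
    invFun := fun x => x
    map_add' := fun _ _ => rfl
    map_smul' := fun _ _ => rfl
    left_inv := fun _ => rfl
    right_inv := fun _ => rfl }

/-- For an affine morphism, a property `P = affineLocally Q` can be checked on `f.app U` for affine
opens `U` of the target. -/
theorem hasRingHomProperty_iff_of_isAffineHom
    {P : MorphismProperty Scheme.{u}}
    {Q : ∀ {R S : Type u} [CommRing R] [CommRing S], (R →+* S) → Prop}
    [HasRingHomProperty P Q] (f : X ⟶ Y) [IsAffineHom f] :
    P f ↔ ∀ U : Y.Opens, IsAffineOpen U → Q (f.app U).hom := by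
  have hQ : RingHom.PropertyIsLocal Q := HasRingHomProperty.isLocal_ringHomProperty P
  have h1 := targetAffineLocally_affineAnd_iff_affineLocally hQ f
  have h2 := targetAffineLocally_affineAnd_iff' hQ.respectsIso f
  rw [HasRingHomProperty.eq_affineLocally P]
  constructor
  · intro h
    exact (h2.1 (h1.2 ⟨inferInstance, h⟩)).2
  · intro h
    exact (h1.1 (h2.2 ⟨inferInstance, h⟩)).2

theorem isQuasicoherent_pushforward_unit (f : X ⟶ Y) [IsAffineHom f] :
    ((Scheme.Modules.pushforward f).obj (Coh.structureModule X)).IsQuasicoherent := by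
  have : (Coh.structureModule X).IsQuasicoherent :=
    isQuasicoherent_of_isFinLocFree (isFinLocFree_structureModule X)
  exact isQuasicoherent_pushforward_of_isAffineHom f _

/-- **`f` is affine with `f_* O_X` finite locally free iff `f` is finite, flat and locally of finite
presentation.** -/
theorem isAffineHom_and_isFinLocFree_pushforward_iff (f : X ⟶ Y) :
    (IsAffineHom f ∧
      IsFinLocFree ((Scheme.Modules.pushforward f).obj (Coh.structureModule X))) ↔
      Mor2.IsFinLocFree f := by
  constructor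
  · rintro ⟨haff, hlf⟩
    have key : ∀ U : Y.Opens, IsAffineOpen U →
        (f.app U).hom.Finite ∧ (f.app U).hom.Flat ∧ (f.app U).hom.FinitePresentation := by
      intro U hU
      obtain ⟨h1, h2⟩ := finite_projective_Γ_of_isAffineOpen hlf hU
      let _ := (f.app U).hom.toAlgebra
      have h1' : Module.Finite Γ(Y, U) Γ(X, f ⁻¹ᵁ U) :=
        Module.Finite.equiv (pushforwardUnitΓLinearEquiv f U)
      have h2' : Module.Projective Γ(Y, U) Γ(X, f ⁻¹ᵁ U) :=
        Module.Projective.of_equiv (pushforwardUnitΓLinearEquiv f U)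
      have h3 : Module.FinitePresentation Γ(Y, U) Γ(X, f ⁻¹ᵁ U) :=
        Module.finitePresentation_of_projective _ _
      have h4 : Algebra.FinitePresentation Γ(Y, U) Γ(X, f ⁻¹ᵁ U) := inferInstance
      refine ⟨h1', ?_, ?_⟩
      · exact (inferInstance : Module.Flat Γ(Y, U) Γ(X, f ⁻¹ᵁ U))
      · exact h4
    refine ⟨⟨fun U hU => (key U hU).1⟩, ?_, ?_⟩
    · exact (hasRingHomProperty_iff_of_isAffineHom (P := @Flat) f).2 fun U hU => (key U hU).2.1
    · exact (hasRingHomProperty_iff_of_isAffineHom (P := @LocallyOfFinitePresentation) f).2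
        fun U hU => (key U hU).2.2
  · rintro ⟨hfin, hflat, hfp⟩
    have haff : IsAffineHom f := inferInstance
    refine ⟨haff, ?_⟩
    have := isQuasicoherent_pushforward_unit f
    rw [isFinLocFree_iff_forall_affineOpens]
    intro U
    let _ := (f.app (U : Y.Opens)).hom.toAlgebra
    have h1 : Module.Finite Γ(Y, (U : Y.Opens)) Γ(X, f ⁻¹ᵁ (U : Y.Opens)) :=
      IsFinite.finite_app f U U.2
    have h2 : Module.Flat Γ(Y, (U : Y.Opens)) Γ(X, f ⁻¹ᵁ (U : Y.Opens)) :=
      (hasRingHomProperty_iff_of_isAffineHom (P := @Flat) f).1 hflat U U.2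
    have h3 : Algebra.FinitePresentation Γ(Y, (U : Y.Opens)) Γ(X, f ⁻¹ᵁ (U : Y.Opens)) :=
      (hasRingHomProperty_iff_of_isAffineHom (P := @LocallyOfFinitePresentation) f).1 hfp U U.2
    have h4 : Module.FinitePresentation Γ(Y, (U : Y.Opens)) Γ(X, f ⁻¹ᵁ (U : Y.Opens)) :=
      Module.FinitePresentation.of_finite_of_finitePresentation _ _
    have h5 : Module.Projective Γ(Y, (U : Y.Opens)) Γ(X, f ⁻¹ᵁ (U : Y.Opens)) :=
      Module.Flat.projective_of_finitePresentation
    exact ⟨Module.Finite.equiv (pushforwardUnitΓLinearEquiv f U).symm,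
      Module.Projective.of_equiv (pushforwardUnitΓLinearEquiv f U).symm⟩

end Groth.Agent.Lib.QCoh
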