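import Groth.Agent.Lib.QCoh.Helper74_RefHullCoh
import Groth.Agent.Lib.QCoh.Helper74_IsoLocus
import Groth.Agent.Lib.QCoh.Helper18_ZClosStalk
import Groth.Agent.Lib.Ample.GlobGenSection
import Groth.Agent.S4713

/-!
# RefHull API, part 5 (helper74): reflexive coherent modules — stalkwise criterion

Namespace `Groth.Agent.Lib.QCoh.RefHull74`.

* `oxEquiv x : (O_X)_x ≃ₗ O_{X,x}` (stalk of the structure *module* vs. the local ring).
* `isReflexiveAt_iff_bijective` : for `F` coherent on a locally Noetherian scheme, `F_x` is a
  reflexive module iff the stalk map of `F ⟶ F^**` at `x` is bijective.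
* `isReflexive_iff_forall_isReflexiveAt`, `isReflexive_iff_forall_closed`.
-/

set_option linter.style.haveILetI false
universe u
open CategoryTheory CategoryTheory.Limits AlgebraicGeometry Opposite TopologicalSpace

namespace Groth.Agent.Lib.QCoh.RefHull74
open RefHull Groth.Agent.Lib.QCoh Groth.Agent.Lib.Ample

variable {X : Scheme.{u}}

/-- `r ↦ r • 1` from the local ring to the stalk of the structure module. -/
noncomputable def toOx (x : X) :
    X.presheaf.stalk x →ₗ[X.presheaf.stalk x] (Coh.structureModule X).presheaf.stalk x :=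
  LinearMap.toSpanSingleton _ _ (germOne x)

theorem toOx_germ (x : X) {W : X.Opens} (hxW : x ∈ W) (a : Γ(X, W)) :
    toOx x (X.presheaf.germ W x hxW a) =
      (Coh.structureModule X).presheaf.germ W x hxW (show Γ(Coh.structureModule X, W) from a) := by
  have h1 : (show Γ(Coh.structureModule X, W) from a) = a • oneSec W := (mul_one a).symm
  have h2 : (Coh.structureModule X).presheaf.germ W x hxW (oneSec W) = germOne x := by
    have := TopCat.Presheaf.germ_res_apply (Coh.structureModule X).presheaf
      (homOfLE (le_top : W ≤ ⊤)) x hxW (oneSec ⊤)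
    refine Eq.trans ?_ this
    congr 1
    exact (map_one (X.presheaf.map (homOfLE (le_top : W ≤ ⊤)).op).hom).symm
  have h3 := germ_smul (Coh.structureModule X) x W hxW a (oneSec W)
  rw [h2] at h3
  change X.presheaf.germ W x hxW a • germOne x = _
  rw [← h3]
  exact congrArg (fun t => (Coh.structureModule X).presheaf.germ W x hxW t) h1.symm

theorem toOx_bijective (x : X) : Function.Bijective (toOx x) := by
  constructor
  · rw [← LinearMap.ker_eq_bot, LinearMap.ker_eq_bot']
    intro r hr
    obtain ⟨W, hxW, a, rfl⟩ := TopCat.Presheaf.exists_germ_eq X.presheaf r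
    rw [toOx_germ] at hr
    have h0 : (Coh.structureModule X).presheaf.germ W x hxW
        (show Γ(Coh.structureModule X, W) from a) =
        (Coh.structureModule X).presheaf.germ W x hxW 0 := by rw [hr, map_zero]
    obtain ⟨W', hxW', i, i', hW'⟩ :=
      TopCat.Presheaf.germ_eq (Coh.structureModule X).presheaf x hxW hxW _ _ h0
    have h1 : X.presheaf.map i.op a = 0 := hW'.trans (map_zero _)
    rw [← TopCat.Presheaf.germ_res_apply X.presheaf i x hxW' a, h1, map_zero]
  · intro m
    obtain ⟨r, hr⟩ := exists_smul_germOne x m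
    exact ⟨r, hr.symm⟩

/-- The stalk of the structure module is the local ring. -/
noncomputable def oxEquiv (x : X) :
    (Coh.structureModule X).presheaf.stalk x ≃ₗ[X.presheaf.stalk x] X.presheaf.stalk x :=
  (LinearEquiv.ofBijective (toOx x) (toOx_bijective x)).symm

section Refl

variable [IsLocallyNoetherian X] (F : X.Modules) (hF : Coh.IsCoh F)

theorem isCoh_dual (hF : Coh.IsCoh F) : Coh.IsCoh (dual F) :=
  isCoh_homSh F _ hF (IsoLocus74.isCoh_structureModule X)

theorem isCoh_ddual (hF : Coh.IsCoh F) : Coh.IsCoh (ddual F) := isCoh_dual _ (isCoh_dual F hF)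

omit [IsLocallyNoetherian X] in
/-- The evaluation `(F^**)_x → Hom((F^*)_x, (O_X)_x)` composed with the stalk map of the
biduality map is `bidualAt`. -/
theorem evalStalk_stalkMap_bidualMap (x : X) (v : F.presheaf.stalk x) :
    evalStalk (dual F) (Coh.structureModule X) x (stalkMap (bidualMap F) x v) =
      bidualAt F x v := by
  obtain ⟨U, hxU, s, rfl⟩ := TopCat.Presheaf.exists_germ_eq F.presheaf v
  rw [stalkMap_germ, evalStalk_germ]
  rfl

include hF in
/-- **Stalkwise criterion**: `F_x` is reflexive iff `F ⟶ F^**` is bijective on the stalk at `x`. -/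
theorem isReflexiveAt_iff_bijective (x : X) :
    IsReflexiveAt F x ↔ Function.Bijective (stalkMap (bidualMap F) x) := by
  have hqF : F.IsQuasicoherent := hF.1
  have hfF : F.IsFiniteType := hF.2
  have hpF : F.IsFinitePresentation := isFinitePresentation_of_isLocallyNoetherian F
  have hD := isCoh_dual F hF
  have hqD : (dual F).IsQuasicoherent := hD.1
  have hfD : (dual F).IsFiniteType := hD.2
  have hpD : (dual F).IsFinitePresentation := isFinitePresentation_of_isLocallyNoetherian (dual F)
  have hqO : (Coh.structureModule X).IsQuasicoherent := (IsoLocus74.isCoh_structureModule X).1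
  let R := X.presheaf.stalk x
  let M := F.presheaf.stalk x
  let Ox := (Coh.structureModule X).presheaf.stalk x
  let c : Ox ≃ₗ[R] R := oxEquiv x
  let e1 : (dual F).presheaf.stalk x ≃ₗ[R] (M →ₗ[R] Ox) :=
    evalStalkEquiv F (Coh.structureModule X) x
  let e2 : (ddual F).presheaf.stalk x ≃ₗ[R] ((dual F).presheaf.stalk x →ₗ[R] Ox) :=
    evalStalkEquiv (dual F) (Coh.structureModule X) x
  let E : (dual F).presheaf.stalk x ≃ₗ[R] Module.Dual R M := e1 ≪≫ₗ LinearEquiv.congrRight c
  let Ψ : ((dual F).presheaf.stalk x →ₗ[R] Ox) ≃ₗ[R] Module.Dual R (Module.Dual R M) :=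
    LinearEquiv.arrowCongr E c
  have key : ∀ v : M, Ψ (e2 (stalkMap (bidualMap F) x v)) = Module.Dual.eval R M v := by
    intro v
    have h1 : e2 (stalkMap (bidualMap F) x v) = bidualAt F x v :=
      evalStalk_stalkMap_bidualMap F x v
    rw [h1]
    apply LinearMap.ext
    intro d
    change c (bidualAt F x v (E.symm d)) = d v
    rw [bidualAt_apply]
    have h2 : evalStalk F (Coh.structureModule X) x (E.symm d) = e1 (E.symm d) := rfl
    have h3 : e1 (E.symm d) = (LinearEquiv.congrRight c).symm d := by
      change e1 ((e1 ≪≫ₗ LinearEquiv.congrRight c).symm d) = _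
      rw [LinearEquiv.trans_symm, LinearEquiv.trans_apply, LinearEquiv.apply_symm_apply]
    rw [h2, h3]
    change c (c.symm (d v)) = d v
    exact c.apply_symm_apply _
  have hcomp : (fun v : M => Module.Dual.eval R M v) =
      (fun w => Ψ (e2 w)) ∘ (fun v : M => stalkMap (bidualMap F) x v) := by
    funext v
    exact (key v).symm
  have hbij : Function.Bijective (fun w : (ddual F).presheaf.stalk x => Ψ (e2 w)) :=
    Ψ.bijective.comp e2.bijective
  constructor
  · intro h
    have h1 : Function.Bijective (fun v : M => Module.Dual.eval R M v) := h.bijective_dual_eval'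
    rw [hcomp] at h1
    exact (Function.Bijective.of_comp_iff' hbij _).1 h1
  · intro h
    refine ⟨?_⟩
    have h1 : Function.Bijective ((fun w => Ψ (e2 w)) ∘
        (fun v : M => stalkMap (bidualMap F) x v)) := hbij.comp h
    rw [← hcomp] at h1
    exact h1

include hF in
/-- `F` coherent on a locally Noetherian scheme is reflexive iff all its stalks are. -/
theorem isReflexive_iff_forall_isReflexiveAt :
    IsReflexive F ↔ ∀ x : X, IsReflexiveAt F x := by
  constructor
  · intro h x
    have : IsIso (bidualMap F) := h
    rw [isReflexiveAt_iff_bijective F hF x]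
    exact ZClosLib.stalkMap_bijective_of_isIso (bidualMap F) x
  · intro h
    apply ZClosLib.isIso_of_forall_stalkMap_bijective
    intro x
    exact (isReflexiveAt_iff_bijective F hF x).1 (h x)

include hF in
/-- It suffices to test reflexivity of the stalks at the closed points. -/
theorem forall_isReflexiveAt_of_closed
    (h : ∀ x : X, IsClosed ({x} : Set X) → IsReflexiveAt F x) (x : X) : IsReflexiveAt F x := by
  obtain ⟨y, hyZ, hy⟩ := Groth.Agent.S4713.result X (closure {x}) isClosed_closure
    ⟨x, subset_closure rfl⟩
  have hxy : x ⤳ y := specializes_iff_mem_closure.2 hyZ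
  have hopen := IsoLocus74.isOpen_bijective_locus (bidualMap F) hF (isCoh_ddual F hF)
  have hy' : y ∈ {z : X | Function.Bijective (stalkMap (bidualMap F) z)} :=
    (isReflexiveAt_iff_bijective F hF y).1 (h y hy)
  have hx' : x ∈ {z : X | Function.Bijective (stalkMap (bidualMap F) z)} :=
    hxy.mem_open hopen hy'
  exact (isReflexiveAt_iff_bijective F hF x).2 hx'

end Refl

end Groth.Agent.Lib.QCoh.RefHull74
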