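import Groth.Agent.Lib.QCoh.TensorTilde
import Groth.Agent.Lib.QCoh.AffineOpen
import Groth.Agent.Lib.QCoh.Local

/-!
# QCoh API / TENSOR (lead): tensor products of quasi-coherent modules

* `isoTildeΓ F : tilde Γ(F) ≅ F` for `F` quasi-coherent on `Spec R`
* `tensorModSpecIso F G : tensorMod F G ≅ tilde (Γ(F) ⊗[R] Γ(G))` on `Spec R`
* `isQuasicoherent_tensorMod` : `F ⊗ G` is quasi-coherent for `F`, `G` quasi-coherent (any scheme)
* `tensorModΓSpecLinearEquiv F G : Γ(F ⊗ G, ⊤) ≃ₗ[R] Γ(F, ⊤) ⊗[R] Γ(G, ⊤)` on `Spec R`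
* `tensorModΓLinearEquiv hU F G : Γ(F ⊗ G, U) ≃ₗ[Γ(X,U)] Γ(F,U) ⊗[Γ(X,U)] Γ(G,U)`, `U` affine open
* `isFiniteType_tensorMod` : `F ⊗ G` of finite type if `F`, `G` are (quasi-coherent)
-/

universe u
open CategoryTheory MonoidalCategory Opposite TensorProduct AlgebraicGeometry TopologicalSpace

namespace Groth.Agent.Lib.QCoh

open Scheme.Modules CohB1

section Spec

variable {R : CommRingCat.{u}}

set_option backward.isDefEq.respectTransparency false in
/-- on `Spec R`, a quasi-coherent module is the tilde of its global sections -/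
noncomputable def isoTildeΓ (F : (Spec R).Modules) [F.IsQuasicoherent] :
    tilde (moduleSpecΓFunctor.obj F) ≅ F :=
  have hiso : IsIso F.fromTildeΓ := Scheme.Modules.isIso_fromTildeΓ_of_isQuasicoherent F
  asIso F.fromTildeΓ

/-- on `Spec R`: `F ⊗ G ≅ (Γ(F) ⊗_R Γ(G))^~` for quasi-coherent `F`, `G` -/
noncomputable def tensorModSpecIso (F G : (Spec R).Modules) [F.IsQuasicoherent]
    [G.IsQuasicoherent] :
    tensorMod F G ≅
      tilde (ModuleCat.of R (moduleSpecΓFunctor.obj F ⊗[R] moduleSpecΓFunctor.obj G)) :=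
  tensorModCongr (isoTildeΓ F).symm (isoTildeΓ G).symm ≪≫ (tildeTensorIso R _ _).symm

theorem isQuasicoherent_tensorMod_Spec (F G : (Spec R).Modules) [F.IsQuasicoherent]
    [G.IsQuasicoherent] : (tensorMod F G).IsQuasicoherent :=
  isQuasicoherent_of_iso (tensorModSpecIso F G).symm inferInstance

/-- on `Spec R`: `Γ(F ⊗ G) = Γ(F) ⊗_R Γ(G)` for quasi-coherent `F`, `G` -/
noncomputable def tensorModΓSpecLinearEquiv (F G : (Spec R).Modules) [F.IsQuasicoherent]
    [G.IsQuasicoherent] :
    Γ(tensorMod F G, ⊤) ≃ₗ[R] Γ(F, ⊤) ⊗[R] Γ(G, ⊤) :=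
  (moduleSpecΓFunctor.mapIso (tensorModSpecIso F G)).toLinearEquiv ≪≫ₗ
    (tilde.isoTop (ModuleCat.of R
      (moduleSpecΓFunctor.obj F ⊗[R] moduleSpecΓFunctor.obj G))).toLinearEquiv.symm

end Spec

section general

variable {X : Scheme.{u}}

theorem isQuasicoherent_tensorMod_of_isAffine [IsAffine X] (F G : X.Modules) [F.IsQuasicoherent]
    [G.IsQuasicoherent] : (tensorMod F G).IsQuasicoherent := by
  have h1 : (F.restrict X.isoSpec.inv).IsQuasicoherent :=
    inferInstanceAs ((restrictFunctor X.isoSpec.inv).obj F).IsQuasicoherent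
  have h2 : (G.restrict X.isoSpec.inv).IsQuasicoherent :=
    inferInstanceAs ((restrictFunctor X.isoSpec.inv).obj G).IsQuasicoherent
  have : ((tensorMod F G).restrict X.isoSpec.inv).IsQuasicoherent :=
    isQuasicoherent_of_iso (restrictTensorModIso X.isoSpec.inv F G).symm
      (isQuasicoherent_tensorMod_Spec _ _)
  exact isQuasicoherent_of_restrict_iso X.isoSpec.inv _

/-- **The tensor product of quasi-coherent modules is quasi-coherent.** -/
theorem isQuasicoherent_tensorMod (F G : X.Modules) [F.IsQuasicoherent]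
    [G.IsQuasicoherent] : (tensorMod F G).IsQuasicoherent := by
  refine isQuasicoherent_of_forall_affineOpens _ fun U => ?_
  have : IsAffine (U : X.Opens).toScheme := U.2
  have h1 : (F.restrict (U : X.Opens).ι).IsQuasicoherent :=
    inferInstanceAs ((restrictFunctor (U : X.Opens).ι).obj F).IsQuasicoherent
  have h2 : (G.restrict (U : X.Opens).ι).IsQuasicoherent :=
    inferInstanceAs ((restrictFunctor (U : X.Opens).ι).obj G).IsQuasicoherent
  exact isQuasicoherent_of_iso (restrictTensorModIso (U : X.Opens).ι F G).symm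
    (isQuasicoherent_tensorMod_of_isAffine _ _)

variable {U : X.Opens} (hU : IsAffineOpen U)

/-- **Sections of a tensor product of quasi-coherent modules over an affine open**:
`Γ(F ⊗ G, U) ≃ Γ(F, U) ⊗_{Γ(X,U)} Γ(G, U)`. -/
noncomputable def tensorModΓLinearEquiv (F G : X.Modules) [F.IsQuasicoherent]
    [G.IsQuasicoherent] :
    Γ(tensorMod F G, U) ≃ₗ[Γ(X, U)] Γ(F, U) ⊗[Γ(X, U)] Γ(G, U) :=
  have h1 : (restrictSpec hU F).IsQuasicoherent :=
    inferInstanceAs ((restrictFunctor hU.fromSpec).obj F).IsQuasicoherent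
  have h2 : (restrictSpec hU G).IsQuasicoherent :=
    inferInstanceAs ((restrictFunctor hU.fromSpec).obj G).IsQuasicoherent
  (ΓrestrictSpecLinearEquiv hU (tensorMod F G)).symm ≪≫ₗ
    (moduleSpecΓFunctor.mapIso (restrictTensorModIso hU.fromSpec F G)).toLinearEquiv ≪≫ₗ
    tensorModΓSpecLinearEquiv (restrictSpec hU F) (restrictSpec hU G) ≪≫ₗ
    TensorProduct.congr (ΓrestrictSpecLinearEquiv hU F) (ΓrestrictSpecLinearEquiv hU G)

/-- **The tensor product of quasi-coherent modules of finite type is of finite type.** -/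
theorem isFiniteType_tensorMod (F G : X.Modules) [F.IsQuasicoherent] [G.IsQuasicoherent]
    [F.IsFiniteType] [G.IsFiniteType] : (tensorMod F G).IsFiniteType := by
  have := isQuasicoherent_tensorMod F G
  rw [isFiniteType_iff_forall_finite]
  intro V
  have hF := finite_Γ_of_isAffineOpen V.2 F
  have hG := finite_Γ_of_isAffineOpen V.2 G
  exact Module.Finite.equiv (tensorModΓLinearEquiv V.2 F G).symm

end general

end Groth.Agent.Lib.QCoh
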