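import Groth.Agent.Lib.QCoh.Helper74_FittSheaf
import Groth.Agent.Lib.Helper61.QCohPullbackSections
import Groth.Agent.Lib.Helper20.IdealComap
import Groth.Agent.Lib.QCoh.Helper50_Pullback
import Groth.Agent.Lib.QCoh.AffineOpen

/-!
# QCoh API (helper74): Fitting ideal sheaves commute with pullback

Namespace `Groth.Agent.Lib.QCoh.FittSheaf74`.

* `finite_Γ_pullback_of_le`, `isFiniteType_pullback` : the pullback of a quasi-coherent module of
  finite type is of finite type.
* `comap_sheafIdeal` : `(Fitt.sheafIdeal F i).comap f = Fitt.sheafIdeal (f^* F) i`.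
-/

set_option linter.style.haveILetI false
universe u
open CategoryTheory CategoryTheory.Limits AlgebraicGeometry Opposite TopologicalSpace TensorProduct

namespace Groth.Agent.Lib.QCoh.FittSheaf74
open Scheme.Modules Groth.Agent.Lib.QCoh Groth.Agent.Lib.Helper61.QCohSections
  Groth.Agent.Lib.Helper61.QCohPullback Groth.Agent.Lib.Helper45.Fitting

variable {T S : Scheme.{u}} (f : T ⟶ S) (F : S.Modules) [F.IsQuasicoherent] [F.IsFiniteType]

theorem finite_Γ_pullback_of_le {U : T.Opens} {V : S.Opens} (hU : IsAffineOpen U)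
    (hV : IsAffineOpen V) (e : U ≤ f ⁻¹ᵁ V) :
    Module.Finite Γ(T, U) Γ((Scheme.Modules.pullback f).obj F, U) := by
  letI := (f.appLE V U e).hom.toAlgebra
  have : Module.Finite Γ(S, V) Γ(F, V) := finite_Γ_of_isAffineOpen hV F
  exact Module.Finite.equiv (sectionsPullbackEquiv f F hU hV e).symm

instance isQuasicoherent_pullback' : ((Scheme.Modules.pullback f).obj F).IsQuasicoherent :=
  isQuasicoherent_pullback f F

theorem isFiniteType_pullback : ((Scheme.Modules.pullback f).obj F).IsFiniteType := by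
  rw [isFiniteType_iff_forall_finite]
  rintro ⟨U, hU⟩
  set G := (Scheme.Modules.pullback f).obj F with hG
  let s : Set Γ(T, U) := {g | ∃ V : S.Opens, IsAffineOpen V ∧ T.basicOpen g ≤ f ⁻¹ᵁ V}
  have hs : Ideal.span s = ⊤ := by
    rw [← hU.self_le_iSup_basicOpen_iff]
    intro x hx
    obtain ⟨_, ⟨V, hV, rfl⟩, hxV, -⟩ :=
      S.isBasis_affineOpens.exists_subset_of_mem_open (Set.mem_univ (f x)) isOpen_univ
    obtain ⟨g, hg1, hg2⟩ := hU.exists_basicOpen_le (V := f ⁻¹ᵁ V) ⟨x, hxV⟩ hx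
    exact Opens.mem_iSup.2 ⟨⟨g, V, hV, hg1⟩, hg2⟩
  letI (g : s) : Module Γ(T, U) Γ(G, T.basicOpen g.1) := resModule G (T.basicOpen_le g.1)
  letI (g : s) : Algebra Γ(T, U) Γ(T, T.basicOpen g.1) := resAlgebra (X := T) (T.basicOpen_le g.1)
  have h1 (g : s) : IsScalarTower Γ(T, U) Γ(T, T.basicOpen g.1) Γ(G, T.basicOpen g.1) :=
    isScalarTower_res G (T.basicOpen_le g.1)
  have h2 (g : s) : IsLocalization.Away g.1 Γ(T, T.basicOpen g.1) :=
    hU.isLocalization_basicOpen g.1
  have h3 (g : s) : IsLocalizedModule.Away g.1 (resLinear G (T.basicOpen_le g.1)) :=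
    isLocalizedModule_res_basicOpen G hU g.1
  refine Module.Finite.of_localizationSpan' s hs (Mₚ := fun g => Γ(G, T.basicOpen g.1))
    (Rₚ := fun g => Γ(T, T.basicOpen g.1)) (fun g => resLinear G (T.basicOpen_le g.1)) ?_
  rintro ⟨g, V, hV, hgV⟩
  exact finite_Γ_pullback_of_le f F (hU.basicOpen g) hV hgV

/-- **Fitting ideal sheaves commute with pullback.** -/
theorem comap_sheafIdeal (i : ℕ) :
    (Fitt.sheafIdeal F i).comap f = Fitt.sheafIdeal ((Scheme.Modules.pullback f).obj F) i := by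
  have := isFiniteType_pullback f F
  apply Scheme.IdealSheafData.ext_of_iSup_eq_top
    (fun j : {p : T.affineOpens × S.affineOpens // p.1.1 ≤ f ⁻¹ᵁ p.2.1} => j.1.1)
    (Groth.Agent.Lib.Helper20.iSup_affine_charts_eq_top f)
  rintro ⟨⟨U, V⟩, e⟩
  change ((Fitt.sheafIdeal F i).comap f).ideal U =
    (Fitt.sheafIdeal ((Scheme.Modules.pullback f).obj F) i).ideal U
  rw [Groth.Agent.Lib.Helper20.ideal_comap f _ U V e, sheafIdeal_ideal, sheafIdeal_ideal]
  letI := (f.appLE V.1 U.1 e).hom.toAlgebra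
  have : Module.Finite Γ(S, V.1) Γ(F, V.1) := finite_Γ_of_isAffineOpen V.2 F
  rw [fitt_congr (sectionsPullbackEquiv f F U.2 V.2 e) i, fitt_baseChange]
  rfl

end Groth.Agent.Lib.QCoh.FittSheaf74
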