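import Groth.Agent.Lib.QCoh.Helper74_FlatOver
import Groth.Agent.Lib.QCoh.Helper18_PullbackStalk

/-!
# QCoh API (helper74): relative flatness and pullback along (faithfully) flat maps

* Algebra: for `A → B → C`, `N` a `B`-module: `flat_tensor_of_flat` (`N` `A`-flat, `C` `B`-flat ⟹
  `C ⊗[B] N` `A`-flat), `flat_of_flat_tensor_of_faithfullyFlat`, `flat_tensor_iff_of_faithfullyFlat`.
* `isFlatOverAt_pullback_iff_of_flat_stalkMap`: for `h : X ⟶ Y` flat at `x`, `q : Y ⟶ S`, `G` qcoh on
  `Y`: `G` is flat over `S` at `h x` iff `h^* G` is flat over `S` at `x`.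
* `isFlatOver_pullback_iff_of_flat_surjective`.
* `isFlatOverAt_comp_of_flat_stalkMap`: transitivity of relative flatness.
-/

universe u

open CategoryTheory CategoryTheory.Limits AlgebraicGeometry Opposite TopologicalSpace

namespace Groth.Agent.Lib.QCoh

open Scheme.Modules FlatMod TensorProduct

section Algebra

variable (A B C N : Type*) [CommRing A] [CommRing B] [CommRing C] [Algebra A B] [Algebra B C]
  [Algebra A C] [IsScalarTower A B C] [AddCommGroup N] [Module A N] [Module B N]
  [IsScalarTower A B N]

variable {P' P : Type*} [AddCommGroup P'] [AddCommGroup P] [Module A P'] [Module A P] in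
theorem assoc_lTensor (f : P' →ₗ[A] P) (x : (C ⊗[B] N) ⊗[A] P') :
    AlgebraTensorModule.assoc A B B C N P (f.lTensor (C ⊗[B] N) x) =
      (AlgebraTensorModule.lTensor B N f).lTensor C (AlgebraTensorModule.assoc A B B C N P' x) := by
  induction x using TensorProduct.induction_on with
  | zero => simp
  | add x y hx hy => simp only [map_add, hx, hy]
  | tmul x p =>
    induction x using TensorProduct.induction_on with
    | zero => simp
    | add x y hx hy => simp only [add_tmul, map_add, hx, hy]
    | tmul c n => simp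


theorem lTensor_tensor_injective_iff {P' P : Type*} [AddCommGroup P'] [AddCommGroup P] [Module A P']
    [Module A P] (f : P' →ₗ[A] P) :
    Function.Injective (f.lTensor (C ⊗[B] N)) ↔
      Function.Injective ((AlgebraTensorModule.lTensor B N f).lTensor C) := by
  have h : (AlgebraTensorModule.assoc A B B C N P : _ → _) ∘ (f.lTensor (C ⊗[B] N)) =
      ((AlgebraTensorModule.lTensor B N f).lTensor C) ∘
        (AlgebraTensorModule.assoc A B B C N P' : _ → _) := by
    funext x
    exact assoc_lTensor A B C N f x
  constructor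
  · intro hi
    have h1 : Function.Injective ((AlgebraTensorModule.assoc A B B C N P : _ → _) ∘
        (f.lTensor (C ⊗[B] N))) := (AlgebraTensorModule.assoc A B B C N P).injective.comp hi
    rw [h] at h1
    exact (EquivLike.injective_comp (AlgebraTensorModule.assoc A B B C N P') _).1 h1
  · intro hi
    have h1 : Function.Injective (((AlgebraTensorModule.lTensor B N f).lTensor C) ∘
        (AlgebraTensorModule.assoc A B B C N P' : _ → _)) :=
      hi.comp (AlgebraTensorModule.assoc A B B C N P').injective
    rw [← h] at h1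
    exact (EquivLike.comp_injective _ (AlgebraTensorModule.assoc A B B C N P)).1 h1

/-- If `N` is an `A`-flat `B`-module and `C` is a flat `B`-algebra, then `C ⊗[B] N` is `A`-flat. -/
theorem flat_tensor_of_flat [Module.Flat B C] [Module.Flat A N] : Module.Flat A (C ⊗[B] N) := by
  rw [Module.Flat.iff_lTensor_preserves_injective_linearMap]
  intro P' P _ _ _ _ f hf
  rw [lTensor_tensor_injective_iff]
  apply Module.Flat.lTensor_preserves_injective_linearMap
  exact Module.Flat.lTensor_preserves_injective_linearMap (M := N) f hf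

/-- If `C` is a faithfully flat `B`-algebra and `C ⊗[B] N` is `A`-flat, then `N` is `A`-flat. -/
theorem flat_of_flat_tensor_of_faithfullyFlat [Module.FaithfullyFlat B C]
    [Module.Flat A (C ⊗[B] N)] : Module.Flat A N := by
  rw [Module.Flat.iff_lTensor_preserves_injective_linearMap]
  intro P' P _ _ _ _ f hf
  have h1 : Function.Injective (f.lTensor (C ⊗[B] N)) :=
    Module.Flat.lTensor_preserves_injective_linearMap f hf
  rw [lTensor_tensor_injective_iff, Module.FaithfullyFlat.lTensor_injective_iff_injective] at h1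
  exact h1

theorem flat_tensor_iff_of_faithfullyFlat [Module.FaithfullyFlat B C] :
    Module.Flat A (C ⊗[B] N) ↔ Module.Flat A N :=
  ⟨fun _ => flat_of_flat_tensor_of_faithfullyFlat A B C N, fun _ => flat_tensor_of_flat A B C N⟩

end Algebra

variable {X Y S : Scheme.{u}}

theorem isFlatOverAt_pullback_iff_of_flat_stalkMap (h : X ⟶ Y) (q : Y ⟶ S) (G : Y.Modules)
    [G.IsQuasicoherent] (x : X) (hflat : (h.stalkMap x).hom.Flat) :
    IsFlatOverAt q G (h.base x) ↔ IsFlatOverAt (h ≫ q) ((Scheme.Modules.pullback h).obj G) x := by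
  let _ : Algebra (Y.presheaf.stalk (h x)) (X.presheaf.stalk x) := (h.stalkMap x).hom.toAlgebra
  let _ : Algebra (S.presheaf.stalk (q (h x))) (Y.presheaf.stalk (h x)) :=
    (q.stalkMap (h x)).hom.toAlgebra
  let _ : Algebra (S.presheaf.stalk (q (h x))) (X.presheaf.stalk x) :=
    ((h ≫ q).stalkMap x).hom.toAlgebra
  have t1 : IsScalarTower (S.presheaf.stalk (q (h x))) (Y.presheaf.stalk (h x))
      (X.presheaf.stalk x) := IsScalarTower.of_algebraMap_eq fun a => by
    change ((h ≫ q).stalkMap x) a = (h.stalkMap x) ((q.stalkMap (h x)) a)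
    rw [Scheme.Hom.stalkMap_comp]
    rfl
  let _ := moduleStalkOver q G (h.base x)
  have t2 : IsScalarTower (S.presheaf.stalk (q (h x))) (Y.presheaf.stalk (h x))
      (G.presheaf.stalk (h x)) := .of_algebraMap_smul fun _ _ => rfl
  let _ : Module (S.presheaf.stalk (q (h x)))
      (((Scheme.Modules.pullback h).obj G).presheaf.stalk x) :=
    moduleStalkOver (h ≫ q) ((Scheme.Modules.pullback h).obj G) x
  have t3 : IsScalarTower (S.presheaf.stalk (q (h x))) (X.presheaf.stalk x)
      (((Scheme.Modules.pullback h).obj G).presheaf.stalk x) := .of_algebraMap_smul fun _ _ => rfl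
  have : Module.Flat (Y.presheaf.stalk (h x)) (X.presheaf.stalk x) := hflat
  have : IsLocalHom (algebraMap (Y.presheaf.stalk (h x)) (X.presheaf.stalk x)) :=
    inferInstanceAs (IsLocalHom (h.stalkMap x).hom)
  have : Module.FaithfullyFlat (Y.presheaf.stalk (h x)) (X.presheaf.stalk x) :=
    Module.FaithfullyFlat.of_flat_of_isLocalHom
  obtain ⟨e⟩ := nonempty_stalk_pullback_linearEquiv h G x
  have key := flat_tensor_iff_of_faithfullyFlat (S.presheaf.stalk (q (h x)))
    (Y.presheaf.stalk (h x)) (X.presheaf.stalk x) (G.presheaf.stalk (h x))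
  exact key.symm.trans (Module.Flat.equiv_iff (e.restrictScalars (S.presheaf.stalk (q (h x))))).symm


/-- For `f : X ⟶ Y` flat and surjective, `g : Y ⟶ Z`, `G` quasi-coherent on `Y`: `G` is flat over `Z`
iff `f^* G` is flat over `Z`. -/
theorem isFlatOver_pullback_iff_of_flat_surjective {Z : Scheme.{u}} (f : X ⟶ Y) (g : Y ⟶ Z)
    [Flat f] [Surjective f] (G : Y.Modules) [G.IsQuasicoherent] :
    IsFlatOver g G ↔ IsFlatOver (f ≫ g) ((Scheme.Modules.pullback f).obj G) := by
  constructor
  · intro h x
    exact (isFlatOverAt_pullback_iff_of_flat_stalkMap f g G x (Flat.stalkMap f x)).1 (h (f.base x))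
  · intro h y
    obtain ⟨x, rfl⟩ := f.surjective y
    exact (isFlatOverAt_pullback_iff_of_flat_stalkMap f g G x (Flat.stalkMap f x)).2 (h x)

end Groth.Agent.Lib.QCoh
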