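import Groth.Agent.Lib.QCoh.Helper74_FlatOverPullback
import Groth.Agent.Lib.QCoh.Helper50_FlatBC

/-!
# QCoh API (helper74): base change of relative flatness

* `isFlatOver_pullback_of_isPullback`: in a pullback square `(g', f', f, g)`, `F` qcoh on `X` flat over
  `S` ⟹ `g'^* F` flat over `S'` (uses helper50's `compBij_of_isAffineOpen`).
* `isFlatOverAt_comp_of_flat_stalkMap`: transitivity of relative flatness at a point.
* `isFlatOver_iff_isFlatOver_baseChange`: relative flatness is fpqc-local on the base (`g` flat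
  surjective, no quasi-compactness needed).
-/

universe u
open CategoryTheory CategoryTheory.Limits AlgebraicGeometry Opposite TopologicalSpace
namespace Groth.Agent.Lib.QCoh
open Scheme.Modules FlatMod TensorProduct

variable {X S X' S' : Scheme.{u}}

/-- **Base change of relative flatness**: in a pullback square, if `F` (quasi-coherent on `X`) is
flat over `S` then `g'^* F` is flat over `S'`. -/
theorem isFlatOver_pullback_of_isPullback (f : X ⟶ S) (g : S' ⟶ S) (g' : X' ⟶ X) (f' : X' ⟶ S')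
    (h : IsPullback g' f' f g) (F : X.Modules) [F.IsQuasicoherent] (hF : IsFlatOver f F) :
    IsFlatOver f' ((Scheme.Modules.pullback g').obj F) := by
  have := isQuasicoherent_pullback g' F
  apply isFlatOver_of_forall_exists_affine
  intro x'
  obtain ⟨_, ⟨W, hW : IsAffineOpen W, rfl⟩, hxW, -⟩ :=
    (S.isBasis_affineOpens).exists_subset_of_mem_open (Set.mem_univ (f (g' x'))) isOpen_univ
  have hx1 : f' x' ∈ g ⁻¹ᵁ W := by
    change g (f' x') ∈ W
    rw [← Scheme.Hom.comp_apply, ← h.w, Scheme.Hom.comp_apply]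
    exact hxW
  obtain ⟨_, ⟨W', hW' : IsAffineOpen W', rfl⟩, hxW', e⟩ :=
    (S'.isBasis_affineOpens).exists_subset_of_mem_open hx1 (g ⁻¹ᵁ W).2
  obtain ⟨_, ⟨A, hAaff : IsAffineOpen A, rfl⟩, hxA, hA⟩ :=
    (X.isBasis_affineOpens).exists_subset_of_mem_open (show g' x' ∈ f ⁻¹ᵁ W from hxW) (f ⁻¹ᵁ W).2
  refine ⟨g' ⁻¹ᵁ A ⊓ f' ⁻¹ᵁ W', W', inf_le_right, ⟨hxA, hxW'⟩,
    isAffineOpen_over f g g' f' e h hW hW' hA hAaff, hW', ?_⟩
  let _ : Algebra Γ(S, W) Γ(S', W') := (g.appLE W W' e).hom.toAlgebra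
  let _ : Module Γ(S, W) Γ(F, A) := Module.compHom _ (f.appLE W A hA).hom
  let _ : Module Γ(S', W') Γ((Scheme.Modules.pullback g').obj F, g' ⁻¹ᵁ A ⊓ f' ⁻¹ᵁ W') :=
    Module.compHom _ (f'.appLE W' (g' ⁻¹ᵁ A ⊓ f' ⁻¹ᵁ W') inf_le_right).hom
  have hflat : Module.Flat Γ(S, W) Γ(F, A) :=
    flat_Γ_of_forall_isFlatOverAt f F hA hW hAaff fun y _ => hF y
  let t : Γ(S', W') ⊗[Γ(S, W)] Γ(F, A) →ₗ[Γ(S', W')]
      Γ((Scheme.Modules.pullback g').obj F, g' ⁻¹ᵁ A ⊓ f' ⁻¹ᵁ W') :=
    semilinearLift (pullbackSectionsMap g' inf_le_left F).hom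
      (fun b m => pullbackSectionsMap_smul_base f g g' f' e h.w F hA inf_le_left inf_le_right b m)
  have hbij := compBij_of_isAffineOpen f g g' f' e h hW hW' F hA hAaff t (fun m => by simp [t])
  exact Module.Flat.of_linearEquiv (LinearEquiv.ofBijective t hbij).symm

/-- Transitivity: if `F` is flat over `Y` at `x` and `g : Y ⟶ S` is flat at `f x`, then `F` is flat
over `S` at `x`. -/
theorem isFlatOverAt_comp_of_flat_stalkMap {Y : Scheme.{u}} (f : X ⟶ Y) (g : Y ⟶ S)
    (F : X.Modules) (x : X) (hg : (g.stalkMap (f.base x)).hom.Flat) (h : IsFlatOverAt f F x) :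
    IsFlatOverAt (f ≫ g) F x := by
  let _ : Algebra (S.presheaf.stalk (g (f x))) (Y.presheaf.stalk (f x)) :=
    (g.stalkMap (f x)).hom.toAlgebra
  let _ := moduleStalkOver f F x
  let _ : Module (S.presheaf.stalk (g (f x))) (F.presheaf.stalk x) :=
    moduleStalkOver (f ≫ g) F x
  have : IsScalarTower (S.presheaf.stalk (g (f x))) (Y.presheaf.stalk (f x))
      (F.presheaf.stalk x) := .of_algebraMap_smul fun a m => by
    change (f.stalkMap x (g.stalkMap (f x) a)) • m = ((f ≫ g).stalkMap x a) • m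
    rw [Scheme.Hom.stalkMap_comp]
    rfl
  have : Module.Flat (S.presheaf.stalk (g (f x))) (Y.presheaf.stalk (f x)) := hg
  have : Module.Flat (Y.presheaf.stalk (f x)) (F.presheaf.stalk x) := h
  exact Module.Flat.trans (S.presheaf.stalk (g (f x))) (Y.presheaf.stalk (f x))
    (F.presheaf.stalk x)

/-- **fpqc-local nature of relative flatness on the base**: for `g : Y' ⟶ Y` flat and surjective,
`M` is flat over `Y` iff its pullback to `X ×_Y Y'` is flat over `Y'`. -/
theorem isFlatOver_iff_isFlatOver_baseChange {Y Y' : Scheme.{u}} (f : X ⟶ Y) (g : Y' ⟶ Y)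
    [Flat g] [Surjective g] (M : X.Modules) [M.IsQuasicoherent] :
    IsFlatOver f M ↔
      IsFlatOver (pullback.snd f g) ((Scheme.Modules.pullback (pullback.fst f g)).obj M) := by
  constructor
  · exact isFlatOver_pullback_of_isPullback f g _ _ (IsPullback.of_hasPullback f g) M
  · intro h x
    obtain ⟨y', hy'⟩ := g.surjective (f x)
    obtain ⟨x', hx1, hx2⟩ := Scheme.Pullback.exists_preimage_pullback x y' hy'.symm
    have h2 : IsFlatOverAt (pullback.snd f g ≫ g)
        ((Scheme.Modules.pullback (pullback.fst f g)).obj M) x' :=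
      isFlatOverAt_comp_of_flat_stalkMap _ g _ x' (Flat.stalkMap g _) (h x')
    rw [← pullback.condition] at h2
    have h3 := (isFlatOverAt_pullback_iff_of_flat_stalkMap (pullback.fst f g) f M x'
      (Flat.stalkMap _ x')).2 h2
    rwa [hx1] at h3

end Groth.Agent.Lib.QCoh
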