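import Groth.Agent.Lib.QCoh.Helper50_OmAff

/-!
# OmAff, general affine opens (helper50): `OmAff.toSect f V U h` is an isomorphism for affine `U`, `V`
-/

universe u
open CategoryTheory CategoryTheory.Limits AlgebraicGeometry Opposite TopologicalSpace TensorProduct

namespace Groth.Agent.Lib.QCoh.OmAffGen

open Scheme.Modules Groth.Agent.Lib.QCoh

variable {X Y : Scheme.{u}} (f : X ⟶ Y) {U : X.Opens} {V : Y.Opens}
  (hU : IsAffineOpen U) (hV : IsAffineOpen V) (h : U ≤ f ⁻¹ᵁ V)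

/-- `Spec Γ(X,U) ×_{Spec Γ(Y,V)} Spec Γ(X,U) ⟶ X ×_Y X` -/
noncomputable def psi :
    pullback (Spec.map (f.appLE V U h)) (Spec.map (f.appLE V U h)) ⟶ pullback f f :=
  pullback.map (Spec.map (f.appLE V U h)) (Spec.map (f.appLE V U h)) f f
    hU.fromSpec hU.fromSpec hV.fromSpec (hV.SpecMap_appLE_fromSpec f hU h)
    (hV.SpecMap_appLE_fromSpec f hU h)

instance : IsOpenImmersion (psi f hU hV h) := by
  unfold psi; infer_instance

lemma psi_fst : psi f hU hV h ≫ pullback.fst f f = pullback.fst _ _ ≫ hU.fromSpec := by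
  unfold psi; exact pullback.lift_fst _ _ _

lemma psi_snd : psi f hU hV h ≫ pullback.snd f f = pullback.snd _ _ ≫ hU.fromSpec := by
  unfold psi; exact pullback.lift_snd _ _ _

lemma opensRange_psi : (psi f hU hV h).opensRange = OmegaSh.diagNbhd f U := by
  apply Opens.ext
  have := Scheme.Pullback.range_map (Spec.map (f.appLE V U h)) (Spec.map (f.appLE V U h)) f f
    hU.fromSpec hU.fromSpec hV.fromSpec (hV.SpecMap_appLE_fromSpec f hU h)
    (hV.SpecMap_appLE_fromSpec f hU h)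
  change Set.range (psi f hU hV h) = _
  unfold psi
  rw [this, hU.range_fromSpec]
  rfl

include hU hV h in
lemma isAffineOpen_diagNbhd : IsAffineOpen (OmegaSh.diagNbhd f U) := by
  rw [← opensRange_psi f hU hV h]
  exact isAffineOpen_opensRange _

lemma preimage_diagNbhd : (psi f hU hV h) ⁻¹ᵁ (OmegaSh.diagNbhd f U) = ⊤ := by
  rw [← opensRange_psi f hU hV h, Scheme.Hom.preimage_opensRange]

/-- `ψ` on sections: `Γ(X ×_Y X, diagNbhd U) ⟶ Γ(Spec ×_{Spec} Spec, ⊤)` -/
noncomputable def psiSec : Γ(pullback f f, OmegaSh.diagNbhd f U) ⟶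
    Γ(pullback (Spec.map (f.appLE V U h)) (Spec.map (f.appLE V U h)), ⊤) :=
  (psi f hU hV h).appLE (OmegaSh.diagNbhd f U) ⊤ (preimage_diagNbhd f hU hV h).ge

instance : IsIso (psiSec f hU hV h) := by
  unfold psiSec
  change IsIso ((psi f hU hV h).app (OmegaSh.diagNbhd f U) ≫
    (pullback (Spec.map (f.appLE V U h)) (Spec.map (f.appLE V U h))).presheaf.map
      (homOfLE (preimage_diagNbhd f hU hV h).ge).op)
  have h1 : IsIso ((psi f hU hV h).app (OmegaSh.diagNbhd f U)) :=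
    Scheme.Hom.isIso_app _ _ (opensRange_psi f hU hV h).ge
  have h2 : IsIso (homOfLE (preimage_diagNbhd f hU hV h).ge) :=
    ⟨homOfLE le_top, Subsingleton.elim _ _, Subsingleton.elim _ _⟩
  infer_instance

lemma fromSpec_appLE_top (e : (⊤ : (Spec Γ(X, U)).Opens) ≤ hU.fromSpec ⁻¹ᵁ U) :
    hU.fromSpec.appLE U ⊤ e = (Scheme.ΓSpecIso Γ(X, U)).inv := by
  change hU.fromSpec.app U ≫ (Spec Γ(X, U)).presheaf.map (homOfLE e).op = _
  rw [hU.fromSpec_app_self, Category.assoc, ← Functor.map_comp]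
  have : (eqToHom hU.fromSpec_preimage_self).op ≫ (homOfLE e).op = 𝟙 _ := Subsingleton.elim _ _
  rw [this, CategoryTheory.Functor.map_id, Category.comp_id]

lemma appLE_top_top {X Y : Scheme.{u}} (g : X ⟶ Y) (e : (⊤ : X.Opens) ≤ g ⁻¹ᵁ ⊤) :
    g.appLE ⊤ ⊤ e = g.appTop := by
  simp only [Scheme.Hom.appLE, Scheme.Hom.appTop]
  erw [X.presheaf.map_id]
  exact Category.comp_id _

lemma psiSec_fst :
    (pullback.fst f f).appLE U (OmegaSh.diagNbhd f U) inf_le_left ≫ psiSec f hU hV h =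
      (Scheme.ΓSpecIso Γ(X, U)).inv ≫
        (pullback.fst (Spec.map (f.appLE V U h)) (Spec.map (f.appLE V U h))).appTop := by
  unfold psiSec
  rw [Scheme.Hom.appLE_comp_appLE]
  rw [OmegaSh.appLE_congr_hom (psi_fst f hU hV h) _
    (show (⊤ : (pullback (Spec.map (f.appLE V U h)) (Spec.map (f.appLE V U h))).Opens) ≤
      (pullback.fst _ _ ≫ hU.fromSpec) ⁻¹ᵁ U from by
        rw [Scheme.Hom.comp_preimage, hU.fromSpec_preimage_self]; exact le_of_eq rfl)]
  rw [← Scheme.Hom.appLE_comp_appLE (pullback.fst (Spec.map (f.appLE V U h))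
    (Spec.map (f.appLE V U h))) hU.fromSpec U ⊤ ⊤ (hU.fromSpec_preimage_self).ge le_top,
    fromSpec_appLE_top, appLE_top_top]

lemma psiSec_snd :
    (pullback.snd f f).appLE U (OmegaSh.diagNbhd f U) inf_le_right ≫ psiSec f hU hV h =
      (Scheme.ΓSpecIso Γ(X, U)).inv ≫
        (pullback.snd (Spec.map (f.appLE V U h)) (Spec.map (f.appLE V U h))).appTop := by
  unfold psiSec
  rw [Scheme.Hom.appLE_comp_appLE]
  rw [OmegaSh.appLE_congr_hom (psi_snd f hU hV h) _
    (show (⊤ : (pullback (Spec.map (f.appLE V U h)) (Spec.map (f.appLE V U h))).Opens) ≤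
      (pullback.snd _ _ ≫ hU.fromSpec) ⁻¹ᵁ U from by
        rw [Scheme.Hom.comp_preimage, hU.fromSpec_preimage_self]; exact le_of_eq rfl)]
  rw [← Scheme.Hom.appLE_comp_appLE (pullback.snd (Spec.map (f.appLE V U h))
    (Spec.map (f.appLE V U h))) hU.fromSpec U ⊤ ⊤ (hU.fromSpec_preimage_self).ge le_top,
    fromSpec_appLE_top, appLE_top_top]

section final

variable [QuasiSeparated f]

set_option backward.isDefEq.respectTransparency false in
set_option maxHeartbeats 800000 in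
include hU hV in
/-- **S15741**: for affine opens `U ≤ f⁻¹ V`, the comparison map
`Ω[Γ(X,U)⁄Γ(Y,V)] → Γ(U, Ω_{X/Y})` is bijective. -/
theorem bijective_toSect : Function.Bijective (OmAff.toSect f V U h) := by
  letI : Algebra Γ(Y, V) Γ(X, U) := (f.appLE V U h).hom.toAlgebra
  let b0 : Γ(X, U) ⊗[Γ(Y, V)] Γ(X, U) ≃+*
      Γ(pullback (Spec.map (f.appLE V U h)) (Spec.map (f.appLE V U h)), ⊤) :=
    beta Γ(Y, V) Γ(X, U)
  let β : Γ(X, U) ⊗[Γ(Y, V)] Γ(X, U) ≃+* Γ(pullback f f, OmegaSh.diagNbhd f U) :=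
    b0.trans (asIso (psiSec f hU hV h)).commRingCatIsoToRingEquiv.symm
  have hβ : ∀ x, psiSec f hU hV h (β x) = b0 x := by
    intro x
    exact (asIso (psiSec f hU hV h)).commRingCatIsoToRingEquiv.apply_symm_apply (b0 x)
  have hinj : Function.Injective (psiSec f hU hV h) :=
    (ConcreteCategory.bijective_of_isIso (psiSec f hU hV h)).1
  refine OmAffG.bijective_of_beta f U hU (isAffineOpen_diagNbhd f hU hV h) β (RingHom.id _)
    Function.bijective_id ?_ ?_ (OmAff.toSect f V U h).hom ?_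
  · intro a
    apply hinj
    rw [hβ]
    exact (OmAffSpec.beta_left Γ(Y, V) Γ(X, U) a).trans (congr($(psiSec_fst f hU hV h) a)).symm
  · intro a
    apply hinj
    rw [hβ]
    exact (OmAffSpec.beta_right Γ(Y, V) Γ(X, U) a).trans (congr($(psiSec_snd f hU hV h) a)).symm
  · intro a
    exact OmAff.toSect_d f V U h a

end final

end Groth.Agent.Lib.QCoh.OmAffGen
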