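import Groth.Agent.Lib.QCoh.Helper74_LocFreeRank
import Groth.Agent.Lib.QCoh.Helper74_LocFreePush

/-!
# QCoh API (helper74): rank of `f_* O_X` versus `Scheme.Hom.finrank`

* `isFinLocFreeOfRank_of_rankAtStalk_eq` : converse of `rankAtStalk_Γ_of_isFinLocFreeOfRank`.
* `isFinLocFreeOfRank_iff_rankAtStalk`.
* `finrank_fromSpec_eq_rankAtStalk` : for `f` finite flat and `V ⊆ Y` affine,
  `f.finrank (hV.fromSpec p) = rankAtStalk Γ(f_* O_X, V) p`.
* `isFinLocFreeOfDeg_iff` : `Mor2.IsFinLocFreeOfDeg d f ↔ IsAffineHom f ∧ IsFinLocFreeOfRank d (f_* O_X)`.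
-/

open CategoryTheory CategoryTheory.Limits AlgebraicGeometry Opposite TopologicalSpace
namespace Groth.Agent.Lib.QCoh
open Scheme.Modules FlatMod
universe u
variable {X Y : Scheme.{u}}

/-- A finite locally free module whose sections over small affine opens have constant rank `d`
is finite locally free of rank `d`. -/
theorem isFinLocFreeOfRank_of_rankAtStalk_eq {E : Y.Modules} (hE : IsFinLocFree E) (d : ℕ)
    (h : ∀ y : Y, ∃ V : Y.Opens, IsAffineOpen V ∧ y ∈ V ∧
      ∀ p : PrimeSpectrum Γ(Y, V), Module.rankAtStalk Γ(E, V) p = d) :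
    IsFinLocFreeOfRank d E := by
  have : E.IsQuasicoherent := isQuasicoherent_of_isFinLocFree hE
  apply isFinLocFreeOfRank_of_openImmersions
  intro y
  obtain ⟨V, hV, hyV, hr⟩ := h y
  obtain ⟨_, _⟩ := finite_projective_Γ_of_isAffineOpen hE hV
  obtain ⟨s, hs, ⟨b⟩⟩ := exists_basis_away_of_rankAtStalk_eq Γ(Y, V) Γ(E, V) d hr
    {hV.primeIdealOf ⟨y, hyV⟩} (Set.finite_singleton _)
  refine ⟨_, Spec.map (CommRingCat.ofHom (algebraMap Γ(Y, V) (Localization.Away s))) ≫ hV.fromSpec,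
    inferInstance, ?_, ⟨trivAwayOfBasis E hV s b⟩⟩
  have h1 : s ∉ (hV.primeIdealOf ⟨y, hyV⟩).asIdeal := hs _ rfl
  have h2 : hV.primeIdealOf ⟨y, hyV⟩ ∈
      (Spec.map (CommRingCat.ofHom (algebraMap Γ(Y, V) (Localization.Away s)))).opensRange := by
    rw [Scheme.Hom.opensRange_localizationAway s]
    exact h1
  obtain ⟨w, hw⟩ := h2
  refine ⟨w, ?_⟩
  change hV.fromSpec (Spec.map (CommRingCat.ofHom
    (algebraMap Γ(Y, V) (Localization.Away s))) w) = y
  rw [hw, hV.fromSpec_primeIdealOf]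

/-- For a finite locally free module: rank `d` iff sections over affine opens have rank `d`. -/
theorem isFinLocFreeOfRank_iff_rankAtStalk {E : Y.Modules} (hE : IsFinLocFree E) (d : ℕ) :
    IsFinLocFreeOfRank d E ↔ ∀ (V : Y.Opens), IsAffineOpen V →
      ∀ p : PrimeSpectrum Γ(Y, V), Module.rankAtStalk Γ(E, V) p = d := by
  constructor
  · intro h V hV p
    exact rankAtStalk_Γ_of_isFinLocFreeOfRank h hV p
  · intro h
    apply isFinLocFreeOfRank_of_rankAtStalk_eq hE
    intro y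
    obtain ⟨_, ⟨V, hV : IsAffineOpen V, rfl⟩, hyV, -⟩ :=
      (Y.isBasis_affineOpens).exists_subset_of_mem_open (Set.mem_univ y) isOpen_univ
    exact ⟨V, hV, hyV, h V hV⟩

/-- The degree of a finite flat morphism at a point of an affine open `V` is the rank of
`Γ(f_* O_X, V)`. -/
theorem finrank_fromSpec_eq_rankAtStalk (f : X ⟶ Y) [IsFinite f] [Flat f] {V : Y.Opens}
    (hV : IsAffineOpen V) (p : PrimeSpectrum Γ(Y, V)) :
    f.finrank (hV.fromSpec p) =
      Module.rankAtStalk Γ((Scheme.Modules.pushforward f).obj (Coh.structureModule X), V) p := by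
  have hV' : IsAffineOpen (f ⁻¹ᵁ V) := hV.preimage f
  have hpb : IsPullback (Spec.map (f.appLE V (f ⁻¹ᵁ V) le_rfl)) hV'.fromSpec hV.fromSpec f := by
    apply IsOpenImmersion.isPullback
    · exact (IsAffineOpen.SpecMap_appLE_fromSpec f hV hV' le_rfl).symm
    · rw [hV.opensRange_fromSpec, hV'.opensRange_fromSpec]
  have h1 := Scheme.Hom.finrank_of_isPullback _ _ _ _ hpb.flip p
  rw [← h1, ← Scheme.Hom.app_eq_appLE]
  have hfin : (f.app V).hom.Finite := ((isFinite_iff f).1 inferInstance).2 V hV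
  have hflat : (f.app V).hom.Flat :=
    (hasRingHomProperty_iff_of_isAffineHom (P := @Flat) f).1 inferInstance V hV
  rw [Scheme.Hom.finrank_SpecMap_eq_finrank hfin hflat]
  let _ := (f.app V).hom.toAlgebra
  exact (congrFun (Module.rankAtStalk_eq_of_equiv (pushforwardUnitΓLinearEquiv f V)) p).symm

/-- **Degree-`d` covers**: `f` is finite locally free of degree `d` iff `f` is affine and
`f_* O_X` is locally free of rank `d`. -/
theorem isFinLocFreeOfDeg_iff (f : X ⟶ Y) (d : ℕ) :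
    Mor2.IsFinLocFreeOfDeg d f ↔ IsAffineHom f ∧
      IsFinLocFreeOfRank d ((Scheme.Modules.pushforward f).obj (Coh.structureModule X)) := by
  constructor
  · rintro ⟨hf, hd⟩
    obtain ⟨haff, hlf⟩ := (isAffineHom_and_isFinLocFree_pushforward_iff f).2 hf
    obtain ⟨_, _, _⟩ := hf
    refine ⟨haff, (isFinLocFreeOfRank_iff_rankAtStalk hlf d).2 fun V hV p => ?_⟩
    rw [← finrank_fromSpec_eq_rankAtStalk f hV p]
    exact hd _
  · rintro ⟨haff, hr⟩
    have hlf := isFinLocFree_of_isFinLocFreeOfRank hr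
    have hf := (isAffineHom_and_isFinLocFree_pushforward_iff f).1 ⟨haff, hlf⟩
    refine ⟨hf, fun y => ?_⟩
    obtain ⟨_, _, _⟩ := hf
    obtain ⟨_, ⟨V, hV : IsAffineOpen V, rfl⟩, hyV, -⟩ :=
      (Y.isBasis_affineOpens).exists_subset_of_mem_open (Set.mem_univ y) isOpen_univ
    have := finrank_fromSpec_eq_rankAtStalk f hV (hV.primeIdealOf ⟨y, hyV⟩)
    rw [hV.fromSpec_primeIdealOf ⟨y, hyV⟩] at this
    rw [this]
    exact rankAtStalk_Γ_of_isFinLocFreeOfRank hr hV _

end Groth.Agent.Lib.QCoh
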