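import Groth.Agent.Lib.QCoh.TensorRestrict
import Mathlib.AlgebraicGeometry.Modules.Tilde

/-!
# QCoh API / TENSOR (lead): `(K ⊗_R L)^~ ≅ K^~ ⊗ L^~` on `Spec R`

* `WX_of_bijective_of_isBasis` : a map of presheaves of modules bijective on a basis is in `WX`
* `preTilde R K : PM (Spec R)` : the presheaf of modules `U ↦ O(U) ⊗_R K`
* `cHom R K : preTilde R K ⟶ K^~` (`a ⊗ k ↦ a • k|_U`), `WX_cHom` (it is locally bijective),
  hence `K^~ ≅ shf (preTilde R K)`
* `dHom R K L : preTilde (K ⊗ L) ⟶ preTilde K ⊗ preTilde L` (sectionwise bijective)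
* `tildeTensorIso R K L : tilde (of (K ⊗[R] L)) ≅ tensorMod (tilde K) (tilde L)`
-/

universe u
open CategoryTheory MonoidalCategory Opposite TensorProduct AlgebraicGeometry TopologicalSpace

namespace Groth.Agent.Lib.QCoh

/-- a morphism of presheaves of modules which is bijective on a basis of opens is locally
bijective -/
lemma WX_of_bijective_of_isBasis {X : Scheme.{u}} {P Q : PM X} (g : P ⟶ Q) (B : Set X.Opens)
    (hB : Opens.IsBasis B) (h : ∀ V ∈ B, Function.Bijective (g.app (op V))) : WX X g := by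
  rw [Opens.isBasis_iff_nbhd] at hB
  constructor
  · change Presheaf.IsLocallyInjective _ (abMap g)
    refine ⟨fun {U} x y hxy => ?_⟩
    intro p hp
    obtain ⟨V, hVB, hpV, hVU⟩ := hB (U := U.unop) hp
    refine ⟨V, homOfLE hVU, ?_, hpV⟩
    change P.presheaf.map (homOfLE hVU).op x = P.presheaf.map (homOfLE hVU).op y
    apply (h V hVB).1
    have := congrArg (Q.presheaf.map (homOfLE hVU).op) hxy
    have nat := (abMap g).naturality (homOfLE hVU).op
    have e1 := congr($nat x)
    have e2 := congr($nat y)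
    exact e1.trans (this.trans e2.symm)
  · change Presheaf.IsLocallySurjective _ (abMap g)
    refine ⟨fun {U} s => ?_⟩
    intro p hp
    obtain ⟨V, hVB, hpV, hVU⟩ := hB (U := U) hp
    refine ⟨V, homOfLE hVU, ?_, hpV⟩
    obtain ⟨t, ht⟩ := (h V hVB).2 (Q.presheaf.map (homOfLE hVU).op s)
    exact ⟨t, ht⟩


section alg
variable {R A B K : Type*} [CommRing R] [CommRing A] [CommRing B] [Algebra R A] [Algebra R B]
  [AddCommGroup K] [Module R K]

lemma rTensor_algHom_smul (φ : A →ₐ[R] B) (r : A) (x : A ⊗[R] K) :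
    (LinearMap.rTensor K φ.toLinearMap) (r • x) = φ r • (LinearMap.rTensor K φ.toLinearMap) x := by
  induction x using TensorProduct.induction_on with
  | zero => simp
  | tmul a k =>
    rw [TensorProduct.smul_tmul', LinearMap.rTensor_tmul, LinearMap.rTensor_tmul,
      TensorProduct.smul_tmul']
    simp
  | add x y hx hy => rw [smul_add, map_add, map_add, smul_add, hx, hy]

end alg

variable (R : CommRingCat.{u}) (K : ModuleCat.{u} R)

/-- restriction of functions on `Spec R` as an `R`-algebra map -/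
noncomputable def resAlg {U V : (Spec R).Opens} (i : V ⟶ U) : Γ(Spec R, U) →ₐ[R] Γ(Spec R, V) :=
  { ((Spec R).presheaf.map i.op).hom with
    commutes' := fun r => by
      simp only [IsAffineOpen.algebraMap_Spec_obj]
      change ((Spec R).presheaf.map i.op).hom (((Scheme.ΓSpecIso R).inv ≫ (Spec R).presheaf.map (homOfLE le_top).op).hom r) = _
      rw [← CommRingCat.comp_apply, Category.assoc, ← Functor.map_comp]
      rfl }

lemma resAlg_apply {U V : (Spec R).Opens} (i : V ⟶ U) (a : Γ(Spec R, U)) :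
    resAlg R i a = (Spec R).presheaf.map i.op a := rfl

lemma resAlg_id (U : (Spec R).Opens) (a : Γ(Spec R, U)) : resAlg R (𝟙 U) a = a := by
  rw [resAlg_apply]
  simp

lemma resAlg_comp {U V W : (Spec R).Opens} (i : V ⟶ U) (j : W ⟶ V) (a : Γ(Spec R, U)) :
    resAlg R (j ≫ i) a = resAlg R j (resAlg R i a) := by
  simp only [resAlg_apply]
  rw [op_comp, Functor.map_comp]
  rfl

/-- The `Ab`-valued presheaf `U ↦ O(U) ⊗_R K`. -/
noncomputable def preTildeAb : (Opens (Spec R))ᵒᵖ ⥤ Ab where
  obj U := AddCommGrpCat.of (Γ(Spec R, U.unop) ⊗[R] K)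
  map {U V} i := AddCommGrpCat.ofHom
    (LinearMap.rTensor K (resAlg R i.unop).toLinearMap).toAddMonoidHom
  map_id U := by
    ext x
    induction x using TensorProduct.induction_on with
    | zero => simp
    | tmul a k =>
      change (resAlg R (𝟙 U).unop a) ⊗ₜ[R] k = a ⊗ₜ k
      rw [show (𝟙 U).unop = 𝟙 U.unop from rfl, resAlg_id]
    | add x y hx hy => simp only [map_add, hx, hy]
  map_comp i j := by
    ext x
    induction x using TensorProduct.induction_on with
    | zero => simp
    | tmul a k =>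
      change (resAlg R (i ≫ j).unop a) ⊗ₜ[R] k = (resAlg R j.unop (resAlg R i.unop a)) ⊗ₜ[R] k
      rw [show (i ≫ j).unop = j.unop ≫ i.unop from rfl, resAlg_comp]
    | add x y hx hy => simp only [map_add, hx, hy]

noncomputable instance (U : (Opens (Spec R))ᵒᵖ) :
    Module (((Spec R).presheaf ⋙ forget₂ CommRingCat RingCat).obj U) ((preTildeAb R K).obj U) :=
  inferInstanceAs (Module Γ(Spec R, U.unop) (Γ(Spec R, U.unop) ⊗[R] K))

/-- The presheaf of modules `U ↦ O(U) ⊗_R K` on `Spec R`. -/
noncomputable def preTilde : PM (Spec R) :=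
  PresheafOfModules.ofPresheaf (preTildeAb R K) (by
    intro U V i r x
    exact rTensor_algHom_smul (resAlg R i.unop) r x)


/-- `K → Γ(K^~, U)` as an `R`-linear map for the `Scheme.Modules` instances -/
noncomputable def toOpenLin (U : (Spec R).Opens) : K →ₗ[R] Γ(tilde K, U) :=
  (tilde.toOpen K U).hom

/-- sectionwise comparison map `O(U) ⊗_R K → Γ(K^~, U)`, `a ⊗ k ↦ a • k|_U` -/
noncomputable def cLin (U : (Spec R).Opens) :
    Γ(Spec R, U) ⊗[R] K →ₗ[Γ(Spec R, U)] Γ(tilde K, U) :=
  LinearMap.liftBaseChange Γ(Spec R, U) (toOpenLin R K U)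

lemma cLin_tmul (U : (Spec R).Opens) (a : Γ(Spec R, U)) (k : K) :
    cLin R K U (a ⊗ₜ k) = a • toOpenLin R K U k :=
  LinearMap.liftBaseChange_tmul _ _ _ _

lemma toOpenLin_res {U V : (Spec R).Opens} (i : V ⟶ U) (k : K) :
    (tilde K).presheaf.map i.op (toOpenLin R K U k) = toOpenLin R K V k := rfl

/-- the comparison map of abelian presheaves -/
noncomputable def cAb : preTildeAb R K ⟶ (tilde K).presheaf where
  app U := AddCommGrpCat.ofHom (cLin R K U.unop).toAddMonoidHom
  naturality {U V} i := by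
    ext x
    induction x using TensorProduct.induction_on with
    | zero => exact (map_zero _).trans (map_zero _).symm
    | tmul a k =>
      change cLin R K V.unop ((resAlg R i.unop a) ⊗ₜ[R] k) =
        (tilde K).presheaf.map i (cLin R K U.unop (a ⊗ₜ[R] k))
      rw [cLin_tmul, cLin_tmul]
      have := Scheme.Modules.map_smul (tilde K) i.unop a (toOpenLin R K U.unop k)
      exact this.symm
    | add x y hx hy => exact (map_add _ x y).trans ((congrArg₂ (· + ·) hx hy).trans (map_add _ x y).symm)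


/-- the comparison map `preTilde K ⟶ K^~` of presheaves of modules -/
noncomputable def cHom : preTilde R K ⟶ (incl (Spec R)).obj (tilde K) :=
  PresheafOfModules.homMk (cAb R K) (fun U r m => (cLin R K U.unop).map_smul r m)

lemma cHom_app_apply (U : (Opens (Spec R))ᵒᵖ) (x : Γ(Spec R, U.unop) ⊗[R] K) :
    (cHom R K).app U x = cLin R K U.unop x := rfl


set_option backward.isDefEq.respectTransparency.types false in
lemma cLin_bijective_basicOpen (f : R) :
    Function.Bijective (cLin R K (PrimeSpectrum.basicOpen f : (Spec R).Opens)) := by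
  have h1 : IsLocalizedModule (.powers f) (toOpenLin R K (PrimeSpectrum.basicOpen f : (Spec R).Opens)) :=
    inferInstanceAs (IsLocalizedModule.Away f (tilde.toOpen K (PrimeSpectrum.basicOpen f)).hom)
  have h2 : IsBaseChange Γ(Spec R, (PrimeSpectrum.basicOpen f : (Spec R).Opens))
      (toOpenLin R K (PrimeSpectrum.basicOpen f : (Spec R).Opens)) :=
    IsLocalizedModule.isBaseChange (.powers f) _ _
  have e : ∀ x, cLin R K (PrimeSpectrum.basicOpen f : (Spec R).Opens) x = h2.equiv x := by
    intro x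
    induction x using TensorProduct.induction_on with
    | zero => simp
    | tmul a k => rw [cLin_tmul, IsBaseChange.equiv_tmul]
    | add x y hx hy => rw [map_add, map_add, hx, hy]
  have : (cLin R K (PrimeSpectrum.basicOpen f : (Spec R).Opens) : _ → _) = h2.equiv := funext e
  rw [this]
  exact h2.equiv.bijective

lemma WX_cHom : WX (Spec R) (cHom R K) := by
  refine WX_of_bijective_of_isBasis (cHom R K) (Set.range (PrimeSpectrum.basicOpen (R := R)))
    PrimeSpectrum.isBasis_basic_opens ?_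
  rintro _ ⟨f, rfl⟩
  exact cLin_bijective_basicOpen R K f


section tensor

variable (R : CommRingCat.{u}) (K L : ModuleCat.{u} R)

/-- sectionwise: `O(U) ⊗ (K ⊗ L) ≃ (O(U) ⊗ K) ⊗_{O(U)} (O(U) ⊗ L)` -/
noncomputable def dLin (U : (Spec R).Opens) :
    Γ(Spec R, U) ⊗[R] (K ⊗[R] L) ≃ₗ[Γ(Spec R, U)]
      (Γ(Spec R, U) ⊗[R] K) ⊗[Γ(Spec R, U)] (Γ(Spec R, U) ⊗[R] L) :=
  TensorProduct.AlgebraTensorModule.distribBaseChange R Γ(Spec R, U) K L

lemma dLin_tmul (U : (Spec R).Opens) (a : Γ(Spec R, U)) (k : K) (l : L) :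
    dLin R K L U (a ⊗ₜ (k ⊗ₜ l)) = (a ⊗ₜ k) ⊗ₜ (1 ⊗ₜ l) :=
  TensorProduct.AlgebraTensorModule.distribBaseChange_tmul _ _ k l a

noncomputable def dHom :
    preTilde R (ModuleCat.of R (K ⊗[R] L)) ⟶ preTilde R K ⊗ preTilde R L where
  app U := ModuleCat.ofHom (dLin R K L U.unop).toLinearMap
  naturality {U V} i := by
    ext x
    induction x using TensorProduct.induction_on with
    | zero => exact (map_zero _).trans (map_zero _).symm
    | tmul a y =>
      induction y using TensorProduct.induction_on with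
      | zero => 
        rw [TensorProduct.tmul_zero]
        exact (map_zero _).trans (map_zero _).symm
      | tmul k l =>
        change dLin R K L V.unop ((resAlg R i.unop a) ⊗ₜ[R] (k ⊗ₜ[R] l)) =
          (preTilde R K ⊗ preTilde R L).map i (dLin R K L U.unop (a ⊗ₜ[R] (k ⊗ₜ[R] l)))
        rw [dLin_tmul, dLin_tmul]
        have h1 : resAlg R i.unop (1 : Γ(Spec R, U.unop)) = 1 := map_one _
        change _ = ((resAlg R i.unop a) ⊗ₜ[R] k) ⊗ₜ[Γ(Spec R, V.unop)]
          ((resAlg R i.unop 1) ⊗ₜ[R] l)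
        rw [h1]
      | add y z hy hz => 
        rw [TensorProduct.tmul_add]
        exact (map_add _ _ _).trans ((congrArg₂ (· + ·) hy hz).trans (map_add _ _ _).symm)
    | add x y hx hy => exact (map_add _ x y).trans ((congrArg₂ (· + ·) hx hy).trans (map_add _ x y).symm)


lemma WX_dHom : WX (Spec R) (dHom R K L) :=
  WX_of_bijective _ (fun U => (dLin R K L U.unop).bijective)

/-- **`(K ⊗ L)^~ ≅ K^~ ⊗ L^~`** on `Spec R`. -/
noncomputable def tildeTensorIso :
    tilde (ModuleCat.of R (K ⊗[R] L)) ≅ CohB1.tensorMod (tilde K) (tilde L) :=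
  have h1 : IsIso ((shf (Spec R)).map (cHom R (ModuleCat.of R (K ⊗[R] L)))) :=
    (WX_iff_isIso _ _).1 (WX_cHom R _)
  have h2 : IsIso ((shf (Spec R)).map (dHom R K L)) := (WX_iff_isIso _ _).1 (WX_dHom R K L)
  have h3 : IsIso ((shf (Spec R)).map (cHom R K ⊗ₘ cHom R L)) :=
    (WX_iff_isIso _ _).1 ((WX (Spec R)).tensorHom_mem _ _ (WX_cHom R K) (WX_cHom R L))
  (shfCounitIso (Spec R) (tilde (ModuleCat.of R (K ⊗[R] L)))).symm ≪≫
    (asIso ((shf (Spec R)).map (cHom R (ModuleCat.of R (K ⊗[R] L))))).symm ≪≫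
    asIso ((shf (Spec R)).map (dHom R K L)) ≪≫
    (show (shf (Spec R)).obj (preTilde R K ⊗ preTilde R L) ≅
      (shf (Spec R)).obj ((incl (Spec R)).obj (tilde K) ⊗ (incl (Spec R)).obj (tilde L)) from
      asIso ((shf (Spec R)).map (cHom R K ⊗ₘ cHom R L)))

end tensor

end Groth.Agent.Lib.QCoh
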