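import Groth.Agent.Lib.QCoh.Helper66_SubExt3

/-!
# Sections lie in quasi-coherent submodules of finite type, qcqs case (helper50)

Built on helper66's `SubExt` machinery.  ns `Groth.Agent.Lib.QCoh.SubExtQ`.
-/

set_option autoImplicit false
universe u
open CategoryTheory AlgebraicGeometry Opposite TopologicalSpace

namespace Groth.Agent.Lib.QCoh.SubExtQ

open Groth.Agent.Lib.QCoh.Glue74 Groth.Agent.Lib.QCoh Groth.Agent.Lib.QCoh.SubExt

variable {X : Scheme.{u}}

lemma isCompact_inf_Wof [QuasiSeparatedSpace X] {L : Type u} [Finite L] [LinearOrder L]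
    (V : L → X.Opens) (hV : ∀ l, IsAffineOpen (V l)) (U : X.Opens) (hU : IsCompact (U : Set X))
    (l : L) : IsCompact ((V l ⊓ Wof V U (Set.Iio l) : X.Opens) : Set X) := by
  have : ((V l ⊓ Wof V U (Set.Iio l) : X.Opens) : Set X) =
      (V l : Set X) ∩ (U : Set X) ∪ ⋃ m ∈ Set.Iio l, (V l : Set X) ∩ (V m : Set X) := by
    ext x
    constructor
    · rintro ⟨hxV, hxW⟩
      rcases (mem_Wof _ U).mp hxW with h | ⟨m, hm, h⟩
      · exact Or.inl ⟨hxV, h⟩
      · exact Or.inr (Set.mem_iUnion₂.mpr ⟨m, hm, hxV, h⟩)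
    · rintro (⟨hxV, h⟩ | h)
      · exact ⟨hxV, (mem_Wof _ U).mpr (Or.inl h)⟩
      · obtain ⟨m, hm, hxV, h⟩ := Set.mem_iUnion₂.mp h
        exact ⟨hxV, (mem_Wof _ U).mpr (Or.inr ⟨m, hm, h⟩)⟩
  rw [this]
  refine (QuasiSeparatedSpace.inter_isCompact _ _ (V l).2 (hV l).isCompact U.2 hU).union ?_
  exact (Set.toFinite _).isCompact_biUnion fun m _ =>
    QuasiSeparatedSpace.inter_isCompact _ _ (V l).2 (hV l).isCompact (V m).2 (hV m).isCompact

/-- sectionwise extension along a finite affine cover -/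
theorem exists_subsheaf_through_section_of_cover [QuasiSeparatedSpace X] {L : Type u} [Finite L]
    [LinearOrder L] [WellFoundedLT L]
    (V : L → X.Opens) (hV : ∀ l, IsAffineOpen (V l)) (hcov : ∀ x : X, ∃ l, x ∈ V l)
    (F : X.Modules) [F.IsQuasicoherent] (U : X.Opens) (hU : IsCompact (U : Set X))
    (s : Γ(F, U)) :
    ∃ (G' : X.Modules) (i' : G' ⟶ F), Mono i' ∧ G'.IsQuasicoherent ∧ G'.IsFiniteType ∧
      ∃ g : Γ(G', U), i'.app U g = s := by
  let T : Fin 1 → Γ(F, U) := fun _ => s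
  let N₀ : SubFam F := (⊤ : SubFam F).extend ⊥ U T
  have htop : ∀ (D : X.Opens) (m : Γ(F, D)), m ∈ (⊤ : SubFam F).sec D :=
    fun D m => (Submodule.mem_top : m ∈ (⊤ : Submodule Γ(X, D) Γ(F, D)))
  have hT2 : ∀ (V' : X.Opens) (h : V' ≤ U ⊓ ⊥) (m : Γ(F, V')), m ∈ (⊤ : SubFam F).sec V' →
      LocSpan F T V' (h.trans inf_le_left) m := by
    intro V' h m _ x hx
    exact (h hx).2.elim
  have hloc₀ : N₀.IsLocal := SubFam.extend_isLocal (fun D m _ => htop D m)
  have hsat₀ : N₀.IsSat U := SubFam.extend_isSat.mono (sup_le bot_le le_rfl)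
  have hlfg₀ : N₀.IsLFG U :=
    (SubFam.extend_isLFG (N := (⊤ : SubFam F)) (W := ⊥) (fun x hx => hx.elim) (fun i => htop _ _)
      hT2).anti le_sup_right
  obtain ⟨N, hloc, hlfg, hbase⟩ := exists_extension V U N₀ hV
    (fun l => isCompact_inf_Wof V hV U hU l) hloc₀ hsat₀ hlfg₀
  have hlfg' : N.IsLFG ⊤ := by
    intro x _
    obtain ⟨l, hxV⟩ := hcov x
    obtain ⟨V₀, -, hxV₀, n, t, hg⟩ := hlfg x ((mem_Wof _ U).mpr (Or.inr ⟨l, trivial, hxV⟩))
    exact ⟨V₀, le_top, hxV₀, n, t, hg⟩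
  have hs : s ∈ N.sec U := by
    rw [hbase U le_rfl]
    exact (SubFam.mem_extend_iff _ _ _ _ _).mpr ⟨htop _ _, LocSpan.gen _ 0⟩
  exact ⟨N.toModules hloc, N.incl hloc, inferInstance, N.isQuasicoherent_toModules hloc hlfg',
    N.isFiniteType_toModules hloc hlfg', (N.mem_sec_iff hloc s).mp hs⟩

/-- **EGA I 9.4.9 (sectionwise), qcqs case**: every section over a quasi-compact open lies in a
quasi-coherent submodule of finite type -/
theorem exists_subsheaf_through_section [CompactSpace X] [QuasiSeparatedSpace X]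
    (F : X.Modules) [F.IsQuasicoherent] (U : X.Opens) (hU : IsCompact (U : Set X))
    (s : Γ(F, U)) :
    ∃ (G' : X.Modules) (i' : G' ⟶ F), Mono i' ∧ G'.IsQuasicoherent ∧ G'.IsFiniteType ∧
      ∃ g : Γ(G', U), i'.app U g = s := by
  obtain ⟨c, hc, hcov⟩ := (isCompact_and_isOpen_iff_finite_and_eq_biUnion_affineOpens
    (X := X) (U := Set.univ)).mp ⟨isCompact_univ, isOpen_univ⟩
  have : Finite c := hc
  obtain ⟨_, _⟩ := exists_wellFoundedLT c
  refine exists_subsheaf_through_section_of_cover (fun V : c => (V.1 : X.Opens)) (fun V => V.1.2)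
    ?_ F U hU s
  intro x
  have hx : x ∈ ⋃ i ∈ c, ((i : X.Opens) : Set X) := hcov ▸ Set.mem_univ x
  obtain ⟨V, hV, hxV⟩ := Set.mem_iUnion₂.mp hx
  exact ⟨⟨V, hV⟩, hxV⟩

end Groth.Agent.Lib.QCoh.SubExtQ
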