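import Groth.Agent.Lib.QCoh.Local

/-!
# Vanishing of a module is local for covers by open immersions (helper66)
-/

universe u
open CategoryTheory CategoryTheory.Limits AlgebraicGeometry TopologicalSpace Opposite

namespace Groth.Agent.Lib.QCoh

open Scheme.Modules

theorem sections_eq_zero_of_isZero {X : Scheme.{u}} {N : X.Modules} (hZ : IsZero N)
    (V : X.Opens) (t : Γ(N, V)) : t = 0 := by
  have h1 : (𝟙 N) = 0 := (IsZero.iff_id_eq_zero _).mp hZ
  have h2 : Scheme.Modules.Hom.app (𝟙 N) V = Scheme.Modules.Hom.app (0 : N ⟶ N) V := by rw [h1]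
  rw [Scheme.Modules.Hom.id_app, Scheme.Modules.Hom.zero_app] at h2
  exact ConcreteCategory.congr_hom h2 t

theorem isZero_of_sections_eq_zero {X : Scheme.{u}} {N : X.Modules}
    (h : ∀ (V : X.Opens) (t : Γ(N, V)), t = 0) : IsZero N := by
  rw [IsZero.iff_id_eq_zero]
  apply Scheme.Modules.hom_ext
  intro U
  ext s
  exact (h U _).trans (h U _).symm

theorem isZero_of_openImmersion_cover {X : Scheme.{u}} (M : X.Modules)
    (h : ∀ x : X, ∃ (Z : Scheme.{u}) (f : Z ⟶ X) (_ : IsOpenImmersion f),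
      x ∈ Set.range f ∧ IsZero (M.restrict f)) : IsZero M := by
  refine isZero_of_sections_eq_zero fun V t => ?_
  choose Z f hf hx hZ using h
  have hle : ∀ x : X, (f x) ''ᵁ ((f x) ⁻¹ᵁ V) ≤ V := fun x => by
    rintro _ ⟨z, hz, rfl⟩
    exact hz
  refine TopCat.Sheaf.eq_of_locally_eq' (⟨M.presheaf, M.isSheaf⟩ : TopCat.Sheaf Ab X)
    (fun x : X => (f x) ''ᵁ ((f x) ⁻¹ᵁ V)) V (fun x => homOfLE (hle x)) ?_ t 0 fun x => ?_
  · intro y hy
    obtain ⟨z, hz⟩ := hx y
    exact Opens.mem_iSup.2 ⟨y, ⟨z, by rw [← hz] at hy; exact hy, hz⟩⟩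
  · rw [map_zero]
    exact sections_eq_zero_of_isZero (hZ x) ((f x) ⁻¹ᵁ V) _

end Groth.Agent.Lib.QCoh
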