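import Groth.Agent.Lib.QCoh.Helper18_AssPush
import Mathlib.AlgebraicGeometry.Morphisms.Integral

/-!
# Integral morphisms have no specializations in fibres (helper18)

* `specializes_iff_primeIdealOf_le` : for `U` affine open and `x y ∈ U`: `y ⤳ x ↔ p_y ≤ p_x`.
* `eq_of_specializes_of_isIntegralHom` : `f` integral, `y ⤳ x`, `f x = f y` ⇒ `x = y`.
-/

universe u

open CategoryTheory CategoryTheory.Limits AlgebraicGeometry Opposite TopologicalSpace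

namespace Groth.Agent.Lib.QCoh

lemma specializes_iff_primeIdealOf_le {X : Scheme.{u}} {U : X.Opens} (hU : IsAffineOpen U)
    {x y : X} (hx : x ∈ U) (hy : y ∈ U) :
    y ⤳ x ↔ hU.primeIdealOf ⟨y, hy⟩ ≤ hU.primeIdealOf ⟨x, hx⟩ := by
  rw [PrimeSpectrum.le_iff_specializes]
  have h1 := hU.fromSpec_primeIdealOf ⟨x, hx⟩
  have h2 := hU.fromSpec_primeIdealOf ⟨y, hy⟩
  have h1' : hU.fromSpec (hU.primeIdealOf ⟨x, hx⟩) = x := h1
  have h2' : hU.fromSpec (hU.primeIdealOf ⟨y, hy⟩) = y := h2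
  conv_lhs => rw [← h1', ← h2']
  exact hU.fromSpec.isOpenEmbedding.toIsInducing.specializes_iff

theorem eq_of_specializes_of_isIntegralHom {X Y : Scheme.{u}} (f : X ⟶ Y) [IsIntegralHom f]
    {x y : X} (h : y ⤳ x) (hf : f x = f y) : x = y := by
  obtain ⟨V, hV0, hxV, -⟩ := Opens.isBasis_iff_nbhd.1 (Y.isBasis_affineOpens)
    (show f x ∈ (⊤ : Y.Opens) from trivial)
  have hV : IsAffineOpen V := hV0
  have hU : IsAffineOpen (f ⁻¹ᵁ V) := hV.preimage f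
  have hxU : x ∈ f ⁻¹ᵁ V := hxV
  have hyU : y ∈ f ⁻¹ᵁ V := h.mem_open (f ⁻¹ᵁ V).isOpen hxU
  have hle := (specializes_iff_primeIdealOf_le hU hxU hyU).1 h
  have hcx := IsAffineOpen.comap_primeIdealOf_appLE (f := f) V hV (f ⁻¹ᵁ V) hU le_rfl hxU
  have hcy := IsAffineOpen.comap_primeIdealOf_appLE (f := f) V hV (f ⁻¹ᵁ V) hU le_rfl hyU
  have hint : (f.appLE V (f ⁻¹ᵁ V) le_rfl).hom.IsIntegral := by
    rw [Scheme.Hom.appLE_eq_app]
    exact IsIntegralHom.isIntegral_app f V hV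
  have hcc : (hU.primeIdealOf ⟨x, hxU⟩).comap (f.appLE V (f ⁻¹ᵁ V) le_rfl).hom =
      (hU.primeIdealOf ⟨y, hyU⟩).comap (f.appLE V (f ⁻¹ᵁ V) le_rfl).hom := by
    rw [hcx, hcy]
    congr 1
    exact Subtype.ext hf
  apply primeIdealOf_injective hU hxU hyU
  by_contra hne
  have hlt : (hU.primeIdealOf ⟨y, hyU⟩).asIdeal < (hU.primeIdealOf ⟨x, hxU⟩).asIdeal :=
    lt_of_le_of_ne hle (fun h' => hne (PrimeSpectrum.ext h').symm)
  let _ : Algebra Γ(Y, V) Γ(X, f ⁻¹ᵁ V) := (f.appLE V (f ⁻¹ᵁ V) le_rfl).hom.toAlgebra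
  have : Algebra.IsIntegral Γ(Y, V) Γ(X, f ⁻¹ᵁ V) := ⟨hint⟩
  have hlt' := Ideal.IsIntegral.comap_lt_comap (R := Γ(Y, V)) hlt
  have heq : (hU.primeIdealOf ⟨x, hxU⟩).asIdeal.comap (algebraMap Γ(Y, V) Γ(X, f ⁻¹ᵁ V)) =
      (hU.primeIdealOf ⟨y, hyU⟩).asIdeal.comap (algebraMap Γ(Y, V) Γ(X, f ⁻¹ᵁ V)) :=
    congrArg PrimeSpectrum.asIdeal hcc
  rw [heq] at hlt'
  exact lt_irrefl _ hlt'

end Groth.Agent.Lib.QCoh
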