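import Groth.Agent.Lib.QCoh.Helper50_Products
import Groth.Agent.Lib.QCoh.Helper43_PushQcqs

/-!
# QCoh API (helper50): extending a module from an open subscheme

Namespace `Groth.Agent.Lib.QCoh.ExtendOpen`.

For an open `U` of `X` with inclusion `j`, a module `F` on `X`, a module `G` on `U` and
`φ : G ⟶ F|_U`:

* `ext U F G φ = F ×_{j_* j^* F} j_* G`, with `extFst : ext ⟶ F`, `extSnd : ext ⟶ j_* G`;
* `extIso : (ext U F G φ)|_U ≅ G`, with `extIso_hom_comp : extIso.hom ≫ φ = (extFst)|_U`;
* `isQuasicoherent_ext` (for `j` quasi-compact, `F`, `G` quasi-coherent);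
* `mono_extFst` (for `φ` mono).
-/

universe u

open CategoryTheory CategoryTheory.Limits AlgebraicGeometry Opposite TopologicalSpace

namespace Groth.Agent.Lib.QCoh.ExtendOpen

open Scheme.Modules

variable {X : Scheme.{u}} (U : X.Opens) (F : X.Modules) (G : (U : Scheme.{u}).Modules)
  (φ : G ⟶ (restrictFunctor U.ι).obj F)

/-- `F ×_{j_* j^* F} j_* G` -/
noncomputable def ext : X.Modules :=
  pullback ((restrictAdjunction U.ι).unit.app F) ((pushforward U.ι).map φ)

noncomputable def extFst : ext U F G φ ⟶ F := pullback.fst _ _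

noncomputable def extSnd : ext U F G φ ⟶ (pushforward U.ι).obj G := pullback.snd _ _

lemma ext_condition : extFst U F G φ ≫ (restrictAdjunction U.ι).unit.app F =
    extSnd U F G φ ≫ (pushforward U.ι).map φ := pullback.condition

theorem isQuasicoherent_ext [QuasiCompact U.ι] [F.IsQuasicoherent] [G.IsQuasicoherent] :
    (ext U F G φ).IsQuasicoherent := by
  have h1 : ((restrictFunctor U.ι).obj F).IsQuasicoherent := isQuasicoherent_restrict U.ι F
  have h2 : ((pushforward U.ι).obj ((restrictFunctor U.ι).obj F)).IsQuasicoherent :=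
    isQuasicoherent_pushforward_of_qcqs U.ι _
  have h3 : ((pushforward U.ι).obj G).IsQuasicoherent := isQuasicoherent_pushforward_of_qcqs U.ι _
  have h4 : ((𝟭 X.Modules).obj F).IsQuasicoherent := ‹F.IsQuasicoherent›
  have h5 : ((restrictFunctor U.ι ⋙ pushforward U.ι).obj F).IsQuasicoherent := h2
  exact isQuasicoherent_pullback_of_isQuasicoherent _ _

instance mono_extFst [Mono φ] : Mono (extFst U F G φ) := by
  have : Mono ((pushforward U.ι).map φ) := inferInstance
  exact pullback.fst_of_mono

/-- the restriction of the unit is an isomorphism -/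
instance isIso_restrict_unit :
    IsIso ((restrictFunctor U.ι).map ((restrictAdjunction U.ι).unit.app F)) := by
  have h := (restrictAdjunction U.ι).left_triangle_components F
  have : IsIso ((restrictAdjunction U.ι).counit.app ((restrictFunctor U.ι).obj F)) := inferInstance
  exact IsIso.of_isIso_fac_right h

instance isIso_restrict_extSnd : IsIso ((restrictFunctor U.ι).map (extSnd U F G φ)) := by
  have hP := IsPullback.of_hasPullback ((restrictAdjunction U.ι).unit.app F)
    ((pushforward U.ι).map φ)
  have hP' := hP.map (restrictFunctor U.ι)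
  exact hP'.isIso_snd_of_isIso

/-- `(F ×_{j_* j^* F} j_* G)|_U ≅ G` -/
noncomputable def extIso : (restrictFunctor U.ι).obj (ext U F G φ) ≅ G :=
  asIso ((restrictFunctor U.ι).map (extSnd U F G φ)) ≪≫
    asIso ((restrictAdjunction U.ι).counit.app G)

theorem extIso_hom_comp :
    (extIso U F G φ).hom ≫ φ = (restrictFunctor U.ι).map (extFst U F G φ) := by
  have h1 : (restrictAdjunction U.ι).counit.app G ≫ φ =
      (restrictFunctor U.ι).map ((pushforward U.ι).map φ) ≫
        (restrictAdjunction U.ι).counit.app ((restrictFunctor U.ι).obj F) :=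
    ((restrictAdjunction U.ι).counit.naturality φ).symm
  have h2 := (restrictAdjunction U.ι).left_triangle_components F
  have h3 := congrArg (fun k => (restrictFunctor U.ι).map k) (ext_condition U F G φ)
  simp only [Functor.map_comp] at h3
  change ((restrictFunctor U.ι).map (extSnd U F G φ) ≫ (restrictAdjunction U.ι).counit.app G) ≫ φ = _
  rw [Category.assoc, h1, ← Category.assoc, ← h3, Category.assoc, h2, Category.comp_id]

end Groth.Agent.Lib.QCoh.ExtendOpen
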