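import Groth.Agent.Lib.QCoh.Helper50_FPExtC
import Groth.Agent.Lib.QCoh.Helper50_ExtendOpen

/-!
# Extension of finitely presented modules on quasi-compact quasi-separated schemes (helper50)

ns `Groth.Agent.Lib.QCoh.FPExt`.
* `exists_step`: enlarge the locus of finite presentation by one affine open
* `exists_fp_approx`: `E` quasi-coherent on qcqs `X`, f.p. over the quasi-compact open `U` ⇒ a f.p. module `G'` with
  `ψ : G' ⟶ E` bijective on sections over affine opens of `U`
* `exists_fp_extension`: a f.p. module on `U` with a map to `F|_U` extends to a f.p. module on `X` with a map to `F`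
-/

set_option autoImplicit false
universe u
open CategoryTheory CategoryTheory.Limits AlgebraicGeometry Opposite TopologicalSpace

namespace Groth.Agent.Lib.QCoh.FPExt

open Scheme.Modules Groth.Agent.Lib.QCoh Groth.Agent.Lib.QCoh.ExtendOpen Groth.Agent.Lib.Cohomology

variable {X : Scheme.{u}}

lemma pullback_fst_app_bijective {M N S : X.Modules} (f : M ⟶ S) (g : N ⟶ S) (A : X.Opens)
    (hg : Function.Bijective (g.app A)) : Function.Bijective ((pullback.fst f g).app A) := by
  have hP := IsPullback.of_hasPullback f g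
  have hP' := hP.map (sectionsFunctor X A)
  have h1 : IsIso ((sectionsFunctor X A).map g) := (ConcreteCategory.isIso_iff_bijective _).2 hg
  have h2 : IsIso ((sectionsFunctor X A).map (pullback.fst f g)) := hP'.isIso_fst_of_isIso
  exact (ConcreteCategory.isIso_iff_bijective _).1 h2

lemma quasiCompact_ι_of_isCompact [QuasiSeparatedSpace X] (U : X.Opens) (hU : IsCompact (U : Set X)) :
    QuasiCompact U.ι := by
  constructor
  intro K hKo hK
  have h1 : IsCompact (K ∩ Set.range U.ι) := by
    rw [Scheme.Opens.range_ι]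
    exact QuasiSeparatedSpace.inter_isCompact K U hKo hK U.2 hU
  have := U.ι.isOpenEmbedding.isInducing.isCompact_preimage_iff (K := K ∩ Set.range U.ι)
    Set.inter_subset_right
  rw [Set.preimage_inter_range] at this
  exact this.mpr h1

lemma isFinitePresentation_of_iso {M N : X.Modules} (e : M ≅ N) [hM : M.IsFinitePresentation] :
    N.IsFinitePresentation := by
  obtain ⟨ι, W, hW, hG⟩ := (isFinitePresentation_iff_exists_isOpenCover M).1 hM
  exact isFinitePresentation_of_isOpenCover N W hW fun i =>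
    exists_presentation_of_iso ((restrictFunctor (W i).ι).mapIso e) (hG i)

/-- enlarge the locus of finite presentation by one affine open -/
theorem exists_step [QuasiSeparatedSpace X] (G : X.Modules) [G.IsQuasicoherent] (V : X.Opens)
    (hV : IsAffineOpen V) (W : X.Opens) (hW : IsCompact (W : Set X))
    (hFP : ∀ A : X.Opens, IsAffineOpen A → A ≤ W → Module.FinitePresentation Γ(X, A) Γ(G, A)) :
    ∃ (G' : X.Modules) (ψ : G' ⟶ G), G'.IsQuasicoherent ∧
      (∀ A : X.Opens, IsAffineOpen A → A ≤ W → Function.Bijective (ψ.app A)) ∧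
      (∀ A : X.Opens, IsAffineOpen A → A ≤ W ⊔ V →
        Module.FinitePresentation Γ(X, A) Γ(G', A)) := by
  have hVaff : IsAffine (V : Scheme.{u}) := hV
  have hqc : QuasiCompact V.ι := quasiCompact_ι_of_isCompact V hV.isCompact
  have hΩ : IsCompact ((V.ι ⁻¹ᵁ W : (V : Scheme.{u}).Opens) : Set (V : Scheme.{u})) :=
    QuasiCompact.isCompact_preimage (f := V.ι) _ W.isOpen hW
  have hGVq : (G.restrict V.ι).IsQuasicoherent := isQuasicoherent_restrict V.ι G
  have hFPV : ∀ A' : (V : Scheme.{u}).Opens, IsAffineOpen A' → A' ≤ V.ι ⁻¹ᵁ W →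
      Module.FinitePresentation Γ((V : Scheme.{u}), A') Γ(G.restrict V.ι, A') := by
    intro A' hA' hA'Ω
    rw [fp_restrict_iff]
    refine hFP _ (hA'.image_of_isOpenImmersion V.ι) ?_
    rintro _ ⟨a, ha, rfl⟩
    exact hA'Ω ha
  obtain ⟨N, ν, hNq, hNfp, hν⟩ := exists_fp_approx_of_isAffine (G.restrict V.ι) (V.ι ⁻¹ᵁ W) hΩ hFPV
  have hνall := bijective_of_forall_affine ν (V.ι ⁻¹ᵁ W) hν
  have hG'q : (ext V G N ν).IsQuasicoherent := isQuasicoherent_ext V G N ν
  -- bijectivity of `extFst` on opens inside `W`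
  have hψ : ∀ A : X.Opens, A ≤ W → Function.Bijective ((extFst V G N ν).app A) := by
    intro A hAW
    refine pullback_fst_app_bijective _ _ A ?_
    have := hνall (V.ι ⁻¹ᵁ A) (fun a ha => hAW ha)
    exact this
  -- sections over affine opens inside `V`
  have hfpV : ∀ D : X.Opens, IsAffineOpen D → D ≤ V →
      Module.FinitePresentation Γ(X, D) Γ(ext V G N ν, D) := by
    intro D hD hDV
    have hbij : Function.Bijective ((extSnd V G N ν).app D) :=
      bijective_of_isIso_restrict (extSnd V G N ν) V D hDV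
    have h1 : Module.FinitePresentation Γ((V : Scheme.{u}), V.ι ⁻¹ᵁ D) Γ(N, V.ι ⁻¹ᵁ D) :=
      finitePresentation_Γ_of_isAffineOpen (isAffineOpen_ι_preimage V hD hDV) N
    have hiso : IsIso (V.ι.app D) :=
      Scheme.Hom.isIso_app V.ι D (by rw [Scheme.Opens.opensRange_ι]; exact hDV)
    have h2 : Module.FinitePresentation Γ(X, D) Γ((pushforward V.ι).obj N, D) :=
      (@fp_iff_of_bijective Γ(X, D) Γ((V : Scheme.{u}), V.ι ⁻¹ᵁ D) Γ(N, V.ι ⁻¹ᵁ D) _ _ _
        (show Module Γ(X, D) Γ((pushforward V.ι).obj N, D) from inferInstance) _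
        (V.ι.app D).hom (fun _ _ => rfl) (ConcreteCategory.bijective_of_isIso (V.ι.app D))).2 h1
    exact Module.FinitePresentation.of_equiv
      (LinearEquiv.ofBijective (appLinear (extSnd V G N ν) D) hbij).symm
  refine ⟨ext V G N ν, extFst V G N ν, hG'q, fun A _ hAW => hψ A hAW, ?_⟩
  intro A hA hAWV
  refine fp_sections_of_cover _ hA fun x hx => ?_
  have hx' : x ∈ W ⊔ V := hAWV hx
  rcases hx' with hxW | hxV
  · obtain ⟨D, hD, hxD, hDle⟩ := exists_isAffineOpen_mem_and_subset (x := x) (U := W) hxW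
    have := hFP D hD hDle
    exact ⟨D, hD, hxD, Module.FinitePresentation.of_equiv
      (LinearEquiv.ofBijective (appLinear (extFst V G N ν) D) (hψ D hDle)).symm⟩
  · obtain ⟨D, hD, hxD, hDle⟩ := exists_isAffineOpen_mem_and_subset (x := x) (U := V) hxV
    exact ⟨D, hD, hxD, hfpV D hD hDle⟩

end Groth.Agent.Lib.QCoh.FPExt
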