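import Groth.Agent.Lib.QCoh.Helper18_AssNoeth
import Groth.Agent.Lib.QCoh.Helper18_IntegralSpec

/-!
# Associated points and restriction to opens (helper18)

* `section_eq_zero_of_res_inf_eq_zero_of_weakAss` : if `U` contains all weakly associated points
  of the q-coh module `F`, a section over any open `W` vanishing on `W ⊓ U` is zero.
* `exists_section_ne_zero_res_eq_zero_of_isAssPoint` : `X` locally Noetherian, `F` q-coh, `x` an
  associated point of `F` outside the open `U`, `V` an affine open nbhd of `x`: there is a nonzero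
  section of `F` over `V` vanishing on `V ⊓ U`.
-/

universe u

open CategoryTheory CategoryTheory.Limits AlgebraicGeometry Opposite TopologicalSpace
open Groth.Agent.Lib.Helper18

namespace Groth.Agent.Lib.QCoh

variable {X : Scheme.{u}}

theorem section_eq_zero_of_res_inf_eq_zero_of_weakAss (F : X.Modules) [F.IsQuasicoherent]
    (U : X.Opens) (hU : ∀ x : X, Curv2.IsWeakAssPoint F x → x ∈ U) (W : X.Opens)
    (s : Γ(F, W)) (hs : F.presheaf.map (homOfLE (inf_le_left : W ⊓ U ≤ W)).op s = 0) : s = 0 := by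
  apply section_eq_zero_of_germ_eq_zero
  intro x hxW
  by_contra hne
  obtain ⟨V, hV0, hxV, hVW⟩ := Opens.isBasis_iff_nbhd.1 (X.isBasis_affineOpens) hxW
  have hV : IsAffineOpen V := hV0
  set m : Γ(F, V) := F.presheaf.map (homOfLE hVW).op s with hm
  have hm0 : m ≠ 0 := by
    intro h0
    apply hne
    have := TopCat.Presheaf.germ_res_apply F.presheaf (homOfLE hVW) x hxV s
    rw [← this]
    change F.presheaf.germ V x hxV m = 0
    rw [h0, map_zero]
  obtain ⟨y, hyV, hy, hgerm⟩ := exists_isWeakAssPoint_of_section_ne_zero F hV m hm0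
  have hyU : y ∈ U := hU y hy
  have hyWU : y ∈ W ⊓ U := ⟨hVW hyV, hyU⟩
  apply hgerm
  have e1 : F.presheaf.germ V y hyV m = F.presheaf.germ W y (hVW hyV) s :=
    TopCat.Presheaf.germ_res_apply F.presheaf (homOfLE hVW) y hyV s
  have e2 : F.presheaf.germ (W ⊓ U) y hyWU
      (F.presheaf.map (homOfLE (inf_le_left : W ⊓ U ≤ W)).op s) =
      F.presheaf.germ W y (hVW hyV) s :=
    TopCat.Presheaf.germ_res_apply F.presheaf (homOfLE inf_le_left) y hyWU s
  rw [e1, ← e2, hs, map_zero]

theorem exists_section_ne_zero_res_eq_zero_of_isAssPoint [IsLocallyNoetherian X] (F : X.Modules)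
    [F.IsQuasicoherent] (U : X.Opens) (x : X) (hx : Curv2.IsAssPoint F x) (hxU : x ∉ U)
    {V : X.Opens} (hV : IsAffineOpen V) (hxV : x ∈ V) :
    ∃ m : Γ(F, V), m ≠ 0 ∧ F.presheaf.map (homOfLE (inf_le_left : V ⊓ U ≤ V)).op m = 0 := by
  have hN : IsNoetherianRing Γ(X, V) := IsLocallyNoetherian.component_noetherian ⟨V, hV⟩
  have hmem := (isAssPoint_iff_mem_associatedPrimes F hV x hxV).1 hx
  obtain ⟨hprime, m, hm⟩ := hmem
  rw [← WeakAss.ann_eq_colon] at hm
  refine ⟨m, ?_, ?_⟩
  · intro h0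
    have : WeakAss.ann Γ(X, V) m = ⊤ := by
      rw [h0]; ext r; simp
    rw [this, Ideal.radical_top] at hm
    exact hprime.ne_top hm
  · apply section_eq_zero_of_germ_eq_zero
    intro y hy
    have hyV : y ∈ V := hy.1
    have hyU : y ∈ U := hy.2
    rw [TopCat.Presheaf.germ_res_apply F.presheaf (homOfLE inf_le_left) y hy m]
    rw [germ_eq_zero_iff_of_isAffineOpen F hV y hyV]
    -- `p_x ⊄ p_y`
    have hnle : ¬ (hV.primeIdealOf ⟨x, hxV⟩ ≤ hV.primeIdealOf ⟨y, hyV⟩) := by
      intro hle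
      have hspec : x ⤳ y := (specializes_iff_primeIdealOf_le hV hyV hxV).2 hle
      exact hxU (hspec.mem_open U.isOpen hyU)
    have hnle' : ¬ ((hV.primeIdealOf ⟨x, hxV⟩).asIdeal ≤ (hV.primeIdealOf ⟨y, hyV⟩).asIdeal) :=
      hnle
    obtain ⟨t, htx, hty⟩ := SetLike.not_le_iff_exists.1 hnle'
    have htx' : t ∈ (WeakAss.ann Γ(X, V) m).radical := hm ▸ htx
    obtain ⟨n, hn⟩ := htx'
    refine ⟨t ^ n, ?_, WeakAss.mem_ann.1 hn⟩
    intro h
    exact hty ((hV.primeIdealOf ⟨y, hyV⟩).isPrime.mem_of_pow_mem n h)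

end Groth.Agent.Lib.QCoh
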