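import Groth.Agent.Lib.QCoh.Invertible
import Groth.Agent.Lib.QCoh.Helper18_AssOpen
import Mathlib.RingTheory.Ideal.MinimalPrime.Noetherian

/-!
# Weakly associated points of the structure sheaf (helper18)

* `isQuasicoherent_structureModule'` : `O_X` is quasi-coherent (as a `theorem`).
* `isWeakAssPoint_structureModule_iff` : for `V` affine, `x ∈ V`: `x` weakly associated to `O_X` iff
  `p_x` is minimal over `ann a` for some `a ∈ Γ(X,V)`.
* `isWeakAssPoint_structureModule_of_minimalPrimes` : generic points of irreducible components of an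
  affine open are weakly associated to `O_X`.
* `exists_notMem_forall_mem_of_mem_minimalPrimes` : Noetherian `A`, `q` minimal prime: there is
  `a ∉ q` lying in all other minimal primes.
* `mem_of_dense_of_minimalPrime` : `X` loc. Noetherian, `U` dense open, `x ∈ V` affine with `p_x` a
  minimal prime of `Γ(X,V)` ⇒ `x ∈ U`.
* `fn_eq_zero_of_res_inf_eq_zero` : if `U` contains the weakly associated points of `O_X` then
  a function on `W` vanishing on `W ⊓ U` is zero.
-/

universe u

open CategoryTheory CategoryTheory.Limits AlgebraicGeometry Opposite TopologicalSpace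
open Groth.Agent.Lib.Helper18

namespace Groth.Agent.Lib.QCoh

variable {X : Scheme.{u}}

theorem isQuasicoherent_structureModule' (X : Scheme.{u}) :
    (Coh.structureModule X).IsQuasicoherent :=
  (exists_presentation_structureModule X).choose.isQuasicoherent

lemma ann_structureModule (V : X.Opens) (a : Γ(X, V)) :
    WeakAss.ann Γ(X, V) (show Γ(Coh.structureModule X, V) from a) = WeakAss.ann Γ(X, V) a := by
  ext r
  rw [WeakAss.mem_ann, WeakAss.mem_ann]
  rfl

theorem isWeakAssPoint_structureModule_iff {V : X.Opens} (hV : IsAffineOpen V) (x : X)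
    (hx : x ∈ V) :
    Curv2.IsWeakAssPoint (Coh.structureModule X) x ↔
      ∃ a : Γ(X, V), (hV.primeIdealOf ⟨x, hx⟩).asIdeal ∈ (WeakAss.ann Γ(X, V) a).minimalPrimes := by
  have := isQuasicoherent_structureModule' X
  rw [isWeakAssPoint_iff_of_isAffineOpen (Coh.structureModule X) hV x hx]
  constructor
  · rintro ⟨m, hm⟩
    refine ⟨m, ?_⟩
    rw [← ann_structureModule V m]
    exact hm
  · rintro ⟨a, ha⟩
    refine ⟨a, ?_⟩
    rw [ann_structureModule V a]
    exact ha

theorem isWeakAssPoint_structureModule_of_minimalPrimes {V : X.Opens} (hV : IsAffineOpen V)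
    (x : X) (hx : x ∈ V) (hmin : (hV.primeIdealOf ⟨x, hx⟩).asIdeal ∈ minimalPrimes Γ(X, V)) :
    Curv2.IsWeakAssPoint (Coh.structureModule X) x := by
  rw [isWeakAssPoint_structureModule_iff hV x hx]
  refine ⟨1, ?_⟩
  have : WeakAss.ann Γ(X, V) (1 : Γ(X, V)) = ⊥ := by
    ext r
    rw [WeakAss.mem_ann]
    simp
  rw [this]
  exact hmin

theorem exists_notMem_forall_mem_of_mem_minimalPrimes {A : Type*} [CommRing A]
    [IsNoetherianRing A] (q : Ideal A) (hq : q ∈ minimalPrimes A) :
    ∃ a : A, a ∉ q ∧ ∀ q' ∈ minimalPrimes A, q' ≠ q → a ∈ q' := by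
  classical
  have hfin : (minimalPrimes A).Finite := minimalPrimes.finite_of_isNoetherianRing A
  let s : Finset (Ideal A) := hfin.toFinset.erase q
  have hqprime : q.IsPrime := hq.1.1
  by_contra hcon
  push Not at hcon
  have hle : s.inf id ≤ q := by
    intro a ha
    by_contra haq
    obtain ⟨q', hq', hne, haq'⟩ := hcon a haq
    apply haq'
    have hmem : q' ∈ s := Finset.mem_erase.2 ⟨hne, hfin.mem_toFinset.2 hq'⟩
    exact (Finset.inf_le hmem : s.inf id ≤ id q') ha
  obtain ⟨q', hq's, hq'q⟩ := (hqprime.inf_le' (s := s) (f := id)).1 hle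
  have h1 := Finset.mem_erase.1 hq's
  have hq'min : q' ∈ minimalPrimes A := hfin.mem_toFinset.1 h1.2
  have : q ≤ q' := hq.2 hq'min.1 hq'q
  exact h1.1 (le_antisymm hq'q this)

theorem mem_of_dense_of_minimalPrime [IsLocallyNoetherian X] (U : X.Opens)
    (hU : Dense (U : Set X)) {V : X.Opens} (hV : IsAffineOpen V) (x : X) (hx : x ∈ V)
    (hmin : (hV.primeIdealOf ⟨x, hx⟩).asIdeal ∈ minimalPrimes Γ(X, V)) : x ∈ U := by
  have hN : IsNoetherianRing Γ(X, V) := IsLocallyNoetherian.component_noetherian ⟨V, hV⟩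
  obtain ⟨a, haq, ha⟩ := exists_notMem_forall_mem_of_mem_minimalPrimes _ hmin
  have hxD : x ∈ X.basicOpen a := (notMem_primeIdealOf_iff hV x hx a).1 haq
  obtain ⟨y, hyD, hyU⟩ := hU.inter_open_nonempty (X.basicOpen a : Set X) (X.basicOpen a).isOpen
    ⟨x, hxD⟩
  have hyV : y ∈ V := X.basicOpen_le a hyD
  have hay : a ∉ (hV.primeIdealOf ⟨y, hyV⟩).asIdeal := (notMem_primeIdealOf_iff hV y hyV a).2 hyD
  obtain ⟨q', hq'min, hq'le⟩ := Ideal.exists_minimalPrimes_le
    (bot_le : (⊥ : Ideal Γ(X, V)) ≤ (hV.primeIdealOf ⟨y, hyV⟩).asIdeal)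
  have hq'eq : q' = (hV.primeIdealOf ⟨x, hx⟩).asIdeal := by
    by_contra hne
    exact hay (hq'le (ha q' hq'min hne))
  have hle : hV.primeIdealOf ⟨x, hx⟩ ≤ hV.primeIdealOf ⟨y, hyV⟩ := by
    change (hV.primeIdealOf ⟨x, hx⟩).asIdeal ≤ (hV.primeIdealOf ⟨y, hyV⟩).asIdeal
    rw [← hq'eq]
    exact hq'le
  have hspec : x ⤳ y := (specializes_iff_primeIdealOf_le hV hyV hx).2 hle
  exact hspec.mem_open U.isOpen hyU

theorem fn_eq_zero_of_res_inf_eq_zero (U : X.Opens)
    (hU : ∀ x : X, Curv2.IsWeakAssPoint (Coh.structureModule X) x → x ∈ U) (W : X.Opens)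
    (a : Γ(X, W)) (ha : X.presheaf.map (homOfLE (inf_le_left : W ⊓ U ≤ W)).op a = 0) : a = 0 := by
  have := isQuasicoherent_structureModule' X
  exact section_eq_zero_of_res_inf_eq_zero_of_weakAss (Coh.structureModule X) U hU W
    (show Γ(Coh.structureModule X, W) from a) ha

end Groth.Agent.Lib.QCoh
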