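import Groth.Agent.Lib.QCoh.Helper74_LocFreeBasis
import Groth.Agent.Lib.QCoh.Helper74_LocFreeBiprod

/-!
# QCoh API (helper74): split epimorphisms and ranks

* `ΓisoLinearEquiv e V : Γ(M,V) ≃ₗ Γ(N,V)` for an iso `e : M ≅ N`.
* `isFinLocFreeOfRank_of_biprod_left` : rank is subtractive on biproducts.
* `biprodKernelIsoOfSplit τ σ h : B ⊞ ker τ ≅ A` for a split epi `τ : A ⟶ B` with section `σ`.
-/

universe u
open CategoryTheory CategoryTheory.Limits AlgebraicGeometry Opposite TopologicalSpace
namespace Groth.Agent.Lib.QCoh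
open Scheme.Modules FlatMod
variable {X : Scheme.{u}}

/-- Sections of isomorphic modules. -/
noncomputable def ΓisoLinearEquiv {M N : X.Modules} (e : M ≅ N) (V : X.Opens) :
    Γ(M, V) ≃ₗ[Γ(X, V)] Γ(N, V) :=
  { appLinear e.hom V with
    invFun := appLinear e.inv V
    left_inv := fun s => by
      have h := congrArg (fun φ : M ⟶ M => φ.app V s) e.hom_inv_id
      exact h
    right_inv := fun s => by
      have h := congrArg (fun φ : N ⟶ N => φ.app V s) e.inv_hom_id
      exact h }

/-- If `M` has rank `a`, `M ⊞ N` has rank `c` and `N` is finite locally free, `N` has rank `c - a`. -/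
theorem isFinLocFreeOfRank_of_biprod_left {M N : X.Modules} {a c : ℕ} (hM : IsFinLocFreeOfRank a M)
    (hN : IsFinLocFree N) (hMN : IsFinLocFreeOfRank c (M ⊞ N)) : IsFinLocFreeOfRank (c - a) N := by
  have hM' := isFinLocFree_of_isFinLocFreeOfRank hM
  rw [isFinLocFreeOfRank_iff_rankAtStalk hN]
  intro V hV p
  obtain ⟨_, _⟩ := finite_projective_Γ_of_isAffineOpen hM' hV
  obtain ⟨_, _⟩ := finite_projective_Γ_of_isAffineOpen hN hV
  have h1 := rankAtStalk_Γ_of_isFinLocFreeOfRank hMN hV p
  rw [congrFun (Module.rankAtStalk_eq_of_equiv (ΓbiprodLinearEquiv M N V)) p,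
    Module.rankAtStalk_prod, Pi.add_apply, rankAtStalk_Γ_of_isFinLocFreeOfRank hM hV] at h1
  omega

/-- Splitting: a split epimorphism `τ : A ⟶ B` with section `σ` gives `B ⊞ ker τ ≅ A`. -/
noncomputable def biprodKernelIsoOfSplit {A B : X.Modules} (τ : A ⟶ B) (σ : B ⟶ A)
    (h : σ ≫ τ = 𝟙 B) : B ⊞ kernel τ ≅ A where
  hom := biprod.desc σ (kernel.ι τ)
  inv := biprod.lift τ (kernel.lift τ (𝟙 A - τ ≫ σ) (by
    rw [Preadditive.sub_comp, Category.id_comp, Category.assoc, h, Category.comp_id, sub_self]))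
  hom_inv_id := by
    apply biprod.hom_ext
    · apply biprod.hom_ext'
      · simp [h]
      · simp
    · apply biprod.hom_ext'
      · rw [← cancel_mono (kernel.ι τ)]
        simp [reassoc_of% h]
      · rw [← cancel_mono (kernel.ι τ)]
        simp
  inv_hom_id := by
    rw [biprod.lift_desc, kernel.lift_ι]
    abel

end Groth.Agent.Lib.QCoh
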