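import Groth.Agent.Lib.QCoh.Helper18_Hartogs
import Groth.Agent.Lib.QCoh.Helper18_StalkLoc
import Groth.Agent.Lib.QCoh.Helper18_PullbackSupport
import Groth.Agent.Lib.QCoh.AffineOpen
import Groth.Agent.Lib.Helper49.DepthLoc
import Groth.Agent.Lib.QCoh.Helper18_StructureAss

/-!
# Hartogs extension under a depth condition (helper18)

Namespace `Groth.Agent.Lib.QCoh.Hartogs`.

* `exists_regular_pair_of_two_le_idealDepth` : `depth_I M ≥ 2` gives `x, y ∈ I` with `x` regular on
  `M` and `y` regular on `M/xM` (element-wise form).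
* `depth_eq_depth_localizedModule` : abstract transport of depth along "localization at `p`".
* `depth_stalk_eq` : `depth_{O_{X,x}} F_x = depth_{A_p} M_p` for `x` in an affine open `V`,
  `A = Γ(X,V)`, `M = Γ(F,V)`.
-/

set_option autoImplicit false
universe u

open AlgebraicGeometry CategoryTheory Opposite TopologicalSpace RingTheory.Sequence

namespace Groth.Agent.Lib.QCoh.Hartogs

open Scheme.Modules Groth.Agent.Lib.QCoh

section Algebra

/-- From `depth_I M ≥ 2`: a weakly regular pair in `I`, in element-wise form. -/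
theorem exists_regular_pair_of_two_le_idealDepth {A : Type u} [CommRing A] (I : Ideal A)
    (M : Type u) [AddCommGroup M] [Module A M] [Module.Finite A M]
    (h : (2 : ℕ∞) ≤ LocCoh.idealDepth I M) :
    ∃ x ∈ I, ∃ y ∈ I, (∀ m : M, x • m = 0 → m = 0) ∧
      (∀ m m' : M, y • m = x • m' → ∃ m'' : M, m = x • m'') := by
  unfold LocCoh.idealDepth at h
  split_ifs at h with hIM
  · obtain ⟨r, hr, hr0⟩ := Submodule.exists_sub_one_mem_and_smul_eq_zero_of_fg_of_le_smul I
      (⊤ : Submodule A M) Module.Finite.fg_top (by rw [hIM])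
    have hx : (1 - r) ∈ I := by
      have := I.neg_mem hr
      simpa using this
    have hact : ∀ m : M, (1 - r) • m = m := fun m => by
      rw [sub_smul, one_smul, hr0 m trivial, sub_zero]
    exact ⟨1 - r, hx, 1 - r, hx, fun m hm => by rwa [hact] at hm, fun m _ _ => ⟨m, (hact m).symm⟩⟩
  · obtain ⟨rs, hrs, hlen⟩ : ∃ rs : List A, (IsWeaklyRegular M rs ∧ ∀ r ∈ rs, r ∈ I) ∧
        2 ≤ rs.length := by
      by_contra hcon
      push Not at hcon
      have : (⨆ (rs : List A) (_ : IsWeaklyRegular M rs ∧ ∀ r ∈ rs, r ∈ I),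
          (rs.length : ℕ∞)) ≤ 1 := by
        refine iSup₂_le fun rs hrs => ?_
        have := hcon rs hrs
        have h1 : rs.length ≤ 1 := by omega
        exact_mod_cast h1
      have h2 : (2 : ℕ∞) ≤ 1 := h.trans this
      exact absurd h2 (by decide)
    match rs, hrs, hlen with
    | x :: y :: rest, ⟨hreg, hmem⟩, _ =>
      rw [isWeaklyRegular_cons_iff] at hreg
      obtain ⟨hx, hreg'⟩ := hreg
      rw [isWeaklyRegular_cons_iff] at hreg'
      obtain ⟨hy, -⟩ := hreg'
      refine ⟨x, hmem x (by simp), y, hmem y (by simp), ?_, ?_⟩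
      · intro m hm
        apply hx
        simpa using hm
      · intro m m' hmm'
        have h0 : (Submodule.Quotient.mk m : QuotSMulTop x M) = 0 := by
          apply hy
          change y • (Submodule.Quotient.mk m : QuotSMulTop x M) = y • 0
          rw [smul_zero, ← Submodule.Quotient.mk_smul, hmm', Submodule.Quotient.mk_eq_zero]
          exact Submodule.smul_mem_pointwise_smul m' x ⊤ trivial
        rw [Submodule.Quotient.mk_eq_zero] at h0
        obtain ⟨m'', -, hm''⟩ := (Submodule.mem_smul_pointwise_iff_exists _ _ _).1 h0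
        exact ⟨m'', hm''.symm⟩

open Groth.Agent.Lib.Helper29.CMLib Groth.Agent.Lib.Helper29.DepthFinite in
/-- Depth transport: `R` a (Noetherian) local ring which is the localization of `A` at `p`, and `N`
an `R`-module which as an `A`-module is the localization of `M` at `p`.  Then
`depth_R N = depth_{A_p} M_p`. -/
theorem depth_eq_depth_localizedModule {A : Type u} [CommRing A] [IsNoetherianRing A]
    (p : Ideal A) [p.IsPrime]
    (R : Type u) [CommRing R] [IsLocalRing R] [IsNoetherianRing R] [Algebra A R]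
    [IsLocalization.AtPrime R p]
    (M : Type u) [AddCommGroup M] [Module A M]
    (N : Type u) [AddCommGroup N] [Module A N] [Module R N] [IsScalarTower A R N]
    [Module.Finite R N] (f : M →ₗ[A] N) [IsLocalizedModule p.primeCompl f] :
    LocCoh.depth R N =
      LocCoh.depth (Localization.AtPrime p) (LocalizedModule p.primeCompl M) := by
  let σ : R ≃ₐ[A] Localization.AtPrime p :=
    IsLocalization.algEquiv p.primeCompl R (Localization.AtPrime p)
  let _ : Algebra R (Localization.AtPrime p) := (σ : R →+* Localization.AtPrime p).toAlgebra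
  have halg : ∀ r, algebraMap R (Localization.AtPrime p) r = σ r := fun _ => rfl
  have : IsLocalHom (algebraMap R (Localization.AtPrime p)) := ⟨fun a ha => by
    rw [halg] at ha
    exact (MulEquiv.isUnit_map σ.toMulEquiv).mp ha⟩
  let _ : Module R (LocalizedModule p.primeCompl M) :=
    Module.compHom _ (algebraMap R (Localization.AtPrime p))
  have : IsScalarTower R (Localization.AtPrime p) (LocalizedModule p.primeCompl M) :=
    ⟨fun r a m => by
      change (σ r * a) • m = σ r • (a • m)
      rw [mul_smul]⟩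
  have : IsScalarTower A R (LocalizedModule p.primeCompl M) :=
    IsScalarTower.of_algebraMap_smul (fun a m => by
      change σ (algebraMap A R a) • m = a • m
      rw [σ.commutes, algebraMap_smul])
  let e₀ : N ≃ₗ[A] LocalizedModule p.primeCompl M := (IsLocalizedModule.iso p.primeCompl f).symm
  let e₁ : N ≃ₗ[R] LocalizedModule p.primeCompl M :=
    e₀.extendScalarsOfIsLocalization p.primeCompl R
  have : Module.Finite R (LocalizedModule p.primeCompl M) := Module.Finite.equiv e₁
  rw [depth_congr e₁]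
  exact depth_eq_of_isLocalHom R (Localization.AtPrime p) (LocalizedModule p.primeCompl M)

end Algebra


section Scheme

variable {X : Scheme.{u}}

/-- `depth_{O_{X,x}} F_x = depth_{A_p} M_p` for `x` in an affine open `V`, `A = Γ(X,V)`,
`M = Γ(F,V)`, `p` the prime of `x`. -/
theorem depth_stalk_eq [IsLocallyNoetherian X] (F : X.Modules) [F.IsQuasicoherent]
    [F.IsFiniteType] {V : X.Opens} (hV : IsAffineOpen V) (x : X) (hx : x ∈ V) :
    LocCoh.depth (X.presheaf.stalk x) (F.presheaf.stalk x) =
      LocCoh.depth (Localization.AtPrime (hV.primeIdealOf ⟨x, hx⟩).asIdeal)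
        (LocalizedModule (hV.primeIdealOf ⟨x, hx⟩).asIdeal.primeCompl Γ(F, V)) := by
  let _ := stalkModuleOfOpen F V x hx
  let _ : Algebra Γ(X, V) (X.presheaf.stalk x) := X.presheaf.algebra_section_stalk ⟨x, hx⟩
  have := hV.isLocalization_stalk ⟨x, hx⟩
  have : IsNoetherianRing Γ(X, V) := IsLocallyNoetherian.component_noetherian ⟨V, hV⟩
  have : IsScalarTower Γ(X, V) (X.presheaf.stalk x) (F.presheaf.stalk x) :=
    IsScalarTower.of_algebraMap_smul fun a n => rfl
  have := finite_stalk F x
  have := isLocalizedModule_germ F hV x hx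
  exact depth_eq_depth_localizedModule _ (X.presheaf.stalk x) Γ(F, V) (F.presheaf.stalk x)
    (germₗ F V x hx)


open Groth.Agent.Lib.Helper49.Serre in
/-- Hartogs extension on an affine open `V`, with the depth condition expressed on the
localizations of `Γ(F,V)` at the primes of `Γ(X,V)` whose points lie outside `U`. -/
theorem bijective_res_inf_of_isAffineOpen_of_localDepth (F : X.Modules)
    [F.IsQuasicoherent] (U : X.Opens) {V : X.Opens} (hV : IsAffineOpen V)
    [IsNoetherianRing Γ(X, V)] [Module.Finite Γ(X, V) Γ(F, V)]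
    (hloc : ∀ y : PrimeSpectrum Γ(X, V), hV.fromSpec y ∉ U →
      ((2 : ℕ) : ℕ∞) ≤ LocCoh.depth (Localization.AtPrime y.asIdeal)
        (LocalizedModule y.asIdeal.primeCompl Γ(F, V))) :
    Function.Bijective (F.presheaf.map (homOfLE (inf_le_left : V ⊓ U ≤ V)).op) := by
  set Z : Set (PrimeSpectrum Γ(X, V)) := {y | hV.fromSpec y ∉ U} with hZ
  have hZc : IsClosed Z := by
    have : Z = (hV.fromSpec ⁻¹ᵁ U : Set (Spec Γ(X, V)))ᶜ := by
      ext y; rfl
    rw [this]
    exact (hV.fromSpec ⁻¹ᵁ U).2.isClosed_compl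
  set I : Ideal Γ(X, V) := PrimeSpectrum.vanishingIdeal Z with hI
  have hloc' : ∀ (p : Ideal Γ(X, V)) [p.IsPrime], I ≤ p →
      ((2 : ℕ) : ℕ∞) ≤ LocCoh.depth (Localization.AtPrime p)
        (LocalizedModule p.primeCompl Γ(F, V)) := by
    intro p hp hIp
    have hpZ : (⟨p, hp⟩ : PrimeSpectrum Γ(X, V)) ∈ Z := by
      rw [← hZc.closure_eq, ← PrimeSpectrum.zeroLocus_vanishingIdeal_eq_closure]
      exact hIp
    exact hloc ⟨p, hp⟩ hpZ
  have h2 : ((2 : ℕ) : ℕ∞) ≤ LocCoh.idealDepth I Γ(F, V) :=
    (le_idealDepth_iff 2 Γ(F, V) I).2 hloc'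
  obtain ⟨x, hxI, y, hyI, h1, h2'⟩ := exists_regular_pair_of_two_le_idealDepth I Γ(F, V) h2
  have hbasic : ∀ f ∈ I, X.basicOpen f ≤ V ⊓ U := by
    intro f hf w hw
    have hwV : w ∈ V := X.basicOpen_le f hw
    refine ⟨hwV, ?_⟩
    by_contra hwU
    set yw := hV.primeIdealOf ⟨w, hwV⟩ with hyw
    have e : hV.fromSpec yw = w := hV.fromSpec_primeIdealOf ⟨w, hwV⟩
    have hywZ : yw ∈ Z := by
      change hV.fromSpec yw ∉ U
      rw [e]; exact hwU
    have h3 : f ∈ yw.asIdeal := (PrimeSpectrum.mem_vanishingIdeal Z f).1 hf yw hywZ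
    have h4 : yw ∈ hV.fromSpec ⁻¹ᵁ X.basicOpen f := by
      change hV.fromSpec yw ∈ X.basicOpen f
      rw [e]; exact hw
    rw [hV.fromSpec_preimage_basicOpen] at h4
    exact h4 h3
  exact bijective_res_of_regular_pair F hV x y h1 h2' inf_le_left (hbasic x hxI) (hbasic y hyI)

lemma fromSpec_mem (V : X.Opens) (hV : IsAffineOpen V) (y : PrimeSpectrum Γ(X, V)) :
    hV.fromSpec y ∈ V := by
  have : hV.fromSpec y ∈ Set.range hV.fromSpec := ⟨y, rfl⟩
  rw [hV.range_fromSpec] at this
  exact this

/-- **Hartogs extension on an affine open**: `X` locally Noetherian, `F` coherent, `U` open with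
`depth F_x ≥ 2` for all `x ∉ U`; then for `V` affine open, `Γ(F,V) → Γ(F,V ∩ U)` is bijective. -/
theorem bijective_res_inf_of_isAffineOpen [IsLocallyNoetherian X] (F : X.Modules)
    [F.IsQuasicoherent] [F.IsFiniteType] (U : X.Opens)
    (hdepth : ∀ x : X, x ∉ U →
      (2 : ℕ∞) ≤ LocCoh.depth (X.presheaf.stalk x) (F.presheaf.stalk x))
    {V : X.Opens} (hV : IsAffineOpen V) :
    Function.Bijective (F.presheaf.map (homOfLE (inf_le_left : V ⊓ U ≤ V)).op) := by
  have : IsNoetherianRing Γ(X, V) := IsLocallyNoetherian.component_noetherian ⟨V, hV⟩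
  have : Module.Finite Γ(X, V) Γ(F, V) := finite_Γ_of_isAffineOpen hV F
  apply bijective_res_inf_of_isAffineOpen_of_localDepth F U hV
  intro y hyU
  have key : ∀ (y : PrimeSpectrum Γ(X, V)) (x : X) (hx : x ∈ V), hV.primeIdealOf ⟨x, hx⟩ = y →
      x ∉ U → ((2 : ℕ) : ℕ∞) ≤ LocCoh.depth (Localization.AtPrime y.asIdeal)
        (LocalizedModule y.asIdeal.primeCompl Γ(F, V)) := by
    rintro _ x hx rfl hxU
    rw [← depth_stalk_eq F hV x hx]
    exact hdepth x hxU
  refine key y (hV.fromSpec y) (fromSpec_mem V hV y) ?_ hyU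
  apply hV.fromSpec.isOpenEmbedding.injective
  exact hV.fromSpec_primeIdealOf ⟨_, fromSpec_mem V hV y⟩

/-- **Hartogs extension for the structure sheaf on an affine open** (as a statement about the
structure module). -/
theorem bijective_res_inf_structureModule_of_isAffineOpen [IsLocallyNoetherian X] (U : X.Opens)
    (hdepth : ∀ x : X, x ∉ U →
      (2 : ℕ∞) ≤ LocCoh.depth (X.presheaf.stalk x) (X.presheaf.stalk x))
    {V : X.Opens} (hV : IsAffineOpen V) :
    Function.Bijective
      ((Coh.structureModule X).presheaf.map (homOfLE (inf_le_left : V ⊓ U ≤ V)).op) := by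
  have : IsNoetherianRing Γ(X, V) := IsLocallyNoetherian.component_noetherian ⟨V, hV⟩
  have : (Coh.structureModule X).IsQuasicoherent := isQuasicoherent_structureModule' X
  have : Module.Finite Γ(X, V) Γ(Coh.structureModule X, V) :=
    (inferInstance : Module.Finite Γ(X, V) Γ(X, V))
  apply bijective_res_inf_of_isAffineOpen_of_localDepth (Coh.structureModule X) U hV
  intro y hyU
  let _ : Algebra Γ(X, V) (X.presheaf.stalk (hV.fromSpec y)) :=
    X.presheaf.algebra_section_stalk ⟨hV.fromSpec y, fromSpec_mem V hV y⟩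
  have : IsLocalization.AtPrime (X.presheaf.stalk (hV.fromSpec y)) y.asIdeal :=
    hV.isLocalization_stalk' y (fromSpec_mem V hV y)
  have h1 := depth_eq_depth_localizedModule y.asIdeal (X.presheaf.stalk (hV.fromSpec y))
    Γ(X, V) (X.presheaf.stalk (hV.fromSpec y))
    (Algebra.linearMap Γ(X, V) (X.presheaf.stalk (hV.fromSpec y)))
  have h2 := hdepth _ hyU
  rw [h1] at h2
  exact h2

/-- **Hartogs extension for the structure sheaf**: `X` locally Noetherian, `U` open with
`depth O_{X,x} ≥ 2` for all `x ∉ U`; then `Γ(X,V) → Γ(X,V ∩ U)` is bijective for every open `V`. -/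
theorem bijective_res_inf_structureSheaf [IsLocallyNoetherian X] (U : X.Opens)
    (hdepth : ∀ x : X, x ∉ U →
      (2 : ℕ∞) ≤ LocCoh.depth (X.presheaf.stalk x) (X.presheaf.stalk x)) (V : X.Opens) :
    Function.Bijective (X.presheaf.map (homOfLE (inf_le_left : V ⊓ U ≤ V)).op) :=
  bijective_res_inf_of_forall_isAffineOpen (Coh.structureModule X) U
    (fun _ hV => bijective_res_inf_structureModule_of_isAffineOpen U hdepth hV) V

/-- Variant: restriction `Γ(X,⊤) → Γ(X,U)` is bijective. -/
theorem bijective_res_top_structureSheaf [IsLocallyNoetherian X] (U : X.Opens)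
    (hdepth : ∀ x : X, x ∉ U →
      (2 : ℕ∞) ≤ LocCoh.depth (X.presheaf.stalk x) (X.presheaf.stalk x)) :
    Function.Bijective (X.presheaf.map (homOfLE (le_top : U ≤ ⊤)).op) := by
  have key : ∀ (W : X.Opens) (e : W = ⊤ ⊓ U),
      Function.Bijective (X.presheaf.map (homOfLE (le_top : W ≤ ⊤)).op) := by
    rintro W rfl
    exact bijective_res_inf_structureSheaf U hdepth ⊤
  exact key U (by simp)

end Scheme

end Groth.Agent.Lib.QCoh.Hartogs
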