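import Groth.Agent.Lib.QCoh.Helper74_LocFree
import Groth.Agent.Lib.QCoh.Helper18_StalkLoc

/-!
# QCoh API, part Q5b (helper74): stalks of finite locally free modules, flatness dictionary

Namespace `Groth.Agent.Lib.QCoh`.  Uses helper18's `isLocalizedModule_germ`.
-/

universe u

open CategoryTheory CategoryTheory.Limits AlgebraicGeometry Opposite TopologicalSpace

namespace Groth.Agent.Lib.QCoh

open Scheme.Modules FlatMod

variable {X : Scheme.{u}}

section Stalk

variable (F : X.Modules) {U : X.Opens} (hU : IsAffineOpen U) (x : X) (hx : x ∈ U)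

/-- The `Γ(X,U)`-module structure on `F_x` is the restriction of the `O_{X,x}`-module structure. -/
private theorem isScalarTower_stalk :
    letI := stalkModuleOfOpen F U x hx
    letI := X.presheaf.algebra_section_stalk ⟨x, hx⟩
    IsScalarTower Γ(X, U) (X.presheaf.stalk x) (F.presheaf.stalk x) :=
  letI := stalkModuleOfOpen F U x hx
  letI := X.presheaf.algebra_section_stalk ⟨x, hx⟩
  .of_algebraMap_smul fun _ _ => rfl

include hU hx in
/-- If `Γ(F, U)` is flat over `Γ(X, U)` (`U` affine, `F` quasi-coherent), `F` is flat at the points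
of `U`. -/
theorem isFlatAt_of_flat_Γ [F.IsQuasicoherent] (h : Module.Flat Γ(X, U) Γ(F, U)) :
    IsFlatAt F x := by
  let _ := stalkModuleOfOpen F U x hx
  let _ := X.presheaf.algebra_section_stalk ⟨x, hx⟩
  have := isScalarTower_stalk F x hx
  have := hU.isLocalization_stalk ⟨x, hx⟩
  have := isLocalizedModule_germ F hU x hx
  exact Module.Flat.of_isLocalizedModule (X.presheaf.stalk x)
    (hU.primeIdealOf ⟨x, hx⟩).asIdeal.primeCompl (germₗ F U x hx)

include hU hx in
/-- If `Γ(F, U)` is projective and finite over `Γ(X, U)`, the stalks at points of `U` are finite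
free. -/
theorem free_stalk_of_finite_projective_Γ [F.IsQuasicoherent]
    (h1 : Module.Finite Γ(X, U) Γ(F, U)) (h2 : Module.Projective Γ(X, U) Γ(F, U)) :
    Module.Free (X.presheaf.stalk x) (F.presheaf.stalk x) ∧
      Module.Finite (X.presheaf.stalk x) (F.presheaf.stalk x) := by
  let _ := stalkModuleOfOpen F U x hx
  let _ := X.presheaf.algebra_section_stalk ⟨x, hx⟩
  have := isScalarTower_stalk F x hx
  have := hU.isLocalization_stalk ⟨x, hx⟩
  have := isLocalizedModule_germ F hU x hx
  have hfin : Module.Finite (X.presheaf.stalk x) (F.presheaf.stalk x) :=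
    Module.Finite.of_isLocalizedModule (hU.primeIdealOf ⟨x, hx⟩).asIdeal.primeCompl
      (germₗ F U x hx)
  have hproj : Module.Projective (X.presheaf.stalk x) (F.presheaf.stalk x) :=
    Module.projective_of_isLocalizedModule (hU.primeIdealOf ⟨x, hx⟩).asIdeal.primeCompl
      (germₗ F U x hx)
  exact ⟨Module.free_of_flat_of_isLocalRing, hfin⟩

include hU in
/-- If a quasi-coherent `F` is flat at all points of an affine open `U`, then `Γ(F, U)` is a flat
`Γ(X, U)`-module. -/
theorem flat_Γ_of_forall_isFlatAt [F.IsQuasicoherent] (h : ∀ y ∈ U, IsFlatAt F y) :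
    Module.Flat Γ(X, U) Γ(F, U) := by
  apply Module.flat_of_localized_maximal
  intro P hP
  let q : Spec Γ(X, U) := ⟨P, hP.isPrime⟩
  let y : X := hU.fromSpec q
  have hy : y ∈ U := by
    have : y ∈ Set.range hU.fromSpec := ⟨q, rfl⟩
    rwa [hU.range_fromSpec] at this
  have hq : hU.primeIdealOf ⟨y, hy⟩ = q :=
    hU.fromSpec.isOpenEmbedding.injective (hU.fromSpec_primeIdealOf ⟨y, hy⟩)
  let _ := stalkModuleOfOpen F U y hy
  let _ := X.presheaf.algebra_section_stalk ⟨y, hy⟩
  have := isScalarTower_stalk F y hy
  have hloc := hU.isLocalization_stalk ⟨y, hy⟩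
  have hlocM := isLocalizedModule_germ F hU y hy
  rw [hq] at hloc hlocM
  have hflat : Module.Flat (X.presheaf.stalk y) (F.presheaf.stalk y) := h y hy
  have : Module.Flat Γ(X, U) (X.presheaf.stalk y) := IsLocalization.flat _ P.primeCompl
  have hflat' : Module.Flat Γ(X, U) (F.presheaf.stalk y) :=
    Module.Flat.trans Γ(X, U) (X.presheaf.stalk y) (F.presheaf.stalk y)
  exact Module.Flat.of_linearEquiv (IsLocalizedModule.iso P.primeCompl (germₗ F U y hy))

end Stalk

/-- **Flatness dictionary**: a quasi-coherent module is flat iff its sections over every affine open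
form a flat module. -/
theorem isFlat_iff_forall_affineOpens (F : X.Modules) [F.IsQuasicoherent] :
    IsFlat F ↔ ∀ U : X.affineOpens, Module.Flat Γ(X, (U : X.Opens)) Γ(F, (U : X.Opens)) := by
  constructor
  · intro h U
    exact flat_Γ_of_forall_isFlatAt F U.2 fun y _ => h y
  · intro h x
    obtain ⟨_, ⟨U, hU : IsAffineOpen U, rfl⟩, hxU, -⟩ :=
      (X.isBasis_affineOpens).exists_subset_of_mem_open (Set.mem_univ x) isOpen_univ
    exact isFlatAt_of_flat_Γ F hU x hxU (h ⟨U, hU⟩)

/-- Stalks of a finite locally free module are finite free. -/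
theorem free_finite_stalk_of_isFinLocFree {F : X.Modules} (h : IsFinLocFree F) (x : X) :
    Module.Free (X.presheaf.stalk x) (F.presheaf.stalk x) ∧
      Module.Finite (X.presheaf.stalk x) (F.presheaf.stalk x) := by
  have := isQuasicoherent_of_isFinLocFree h
  obtain ⟨_, ⟨U, hU : IsAffineOpen U, rfl⟩, hxU, -⟩ :=
    (X.isBasis_affineOpens).exists_subset_of_mem_open (Set.mem_univ x) isOpen_univ
  obtain ⟨h1, h2⟩ := finite_projective_Γ_of_isAffineOpen h hU
  exact free_stalk_of_finite_projective_Γ F hU x hxU h1 h2

/-- Finite locally free modules are flat. -/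
theorem isFlat_of_isFinLocFree {F : X.Modules} (h : IsFinLocFree F) : IsFlat F := fun x =>
  have := (free_finite_stalk_of_isFinLocFree h x).1
  inferInstanceAs (Module.Flat (X.presheaf.stalk x) (F.presheaf.stalk x))


/-! ### Finite presentation: sections over small affine opens are finitely presented -/

/-- A finite presentation of `M|_V` from one of `M.over V`. -/
private theorem exists_presentation_restrict_of_over (M : X.Modules) (V : X.Opens)
    (h : ∃ P : (M.over V).Presentation, P.IsFinite) :
    ∃ P : (M.restrict V.ι).Presentation, P.IsFinite := by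
  obtain ⟨P, hP⟩ := h
  have := isFinite_presentation_map P (overEquiv V).functor
    (V.sheafOfModulesEquivOverUnit X.ringCatSheaf).symm
  exact ⟨(P.map (overEquiv V).functor
      (V.sheafOfModulesEquivOverUnit X.ringCatSheaf).symm).ofIsIso
    ((overFunctorEquiv V).app M).hom, inferInstance⟩

/-- A finitely presented module has finite presentations on the members of an open cover. -/
theorem exists_isOpenCover_presentation_of_isFinitePresentation (M : X.Modules)
    [hM : M.IsFinitePresentation] :
    ∃ (ι : Type u) (U : ι → X.Opens), IsOpenCover U ∧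
      ∀ i, ∃ P : (M.restrict (U i).ι).Presentation, P.IsFinite := by
  obtain ⟨σ, hσ⟩ := hM.exists_quasicoherentData
  refine ⟨σ.I, σ.X, (Opens.coversTop_iff _ _).1 σ.coversTop, fun i => ?_⟩
  exact exists_presentation_restrict_of_over M (σ.X i) ⟨σ.presentation i, hσ.isFinite_presentation i⟩

/-- The cokernel of a map from a finite module to a finitely presented module is finitely
presented. -/
theorem finitePresentation_cokernel {R : Type u} [CommRing R] {A B : ModuleCat.{u} R} (g : A ⟶ B)
    [Module.Finite R A] [Module.FinitePresentation R B] :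
    Module.FinitePresentation R (cokernel g : ModuleCat.{u} R) := by
  let q : B →ₗ[R] (cokernel g : ModuleCat.{u} R) := (cokernel.π g).hom
  have hq : Function.Surjective q := (ModuleCat.epi_iff_surjective (cokernel.π g)).1 inferInstance
  refine Module.finitePresentation_of_surjective q hq ?_
  have hker : LinearMap.ker q = LinearMap.range g.hom := by
    have hex : (ShortComplex.mk g (cokernel.π g) (cokernel.condition g)).Exact :=
      ShortComplex.exact_cokernel g
    exact ((ShortComplex.moduleCat_exact_iff_range_eq_ker _).1 hex).symm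
  have hfg : (LinearMap.range g.hom).FG :=
    LinearMap.range_eq_map g.hom ▸ Submodule.FG.map g.hom Module.Finite.fg_top
  exact hker ▸ hfg

theorem finitePresentation_of_iso {R : Type u} [CommRing R] {A B : ModuleCat.{u} R} (e : A ≅ B)
    [Module.FinitePresentation R A] : Module.FinitePresentation R B :=
  Module.finitePresentation_of_surjective e.toLinearEquiv.toLinearMap
    e.toLinearEquiv.surjective ((LinearEquiv.ker e.toLinearEquiv).symm ▸ Submodule.fg_bot)

set_option backward.isDefEq.respectTransparency false in
/-- On `Spec R`, a module with a finite global presentation is `C^~` for a finitely presented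
module `C`. -/
theorem exists_iso_tilde_of_presentation {R : CommRingCat.{u}} (K : (Spec R).Modules)
    (P : K.Presentation) [hP : P.IsFinite] :
    ∃ (C : ModuleCat.{u} R) (_ : Module.FinitePresentation R C), Nonempty (tilde C ≅ K) := by
  have hI : Finite P.generators.I := hP.isFiniteType_generators.finite
  have hJ : Finite P.relations.I := hP.isFiniteType_relations.finite
  let g := (tilde.functor R).preimage <| (tildeFinsupp _).hom ≫ P.relations.π ≫ kernel.ι _ ≫
    (tildeFinsupp _).inv
  let iso : cokernel ((tilde.functor R).map g) ≅ cokernel (P.relations.π ≫ kernel.ι _) := by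
    refine cokernel.mapIso _ _ (tildeFinsupp _) (tildeFinsupp _) ?_
    simp only [g, (tilde.functor R).map_preimage]
    simp
  let e : tilde (cokernel g) ≅ K := PreservesCokernel.iso (tilde.functor R) g ≪≫ iso ≪≫
    IsColimit.coconePointUniqueUpToIso (colimit.isColimit _) P.isColimit
  have hfree : Module.FinitePresentation R
      (ModuleCat.of R (P.generators.I →₀ R) : ModuleCat.{u} R) :=
    Module.finitePresentation_of_projective R (P.generators.I →₀ R)
  have hfin : Module.Finite R (ModuleCat.of R (P.relations.I →₀ R) : ModuleCat.{u} R) :=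
    inferInstanceAs (Module.Finite R (P.relations.I →₀ R))
  exact ⟨cokernel g, finitePresentation_cokernel g, ⟨e⟩⟩

/-- On `Spec R`, a module with a finite global presentation has finitely presented global
sections. -/
private theorem finitePresentation_Γ_of_presentation {R : CommRingCat.{u}} (K : (Spec R).Modules)
    (P : K.Presentation) [hP : P.IsFinite] :
    Module.FinitePresentation R (moduleSpecΓFunctor.obj K) := by
  obtain ⟨C, hC, ⟨e⟩⟩ := exists_iso_tilde_of_presentation K P
  let e' : C ≅ moduleSpecΓFunctor.obj K :=
    tilde.toTildeΓNatIso.app C ≪≫ moduleSpecΓFunctor.mapIso e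
  exact finitePresentation_of_iso e'

/-- Finite presentations restrict to smaller opens. -/
private theorem exists_presentation_of_le {V U : X.Opens} (h : V ≤ U) (M : X.Modules)
    (hP : ∃ P : (M.restrict U.ι).Presentation, P.IsFinite) :
    ∃ P : (M.restrict V.ι).Presentation, P.IsFinite := by
  refine exists_presentation_of_iso ?_ (exists_presentation_restrict (X.homOfLE h) hP)
  exact ((restrictFunctorComp (X.homOfLE h) U.ι).app M).symm ≪≫
    (restrictFunctorCongr (X.homOfLE_ι h)).app M

/-- If `M|_U` has a finite presentation (`U` affine), then `Γ(M, U)` is finitely presented. -/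
private theorem finitePresentation_Γ_of_presentation_restrict {U : X.Opens} (hU : IsAffineOpen U)
    (M : X.Modules) (hP : ∃ P : (M.restrict U.ι).Presentation, P.IsFinite) :
    Module.FinitePresentation Γ(X, U) Γ(M, U) := by
  obtain ⟨P, hP'⟩ := exists_presentation_of_iso (restrictSpecIso hU M).symm
    (exists_presentation_restrict hU.isoSpec.inv hP)
  have h1 : Module.FinitePresentation Γ(X, U) Γ(restrictSpec hU M, ⊤) :=
    finitePresentation_Γ_of_presentation (restrictSpec hU M) P
  exact Module.finitePresentation_of_surjective (ΓrestrictSpecLinearEquiv hU M).toLinearMap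
    (ΓrestrictSpecLinearEquiv hU M).surjective
    ((LinearEquiv.ker (ΓrestrictSpecLinearEquiv hU M)).symm ▸ Submodule.fg_bot)

/-- A finitely presented module has finitely presented sections over all small enough affine
opens: every point has an affine open neighbourhood `U` with `Γ(M, U)` finitely presented. -/
theorem exists_affineOpen_finitePresentation (M : X.Modules) [M.IsFinitePresentation] (x : X) :
    ∃ U : X.Opens, IsAffineOpen U ∧ x ∈ U ∧ Module.FinitePresentation Γ(X, U) Γ(M, U) := by
  obtain ⟨ι, W, hW, hP⟩ := exists_isOpenCover_presentation_of_isFinitePresentation M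
  have hx : x ∈ (⨆ i, W i : X.Opens) := by rw [hW.iSup_eq_top]; trivial
  obtain ⟨i, hi⟩ := Opens.mem_iSup.1 hx
  obtain ⟨_, ⟨U, hU : IsAffineOpen U, rfl⟩, hxU, hUW⟩ :=
    (X.isBasis_affineOpens).exists_subset_of_mem_open hi (W i).2
  exact ⟨U, hU, hxU, finitePresentation_Γ_of_presentation_restrict hU M
    (exists_presentation_of_le hUW M (hP i))⟩

/-- **A quasi-coherent module which is flat and of finite presentation is finite locally free.** -/
theorem isFinLocFree_of_isFlat_of_isFinitePresentation (M : X.Modules) [M.IsQuasicoherent]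
    [M.IsFinitePresentation] (hflat : IsFlat M) : IsFinLocFree M := by
  apply isFinLocFree_of_exists_affineOpen
  intro x
  obtain ⟨U, hU, hxU, hfp⟩ := exists_affineOpen_finitePresentation M x
  have hfl : Module.Flat Γ(X, U) Γ(M, U) := flat_Γ_of_forall_isFlatAt M hU fun y _ => hflat y
  exact ⟨U, hU, hxU, inferInstance, Module.Flat.projective_of_finitePresentation⟩

/-- Stacks 05P2-type statement: quasi-coherent `M` is flat and finitely presented iff it is finite
locally free. -/
theorem isFlat_and_isFinitePresentation_iff_isFinLocFree (M : X.Modules) [M.IsQuasicoherent] :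
    (IsFlat M ∧ M.IsFinitePresentation) ↔ IsFinLocFree M :=
  ⟨fun ⟨h1, _⟩ => isFinLocFree_of_isFlat_of_isFinitePresentation M h1,
    fun h => ⟨isFlat_of_isFinLocFree h, isFinitePresentation_of_isFinLocFree h⟩⟩

/-! ### Openness of the locally free locus of a finitely presented module -/

/-- If `M|_U` is finite locally free (`U` affine) then `Γ(M, U)` is finite projective. -/
theorem finite_projective_Γ_of_isFinLocFree_restrict {U : X.Opens} (hU : IsAffineOpen U)
    (M : X.Modules) (h : IsFinLocFree (M.restrict U.ι)) :
    Module.Finite Γ(X, U) Γ(M, U) ∧ Module.Projective Γ(X, U) Γ(M, U) := by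
  have h' : IsFinLocFree (restrictSpec hU M) :=
    isFinLocFree_of_iso (restrictSpecIso hU M).symm (isFinLocFree_restrict hU.isoSpec.inv h)
  obtain ⟨h1, h2⟩ := finite_projective_Γ_of_isFinLocFree h'
  have h1' : Module.Finite Γ(X, U) Γ(restrictSpec hU M, ⊤) := h1
  have h2' : Module.Projective Γ(X, U) Γ(restrictSpec hU M, ⊤) := h2
  exact ⟨Module.Finite.equiv (ΓrestrictSpecLinearEquiv hU M),
    Module.Projective.of_equiv (ΓrestrictSpecLinearEquiv hU M)⟩

/-- If `M` restricted along an open immersion `j` is finite locally free, so is the restriction of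
`M` to the open subscheme `j.opensRange`. -/
theorem isFinLocFree_restrict_opensRange {Y : Scheme.{u}} (j : Y ⟶ X) [IsOpenImmersion j]
    {M : X.Modules} (h : IsFinLocFree (M.restrict j)) :
    IsFinLocFree (M.restrict j.opensRange.ι) := by
  have h1 : IsFinLocFree ((M.restrict j.opensRange.ι).restrict j.isoOpensRange.hom) :=
    isFinLocFree_of_iso (((restrictFunctorCongr j.isoOpensRange_hom_ι).app M).symm ≪≫
      (restrictFunctorComp j.isoOpensRange.hom j.opensRange.ι).app M) h
  exact isFinLocFree_of_iso (restrictInvRestrictIso j.isoOpensRange.hom _)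
    (isFinLocFree_restrict (inv j.isoOpensRange.hom) h1)

/-- Restriction to a smaller open of a finite locally free restriction. -/
theorem isFinLocFree_restrict_of_le {V U : X.Opens} (hVU : V ≤ U) {M : X.Modules}
    (h : IsFinLocFree (M.restrict U.ι)) : IsFinLocFree (M.restrict V.ι) :=
  isFinLocFree_of_iso (((restrictFunctorComp (X.homOfLE hVU) U.ι).app M).symm ≪≫
    (restrictFunctorCongr (X.homOfLE_ι hVU)).app M) (isFinLocFree_restrict (X.homOfLE hVU) h)

/-- If `F|_U` is finite locally free for an open `U ∋ x`, then `F` is flat at `x`. -/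
theorem isFlatAt_of_isFinLocFree_restrict (F : X.Modules) [F.IsQuasicoherent] {U : X.Opens}
    (x : X) (hx : x ∈ U) (h : IsFinLocFree (F.restrict U.ι)) : IsFlatAt F x := by
  obtain ⟨_, ⟨W, hW : IsAffineOpen W, rfl⟩, hxW, hWU⟩ :=
    (X.isBasis_affineOpens).exists_subset_of_mem_open hx U.2
  obtain ⟨h1, h2⟩ := finite_projective_Γ_of_isFinLocFree_restrict hW F
    (isFinLocFree_restrict_of_le hWU h)
  exact isFlatAt_of_flat_Γ F hW x hxW inferInstance

/-- If `F` (quasi-coherent) is flat at `x ∈ U` (`U` affine) and `Γ(F, U)` is finitely presented,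
then the prime of `x` lies in the free locus of `Γ(F, U)`. -/
theorem mem_freeLocus_of_isFlatAt (F : X.Modules) [F.IsQuasicoherent] {U : X.Opens}
    (hU : IsAffineOpen U) (x : X) (hxU : x ∈ U)
    (hfp : Module.Finite Γ(X, U) Γ(F, U)) (hflat : IsFlatAt F x) :
    hU.primeIdealOf ⟨x, hxU⟩ ∈ Module.freeLocus Γ(X, U) Γ(F, U) := by
  let _ := stalkModuleOfOpen F U x hxU
  let _ := X.presheaf.algebra_section_stalk ⟨x, hxU⟩
  have := isScalarTower_stalk F x hxU
  have := hU.isLocalization_stalk ⟨x, hxU⟩
  have := isLocalizedModule_germ F hU x hxU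
  have hfin : Module.Finite (X.presheaf.stalk x) (F.presheaf.stalk x) :=
    Module.Finite.of_isLocalizedModule (hU.primeIdealOf ⟨x, hxU⟩).asIdeal.primeCompl
      (germₗ F U x hxU)
  have : Module.Flat (X.presheaf.stalk x) (F.presheaf.stalk x) := hflat
  have hfree : Module.Free (X.presheaf.stalk x) (F.presheaf.stalk x) :=
    Module.free_of_flat_of_isLocalRing
  exact (Module.mem_freeLocus_of_isLocalization (hU.primeIdealOf ⟨x, hxU⟩)
    (X.presheaf.stalk x) (F.presheaf.stalk x) (germₗ F U x hxU)).2 hfree

/-- Chart-level: if `D(r)` lies in the free locus of the finitely presented module `Γ(F, U)`, then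
`F` is finite locally free on `D(r) ⊆ U`. -/
theorem isFinLocFree_restrict_of_basicOpen_subset_freeLocus (F : X.Modules) [F.IsQuasicoherent]
    {U : X.Opens} (hU : IsAffineOpen U) (hfp : Module.FinitePresentation Γ(X, U) Γ(F, U))
    (r : Γ(X, U))
    (hr : (PrimeSpectrum.basicOpen r : Set (PrimeSpectrum Γ(X, U))) ⊆
      Module.freeLocus Γ(X, U) Γ(F, U)) :
    IsFinLocFree (F.restrict (Spec.map (CommRingCat.ofHom
      (algebraMap Γ(X, U) (Localization.Away r))) ≫ hU.fromSpec)) := by
  let K := restrictSpec hU F
  have hK : K.IsQuasicoherent :=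
    inferInstanceAs ((restrictFunctor hU.fromSpec).obj F).IsQuasicoherent
  let N' : ModuleCat Γ(X, U) := moduleSpecΓFunctor.obj K
  have hfp' : Module.FinitePresentation Γ(X, U) N' :=
    Module.finitePresentation_of_surjective (ΓrestrictSpecLinearEquiv hU F).symm.toLinearMap
      (ΓrestrictSpecLinearEquiv hU F).symm.surjective
      ((LinearEquiv.ker (ΓrestrictSpecLinearEquiv hU F).symm).symm ▸ Submodule.fg_bot)
  have hcongr : Module.freeLocus Γ(X, U) N' = Module.freeLocus Γ(X, U) Γ(F, U) :=
    Module.freeLocus_congr (ΓrestrictSpecLinearEquiv hU F)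
  rw [← hcongr] at hr
  have hproj : Module.Projective (Localization.Away r) (LocalizedModule.Away r N') :=
    Module.basicOpen_subset_freeLocus_iff.1 hr
  have hfin : Module.Finite (Localization.Away r) (LocalizedModule.Away r N') := inferInstance
  have h2 := isFinLocFree_restrict_away_of_projective K r hfin hproj
  exact isFinLocFree_of_iso ((restrictFunctorComp _ hU.fromSpec).app F).symm h2

/-- **Openness of the flat locus** for finitely presented modules: if `F` is finitely presented and
flat at `x`, then `F` is finite locally free on an open neighbourhood of `x`. -/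
theorem exists_isFinLocFree_restrict_of_isFlatAt (F : X.Modules) [F.IsFinitePresentation]
    (x : X) (hflat : IsFlatAt F x) : ∃ U : X.Opens, x ∈ U ∧ IsFinLocFree (F.restrict U.ι) := by
  obtain ⟨U, hU, hxU, hfp⟩ := exists_affineOpen_finitePresentation F x
  have hp := mem_freeLocus_of_isFlatAt F hU x hxU inferInstance hflat
  obtain ⟨_, ⟨_, ⟨r, rfl⟩, rfl⟩, hpr, hr⟩ :=
    PrimeSpectrum.isBasis_basic_opens.exists_subset_of_mem_open hp Module.isOpen_freeLocus
  have h3 := isFinLocFree_restrict_of_basicOpen_subset_freeLocus F hU hfp r hr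
  refine ⟨_, ?_, isFinLocFree_restrict_opensRange _ h3⟩
  have hpr' : hU.primeIdealOf ⟨x, hxU⟩ ∈
      (Spec.map (CommRingCat.ofHom (algebraMap Γ(X, U) (Localization.Away r)))).opensRange := by
    have := Scheme.Hom.opensRange_localizationAway r
    rw [this]
    exact hpr
  obtain ⟨p', hp'⟩ := hpr'
  exact ⟨p', by
    rw [Scheme.Hom.comp_apply, hp']
    exact hU.fromSpec_primeIdealOf ⟨x, hxU⟩⟩

/-- For a finitely presented module `F`: `F` is flat at `x` iff `F` is finite locally free on a
neighbourhood of `x`. -/
theorem isFlatAt_iff_exists_isFinLocFree_restrict (F : X.Modules) [F.IsFinitePresentation]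
    (x : X) : IsFlatAt F x ↔ ∃ U : X.Opens, x ∈ U ∧ IsFinLocFree (F.restrict U.ι) :=
  ⟨exists_isFinLocFree_restrict_of_isFlatAt F x,
    fun ⟨_, hx, h⟩ => isFlatAt_of_isFinLocFree_restrict F x hx h⟩

end Groth.Agent.Lib.QCoh
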