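import Groth.Agent.Lib.QCoh.Helper66_SubExt3
import Groth.Agent.Lib.QCoh.Helper74_EffCartier
import Groth.Agent.Lib.Ample.GenLocus

/-!
# Ideal sheaves of finite type with prescribed support (helper50)

ns `Groth.Agent.Lib.QCoh.FTIdeal`.

* `ofHom i` : the `IdealSheafData` of images of sections of a morphism `i : J ⟶ O_X`, `J` quasi-coherent
* `exists_fg_ideal_support_eq_compl` : `X` qcqs, `U` quasi-compact open ⟹ there is an ideal sheaf
  with finitely generated ideals on all affine opens and support `Uᶜ`  (Stacks 01PH)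
-/

set_option autoImplicit false
universe u
open CategoryTheory CategoryTheory.Limits AlgebraicGeometry Opposite TopologicalSpace

namespace Groth.Agent.Lib.QCoh.FTIdeal

open Groth.Agent.Lib.QCoh.Glue74 Groth.Agent.Lib.QCoh Groth.Agent.Lib.QCoh.SubExt Scheme.Modules

variable {X : Scheme.{u}} {J : X.Modules} (i : J ⟶ Coh.structureModule X)

/-- the ideal of images of sections -/
noncomputable def rangeIdeal (V : X.Opens) : Ideal Γ(X, V) :=
  (show Submodule Γ(X, V) Γ(X, V) from LinearMap.range (appLin i V))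

lemma mem_rangeIdeal {V : X.Opens} {a : Γ(X, V)} :
    a ∈ rangeIdeal i V ↔ ∃ s : Γ(J, V), (show Γ(X, V) from i.app V s) = a := Iff.rfl

lemma res_mem_rangeIdeal {V' V : X.Opens} (h : V' ≤ V) {a : Γ(X, V)} (ha : a ∈ rangeIdeal i V) :
    X.presheaf.map (homOfLE h).op a ∈ rangeIdeal i V' := by
  obtain ⟨s, rfl⟩ := ha
  exact ⟨Glue74.res J h s, app_res i h s⟩

lemma map_rangeIdeal_basicOpen [J.IsQuasicoherent] {U : X.Opens} (hU : IsAffineOpen U)
    (f : Γ(X, U)) :
    (rangeIdeal i U).map (X.presheaf.map (homOfLE (X.basicOpen_le f)).op).hom =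
      rangeIdeal i (X.basicOpen f) := by
  apply le_antisymm
  · rw [Ideal.map_le_iff_le_comap]
    intro a ha
    exact res_mem_rangeIdeal i _ ha
  · rintro z ⟨s, rfl⟩
    obtain ⟨n, t, ht⟩ :=
      Groth.Agent.Lib.Helper22.exists_pow_smul_eq_map_of_isAffineOpen J hU f s
    set g := X.presheaf.map (homOfLE (X.basicOpen_le f)).op f with hg
    have hu : IsUnit g := X.toRingedSpace.isUnit_res_basicOpen f
    have h1 : (show Γ(X, X.basicOpen f) from i.app (X.basicOpen f) (g ^ n • s)) =
        g ^ n * (show Γ(X, X.basicOpen f) from i.app (X.basicOpen f) s) :=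
      Hom.app_smul i (g ^ n) s
    have h2 : (show Γ(X, X.basicOpen f) from i.app (X.basicOpen f) (g ^ n • s)) =
        X.presheaf.map (homOfLE (X.basicOpen_le f)).op (show Γ(X, U) from i.app U t) := by
      rw [← ht]
      exact app_res i (X.basicOpen_le f) t
    have h3 : X.presheaf.map (homOfLE (X.basicOpen_le f)).op (show Γ(X, U) from i.app U t) ∈
        (rangeIdeal i U).map (X.presheaf.map (homOfLE (X.basicOpen_le f)).op).hom :=
      Ideal.mem_map_of_mem _ ⟨t, rfl⟩
    rw [← h2, h1] at h3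
    obtain ⟨v, hv⟩ := (hu.pow n).exists_left_inv
    have h4 := Ideal.mul_mem_left _ v h3
    rw [← mul_assoc, hv, one_mul] at h4
    exact h4

/-- **the ideal sheaf of images of sections** of `i : J ⟶ O_X`, `J` quasi-coherent -/
noncomputable def ofHom [J.IsQuasicoherent] : X.IdealSheafData where
  ideal V := rangeIdeal i V.1
  map_ideal_basicOpen V f := map_rangeIdeal_basicOpen i V.2 f

@[simp] lemma ofHom_ideal [J.IsQuasicoherent] (V : X.affineOpens) :
    (ofHom i).ideal V = rangeIdeal i V.1 := rfl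

lemma fg_rangeIdeal [J.IsQuasicoherent] [J.IsFiniteType] {V : X.Opens} (hV : IsAffineOpen V) :
    (rangeIdeal i V).FG := by
  have : Module.Finite Γ(X, V) Γ(J, V) := finite_Γ_of_isAffineOpen hV J
  have h1 : (LinearMap.range (appLin i V)).FG := by
    rw [LinearMap.range_eq_map]
    exact (Module.Finite.fg_top).map _
  exact h1

section Vanishing

variable (U : X.Opens)

/-- the closed complement of an open -/
def complCloseds : Closeds X := ⟨(U : Set X)ᶜ, U.2.isClosed_compl⟩

lemma vanishingIdeal_ideal_eq_top {W : X.Opens} (hW : IsAffineOpen W) (hWU : W ≤ U) :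
    (Scheme.IdealSheafData.vanishingIdeal (complCloseds U)).ideal ⟨W, hW⟩ = ⊤ := by
  rw [Scheme.IdealSheafData.vanishingIdeal_ideal]
  have : hW.fromSpec ⁻¹' ((complCloseds U : Closeds X) : Set X) = ∅ := by
    ext p
    simp only [Set.mem_preimage, Set.mem_empty_iff_false, iff_false]
    intro hp
    have h1 : hW.fromSpec p ∈ Set.range hW.fromSpec := ⟨p, rfl⟩
    rw [hW.range_fromSpec] at h1
    exact hp (hWU h1)
  exact (congrArg PrimeSpectrum.vanishingIdeal this).trans PrimeSpectrum.vanishingIdeal_empty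

lemma idealModι_app_eq (I : X.IdealSheafData) (V : X.affineOpens) (a : Γ(ClSub.idealMod I, V.1)) :
    (show Γ(X, V.1) from (ClSub.idealModι I).app V.1 a) =
      ((EffCartier74.idealModΓEquivIdeal I V a : I.ideal V) : Γ(X, V.1)) := rfl

end Vanishing

section Main

variable (U : X.Opens)

/-- finiteness of sections of a restriction to an open subscheme -/
lemma finite_restrict_of_finite (F : X.Modules) (O : (U : Scheme.{u}).Opens)
    (h : Module.Finite Γ(X, U.ι ''ᵁ O) Γ(F, U.ι ''ᵁ O)) :
    Module.Finite Γ(U, O) Γ(F.restrict U.ι, O) := by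
  obtain ⟨S, hS⟩ := h.fg_top
  refine ⟨⟨(show Finset Γ(F.restrict U.ι, O) from S), ?_⟩⟩
  rw [eq_top_iff]
  have key : ∀ z : Γ(F, U.ι ''ᵁ O), z ∈ Submodule.span Γ(X, U.ι ''ᵁ O)
      (S : Set Γ(F, U.ι ''ᵁ O)) → (show Γ(F.restrict U.ι, O) from z) ∈
        Submodule.span Γ(U, O) ((show Finset Γ(F.restrict U.ι, O) from S) :
          Set Γ(F.restrict U.ι, O)) := by
    intro z hz
    induction hz using Submodule.span_induction with
    | mem x hx => exact Submodule.subset_span hx
    | zero => exact Submodule.zero_mem _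
    | add x y _ _ hx hy => exact Submodule.add_mem _ hx hy
    | smul c x _ hx =>
      have := restrict_smul (F := F) U O c x
      rw [← this]
      exact Submodule.smul_mem _ _ hx
  intro z _
  exact key z (by rw [hS]; trivial)

lemma isFiniteType_restrict_idealMod_vanishingIdeal :
    ((ClSub.idealMod (Scheme.IdealSheafData.vanishingIdeal (complCloseds U))).restrict
      U.ι).IsFiniteType := by
  set I₀ := Scheme.IdealSheafData.vanishingIdeal (complCloseds U) with hI₀
  rw [isFiniteType_iff_forall_finite]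
  intro W'
  have hW : IsAffineOpen (U.ι ''ᵁ W'.1) := W'.2.image_of_isOpenImmersion U.ι
  have hWU : U.ι ''ᵁ W'.1 ≤ U := by
    intro x hx
    obtain ⟨y, -, rfl⟩ := hx
    exact y.2
  have htop := vanishingIdeal_ideal_eq_top U hW hWU
  have e := EffCartier74.idealModΓEquivIdeal I₀ ⟨_, hW⟩
  have h1 : Module.Finite Γ(X, U.ι ''ᵁ W'.1) (I₀.ideal ⟨_, hW⟩) := by
    rw [htop]
    exact Module.Finite.equiv (Submodule.topEquiv (R := Γ(X, U.ι ''ᵁ W'.1))
      (M := Γ(X, U.ι ''ᵁ W'.1))).symm
  have h2 : Module.Finite Γ(X, U.ι ''ᵁ W'.1) Γ(ClSub.idealMod I₀, U.ι ''ᵁ W'.1) :=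
    Module.Finite.equiv e.symm
  exact finite_restrict_of_finite U _ W'.1 h2

/-- **Stacks 01PH**: in a qcqs scheme, the complement of a quasi-compact open is the support of an
ideal sheaf of finite type -/
theorem exists_fg_ideal_support_eq_compl [CompactSpace X] [QuasiSeparatedSpace X]
    (hU : IsCompact (U : Set X)) :
    ∃ I : X.IdealSheafData, (∀ V : X.affineOpens, (I.ideal V).FG) ∧
      (I.support : Set X) = (U : Set X)ᶜ ∧
      ∀ (W : X.Opens) (hW : IsAffineOpen W), W ≤ U → I.ideal ⟨W, hW⟩ = ⊤ := by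
  set I₀ := Scheme.IdealSheafData.vanishingIdeal (complCloseds U) with hI₀
  have hFT := isFiniteType_restrict_idealMod_vanishingIdeal U
  obtain ⟨G', i', e, hmono, hq, hft, hcompat⟩ := master_qcqs U hU (ClSub.idealMod I₀)
    ((ClSub.idealMod I₀).restrict U.ι) (𝟙 _)
  have hiso : IsIso ((restrictFunctor U.ι).map i') := by
    rw [← hcompat]; infer_instance
  have hbij := (Groth.Agent.Lib.Ample.isIso_restrict_iff_bijective i' U).1 hiso
  have htopW : ∀ (W : X.Opens) (hW : IsAffineOpen W), W ≤ U →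
      (ofHom (i' ≫ ClSub.idealModι I₀)).ideal ⟨W, hW⟩ = ⊤ := by
    intro W hW hWU
    rw [eq_top_iff]
    intro a _
    have htop := vanishingIdeal_ideal_eq_top U hW hWU
    have ha : a ∈ I₀.ideal ⟨W, hW⟩ := by rw [htop]; trivial
    obtain ⟨b, hb⟩ := (hbij W hWU).2
      ((EffCartier74.idealModΓEquivIdeal I₀ ⟨W, hW⟩).symm ⟨a, ha⟩)
    refine ⟨b, ?_⟩
    change (show Γ(X, W) from (ClSub.idealModι I₀).app W (i'.app W b)) = a
    rw [hb]
    have := idealModι_app_eq I₀ ⟨W, hW⟩
      ((EffCartier74.idealModΓEquivIdeal I₀ ⟨W, hW⟩).symm ⟨a, ha⟩)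
    rw [LinearEquiv.apply_symm_apply] at this
    exact this
  refine ⟨ofHom (i' ≫ ClSub.idealModι I₀), fun V => fg_rangeIdeal _ V.2, ?_, htopW⟩
  apply Set.Subset.antisymm
  · intro x hx hxU
    obtain ⟨W, hW, hxW, hWU⟩ := exists_isAffineOpen_mem_and_subset (x := x) (U := U) hxU
    have h1 := (Scheme.IdealSheafData.mem_support_iff_of_mem (I := ofHom (i' ≫ ClSub.idealModι I₀))
      (U := ⟨W, hW⟩) hxW).1 hx
    rw [htopW W hW hWU] at h1
    simp at h1
    exact h1 hxW
  · have hle : ofHom (i' ≫ ClSub.idealModι I₀) ≤ I₀ := by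
      intro V a ha
      obtain ⟨s, rfl⟩ := ha
      change (show Γ(X, V.1) from (ClSub.idealModι I₀).app V.1 (i'.app V.1 s)) ∈ I₀.ideal V
      rw [idealModι_app_eq I₀ V]
      exact Subtype.property _
    have h2 := Scheme.IdealSheafData.support_antitone hle
    intro x hx
    apply h2
    rw [hI₀]
    change x ∈ ((Scheme.IdealSheafData.vanishingIdeal (complCloseds U)).support : Set X)
    rw [Scheme.IdealSheafData.coe_support_vanishingIdeal]
    exact hx

end Main

end Groth.Agent.Lib.QCoh.FTIdeal
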