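import Groth.Agent.Lib.QCoh.Helper74_FittSheaf
import Groth.Agent.Lib.Helper90.GenCover

/-!
# QCoh API (helper74): local generation by `r` sections and Fitting ideals

Namespace `Groth.Agent.Lib.QCoh.FittSheaf74`.

* `exists_epi_of_span` : generators of `Γ(F, D)` over an affine open `D` give an epimorphism
  `O_D^r ⟶ F|_D`.
* `exists_span_of_epi` : conversely an epimorphism `O_U^r ⟶ F|_U` gives `r` generators of
  `Γ(F, V)` for every affine `V ≤ U`.
* `exists_epi_iff_notMem_support` (S8874).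
-/

set_option linter.style.haveILetI false
universe u
open CategoryTheory CategoryTheory.Limits AlgebraicGeometry Opposite TopologicalSpace

namespace Groth.Agent.Lib.QCoh.FittSheaf74
open Scheme.Modules Groth.Agent.Lib.QCoh Groth.Agent.Lib.Helper61.QCohSections
  Groth.Agent.Lib.Helper45.Fitting

variable {X : Scheme.{u}} (F : X.Modules) [F.IsQuasicoherent]

/-- An epimorphism `O_U^r ⟶ F|_U` gives `r` generators of `Γ(F, V)` for every affine `V ≤ U`. -/
theorem exists_span_of_epi {U V : X.Opens} (hV : IsAffineOpen V) (hVU : V ≤ U) {r : ℕ}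
    (π : FlatMod.freeMod (↑U) r ⟶ F.restrict U.ι) [Epi π] :
    ∃ t : Fin r → Γ(F, V), Submodule.span Γ(X, V) (Set.range t) = ⊤ := by
  have hj : Set.range hV.fromSpec.base ⊆ U := by
    rw [hV.range_fromSpec]; exact hVU
  obtain ⟨ψ, hψ⟩ := Groth.Agent.Lib.Helper90.GenCover.exists_epi_restrict hV.fromSpec F U r hj π
  let L := restrictSpec hV F
  have hψ' : Epi (ψ ≫ (tildeΓIso L).inv) := epi_comp _ _
  obtain ⟨g, hg⟩ := Groth.Agent.Lib.Helper90.GenCover.exists_gens_of_epi_tilde
    (moduleSpecΓFunctor.obj L) r (ψ ≫ (tildeΓIso L).inv)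
  let g' : Fin r → Γ(restrictSpec hV F, ⊤) := g
  have hg' : Submodule.span Γ(X, V) (Set.range g') = ⊤ := hg
  refine ⟨fun i => ΓrestrictSpecLinearEquiv hV F (g' i), ?_⟩
  have h1 : Set.range (fun i => ΓrestrictSpecLinearEquiv hV F (g' i)) =
      (ΓrestrictSpecLinearEquiv hV F).toLinearMap '' Set.range g' := by
    rw [← Set.range_comp]; rfl
  rw [h1, ← Submodule.map_span, hg', Submodule.map_top, LinearMap.range_eq_top]
  exact (ΓrestrictSpecLinearEquiv hV F).surjective

/-- Generators of `Γ(F, D)` over an affine open `D` give an epimorphism `O_D^r ⟶ F|_D`. -/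
theorem exists_epi_of_span {D : X.Opens} (hD : IsAffineOpen D) {r : ℕ} (t : Fin r → Γ(F, D))
    (ht : Submodule.span Γ(X, D) (Set.range t) = ⊤) :
    ∃ π : FlatMod.freeMod (↑D) r ⟶ F.restrict D.ι, Epi π := by
  let L := restrictSpec hD F
  -- generators of `Γ(L, ⊤)`
  let t' : Fin r → Γ(restrictSpec hD F, ⊤) := fun i => (ΓrestrictSpecLinearEquiv hD F).symm (t i)
  have ht' : Submodule.span Γ(X, D) (Set.range t') = ⊤ := by
    have h1 : Set.range t' = (ΓrestrictSpecLinearEquiv hD F).symm.toLinearMap '' Set.range t := by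
      rw [← Set.range_comp]; rfl
    rw [h1, ← Submodule.map_span, ht, Submodule.map_top, LinearMap.range_eq_top]
    exact (ΓrestrictSpecLinearEquiv hD F).symm.surjective
  let t'' : Fin r → (moduleSpecΓFunctor.obj L) := t'
  have ht'' : Submodule.span Γ(X, D) (Set.range t'') = ⊤ := ht'
  let lin : (ULift.{u} (Fin r) →₀ Γ(X, D)) →ₗ[Γ(X, D)] (moduleSpecΓFunctor.obj L) :=
    Finsupp.linearCombination Γ(X, D) (fun i : ULift.{u} (Fin r) => t'' i.down)
  have hlin : Function.Surjective lin := by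
    rw [← LinearMap.range_eq_top, Finsupp.range_linearCombination, ← ht'']
    congr 1
    ext m
    constructor
    · rintro ⟨i, rfl⟩; exact ⟨i.down, rfl⟩
    · rintro ⟨i, rfl⟩; exact ⟨⟨i⟩, rfl⟩
  let g : ModuleCat.of Γ(X, D) (ULift.{u} (Fin r) →₀ Γ(X, D)) ⟶ moduleSpecΓFunctor.obj L :=
    ModuleCat.ofHom (X := ModuleCat.of Γ(X, D) (ULift.{u} (Fin r) →₀ Γ(X, D)))
      (Y := moduleSpecΓFunctor.obj L) lin
  have hg : Epi g := (ModuleCat.epi_iff_surjective g).2 hlin
  have hg' : Epi ((tilde.functor Γ(X, D)).map g) := inferInstance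
  let π₁ : tilde (ModuleCat.of Γ(X, D) (ULift.{u} (Fin r) →₀ Γ(X, D))) ⟶ L :=
    (tilde.functor Γ(X, D)).map g ≫ (tildeΓIso L).hom
  have hπ₁ : Epi π₁ := @epi_comp _ _ _ _ _ _ hg' _ inferInstance
  let π₀ : FlatMod.freeMod (Spec Γ(X, D)) r ⟶ L :=
    (tildeFinsuppFreeModIso Γ(X, D) r).inv ≫ π₁
  have hπ₀ : Epi π₀ := epi_comp _ _
  -- transfer to `↑D`
  have h1 : Epi ((restrictFunctor hD.isoSpec.hom).map π₀) := inferInstance
  let e1 : L.restrict hD.isoSpec.hom ≅ F.restrict D.ι :=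
    ((restrictFunctorComp hD.isoSpec.hom hD.fromSpec).app F).symm ≪≫
      (restrictFunctorCongr hD.isoSpec_hom_fromSpec).app F
  exact ⟨(restrictFreeModIso hD.isoSpec.hom r).inv ≫
    (restrictFunctor hD.isoSpec.hom).map π₀ ≫ e1.hom, inferInstance⟩

variable [F.IsFiniteType]

/-- If `Fit_r` is not contained in the prime of `x`, then on a basic open neighbourhood of `x`
the module `F` is generated by `r` sections. -/
theorem exists_basicOpen_span {V : X.Opens} (hV : IsAffineOpen V) {x : X} (hx : x ∈ V) (r : ℕ)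
    (h : ¬ Fitt.ideal Γ(X, V) Γ(F, V) r ≤ (hV.primeIdealOf ⟨x, hx⟩).asIdeal) :
    ∃ g : Γ(X, V), x ∈ X.basicOpen g ∧ ∃ t : Fin r → Γ(F, X.basicOpen g),
      Submodule.span Γ(X, X.basicOpen g) (Set.range t) = ⊤ := by
  have hfin : Module.Finite Γ(X, V) Γ(F, V) := finite_Γ_of_isAffineOpen hV F
  obtain ⟨n, y, hy⟩ := Module.Finite.exists_fin (R := Γ(X, V)) (M := Γ(F, V))
  obtain ⟨z, e, hz, hd⟩ := exists_minor_notMem y hy r _ h
  refine ⟨minor z e, (notMem_primeIdealOf_iff hV x hx _).1 hd, ?_⟩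
  letI := resModule F (X.basicOpen_le (minor z e))
  letI := resAlgebra (X := X) (X.basicOpen_le (minor z e))
  have := isScalarTower_res F (X.basicOpen_le (minor z e))
  have : IsLocalization.Away (minor z e) Γ(X, X.basicOpen (minor z e)) :=
    hV.isLocalization_basicOpen _
  have := isLocalizedModule_res_basicOpen F hV (minor z e)
  have hφ : Submodule.span Γ(X, X.basicOpen (minor z e))
      (Set.range (resLinear F (X.basicOpen_le (minor z e)) ∘ y)) = ⊤ := by
    rw [Set.range_comp]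
    exact span_eq_top_of_isLocalizedModule Γ(X, X.basicOpen (minor z e))
      (Submonoid.powers (minor z e)) (resLinear F (X.basicOpen_le (minor z e))) hy
  have hunit : IsUnit (algebraMap Γ(X, V) Γ(X, X.basicOpen (minor z e)) (minor z e)) :=
    RingedSpace.isUnit_res_basicOpen _ (minor z e)
  exact exists_span_of_minor_unit (A := Γ(X, X.basicOpen (minor z e))) r y z hz e
    (resLinear F (X.basicOpen_le (minor z e))) hφ hunit

/-- **`F` is generated by `r` sections near `x` iff `x ∉ V(Fit_r F)`.** -/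
theorem exists_epi_iff_notMem_support (x : X) (r : ℕ) :
    (∃ U : X.Opens, x ∈ U ∧ ∃ π : FlatMod.freeMod (↑U) r ⟶ F.restrict U.ι, Epi π) ↔
      x ∉ (Fitt.sheafIdeal F r).support := by
  constructor
  · rintro ⟨U, hxU, π, hπ⟩ hmem
    obtain ⟨_, ⟨V, hV, rfl⟩, hxV, hVU⟩ :=
      X.isBasis_affineOpens.exists_subset_of_mem_open hxU U.2
    obtain ⟨t, ht⟩ := exists_span_of_epi F hV hVU π
    rw [mem_support_iff_le F r hV hxV, fitt_eq_top_of_span t ht] at hmem
    exact (hV.primeIdealOf ⟨x, hxV⟩).isPrime.ne_top (top_le_iff.1 hmem)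
  · intro hx
    obtain ⟨_, ⟨V, hV, rfl⟩, hxV, -⟩ :=
      X.isBasis_affineOpens.exists_subset_of_mem_open (Set.mem_univ x) isOpen_univ
    rw [mem_support_iff_le F r hV hxV] at hx
    obtain ⟨g, hxg, t, ht⟩ := exists_basicOpen_span F hV hxV r hx
    exact ⟨X.basicOpen g, hxg, exists_epi_of_span F (hV.basicOpen g) t ht⟩

end Groth.Agent.Lib.QCoh.FittSheaf74
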