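import Groth.Agent.Lib.QCoh.Helper74_FittSheaf
import Groth.Agent.Lib.QCoh.Helper49_FP
import Groth.Prelude.Def_BlowUp2

/-!
# QCoh API (helper74): Fitting ideals of finitely presented modules are finitely generated

Namespace `Groth.Agent.Lib.QCoh.FittSheaf74`.
-/

set_option linter.style.haveILetI false
universe u
open CategoryTheory CategoryTheory.Limits AlgebraicGeometry Opposite TopologicalSpace

namespace Groth.Agent.Lib.QCoh.FittSheaf74
open Scheme.Modules Groth.Agent.Lib.QCoh Groth.Agent.Lib.Helper45.Fitting

/-- Fitting ideals of a finitely presented module are finitely generated. -/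
theorem fitt_fg {R : Type u} [CommRing R] {M : Type u} [AddCommGroup M] [Module R M]
    [Module.FinitePresentation R M] (k : ℕ) : (Fitt.ideal R M k).FG := by
  classical
  obtain ⟨n, x, hx⟩ := Module.Finite.exists_fin (R := R) (M := M)
  have hsurj : Function.Surjective (Fintype.linearCombination R x) := by
    rw [← LinearMap.range_eq_top, Fintype.range_linearCombination, hx]
  obtain ⟨G, hG⟩ := Module.FinitePresentation.fg_ker (Fintype.linearCombination R x) hsurj
  have hRel : (Rel R x : Set (Fin n → R)) = (Submodule.span R (G : Set (Fin n → R)) : Set _) := by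
    rw [hG]; rfl
  rw [fitt_eq_Min x hx k, hRel, Min_span, Groth.Agent.Lib.Helper45.Fitting.Min]
  set j := n - k
  have hfin : {d : R | ∃ (z : Fin j → (Fin n → R)) (e : Fin j → Fin n),
      (∀ b, z b ∈ (G : Set (Fin n → R))) ∧ d = minor z e}.Finite := by
    have h1 : {d : R | ∃ (z : Fin j → (Fin n → R)) (e : Fin j → Fin n),
        (∀ b, z b ∈ (G : Set (Fin n → R))) ∧ d = minor z e} ⊆
        Set.range (fun p : (Fin j → G) × (Fin j → Fin n) =>
          minor (fun b => ((p.1 b : G) : Fin n → R)) p.2) := by
      rintro d ⟨z, e, hz, rfl⟩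
      exact ⟨(fun b => ⟨z b, hz b⟩, e), rfl⟩
    exact (Set.finite_range _).subset h1
  exact ⟨hfin.toFinset, by rw [Set.Finite.coe_toFinset]⟩

/-- The Fitting ideal sheaves of a finitely presented module are of finite type. -/
theorem isFiniteTypeIdeal_sheafIdeal {X : Scheme.{u}} (F : X.Modules) [F.IsFinitePresentation]
    [F.IsQuasicoherent] [F.IsFiniteType] (r : ℕ) :
    BlowUp.IsFiniteTypeIdeal (Fitt.sheafIdeal F r) := by
  intro U
  rw [sheafIdeal_ideal]
  have := finitePresentation_Γ_of_isAffineOpen U.2 F
  exact fitt_fg r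

end Groth.Agent.Lib.QCoh.FittSheaf74
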