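import Groth.Agent.Lib.QCoh.Helper50_SpecMap
import Groth.Agent.Lib.QCoh.Helper50_Products
import Groth.Agent.Lib.QCoh.AffineOpen

/-!
# QCoh API (helper50): sections of a pullback over affine opens are a base change

Namespace `Groth.Agent.Lib.QCoh`.
-/

universe u

open CategoryTheory CategoryTheory.Limits AlgebraicGeometry Opposite TopologicalSpace

namespace Groth.Agent.Lib.QCoh

open Scheme.Modules

section SpecCase

variable {R S : CommRingCat.{u}} (φ : R ⟶ S)

/-- Global sections of the unit `N ⟶ g_* g^* N` for `g = Spec φ`, as an `R`-linear map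
`Γ(N) ⟶ Γ(g^* N)_R`. Natural in `N`. -/
noncomputable def ΓunitSpec :
    moduleSpecΓFunctor (R := R) ⟶
      Scheme.Modules.pullback (Spec.map φ) ⋙ moduleSpecΓFunctor (R := S) ⋙ ModuleCat.restrictScalars φ.hom :=
  Functor.whiskerRight (pullbackPushforwardAdjunction (Spec.map φ)).unit moduleSpecΓFunctor ≫
    (Functor.associator _ _ _).hom ≫
    Functor.whiskerLeft (Scheme.Modules.pullback (Spec.map φ)) (pushforwardSpecΓIso φ).hom

/-- The `S`-linear map `S ⊗_R Γ(N) ⟶ Γ(g^* N)` adjoint to `ΓunitSpec`. -/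
noncomputable def ΓunitSpecAdj (N : (Spec R).Modules) :
    (ModuleCat.extendScalars φ.hom).obj (moduleSpecΓFunctor.obj N) ⟶
      moduleSpecΓFunctor.obj ((Scheme.Modules.pullback (Spec.map φ)).obj N) :=
  ((ModuleCat.extendRestrictScalarsAdj φ.hom).homEquiv _ _).symm ((ΓunitSpec φ).app N)

lemma ΓunitSpecAdj_naturality {N N' : (Spec R).Modules} (f : N ⟶ N') :
    (ModuleCat.extendScalars φ.hom).map (moduleSpecΓFunctor.map f) ≫ ΓunitSpecAdj φ N' =
      ΓunitSpecAdj φ N ≫ moduleSpecΓFunctor.map ((Scheme.Modules.pullback (Spec.map φ)).map f) := by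
  unfold ΓunitSpecAdj
  rw [← Adjunction.homEquiv_naturality_left_symm, ← Adjunction.homEquiv_naturality_right_symm]
  congr 1
  exact (ΓunitSpec φ).naturality f

set_option backward.isDefEq.respectTransparency false in
lemma ΓunitSpecAdj_tilde_comp (M : ModuleCat.{u} R) :
    (ModuleCat.extendScalars φ.hom).map (tilde.toTildeΓNatIso.hom.app M) ≫
      ΓunitSpecAdj φ (tilde M) ≫ moduleSpecΓFunctor.map ((tildePullbackIso φ).hom.app M) =
    tilde.toTildeΓNatIso.hom.app ((ModuleCat.extendScalars φ.hom).obj M) := by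
  have key := Adjunction.unit_leftAdjointUniq_hom_app
    (((tilde.adjunction (R := R)).comp
      (Scheme.Modules.pullbackPushforwardAdjunction (Spec.map φ))).ofNatIsoRight
        (pushforwardSpecΓIso φ))
    ((ModuleCat.extendRestrictScalarsAdj φ.hom).comp (tilde.adjunction (R := S))) M
  rw [Adjunction.comp_unit_app] at key
  simp only [Adjunction.ofNatIsoRight_unit, NatTrans.comp_app, Functor.whiskerLeft_app,
    Adjunction.comp_unit_app] at key
  have h1 : tilde.toTildeΓNatIso.hom.app M ≫ (ΓunitSpec φ).app (tilde M) ≫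
      (ModuleCat.restrictScalars φ.hom).map
        (moduleSpecΓFunctor.map ((tildePullbackIso φ).hom.app M)) =
      (ModuleCat.extendRestrictScalarsAdj φ.hom).unit.app M ≫
        (ModuleCat.restrictScalars φ.hom).map
          (tilde.toTildeΓNatIso.hom.app ((ModuleCat.extendScalars φ.hom).obj M)) := by
    simp only [ΓunitSpec, NatTrans.comp_app, Functor.whiskerRight_app,
      Functor.associator_hom_app, Functor.whiskerLeft_app, Category.id_comp]
    simp only [Category.assoc] at key ⊢
    exact key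
  unfold ΓunitSpecAdj
  erw [← Adjunction.homEquiv_naturality_right_symm, ← Adjunction.homEquiv_naturality_left_symm]
  erw [h1, ← Adjunction.homEquiv_unit, Equiv.symm_apply_apply]

set_option backward.isDefEq.respectTransparency false in
lemma pushforwardSpecΓIso_hom_app_apply (N : (Spec S).Modules)
    (x : Γ((pushforward (Spec.map φ)).obj N, ⊤)) :
    ((pushforwardSpecΓIso φ).hom.app N).hom x = (show Γ(N, ⊤) from x) := rfl

set_option backward.isDefEq.respectTransparency false in
lemma moduleSpecΓFunctor_map_apply {N N' : (Spec R).Modules} (f : N ⟶ N') (x : Γ(N, ⊤)) :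
    (moduleSpecΓFunctor.map f).hom x = f.app ⊤ x := rfl

set_option backward.isDefEq.respectTransparency false in
lemma ΓunitSpec_app_apply (N : (Spec R).Modules) (x : Γ(N, ⊤)) :
    ((ΓunitSpec φ).app N).hom x =
      (show Γ((Scheme.Modules.pullback (Spec.map φ)).obj N, ⊤) from
        ((pullbackPushforwardAdjunction (Spec.map φ)).unit.app N).app ⊤ x) := rfl

open ChangeOfRings in
lemma ΓunitSpecAdj_one_tmul (N : (Spec R).Modules) (x : Γ(N, ⊤)) :
    (ΓunitSpecAdj φ N).hom ((1 : S) ⊗ₜ[R, φ.hom] (show moduleSpecΓFunctor.obj N from x)) =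
      ((ΓunitSpec φ).app N).hom x := by
  have := ModuleCat.extendRestrictScalarsAdj_homEquiv_apply (f := φ.hom) (ΓunitSpecAdj φ N) x
  refine this.symm.trans ?_
  unfold ΓunitSpecAdj
  rw [Equiv.apply_symm_apply]

instance isIso_ΓunitSpecAdj_tilde (M : ModuleCat.{u} R) : IsIso (ΓunitSpecAdj φ (tilde M)) := by
  have h := ΓunitSpecAdj_tilde_comp φ M
  have h0 : IsIso (moduleSpecΓFunctor.map ((tildePullbackIso φ).hom.app M)) :=
    inferInstanceAs (IsIso (moduleSpecΓFunctor.mapIso ((tildePullbackIso φ).app M)).hom)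
  have h2 : IsIso (ΓunitSpecAdj φ (tilde M) ≫
      moduleSpecΓFunctor.map ((tildePullbackIso φ).hom.app M)) := by
    refine IsIso.of_isIso_fac_left (f := (ModuleCat.extendScalars φ.hom).map
      (tilde.toTildeΓNatIso.hom.app M)) h
  exact @IsIso.of_isIso_comp_right _ _ _ _ _ (ΓunitSpecAdj φ (tilde M))
    (moduleSpecΓFunctor.map ((tildePullbackIso φ).hom.app M)) h0 h2

/-- **Spec case**: for `N` quasi-coherent on `Spec R`, `S ⊗_R Γ(N) ⟶ Γ((Spec φ)^* N)` is an
isomorphism. -/
theorem isIso_ΓunitSpecAdj (N : (Spec R).Modules) [N.IsQuasicoherent] :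
    IsIso (ΓunitSpecAdj φ N) := by
  have hiso : IsIso N.fromTildeΓ := Scheme.Modules.isIso_fromTildeΓ_of_isQuasicoherent N
  have h := ΓunitSpecAdj_naturality φ N.fromTildeΓ
  have : IsIso ((ModuleCat.extendScalars φ.hom).map (moduleSpecΓFunctor.map N.fromTildeΓ) ≫
      ΓunitSpecAdj φ N) := by
    rw [h]; infer_instance
  exact IsIso.of_isIso_comp_left
    ((ModuleCat.extendScalars φ.hom).map (moduleSpecΓFunctor.map N.fromTildeΓ)) _

end SpecCase

section General

variable {Y' Y : Scheme.{u}} (g : Y' ⟶ Y) {W : Y.Opens} {W' : Y'.Opens}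
  (hW : IsAffineOpen W) (hW' : IsAffineOpen W') (e : W' ≤ g ⁻¹ᵁ W)

/-- The two composite pushforwards around the square `Spec Γ(Y',W') → Y' → Y`,
`Spec Γ(Y',W') → Spec Γ(Y,W) → Y` agree. -/
noncomputable def pushSquareIso :
    pushforward hW'.fromSpec ⋙ pushforward g ≅
      pushforward (Spec.map (g.appLE W W' e)) ⋙ pushforward hW.fromSpec :=
  pushforwardComp _ _ ≪≫ pushforwardCongr (hW.SpecMap_appLE_fromSpec g hW' e).symm ≪≫
    (pushforwardComp _ _).symm

/-- First adjunction: pull back along `g`, then restrict to `Spec Γ(Y', W')`. -/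
noncomputable def adjI :
    Scheme.Modules.pullback g ⋙ restrictFunctor hW'.fromSpec ⊣
      pushforward hW'.fromSpec ⋙ pushforward g :=
  (pullbackPushforwardAdjunction g).comp (restrictAdjunction hW'.fromSpec)

/-- Second adjunction: restrict to `Spec Γ(Y, W)`, then pull back along `Spec (g.appLE W W')`. -/
noncomputable def adjII :
    restrictFunctor hW.fromSpec ⋙ Scheme.Modules.pullback (Spec.map (g.appLE W W' e)) ⊣
      pushforward (Spec.map (g.appLE W W' e)) ⋙ pushforward hW.fromSpec :=
  (restrictAdjunction hW.fromSpec).comp (pullbackPushforwardAdjunction (Spec.map (g.appLE W W' e)))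

/-- `(g^* G)|_{W'} ≅ (Spec φ)^* (G|_W)` on `Spec Γ(Y', W')`, where `φ = g.appLE W W'`. -/
noncomputable def pullbackRestrictSpecIso :
    Scheme.Modules.pullback g ⋙ restrictFunctor hW'.fromSpec ≅
      restrictFunctor hW.fromSpec ⋙ Scheme.Modules.pullback (Spec.map (g.appLE W W' e)) :=
  (adjI g hW').leftAdjointUniq ((adjII g hW e).ofNatIsoRight (pushSquareIso g hW hW' e).symm)

lemma pullbackRestrictSpecIso_unit (G : Y.Modules) :
    (adjI g hW').unit.app G ≫ (pushforward hW'.fromSpec ⋙ pushforward g).map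
        ((pullbackRestrictSpecIso g hW hW' e).hom.app G) =
      (adjII g hW e).unit.app G ≫ (pushSquareIso g hW hW' e).inv.app _ := by
  have := Adjunction.unit_leftAdjointUniq_hom_app (adjI g hW')
    ((adjII g hW e).ofNatIsoRight (pushSquareIso g hW hW' e).symm) G
  simpa [pullbackRestrictSpecIso] using this

lemma app_naturality {X : Scheme.{u}} {M N : X.Modules} (φ : M ⟶ N) {A B : X.Opens}
    (i : op A ⟶ op B) :
    M.presheaf.map i ≫ φ.app B = φ.app A ≫ N.presheaf.map i := by
  simpa using φ.mapPresheaf.naturality i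

/-- The comparison map `Γ(G, W) ⟶ Γ(g^* G, W')`: unit of the adjunction, then restriction. -/
noncomputable def pullbackSectionsMap (G : Y.Modules) :
    Γ(G, W) ⟶ Γ((Scheme.Modules.pullback g).obj G, W') :=
  ((pullbackPushforwardAdjunction g).unit.app G).app W ≫
    ((Scheme.Modules.pullback g).obj G).presheaf.map (homOfLE e).op

lemma presheaf_map_comp' {X : Scheme.{u}} (M : X.Modules) {A B C : X.Opens} (a : A ⟶ B)
    (b : B ⟶ C) (c : A ⟶ C) :
    M.presheaf.map b.op ≫ M.presheaf.map a.op = M.presheaf.map c.op := by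
  rw [← Functor.map_comp, ← op_comp]
  congr 1

lemma pullbackRestrictSpecIso_unit_app (G : Y.Modules) :
    (((pullbackPushforwardAdjunction g).unit.app G).app W ≫
        ((Scheme.Modules.pullback g).obj G).presheaf.map
          (homOfLE (hW'.fromSpec.image_preimage_le (g ⁻¹ᵁ W))).op) ≫
      ((pullbackRestrictSpecIso g hW hW' e).hom.app G).app (hW'.fromSpec ⁻¹ᵁ g ⁻¹ᵁ W) =
    (G.presheaf.map (homOfLE (hW.fromSpec.image_preimage_le W)).op ≫
        ((pullbackPushforwardAdjunction (Spec.map (g.appLE W W' e))).unit.app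
          ((restrictFunctor hW.fromSpec).obj G)).app (hW.fromSpec ⁻¹ᵁ W)) ≫
      ((Scheme.Modules.pullback (Spec.map (g.appLE W W' e))).obj
        ((restrictFunctor hW.fromSpec).obj G)).presheaf.map
          (eqToHom (by rw [← Scheme.Hom.comp_preimage, ← Scheme.Hom.comp_preimage,
            hW.SpecMap_appLE_fromSpec g hW' e])).op := by
  have h := congr(($(pullbackRestrictSpecIso_unit g hW hW' e G)).app W)
  simp only [adjI, adjII, Adjunction.comp_unit_app, Hom.comp_app, Functor.comp_map,
    pushforward_map_app, restrictAdjunction_unit_app_app, pushSquareIso, Iso.trans_inv,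
    Iso.symm_inv, NatTrans.comp_app, pushforwardComp_hom_app_app, pushforwardComp_inv_app_app,
    pushforwardCongr_inv_app_app] at h
  erw [Category.id_comp, Category.comp_id] at h
  exact h

lemma map_map_apply {X : Scheme.{u}} (M : X.Modules) {A B C : X.Opens} (a : A ⟶ B)
    (b : B ⟶ C) (c : A ⟶ C) (x : Γ(M, C)) :
    M.presheaf.map a.op (M.presheaf.map b.op x) = M.presheaf.map c.op x := by
  have := presheaf_map_comp' M a b c
  exact congr($this x)

lemma app_naturality_apply {X : Scheme.{u}} {M N : X.Modules} (φ : M ⟶ N) {A B : X.Opens}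
    (i : A ⟶ B) (x : Γ(M, B)) :
    φ.app A (M.presheaf.map i.op x) = N.presheaf.map i.op (φ.app B x) := by
  have := app_naturality φ i.op
  exact congr($this x)

lemma pullbackRestrictSpecIso_unit_apply (G : Y.Modules) (m : Γ(G, W)) :
    ((pullbackRestrictSpecIso g hW hW' e).hom.app G).app (hW'.fromSpec ⁻¹ᵁ g ⁻¹ᵁ W)
      (((Scheme.Modules.pullback g).obj G).presheaf.map
          (homOfLE (hW'.fromSpec.image_preimage_le (g ⁻¹ᵁ W))).op
        (((pullbackPushforwardAdjunction g).unit.app G).app W m)) =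
    ((Scheme.Modules.pullback (Spec.map (g.appLE W W' e))).obj
        ((restrictFunctor hW.fromSpec).obj G)).presheaf.map
          (eqToHom (by rw [← Scheme.Hom.comp_preimage, ← Scheme.Hom.comp_preimage,
            hW.SpecMap_appLE_fromSpec g hW' e])).op
      (((pullbackPushforwardAdjunction (Spec.map (g.appLE W W' e))).unit.app
          ((restrictFunctor hW.fromSpec).obj G)).app (hW.fromSpec ⁻¹ᵁ W)
        (G.presheaf.map (homOfLE (hW.fromSpec.image_preimage_le W)).op m)) := by
  have h := pullbackRestrictSpecIso_unit_app g hW hW' e G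
  exact congr($h m)

set_option maxHeartbeats 1000000 in
/-- The comparison map factors through the Spec-level unit and the iso
`pullbackRestrictSpecIso`. -/
lemma pullbackSectionsMap_apply (G : Y.Modules) (m : Γ(G, W)) :
    pullbackSectionsMap g e G m =
      ((Scheme.Modules.pullback g).obj G).presheaf.map
        (eqToHom (fromSpec_image_top hW').symm).op
        (show Γ((Scheme.Modules.pullback g).obj G, hW'.fromSpec ''ᵁ ⊤) from
          ((pullbackRestrictSpecIso g hW hW' e).inv.app G).app ⊤
            (show Γ((Scheme.Modules.pullback (Spec.map (g.appLE W W' e))).obj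
                ((restrictFunctor hW.fromSpec).obj G), ⊤) from
              ((pullbackPushforwardAdjunction (Spec.map (g.appLE W W' e))).unit.app
                ((restrictFunctor hW.fromSpec).obj G)).app ⊤
                (show Γ((restrictFunctor hW.fromSpec).obj G, ⊤) from
                  G.presheaf.map (eqToHom (fromSpec_image_top hW)).op m))) := by
  -- abbreviations
  let P := (Scheme.Modules.pullback g).obj G
  let N := (restrictFunctor hW.fromSpec).obj G
  let L := (Scheme.Modules.pullback (Spec.map (g.appLE W W' e))).obj N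
  let V : (Spec Γ(Y', W')).Opens := hW'.fromSpec ⁻¹ᵁ g ⁻¹ᵁ W
  let n : Γ(N, ⊤) := G.presheaf.map (eqToHom (fromSpec_image_top hW)).op m
  let l : Γ(L, ⊤) := ((pullbackPushforwardAdjunction (Spec.map (g.appLE W W' e))).unit.app N).app ⊤ n
  let y : Γ(P, hW'.fromSpec ''ᵁ ⊤) := ((pullbackRestrictSpecIso g hW hW' e).inv.app G).app ⊤ l
  let x : Γ(P, g ⁻¹ᵁ W) := ((pullbackPushforwardAdjunction g).unit.app G).app W m
  have hW'eq : W' = hW'.fromSpec ''ᵁ V := by
    rw [Scheme.Hom.image_preimage_eq_opensRange_inf, hW'.opensRange_fromSpec]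
    exact (inf_eq_left.2 e).symm
  have hs₀ : hW.fromSpec ⁻¹ᵁ W ≤ ⊤ := le_top
  have hr₀ : V ≤ ⊤ := le_top
  let a := homOfLE (hW'.fromSpec.image_preimage_le (g ⁻¹ᵁ W))
  let u := (pullbackPushforwardAdjunction (Spec.map (g.appLE W W' e))).unit.app N
  let εh := (pullbackRestrictSpecIso g hW hW' e).hom.app G
  let εi := (pullbackRestrictSpecIso g hW hW' e).inv.app G
  have hVeq : hW'.fromSpec ⁻¹ᵁ g ⁻¹ᵁ W =
      Spec.map (g.appLE W W' e) ⁻¹ᵁ hW.fromSpec ⁻¹ᵁ W := by
    rw [← Scheme.Hom.comp_preimage, ← Scheme.Hom.comp_preimage,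
      hW.SpecMap_appLE_fromSpec g hW' e]
  have F1 : εh.app V (P.presheaf.map a.op x) =
      L.presheaf.map (eqToHom hVeq).op
        (u.app (hW.fromSpec ⁻¹ᵁ W)
          (G.presheaf.map (homOfLE (hW.fromSpec.image_preimage_le W)).op m)) :=
    pullbackRestrictSpecIso_unit_apply g hW hW' e G m
  -- (F2)
  have F2a : N.presheaf.map (homOfLE hs₀).op n =
      G.presheaf.map (homOfLE (hW.fromSpec.image_preimage_le W)).op m :=
    map_map_apply G (hW.fromSpec.opensFunctor.map (homOfLE hs₀))
      (eqToHom (fromSpec_image_top hW)) _ m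
  have F2 : u.app (hW.fromSpec ⁻¹ᵁ W)
      (G.presheaf.map (homOfLE (hW.fromSpec.image_preimage_le W)).op m) =
      L.presheaf.map ((Opens.map (Spec.map (g.appLE W W' e)).base).map (homOfLE hs₀)).op l :=
    (congrArg (u.app (hW.fromSpec ⁻¹ᵁ W)) F2a.symm).trans
      (app_naturality_apply u (homOfLE hs₀) n)
  have F1' : εh.app V (P.presheaf.map a.op x) = L.presheaf.map (homOfLE hr₀).op l :=
    (F1.trans (congrArg _ F2)).trans (map_map_apply L _ _ _ l)
  -- (F3)
  have F3 : εi.app V (L.presheaf.map (homOfLE hr₀).op l) =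
      (P.restrict hW'.fromSpec).presheaf.map (homOfLE hr₀).op y :=
    app_naturality_apply εi (homOfLE hr₀) l
  have hε : εi.app V (εh.app V (P.presheaf.map a.op x)) = P.presheaf.map a.op x := by
    have : εh.app V ≫ εi.app V = 𝟙 _ := by
      rw [← Hom.comp_app, Iso.hom_inv_id_app]; rfl
    exact congr($this _)
  have F3' : P.presheaf.map a.op x =
      (P.restrict hW'.fromSpec).presheaf.map (homOfLE hr₀).op y :=
    (hε.symm.trans (congrArg (εi.app V) F1')).trans F3
  have F4 := congrArg (P.presheaf.map (eqToHom hW'eq).op) F3'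
  have F5 : P.presheaf.map (eqToHom hW'eq).op (P.presheaf.map a.op x) =
      P.presheaf.map (homOfLE e).op x := map_map_apply P _ _ _ x
  have F6 : P.presheaf.map (eqToHom hW'eq).op
      ((P.restrict hW'.fromSpec).presheaf.map (homOfLE hr₀).op y) =
      P.presheaf.map (eqToHom (fromSpec_image_top hW').symm).op y :=
    map_map_apply P (eqToHom hW'eq) (hW'.fromSpec.opensFunctor.map (homOfLE hr₀)) _ y
  exact (F5.symm.trans F4).trans F6

lemma ΓrestrictSpecLinearEquiv_apply {X : Scheme.{u}} {U : X.Opens} (hU : IsAffineOpen U)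
    (M : X.Modules) (z : Γ(restrictSpec hU M, ⊤)) :
    ΓrestrictSpecLinearEquiv hU M z =
      M.presheaf.map (eqToHom (fromSpec_image_top hU).symm).op
        (show Γ(M, hU.fromSpec ''ᵁ ⊤) from z) := rfl

lemma ΓrestrictSpecLinearEquiv_symm_apply {X : Scheme.{u}} {U : X.Opens} (hU : IsAffineOpen U)
    (M : X.Modules) (m : Γ(M, U)) :
    (ΓrestrictSpecLinearEquiv hU M).symm m =
      (show Γ(restrictSpec hU M, ⊤) from
        M.presheaf.map (eqToHom (fromSpec_image_top hU)).op m) := by
  apply (ΓrestrictSpecLinearEquiv hU M).injective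
  rw [LinearEquiv.apply_symm_apply, ΓrestrictSpecLinearEquiv_apply]
  have h1 := map_map_apply M (eqToHom (fromSpec_image_top hU).symm)
    (eqToHom (fromSpec_image_top hU)) (𝟙 U) m
  have h2 : M.presheaf.map (𝟙 U).op m = m := by
    rw [op_id, M.presheaf.map_id]; rfl
  exact (h1.trans h2).symm

include hW hW' in
open ChangeOfRings in
set_option backward.isDefEq.respectTransparency false in
set_option maxHeartbeats 400000 in
/-- **Sections of a pullback over affine opens are a base change.**  For `g : Y' ⟶ Y`, `G`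
quasi-coherent on `Y`, affine opens `W ⊆ Y`, `W' ⊆ g⁻¹ W`: there is an isomorphism of
`Γ(Y', W')`-modules `Γ(Y', W') ⊗_{Γ(Y, W)} Γ(G, W) ≅ Γ(g^* G, W')` sending `1 ⊗ m` to the image of
`m` under the comparison map (unit of adjunction followed by restriction). -/
theorem exists_iso_extendScalars_pullbackSections (G : Y.Modules) [G.IsQuasicoherent] :
    ∃ κ : (ModuleCat.extendScalars (g.appLE W W' e).hom).obj (ModuleCat.of Γ(Y, W) Γ(G, W)) ≅
        ModuleCat.of Γ(Y', W') Γ((Scheme.Modules.pullback g).obj G, W'),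
      ∀ m : Γ(G, W), κ.hom ((1 : Γ(Y', W')) ⊗ₜ[Γ(Y, W), (g.appLE W W' e).hom] m) =
        pullbackSectionsMap g e G m := by
  have hN : ((restrictFunctor hW.fromSpec).obj G).IsQuasicoherent :=
    isQuasicoherent_restrict hW.fromSpec G
  have hiso := isIso_ΓunitSpecAdj (g.appLE W W' e) ((restrictFunctor hW.fromSpec).obj G)
  let α : ModuleCat.of Γ(Y, W) Γ(G, W) ≅
      moduleSpecΓFunctor.obj ((restrictFunctor hW.fromSpec).obj G) :=
    (ΓrestrictSpecLinearEquiv hW G).symm.toModuleIso
  let β : moduleSpecΓFunctor.obj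
        ((restrictFunctor hW'.fromSpec).obj ((Scheme.Modules.pullback g).obj G)) ≅
      ModuleCat.of Γ(Y', W') Γ((Scheme.Modules.pullback g).obj G, W') :=
    (ΓrestrictSpecLinearEquiv hW' ((Scheme.Modules.pullback g).obj G)).toModuleIso
  refine ⟨(ModuleCat.extendScalars (g.appLE W W' e).hom).mapIso α ≪≫
    asIso (ΓunitSpecAdj (g.appLE W W' e) ((restrictFunctor hW.fromSpec).obj G)) ≪≫
    moduleSpecΓFunctor.mapIso ((pullbackRestrictSpecIso g hW hW' e).app G).symm ≪≫ β, fun m => ?_⟩
  rw [pullbackSectionsMap_apply g hW hW' e G m]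
  have h6 := ΓrestrictSpecLinearEquiv_symm_apply hW G m
  have h2 := ΓunitSpecAdj_one_tmul (g.appLE W W' e) ((restrictFunctor hW.fromSpec).obj G)
    ((ΓrestrictSpecLinearEquiv hW G).symm m)
  rw [ΓunitSpec_app_apply, h6] at h2
  refine Eq.trans ?_ (congrArg (fun z => ((Scheme.Modules.pullback g).obj G).presheaf.map
      (eqToHom (fromSpec_image_top hW').symm).op
      (((pullbackRestrictSpecIso g hW hW' e).inv.app G).app ⊤ z)) h2)
  rfl

end General

end Groth.Agent.Lib.QCoh
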