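import Mathlib.RingTheory.Flat.FaithfullyFlat.Basic
import Mathlib.RingTheory.Flat.EquationalCriterion
import Mathlib.RingTheory.Finiteness.Descent
import Mathlib.RingTheory.FinitePresentation

/-!
# Descent along a jointly faithfully flat finite family of algebras (helper50)

Namespace `Groth.Agent.Lib.QCoh`.

`JointlyFaithful A B` for a family `B : ι → Type*` of `A`-algebras: an ideal `I` of `A` with
`I B_j = B_j` for all `j` is the unit ideal (e.g. `⊔ Spec B_j → Spec A` surjective).  For a family
of flat algebras with this property we prove descent of: vanishing, surjectivity, injectivity,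
finiteness, finite presentation, flatness, finite projectivity of modules.
-/

namespace Groth.Agent.Lib.QCoh

open TensorProduct

variable {A : Type*} [CommRing A] {ι : Type*} (B : ι → Type*) [∀ j, CommRing (B j)]
  [∀ j, Algebra A (B j)]

variable (A) in
/-- A family of `A`-algebras is jointly faithful if an ideal generating the unit ideal in each
member is the unit ideal. -/
def JointlyFaithful : Prop :=
  ∀ I : Ideal A, (∀ j, I.map (algebraMap A (B j)) = ⊤) → I = ⊤

variable {B}

/-- Joint surjectivity on prime spectra implies joint faithfulness. -/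
theorem jointlyFaithful_of_forall_exists_comap
    (h : ∀ p : PrimeSpectrum A, ∃ j, ∃ q : PrimeSpectrum (B j),
      PrimeSpectrum.comap (algebraMap A (B j)) q = p) : JointlyFaithful A B := by
  intro I hI
  by_contra hne
  obtain ⟨m, hm, hIm⟩ := Ideal.exists_le_maximal I hne
  obtain ⟨j, q, hq⟩ := h ⟨m, hm.isPrime⟩
  have h1 : I.map (algebraMap A (B j)) ≤ q.asIdeal := by
    rw [Ideal.map_le_iff_le_comap]
    intro x hx
    have : x ∈ (PrimeSpectrum.comap (algebraMap A (B j)) q).asIdeal := by
      rw [hq]; exact hIm hx
    exact this
  rw [hI j] at h1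
  exact q.isPrime.ne_top (top_le_iff.1 h1)

variable (hB : JointlyFaithful A B) [∀ j, Module.Flat A (B j)]

include hB in
/-- Descent of vanishing. -/
theorem subsingleton_of_forall_subsingleton_tensor (Q : Type*) [AddCommGroup Q] [Module A Q]
    (h : ∀ j, Subsingleton (B j ⊗[A] Q)) : Subsingleton Q := by
  refine ⟨fun x y => ?_⟩
  suffices ∀ z : Q, z = 0 by rw [this x, this y]
  intro x
  let f : A →ₗ[A] Q := LinearMap.toSpanSingleton A Q x
  let I : Ideal A := LinearMap.ker f
  have hI : I = ⊤ := by
    apply hB
    intro j
    have hex : Function.Exact ((Submodule.subtype I).lTensor (B j)) (f.lTensor (B j)) :=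
      Module.Flat.lTensor_exact (B j) (fun a => by
        simp only [Set.mem_range, Submodule.coe_subtype, Subtype.exists, exists_prop,
          exists_eq_right]
        exact Iff.rfl)
    have h0 : f.lTensor (B j) ((1 : B j) ⊗ₜ (1 : A)) = 0 := Subsingleton.elim _ _
    obtain ⟨y, hy⟩ := (hex _).1 h0
    -- apply the multiplication map `B j ⊗ A → B j`
    let μ : B j ⊗[A] A →ₗ[A] B j := (TensorProduct.rid A (B j)).toLinearMap
    have hμ : ∀ z : B j ⊗[A] I, μ ((Submodule.subtype I).lTensor (B j) z) ∈
        I.map (algebraMap A (B j)) := by
      intro z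
      induction z with
      | zero => simp
      | add a b ha hb => rw [map_add, map_add]; exact Ideal.add_mem _ ha hb
      | tmul b i =>
        simp only [LinearMap.lTensor_tmul, Submodule.coe_subtype, μ, LinearEquiv.coe_coe,
          TensorProduct.rid_tmul]
        rw [Algebra.smul_def, mul_comm]
        exact Ideal.mul_mem_left _ _ (Ideal.mem_map_of_mem _ i.2)
    have h1 := hμ y
    rw [hy] at h1
    simp only [μ, LinearEquiv.coe_coe, TensorProduct.rid_tmul, one_smul] at h1
    exact (Ideal.eq_top_iff_one _).2 h1
  have h1 : (1 : A) ∈ I := by rw [hI]; trivial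
  have h2 : f 1 = 0 := h1
  simpa [f] using h2

include hB in
/-- Descent of surjectivity. -/
theorem surjective_of_forall_lTensor_surjective {M N : Type*} [AddCommGroup M] [Module A M]
    [AddCommGroup N] [Module A N] (f : M →ₗ[A] N)
    (h : ∀ j, Function.Surjective (f.lTensor (B j))) : Function.Surjective f := by
  let Q := N ⧸ LinearMap.range f
  let π : N →ₗ[A] Q := Submodule.mkQ _
  have hπ : Function.Surjective π := Submodule.mkQ_surjective _
  have hQ : Subsingleton Q := by
    apply subsingleton_of_forall_subsingleton_tensor hB
    intro j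
    refine ⟨fun a b => ?_⟩
    suffices ∀ z : B j ⊗[A] Q, z = 0 by rw [this a, this b]
    intro z
    obtain ⟨n, rfl⟩ := LinearMap.lTensor_surjective (B j) hπ z
    obtain ⟨m, rfl⟩ := h j n
    rw [← LinearMap.comp_apply, ← LinearMap.lTensor_comp]
    have : π ∘ₗ f = 0 := by
      ext m
      simp only [LinearMap.coe_comp, Function.comp_apply, LinearMap.zero_apply, π]
      exact (Submodule.Quotient.mk_eq_zero _).2 ⟨m, rfl⟩
    rw [this, LinearMap.lTensor_zero, LinearMap.zero_apply]
  rw [← LinearMap.range_eq_top]
  exact Submodule.Quotient.subsingleton_iff.1 hQ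

include hB in
/-- Descent of injectivity. -/
theorem injective_of_forall_lTensor_injective {M N : Type*} [AddCommGroup M] [Module A M]
    [AddCommGroup N] [Module A N] (f : M →ₗ[A] N)
    (h : ∀ j, Function.Injective (f.lTensor (B j))) : Function.Injective f := by
  let K := LinearMap.ker f
  have hK : Subsingleton K := by
    apply subsingleton_of_forall_subsingleton_tensor hB
    intro j
    refine ⟨fun a b => ?_⟩
    suffices ∀ z : B j ⊗[A] K, z = 0 by rw [this a, this b]
    intro z
    have hinj : Function.Injective ((Submodule.subtype K).lTensor (B j)) :=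
      Module.Flat.lTensor_preserves_injective_linearMap _ (Submodule.subtype_injective K)
    apply hinj
    apply h j
    rw [map_zero, map_zero, ← LinearMap.comp_apply, ← LinearMap.lTensor_comp]
    have : f ∘ₗ Submodule.subtype K = 0 := by
      ext m
      exact m.2
    rw [this, LinearMap.lTensor_zero, LinearMap.zero_apply]
  rw [← LinearMap.ker_eq_bot]
  exact Submodule.subsingleton_iff_eq_bot.1 hK

omit [∀ j, Module.Flat A (B j)] in
/-- A finite module after base change is generated by the image of a finitely generated
submodule. -/
theorem exists_fg_lTensor_surjective (T : Type*) [CommRing T] [Algebra A T] (M : Type*)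
    [AddCommGroup M] [Module A M] [Module.Finite T (T ⊗[A] M)] :
    ∃ N : Submodule A M, N.FG ∧ Function.Surjective ((Submodule.subtype N).lTensor T) := by
  obtain ⟨n, s, hs⟩ := Module.Finite.exists_fin (R := T) (M := T ⊗[A] M)
  choose k t m h using fun i : Fin n ↦ TensorProduct.exists_sum_tmul_eq (s i)
  let S : Set M := Set.range (fun p : Σ i, Fin (k i) => m p.1 p.2)
  refine ⟨Submodule.span A S, Submodule.fg_span (Set.finite_range _), ?_⟩
  let g : T ⊗[A] (Submodule.span A S) →ₗ[T] T ⊗[A] M :=
    AlgebraTensorModule.lTensor T T (Submodule.subtype _)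
  have hg : LinearMap.range g = ⊤ := by
    rw [eq_top_iff, ← hs, Submodule.span_le, Set.range_subset_iff]
    intro i
    refine ⟨∑ j : Fin (k i), t i j ⊗ₜ ⟨m i j, Submodule.subset_span ⟨⟨i, j⟩, rfl⟩⟩, ?_⟩
    simp [g, h i]
  intro y
  obtain ⟨x, hx⟩ := LinearMap.range_eq_top.1 hg y
  exact ⟨x, hx⟩

include hB in
/-- Descent of finiteness. -/
theorem finite_of_forall_finite_tensor [Finite ι] (M : Type*) [AddCommGroup M] [Module A M]
    (h : ∀ j, Module.Finite (B j) (B j ⊗[A] M)) : Module.Finite A M := by
  choose N hN hNs using fun j => exists_fg_lTensor_surjective (A := A) (B j) M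
  let N' : Submodule A M := ⨆ j, N j
  have hN' : N'.FG := Submodule.fg_iSup N hN
  have hs : Function.Surjective (Submodule.subtype N') := by
    apply surjective_of_forall_lTensor_surjective hB
    intro j y
    obtain ⟨x, hx⟩ := hNs j y
    refine ⟨(Submodule.inclusion (le_iSup N j)).lTensor (B j) x, ?_⟩
    rw [← LinearMap.comp_apply, ← LinearMap.lTensor_comp]
    exact hx
  have : N' = ⊤ := by
    rw [eq_top_iff]
    intro x _
    obtain ⟨y, rfl⟩ := hs x
    exact y.2
  rw [this] at hN'
  exact ⟨hN'⟩

include hB in
/-- Descent of finite presentation. -/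
theorem finitePresentation_of_forall_finitePresentation_tensor [Finite ι] (M : Type*)
    [AddCommGroup M] [Module A M]
    (h : ∀ j, Module.FinitePresentation (B j) (B j ⊗[A] M)) :
    Module.FinitePresentation A M := by
  have hfin : Module.Finite A M := finite_of_forall_finite_tensor hB M fun j => inferInstance
  obtain ⟨n, π, hπ⟩ := Module.Finite.exists_fin' A M
  let K := LinearMap.ker π
  have hK : Module.Finite A K := by
    apply finite_of_forall_finite_tensor hB
    intro j
    let πT : B j ⊗[A] (Fin n → A) →ₗ[B j] B j ⊗[A] M := AlgebraTensorModule.lTensor (B j) (B j) π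
    let ιT : B j ⊗[A] K →ₗ[B j] B j ⊗[A] (Fin n → A) :=
      AlgebraTensorModule.lTensor (B j) (B j) (Submodule.subtype K)
    have hπT : Function.Surjective πT := LinearMap.lTensor_surjective (B j) hπ
    have hker : (LinearMap.ker πT).FG := Module.FinitePresentation.fg_ker πT hπT
    have hinj : Function.Injective ιT :=
      Module.Flat.lTensor_preserves_injective_linearMap _ (Submodule.subtype_injective K)
    have hex : Function.Exact ιT πT :=
      Module.Flat.lTensor_exact (B j) (f := Submodule.subtype K) (g := π) (fun a => by
        simp only [Set.mem_range, Submodule.coe_subtype, Subtype.exists, exists_prop,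
          exists_eq_right]
        exact Iff.rfl)
    have hrange : LinearMap.range ιT = LinearMap.ker πT := by
      ext y
      exact ((hex y).symm : _)
    have : Module.Finite (B j) (LinearMap.range ιT) := by
      rw [hrange]
      exact Module.Finite.iff_fg.2 hker
    exact Module.Finite.equiv (LinearEquiv.ofInjective ιT hinj).symm
  exact Module.finitePresentation_of_surjective π hπ (Module.Finite.iff_fg.1 hK)

include hB in
/-- Descent of flatness. -/
theorem flat_of_forall_flat_tensor (M : Type*) [AddCommGroup M] [Module A M]
    (h : ∀ j, Module.Flat (B j) (B j ⊗[A] M)) : Module.Flat A M := by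
  rw [Module.Flat.iff_lTensor_preserves_injective_linearMap]
  intro N P _ _ _ _ f hf
  apply injective_of_forall_lTensor_injective hB
  intro j
  have : Module.Flat A (B j ⊗[A] M) := Module.Flat.trans A (B j) _
  have : LinearMap.lTensor (B j) (LinearMap.lTensor M f) =
      (TensorProduct.assoc _ _ _ _).toLinearMap ∘ₗ LinearMap.lTensor (B j ⊗[A] M) f ∘ₗ
        (TensorProduct.assoc _ _ _ _).symm.toLinearMap := by
    ext
    simp
  simpa [this] using Module.Flat.lTensor_preserves_injective_linearMap f hf

include hB in
/-- Descent of finite projectivity. -/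
theorem finite_projective_of_forall_tensor [Finite ι] (M : Type*) [AddCommGroup M] [Module A M]
    (h : ∀ j, Module.Finite (B j) (B j ⊗[A] M) ∧ Module.Projective (B j) (B j ⊗[A] M)) :
    Module.Finite A M ∧ Module.Projective A M := by
  have h1 : Module.FinitePresentation A M :=
    finitePresentation_of_forall_finitePresentation_tensor hB M fun j =>
      have := (h j).1
      have := (h j).2
      Module.finitePresentation_of_projective _ _
  have h2 : Module.Flat A M := flat_of_forall_flat_tensor hB M fun j =>
    have := (h j).2
    inferInstance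
  exact ⟨inferInstance, Module.Flat.projective_of_finitePresentation⟩

end Groth.Agent.Lib.QCoh
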