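import Groth.Agent.Lib.QCoh.Helper50_PullbackSections
import Groth.Agent.Lib.QCoh.Helper50_Pullback
import Groth.Agent.Lib.QCoh.Helper50_FpqcDescentAlg
import Groth.Agent.Lib.QCoh.AffineOpen
import Groth.Agent.Lib.QCoh.Helper49_FP
import Groth.Agent.Lib.QCoh.Helper74_LocFreeStalk
import Mathlib.AlgebraicGeometry.Morphisms.Flat

/-!
# QCoh API (helper50): fpqc descent of properties of quasi-coherent modules

Namespace `Groth.Agent.Lib.QCoh`.  For `g : X' ⟶ X` flat, surjective and quasi-compact and `M`
quasi-coherent on `X`: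

* `descent_sections` : generic descent principle for properties of the modules of sections.
* `isFiniteType_of_pullback`, `isFinitePresentation_of_pullback`, `isFinLocFree_of_pullback`,
  `isFlat_of_pullback`.
-/

universe u

open CategoryTheory CategoryTheory.Limits AlgebraicGeometry Opposite TopologicalSpace TensorProduct

namespace Groth.Agent.Lib.QCoh

open Scheme.Modules

variable {X' X : Scheme.{u}} (g : X' ⟶ X)

/-- Points of the spectrum of sections over an affine open lift along a surjective morphism. -/
lemma exists_SpecMap_eq_of_surjective [Surjective g] {U : X.Opens} (hU : IsAffineOpen U)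
    {ι : Type*} (V : ι → X'.Opens) (hV : ∀ j, IsAffineOpen (V j)) (hle : ∀ j, V j ≤ g ⁻¹ᵁ U)
    (hcov : g ⁻¹ᵁ U ≤ ⨆ j, V j) (p : Spec Γ(X, U)) :
    ∃ j, ∃ q : Spec Γ(X', V j), Spec.map (g.appLE U (V j) (hle j)) q = p := by
  obtain ⟨x', hx'⟩ := g.surjective (hU.fromSpec p)
  have hxU : g x' ∈ U := by
    rw [hx']
    have : hU.fromSpec p ∈ Set.range hU.fromSpec := ⟨p, rfl⟩
    rw [hU.range_fromSpec] at this
    exact this
  obtain ⟨j, hj⟩ := Opens.mem_iSup.1 (hcov (show x' ∈ g ⁻¹ᵁ U from hxU))
  have : x' ∈ Set.range (hV j).fromSpec := by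
    rw [(hV j).range_fromSpec]; exact hj
  obtain ⟨q, hq⟩ := this
  refine ⟨j, q, ?_⟩
  have hinj : Function.Injective hU.fromSpec := hU.fromSpec.isOpenEmbedding.injective
  apply hinj
  have h1 := hU.SpecMap_appLE_fromSpec g (hV j) (hle j)
  have h2 : hU.fromSpec (Spec.map (g.appLE U (V j) (hle j)) q) = g ((hV j).fromSpec q) :=
    congr($h1 q)
  rw [← hx', ← hq, ← h2]

/-- `PrimeSpectrum` form of `exists_SpecMap_eq_of_surjective`. -/
lemma exists_comap_eq_of_surjective [Surjective g] {U : X.Opens} (hU : IsAffineOpen U)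
    {ι : Type*} (V : ι → X'.Opens) (hV : ∀ j, IsAffineOpen (V j)) (hle : ∀ j, V j ≤ g ⁻¹ᵁ U)
    (hcov : g ⁻¹ᵁ U ≤ ⨆ j, V j) (p : PrimeSpectrum Γ(X, U)) :
    ∃ j, ∃ q : PrimeSpectrum Γ(X', V j),
      PrimeSpectrum.comap (g.appLE U (V j) (hle j)).hom q = p :=
  exists_SpecMap_eq_of_surjective g hU V hV hle hcov p

open ChangeOfRings in
set_option backward.isDefEq.respectTransparency false in
set_option maxHeartbeats 800000 in
/-- **Generic fpqc descent principle** for properties of modules of sections of a quasi-coherent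
module: a property `Q` of modules which is invariant under linear equivalence and descends along
jointly faithful finite families of flat algebras holds for `Γ(M, U)` (`U` affine) as soon as it
holds for the sections of `g^* M` over all affine opens, for `g` flat, surjective, quasi-compact. -/
theorem descent_sections [QuasiCompact g] [Flat g] [Surjective g] (M : X.Modules)
    [M.IsQuasicoherent]
    (Q : ∀ (R : Type u) [CommRing R] (N : Type u) [AddCommGroup N] [Module R N], Prop)
    (hQ1 : ∀ (R : Type u) [CommRing R] (N N' : Type u) [AddCommGroup N] [Module R N]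
      [AddCommGroup N'] [Module R N'], (N ≃ₗ[R] N') → Q R N → Q R N')
    (hQ2 : ∀ (A : Type u) [CommRing A] (ι : Type u) [Finite ι] (B : ι → Type u)
      [∀ j, CommRing (B j)] [∀ j, Algebra A (B j)] [∀ j, Module.Flat A (B j)],
      JointlyFaithful A B → ∀ (N : Type u) [AddCommGroup N] [Module A N],
        (∀ j, Q (B j) (B j ⊗[A] N)) → Q A N)
    (h : ∀ V : X'.affineOpens, Q Γ(X', (V : X'.Opens))
      Γ((Scheme.Modules.pullback g).obj M, (V : X'.Opens)))
    {U : X.Opens} (hU : IsAffineOpen U) : Q Γ(X, U) Γ(M, U) := by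
  obtain ⟨I, hI, hUI⟩ := isCompact_iff_finite_and_eq_biUnion_affineOpens.mp
    (g.isCompact_preimage hU.isCompact)
  have := hI.to_subtype
  let V : I → X'.Opens := fun j => (j.1 : X'.Opens)
  have hV : ∀ j, IsAffineOpen (V j) := fun j => j.1.2
  have hle : ∀ j, V j ≤ g ⁻¹ᵁ U := fun j => by
    rw [hUI]
    exact le_iSup₂ (f := fun (k : X'.affineOpens) (_ : k ∈ I) => (k : X'.Opens)) j.1 j.2
  have hcov : g ⁻¹ᵁ U ≤ ⨆ j, V j := by
    rw [hUI]
    exact iSup₂_le fun k hk => le_iSup V ⟨k, hk⟩
  let alg : ∀ j : I, Algebra Γ(X, U) Γ(X', V j) := fun j =>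
    (g.appLE U (V j) (hle j)).hom.toAlgebra
  have hflat : ∀ j, Module.Flat Γ(X, U) Γ(X', V j) := fun j => g.flat_appLE hU (hV j) (hle j)
  have hjf : JointlyFaithful Γ(X, U) (fun j : I => Γ(X', V j)) :=
    jointlyFaithful_of_forall_exists_comap (exists_comap_eq_of_surjective g hU V hV hle hcov)
  refine hQ2 Γ(X, U) I (fun j => Γ(X', V j)) hjf Γ(M, U) fun j => ?_
  obtain ⟨κ, -⟩ := exists_iso_extendScalars_pullbackSections g hU (hV j) (hle j) M
  let κ' : Γ(X', V j) ⊗[Γ(X, U)] Γ(M, U) ≃ₗ[Γ(X', V j)]
      Γ((Scheme.Modules.pullback g).obj M, V j) := κ.toLinearEquiv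
  exact hQ1 _ _ _ κ'.symm (h ⟨V j, hV j⟩)

section Descent

variable [QuasiCompact g] [Flat g] [Surjective g] (M : X.Modules) [M.IsQuasicoherent]

/-- **fpqc descent of finite type** for quasi-coherent modules. -/
theorem isFiniteType_of_pullback (h : ((Scheme.Modules.pullback g).obj M).IsFiniteType) :
    M.IsFiniteType := by
  have hq : ((Scheme.Modules.pullback g).obj M).IsQuasicoherent := isQuasicoherent_pullback g M
  rw [isFiniteType_iff_forall_finite]
  intro U
  exact descent_sections g M (fun R _ N _ _ => Module.Finite R N)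
    (fun R _ N N' _ _ _ _ e hN => Module.Finite.equiv e)
    (fun A _ ι _ B _ _ _ hB N _ _ hN => finite_of_forall_finite_tensor hB N hN)
    (fun V => (isFiniteType_iff_forall_finite _).1 h V) U.2

/-- **fpqc descent of finite presentation** for quasi-coherent modules. -/
theorem isFinitePresentation_of_pullback
    (h : ((Scheme.Modules.pullback g).obj M).IsFinitePresentation) :
    M.IsFinitePresentation := by
  have hq : ((Scheme.Modules.pullback g).obj M).IsQuasicoherent := isQuasicoherent_pullback g M
  rw [isFinitePresentation_iff_forall_finitePresentation]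
  intro U
  exact descent_sections g M (fun R _ N _ _ => Module.FinitePresentation R N)
    (fun R _ N N' _ _ _ _ e hN => Module.FinitePresentation.of_equiv e)
    (fun A _ ι _ B _ _ _ hB N _ _ hN =>
      finitePresentation_of_forall_finitePresentation_tensor hB N hN)
    (fun V => (isFinitePresentation_iff_forall_finitePresentation _).1 h V) U.2

/-- **fpqc descent of finite local freeness** for quasi-coherent modules. -/
theorem isFinLocFree_of_pullback
    (h : FlatMod.IsFinLocFree ((Scheme.Modules.pullback g).obj M)) :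
    FlatMod.IsFinLocFree M := by
  have hq : ((Scheme.Modules.pullback g).obj M).IsQuasicoherent := isQuasicoherent_pullback g M
  rw [isFinLocFree_iff_forall_affineOpens]
  intro U
  exact descent_sections g M (fun R _ N _ _ => Module.Finite R N ∧ Module.Projective R N)
    (fun R _ N N' _ _ _ _ e hN =>
      have := hN.1
      have := hN.2
      ⟨Module.Finite.equiv e, Module.Projective.of_equiv e⟩)
    (fun A _ ι _ B _ _ _ hB N _ _ hN => finite_projective_of_forall_tensor hB N hN)
    (fun V => (isFinLocFree_iff_forall_affineOpens _).1 h V) U.2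

/-- **fpqc descent of flatness** (as an `O_X`-module) for quasi-coherent modules. -/
theorem isFlat_of_pullback (h : FlatMod.IsFlat ((Scheme.Modules.pullback g).obj M)) :
    FlatMod.IsFlat M := by
  have hq : ((Scheme.Modules.pullback g).obj M).IsQuasicoherent := isQuasicoherent_pullback g M
  rw [isFlat_iff_forall_affineOpens]
  intro U
  exact descent_sections g M (fun R _ N _ _ => Module.Flat R N)
    (fun R _ N N' _ _ _ _ e hN => Module.Flat.of_linearEquiv e.symm)
    (fun A _ ι _ B _ _ _ hB N _ _ hN => flat_of_forall_flat_tensor hB N hN)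
    (fun V => (isFlat_iff_forall_affineOpens _).1 h V) U.2

end Descent

end Groth.Agent.Lib.QCoh
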