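import Groth.Agent.Lib.QCoh.Helper50_AffineDict
import Groth.Agent.Lib.QCoh.Helper50_FpqcDescent

/-!
# QCoh API (helper50): exactness of flat pullback and fpqc reflection for morphisms

Namespace `Groth.Agent.Lib.QCoh`.  For quasi-coherent `M`, `N` on `X`, `φ : M ⟶ N`:

* `mono_pullback_map_of_flat` : `g` flat ⇒ `g^*` preserves monomorphisms of quasi-coherent modules.
* for `g` flat, surjective, quasi-compact: `epi_of_epi_pullback_map`, `mono_of_mono_pullback_map`,
  `isIso_of_isIso_pullback_map`, `eq_zero_of_pullback_map_eq_zero`.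
-/

universe u

open CategoryTheory CategoryTheory.Limits AlgebraicGeometry Opposite TopologicalSpace TensorProduct

namespace Groth.Agent.Lib.QCoh

open Scheme.Modules

section Alg

variable {A : Type*} [CommRing A] {ι : Type*} {B : ι → Type*} [∀ j, CommRing (B j)]
  [∀ j, Algebra A (B j)] (hB : JointlyFaithful A B) [∀ j, Module.Flat A (B j)]

include hB in
/-- Descent of vanishing of a linear map. -/
theorem eq_zero_of_forall_lTensor_eq_zero {M N : Type*} [AddCommGroup M] [Module A M]
    [AddCommGroup N] [Module A N] (f : M →ₗ[A] N) (h : ∀ j, f.lTensor (B j) = 0) : f = 0 := by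
  let P := LinearMap.range f
  let f' : M →ₗ[A] P := f.rangeRestrict
  have hf' : Function.Surjective f' := f.surjective_rangeRestrict
  have hP : Subsingleton P := by
    apply subsingleton_of_forall_subsingleton_tensor hB
    intro j
    refine ⟨fun a b => ?_⟩
    suffices ∀ z : B j ⊗[A] P, z = 0 by rw [this a, this b]
    intro z
    obtain ⟨y, rfl⟩ := LinearMap.lTensor_surjective (B j) hf' z
    have hinj : Function.Injective ((Submodule.subtype P).lTensor (B j)) :=
      Module.Flat.lTensor_preserves_injective_linearMap _ (Submodule.subtype_injective P)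
    apply hinj
    rw [map_zero, ← LinearMap.comp_apply, ← LinearMap.lTensor_comp]
    have : Submodule.subtype P ∘ₗ f' = f := LinearMap.subtype_comp_codRestrict _ _ _
    rw [this, h j, LinearMap.zero_apply]
  ext m
  have : f' m = 0 := Subsingleton.elim _ _
  have h2 := congrArg (Submodule.subtype P) this
  simpa [f'] using h2

end Alg

variable {X' X : Scheme.{u}} (g : X' ⟶ X)

/-- Flat pullback preserves monomorphisms of quasi-coherent modules. -/
theorem mono_pullback_map_of_flat [Flat g] {M N : X.Modules} [M.IsQuasicoherent]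
    [N.IsQuasicoherent] (φ : M ⟶ N) [Mono φ] : Mono ((Scheme.Modules.pullback g).map φ) := by
  refine mono_of_injective_of_isBasis _ (isBasis_smallAffine g) _ ?_
  rintro ⟨W', hW', W, hW, e⟩
  let _ : Algebra Γ(X, W) Γ(X', W') := (g.appLE W W' e).hom.toAlgebra
  have : Module.Flat Γ(X, W) Γ(X', W') := g.flat_appLE hW hW' e
  rw [pullback_map_app_injective_iff g e hW hW' φ]
  exact Module.Flat.lTensor_preserves_injective_linearMap _ (app_injective_of_mono φ W)

section Cover

variable [QuasiCompact g] [Flat g] [Surjective g]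

/-- For `g` flat, surjective, quasi-compact and `U` affine: a finite cover of `g⁻¹ U` by affine
opens whose rings of sections form a jointly faithful family of flat `Γ(X, U)`-algebras. -/
theorem exists_jointlyFaithful_cover {U : X.Opens} (hU : IsAffineOpen U) :
    ∃ (I : Set X'.affineOpens) (_ : Finite I) (hle : ∀ j : I, (j.1 : X'.Opens) ≤ g ⁻¹ᵁ U),
      (∀ j : I, (g.appLE U (j.1 : X'.Opens) (hle j)).hom.Flat) ∧
      @JointlyFaithful Γ(X, U) _ I (fun j : I => Γ(X', (j.1 : X'.Opens))) _
        (fun j => (g.appLE U (j.1 : X'.Opens) (hle j)).hom.toAlgebra) := by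
  obtain ⟨I, hI, hUI⟩ := isCompact_iff_finite_and_eq_biUnion_affineOpens.mp
    (g.isCompact_preimage hU.isCompact)
  have hle : ∀ j : I, (j.1 : X'.Opens) ≤ g ⁻¹ᵁ U := fun j => by
    rw [hUI]
    exact le_iSup₂ (f := fun (k : X'.affineOpens) (_ : k ∈ I) => (k : X'.Opens)) j.1 j.2
  have hcov : g ⁻¹ᵁ U ≤ ⨆ j : I, (j.1 : X'.Opens) := by
    rw [hUI]
    exact iSup₂_le fun k hk => le_iSup (fun j : I => (j.1 : X'.Opens)) ⟨k, hk⟩
  refine ⟨I, hI.to_subtype, hle, fun j => g.flat_appLE hU j.1.2 (hle j), ?_⟩
  let _ : ∀ j : I, Algebra Γ(X, U) Γ(X', (j.1 : X'.Opens)) := fun j =>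
    (g.appLE U (j.1 : X'.Opens) (hle j)).hom.toAlgebra
  exact jointlyFaithful_of_forall_exists_comap (B := fun j : I => Γ(X', (j.1 : X'.Opens)))
    (exists_comap_eq_of_surjective g hU (fun j : I => (j.1 : X'.Opens)) (fun j => j.1.2) hle hcov)

variable {M N : X.Modules} [M.IsQuasicoherent] [N.IsQuasicoherent] (φ : M ⟶ N)

/-- fpqc pullback reflects epimorphisms of quasi-coherent modules. -/
theorem epi_of_epi_pullback_map (h : Epi ((Scheme.Modules.pullback g).map φ)) : Epi φ := by
  have hM : ((Scheme.Modules.pullback g).obj M).IsQuasicoherent := isQuasicoherent_pullback g M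
  have hN : ((Scheme.Modules.pullback g).obj N).IsQuasicoherent := isQuasicoherent_pullback g N
  refine epi_of_forall_affine_surjective φ fun U => ?_
  obtain ⟨I, hI, hle, hflat, hjf⟩ := exists_jointlyFaithful_cover g U.2
  let _ : ∀ j : I, Algebra Γ(X, (U : X.Opens)) Γ(X', (j.1 : X'.Opens)) := fun j =>
    (g.appLE U (j.1 : X'.Opens) (hle j)).hom.toAlgebra
  have : ∀ j : I, Module.Flat Γ(X, (U : X.Opens)) Γ(X', (j.1 : X'.Opens)) := hflat
  refine surjective_of_forall_lTensor_surjective hjf (appLinear φ U) fun j => ?_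
  rw [← pullback_map_app_surjective_iff g (hle j) U.2 j.1.2 φ]
  exact surjective_app_of_epi _ j.1.2

/-- fpqc pullback reflects monomorphisms of quasi-coherent modules. -/
theorem mono_of_mono_pullback_map (h : Mono ((Scheme.Modules.pullback g).map φ)) : Mono φ := by
  rw [mono_iff_forall_affine_injective]
  intro U
  obtain ⟨I, hI, hle, hflat, hjf⟩ := exists_jointlyFaithful_cover g U.2
  let _ : ∀ j : I, Algebra Γ(X, (U : X.Opens)) Γ(X', (j.1 : X'.Opens)) := fun j =>
    (g.appLE U (j.1 : X'.Opens) (hle j)).hom.toAlgebra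
  have : ∀ j : I, Module.Flat Γ(X, (U : X.Opens)) Γ(X', (j.1 : X'.Opens)) := hflat
  refine injective_of_forall_lTensor_injective hjf (appLinear φ U) fun j => ?_
  rw [← pullback_map_app_injective_iff g (hle j) U.2 j.1.2 φ]
  exact app_injective_of_mono _ _

/-- fpqc pullback reflects isomorphisms of quasi-coherent modules. -/
theorem isIso_of_isIso_pullback_map (h : IsIso ((Scheme.Modules.pullback g).map φ)) :
    IsIso φ := by
  have h1 : Mono φ := mono_of_mono_pullback_map g φ inferInstance
  have h2 : Epi φ := epi_of_epi_pullback_map g φ inferInstance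
  exact isIso_of_mono_of_epi φ

/-- fpqc pullback is faithful on quasi-coherent modules. -/
theorem eq_zero_of_pullback_map_eq_zero (h : (Scheme.Modules.pullback g).map φ = 0) :
    φ = 0 := by
  apply eq_zero_of_affine
  intro U
  obtain ⟨I, hI, hle, hflat, hjf⟩ := exists_jointlyFaithful_cover g U.2
  let _ : ∀ j : I, Algebra Γ(X, (U : X.Opens)) Γ(X', (j.1 : X'.Opens)) := fun j =>
    (g.appLE U (j.1 : X'.Opens) (hle j)).hom.toAlgebra
  have : ∀ j : I, Module.Flat Γ(X, (U : X.Opens)) Γ(X', (j.1 : X'.Opens)) := hflat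
  have hz : appLinear φ U = 0 := by
    refine eq_zero_of_forall_lTensor_eq_zero hjf (appLinear φ U) fun j => ?_
    obtain ⟨κ, κ', -, -, hκ⟩ := exists_linearEquiv_pullback_map g (hle j) U.2 j.1.2 φ
    apply LinearMap.ext
    intro x
    apply κ'.injective
    have h1 := hκ x
    rw [h] at h1
    rw [LinearMap.zero_apply, map_zero]
    exact h1.symm.trans rfl
  intro m
  exact congr($hz m)

end Cover

end Groth.Agent.Lib.QCoh
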