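import Groth.Agent.Lib.QCoh.Helper18_StalkLinear
import Groth.Prelude.Def_FlatMod2

/-!
# QCoh API (helper74): flatness (absolute and relative) in short exact sequences

* `flat_left_of_exact_of_flat`, `flat_mid_of_exact_of_flat` (algebra): in `0 → M → N → P → 0` with `P`
  flat, `M` is flat iff `N` is flat.
* `stalkMapOverₗ`: the stalk map of a morphism of `O_X`-modules as an `O_{S, f x}`-linear map.
* `isFlatOverAt_iff_of_shortExact`, `isFlatOver_iff_of_shortExact`,
  `isFlatAt_iff_of_shortExact`, `isFlat_iff_of_shortExact`.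
-/

universe u

open CategoryTheory CategoryTheory.Limits AlgebraicGeometry Opposite TopologicalSpace

namespace Groth.Agent.Lib.QCoh

open Scheme.Modules FlatMod TensorProduct

section Algebra

variable {R : Type*} [CommRing R] {M N P : Type*} [AddCommGroup M] [AddCommGroup N]
  [AddCommGroup P] [Module R M] [Module R N] [Module R P]

/-- In a short exact sequence `0 → M → N → P → 0` with `N` and `P` flat, `M` is flat. -/
theorem flat_left_of_exact_of_flat (g : M →ₗ[R] N) (f : N →ₗ[R] P) (hg : Function.Injective g)
    (hf : Function.Surjective f) (H : Function.Exact g f) [Module.Flat R N] [Module.Flat R P] :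
    Module.Flat R M := by
  rw [Module.Flat.iff_rTensor_injective']
  intro I
  have h1 : Function.Injective (g.lTensor I) :=
    LinearMap.lTensor_injective_of_exact_of_flat f hf g hg H I
  have h2 : Function.Injective (I.subtype.rTensor N) :=
    Module.Flat.rTensor_preserves_injective_linearMap _ Subtype.val_injective
  have h3 : (g.lTensor R) ∘ₗ (I.subtype.rTensor M) = (I.subtype.rTensor N) ∘ₗ (g.lTensor I) := by
    rw [LinearMap.lTensor_comp_rTensor, LinearMap.rTensor_comp_lTensor]
  have h4 : Function.Injective ((g.lTensor R) ∘ₗ (I.subtype.rTensor M)) := by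
    rw [h3]; exact h2.comp h1
  exact Function.Injective.of_comp h4

/-- In a short exact sequence `0 → M → N → P → 0` with `M` and `P` flat, `N` is flat. -/
theorem flat_mid_of_exact_of_flat (g : M →ₗ[R] N) (f : N →ₗ[R] P) (hg : Function.Injective g)
    (hf : Function.Surjective f) (H : Function.Exact g f) [Module.Flat R M] [Module.Flat R P] :
    Module.Flat R N := by
  rw [Module.Flat.iff_rTensor_injective']
  intro I
  rw [← LinearMap.ker_eq_bot, LinearMap.ker_eq_bot']
  intro x hx
  have hP : Function.Injective (I.subtype.rTensor P) :=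
    Module.Flat.rTensor_preserves_injective_linearMap _ Subtype.val_injective
  have hM : Function.Injective (I.subtype.rTensor M) :=
    Module.Flat.rTensor_preserves_injective_linearMap _ Subtype.val_injective
  have hgR : Function.Injective (g.lTensor R) :=
    LinearMap.lTensor_injective_of_exact_of_flat f hf g hg H R
  have e1 : (f.lTensor R) ∘ₗ (I.subtype.rTensor N) = (I.subtype.rTensor P) ∘ₗ (f.lTensor I) := by
    rw [LinearMap.lTensor_comp_rTensor, LinearMap.rTensor_comp_lTensor]
  have e2 : (g.lTensor R) ∘ₗ (I.subtype.rTensor M) = (I.subtype.rTensor N) ∘ₗ (g.lTensor I) := by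
    rw [LinearMap.lTensor_comp_rTensor, LinearMap.rTensor_comp_lTensor]
  have h1 : (f.lTensor I) x = 0 := by
    apply hP
    have := congr($e1 x)
    simp only [LinearMap.comp_apply] at this
    rw [← this, hx, map_zero, map_zero]
  obtain ⟨y, rfl⟩ := (lTensor_exact I H hf x).1 h1
  have h2 : (I.subtype.rTensor M) y = 0 := by
    apply hgR
    have := congr($e2 y)
    simp only [LinearMap.comp_apply] at this
    rw [this, hx, map_zero]
  rw [hM (h2.trans (map_zero _).symm), map_zero]

end Algebra

variable {X S : Scheme.{u}}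

/-- The stalk map of a morphism of `O_X`-modules, as an `O_{S, f x}`-linear map. -/
noncomputable def stalkMapOverₗ (f : X ⟶ S) {M N : X.Modules} (φ : M ⟶ N) (x : X) :
    letI := moduleStalkOver f M x
    letI := moduleStalkOver f N x
    M.presheaf.stalk x →ₗ[S.presheaf.stalk (f.base x)] N.presheaf.stalk x :=
  letI := moduleStalkOver f M x
  letI := moduleStalkOver f N x
  { toFun := stalkMap φ x
    map_add' := map_add _
    map_smul' := fun r m => stalkMap_smul φ x (f.stalkMap x r) m }

lemma stalkMap_comp_apply_eq_zero (T : ShortComplex X.Modules) (x : X)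
    (m : T.X₁.presheaf.stalk x) : stalkMap T.g x (stalkMap T.f x m) = 0 := by
  have h : stalkMap T.f x ≫ stalkMap T.g x = 0 := by
    change (stalkFunctor X x).map T.f ≫ (stalkFunctor X x).map T.g = 0
    rw [← Functor.map_comp, T.zero, Functor.map_zero]
  exact congr($h m)

/-- In a short exact sequence of `O_X`-modules whose third term is flat over `S` at `x`, the
second term is flat over `S` at `x` iff the first is. -/
theorem isFlatOverAt_iff_of_shortExact (f : X ⟶ S) (T : ShortComplex X.Modules)
    (hT : T.ShortExact) (x : X) (h3 : IsFlatOverAt f T.X₃ x) :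
    IsFlatOverAt f T.X₂ x ↔ IsFlatOverAt f T.X₁ x := by
  let _ := moduleStalkOver f T.X₁ x
  let _ := moduleStalkOver f T.X₂ x
  let _ := moduleStalkOver f T.X₃ x
  obtain ⟨h_inj, h_surj, h_ex⟩ := stalk_exact_of_shortExact T hT x
  have H : Function.Exact (stalkMapOverₗ f T.f x) (stalkMapOverₗ f T.g x) := fun m =>
    ⟨fun h => h_ex m h, fun ⟨m1, h⟩ => by rw [← h]; exact stalkMap_comp_apply_eq_zero T x m1⟩
  have : Module.Flat (S.presheaf.stalk (f.base x)) (T.X₃.presheaf.stalk x) := h3
  constructor
  · intro h2
    have : Module.Flat (S.presheaf.stalk (f.base x)) (T.X₂.presheaf.stalk x) := h2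
    exact flat_left_of_exact_of_flat (stalkMapOverₗ f T.f x) (stalkMapOverₗ f T.g x) h_inj
      h_surj H
  · intro h1
    have : Module.Flat (S.presheaf.stalk (f.base x)) (T.X₁.presheaf.stalk x) := h1
    exact flat_mid_of_exact_of_flat (stalkMapOverₗ f T.f x) (stalkMapOverₗ f T.g x) h_inj
      h_surj H

theorem isFlatOver_iff_of_shortExact (f : X ⟶ S) (T : ShortComplex X.Modules)
    (hT : T.ShortExact) (h3 : IsFlatOver f T.X₃) :
    IsFlatOver f T.X₂ ↔ IsFlatOver f T.X₁ :=
  forall_congr' fun x => isFlatOverAt_iff_of_shortExact f T hT x (h3 x)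

/-- Absolute version: in a short exact sequence whose third term is flat at `x`, the second term
is flat at `x` iff the first is. -/
theorem isFlatAt_iff_of_shortExact (T : ShortComplex X.Modules)
    (hT : T.ShortExact) (x : X) (h3 : IsFlatAt T.X₃ x) :
    IsFlatAt T.X₂ x ↔ IsFlatAt T.X₁ x := by
  obtain ⟨h_inj, h_surj, h_ex⟩ := stalk_exact_of_shortExact T hT x
  have H : Function.Exact (stalkMapₗ T.f x) (stalkMapₗ T.g x) := fun m =>
    ⟨fun h => h_ex m h, fun ⟨m1, h⟩ => by rw [← h]; exact stalkMap_comp_apply_eq_zero T x m1⟩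
  have : Module.Flat (X.presheaf.stalk x) (T.X₃.presheaf.stalk x) := h3
  constructor
  · intro h2
    have : Module.Flat (X.presheaf.stalk x) (T.X₂.presheaf.stalk x) := h2
    exact flat_left_of_exact_of_flat (stalkMapₗ T.f x) (stalkMapₗ T.g x) h_inj h_surj H
  · intro h1
    have : Module.Flat (X.presheaf.stalk x) (T.X₁.presheaf.stalk x) := h1
    exact flat_mid_of_exact_of_flat (stalkMapₗ T.f x) (stalkMapₗ T.g x) h_inj h_surj H

theorem isFlat_iff_of_shortExact (T : ShortComplex X.Modules)
    (hT : T.ShortExact) (h3 : IsFlat T.X₃) : IsFlat T.X₂ ↔ IsFlat T.X₁ :=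
  forall_congr' fun x => isFlatAt_iff_of_shortExact T hT x (h3 x)

end Groth.Agent.Lib.QCoh
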