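import Groth.Prelude.Def_OmegaPn
import Groth.Agent.Lib.QCoh.Helper43_PushQcqs
import Groth.Agent.Lib.QCoh.Helper50_Pullback

/-!
# Principal parts `P^n_{X/S}(F)` of a quasi-coherent module are quasi-coherent (helper50)

ns `Groth.Agent.Lib.QCoh.PrinPartQC`.  `pr1Homeo`, instances `QuasiCompact (pr1 f n)`, `QuasiSeparated (pr1 f n)`,
`isQuasicoherent_PMod`.
-/

set_option autoImplicit false
universe u
open CategoryTheory CategoryTheory.Limits AlgebraicGeometry Opposite TopologicalSpace

namespace Groth.Agent.Lib.QCoh.PrinPartQC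

variable {X S : Scheme.{u}} (f : X ⟶ S) (n : ℕ)

/-- the first projection of the `n`-th infinitesimal neighbourhood of the diagonal is a
homeomorphism -/
noncomputable def pr1Homeo : ↥(PrinPart.nbhd f n) ≃ₜ ↥X where
  toFun := PrinPart.pr1 f n
  invFun := PrinPart.toNbhd f n
  left_inv x := by
    obtain ⟨y, rfl⟩ := PrinPart.toInfNbhd_surjective (PrinPart.diagCl f) n x
    have h : PrinPart.pr1 f n (PrinPart.toNbhd f n y) = y := by
      rw [← Scheme.Hom.comp_apply, PrinPart.toNbhd_pr1]
      rfl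
    exact congrArg (PrinPart.toNbhd f n) h
  right_inv y := by
    change PrinPart.pr1 f n (PrinPart.toNbhd f n y) = y
    rw [← Scheme.Hom.comp_apply, PrinPart.toNbhd_pr1]
    rfl
  continuous_toFun := (PrinPart.pr1 f n).continuous
  continuous_invFun := (PrinPart.toNbhd f n).continuous

instance quasiCompact_pr1 : QuasiCompact (PrinPart.pr1 f n) where
  isCompact_preimage U _ hU' := ((pr1Homeo f n).isCompact_preimage).2 hU'

instance quasiSeparated_pr1 : QuasiSeparated (PrinPart.pr1 f n) := by
  refine HasAffineProperty.of_iSup_eq_top (P := @QuasiSeparated) (fun U : X.affineOpens => U)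
    (iSup_affineOpens_eq_top X) (fun U => ?_)
  change QuasiSeparatedSpace ↥((PrinPart.pr1 f n) ⁻¹ᵁ (U : X.Opens))
  have hU : IsAffine (U : X.Opens).toScheme := U.2
  have hqs : QuasiSeparatedSpace ↥(U : X.Opens) := quasiSeparatedSpace_of_isAffine (U : X.Opens).toScheme
  let h : ↥((PrinPart.pr1 f n) ⁻¹ᵁ (U : X.Opens)) ≃ₜ ↥(U : X.Opens) :=
    (pr1Homeo f n).subtype (fun _ => Iff.rfl)
  exact QuasiSeparatedSpace.of_isOpenEmbedding h.isOpenEmbedding

/-- `P^n_{X/S}(F)` is quasi-coherent for quasi-coherent `F` -/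
theorem isQuasicoherent_PMod (F : X.Modules) [F.IsQuasicoherent] :
    (PrinPart.PMod f n F).IsQuasicoherent := by
  have : ((Scheme.Modules.pullback (PrinPart.pr2 f n)).obj F).IsQuasicoherent :=
    isQuasicoherent_pullback _ F
  exact isQuasicoherent_pushforward_of_qcqs (PrinPart.pr1 f n) _

end Groth.Agent.Lib.QCoh.PrinPartQC
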