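import Mathlib
import Groth.Agent.Lib.QCoh.AffineOpen
import Groth.Agent.Lib.QCoh.Helper50_BaseChange

/-!
# Isomorphisms of quasi-coherent modules are detected on an affine open cover (helper50)
-/

set_option autoImplicit false
universe u

open CategoryTheory CategoryTheory.Limits AlgebraicGeometry TopologicalSpace Opposite

namespace Groth.Agent.Lib.QCoh.IsoAffineCover

open Scheme.Modules Groth.Agent.Lib.QCoh

variable {X : Scheme.{u}} {M N : X.Modules} [M.IsQuasicoherent] [N.IsQuasicoherent] (ψ : M ⟶ N)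

set_option backward.isDefEq.respectTransparency false in
theorem isIso_restrictSpec_of_bijective {U : X.Opens} (hU : IsAffineOpen U)
    (hb : Function.Bijective (ψ.app U)) : IsIso ((restrictFunctor hU.fromSpec).map ψ) := by
  have hM : (restrictSpec hU M).IsQuasicoherent := isQuasicoherent_restrict hU.fromSpec M
  have hN : (restrictSpec hU N).IsQuasicoherent := isQuasicoherent_restrict hU.fromSpec N
  have i1 : IsIso (restrictSpec hU M).fromTildeΓ :=
    Scheme.Modules.isIso_fromTildeΓ_of_isQuasicoherent _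
  have i2 : IsIso (restrictSpec hU N).fromTildeΓ :=
    Scheme.Modules.isIso_fromTildeΓ_of_isQuasicoherent _
  have nat := (Scheme.Modules.fromTildeΓNatTrans (R := Γ(X, U))).naturality
    ((restrictFunctor hU.fromSpec).map ψ)
  have hb' : Function.Bijective (ψ.app (hU.fromSpec ''ᵁ ⊤)) := by
    rw [fromSpec_image_top hU]; exact hb
  have hΓ : IsIso (moduleSpecΓFunctor.map ((restrictFunctor hU.fromSpec).map ψ)) := by
    rw [ConcreteCategory.isIso_iff_bijective]
    exact hb'
  have h3 : IsIso ((moduleSpecΓFunctor ⋙ tilde.functor Γ(X, U)).map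
      ((restrictFunctor hU.fromSpec).map ψ)) := by
    rw [Functor.comp_map]; infer_instance
  have e : (restrictFunctor hU.fromSpec).map ψ =
      inv (restrictSpec hU M).fromTildeΓ ≫
        (moduleSpecΓFunctor ⋙ tilde.functor Γ(X, U)).map ((restrictFunctor hU.fromSpec).map ψ) ≫
        (restrictSpec hU N).fromTildeΓ := by
    rw [IsIso.eq_inv_comp]
    exact nat.symm
  rw [e]
  infer_instance

/-- bijectivity on an affine open propagates to all smaller opens (quasi-coherent modules) -/
theorem bijective_app_of_le {U : X.Opens} (hU : IsAffineOpen U)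
    (hb : Function.Bijective (ψ.app U)) {A : X.Opens} (hA : A ≤ U) :
    Function.Bijective (ψ.app A) := by
  have := isIso_restrictSpec_of_bijective ψ hU hb
  have h1 : IsIso (((restrictFunctor hU.fromSpec).map ψ).app (hU.fromSpec ⁻¹ᵁ A)) := inferInstance
  have h2 : Function.Bijective (((restrictFunctor hU.fromSpec).map ψ).app (hU.fromSpec ⁻¹ᵁ A)) :=
    (ConcreteCategory.isIso_iff_bijective _).1 h1
  have e : hU.fromSpec ''ᵁ (hU.fromSpec ⁻¹ᵁ A) = A := by
    rw [Scheme.Hom.image_preimage_eq_opensRange_inf, hU.opensRange_fromSpec]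
    exact inf_eq_right.mpr hA
  have h3 : Function.Bijective (ψ.app (hU.fromSpec ''ᵁ (hU.fromSpec ⁻¹ᵁ A))) := h2
  rw [e] at h3
  exact h3

/-- **Isomorphisms of quasi-coherent modules are detected on any affine open cover.** -/
theorem isIso_of_bijective_affine_cover (𝒲 : Set X.Opens) (hcov : ∀ x : X, ∃ W ∈ 𝒲, x ∈ W)
    (haff : ∀ W ∈ 𝒲, IsAffineOpen W) (hb : ∀ W ∈ 𝒲, Function.Bijective (ψ.app W)) : IsIso ψ := by
  refine isIso_of_bijective_app_of_isBasis ψ
    (fun A : {A : X.Opens // ∃ W ∈ 𝒲, A ≤ W} => A.1) ?_ ?_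
  · rw [Opens.isBasis_iff_nbhd]
    intro N x hx
    obtain ⟨W, hW, hxW⟩ := hcov x
    exact ⟨N ⊓ W, ⟨⟨N ⊓ W, W, hW, inf_le_right⟩, rfl⟩, ⟨hx, hxW⟩, inf_le_left⟩
  · rintro ⟨A, W, hW, hAW⟩
    exact bijective_app_of_le ψ (haff W hW) (hb W hW) hAW

end Groth.Agent.Lib.QCoh.IsoAffineCover
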