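import Groth.Agent.Lib.QCoh.Helper50_ImFam

/-!
# Quasi-coherent modules on qcqs schemes as filtered colimits of finitely presented modules (helper50)

ns `Groth.Agent.Lib.QCoh.FiltColim`.  Given a family `φ t : P t ⟶ F` of morphisms from finitely presented modules
hitting every section of `F` over every affine open, the index poset `Pt P φ` consists of the pairs `(S, N)`, `S` a
finite set of indices and `N` a local, locally finitely generated sub-family of `ker (∐_{t ∈ S} P t ⟶ F)`;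
`Dfun P φ : Pt P φ ⥤ X.Modules` sends `(S, N)` to `(∐_{t ∈ S} P t) / N`.
Main result: `exists_filtered_colimit_fp`.
-/

set_option autoImplicit false
universe u
open CategoryTheory CategoryTheory.Limits AlgebraicGeometry Opposite TopologicalSpace

namespace Groth.Agent.Lib.QCoh.FiltColim

open Scheme.Modules Groth.Agent.Lib.QCoh Groth.Agent.Lib.QCoh.SubExt Groth.Agent.Lib.QCoh.SubExtQ
open Groth.Agent.Lib.QCoh.Glue74 Groth.Agent.Lib.QCoh.FPExt Groth.Agent.Lib.QCoh.FPColim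
open Groth.Agent.Lib.QCoh.ImFam Groth.Agent.Lib.Cohomology.CohSigma Groth.Agent.Lib.Cohomology

variable {X : Scheme.{u}}

/-- a finite coproduct of finitely presented modules is finitely presented -/
theorem isFinitePresentation_sigma_fintype {β : Type u} [Fintype β] [DecidableEq β]
    (M : β → X.Modules) (h : ∀ j, (M j).IsFinitePresentation) : (∐ M).IsFinitePresentation := by
  have hq : (∐ M).IsQuasicoherent := isQuasicoherent_sigma M (fun j => inferInstance)
  refine isFinitePresentation_of_forall_finitePresentation _ fun U => ?_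
  have hfp : ∀ j, Module.FinitePresentation Γ(X, (U : X.Opens)) Γ(M j, (U : X.Opens)) :=
    fun j => finitePresentation_Γ_of_isAffineOpen U.2 (M j)
  let Φ : (∀ j, Γ(M j, (U : X.Opens))) →ₗ[Γ(X, (U : X.Opens))] Γ(∐ M, (U : X.Opens)) :=
    LinearMap.lsum _ _ Γ(X, (U : X.Opens)) (fun j => appLinear (Sigma.ι M j) (U : X.Opens))
  have hΦ : ∀ f : (∀ j, Γ(M j, (U : X.Opens))),
      Φ f = ∑ j, (Sigma.ι M j).app (U : X.Opens) (f j) := by
    intro f
    simp [Φ, LinearMap.lsum_apply]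
  have hsurj : Function.Surjective Φ := by
    intro x
    refine ⟨fun j => (Sigma.π M j).app (U : X.Opens) x, ?_⟩
    rw [hΦ]
    have hx : x = (∑ j, Sigma.π M j ≫ Sigma.ι M j).app (U : X.Opens) x := by
      rw [sum_π_ι]; rfl
    rw [sum_app] at hx
    exact hx.symm
  have hinj : Function.Injective Φ := by
    rw [injective_iff_map_eq_zero]
    intro f hf
    funext k
    have h1 := congrArg ((Sigma.π M k).app (U : X.Opens)) hf
    rw [hΦ, map_sum, map_zero] at h1
    rw [Finset.sum_eq_single k] at h1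
    · have h2 := congrArg (fun ψ : M k ⟶ M k => (Scheme.Modules.Hom.app ψ (U : X.Opens)) (f k))
        (Sigma.ι_π_eq_id M k)
      exact h2.symm.trans h1
    · intro j _ hjk
      have h2 := congrArg (fun ψ : M j ⟶ M k => (Scheme.Modules.Hom.app ψ (U : X.Opens)) (f j))
        (Sigma.ι_π_of_ne M hjk)
      exact h2
    · intro hk
      exact absurd (Finset.mem_univ k) hk
  exact Module.FinitePresentation.of_equiv (LinearEquiv.ofBijective Φ ⟨hinj, hsurj⟩)

variable {F : X.Modules} {Λ : Type u} (P : Λ → X.Modules) (φ : ∀ t, P t ⟶ F)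

/-- finite partial coproducts -/
noncomputable abbrev Q (S : Finset Λ) : X.Modules := ∐ (fun t : S => P t.1)

/-- the map to `F` -/
noncomputable def q (S : Finset Λ) : Q P S ⟶ F := Sigma.desc (fun t : S => φ t.1)

/-- the inclusions -/
noncomputable def inc {S S' : Finset Λ} (h : S ⊆ S') : Q P S ⟶ Q P S' :=
  Sigma.desc (fun t : S => Sigma.ι (fun t : S' => P t.1) ⟨t.1, h t.2⟩)

lemma ι_q (S : Finset Λ) (t : S) : Sigma.ι (fun t : S => P t.1) t ≫ q P φ S = φ t.1 :=
  Sigma.ι_desc _ _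

lemma ι_inc {S S' : Finset Λ} (h : S ⊆ S') (t : S) :
    Sigma.ι (fun t : S => P t.1) t ≫ inc P h = Sigma.ι (fun t : S' => P t.1) ⟨t.1, h t.2⟩ :=
  Sigma.ι_desc _ _

lemma inc_q {S S' : Finset Λ} (h : S ⊆ S') : inc P h ≫ q P φ S' = q P φ S := by
  apply Sigma.hom_ext
  intro t
  rw [← Category.assoc, ι_inc, ι_q, ι_q]

lemma inc_refl {S : Finset Λ} (h : S ⊆ S) : inc P h = 𝟙 _ := by
  apply Sigma.hom_ext
  intro t
  rw [ι_inc, Category.comp_id]

lemma inc_trans {S S' S'' : Finset Λ} (h : S ⊆ S') (h' : S' ⊆ S'') (h'' : S ⊆ S'') :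
    inc P h ≫ inc P h' = inc P h'' := by
  apply Sigma.hom_ext
  intro t
  rw [← Category.assoc, ι_inc, ι_inc, ι_inc]

/-- the induced maps on kernels -/
noncomputable def kinc {S S' : Finset Λ} (h : S ⊆ S') : kernel (q P φ S) ⟶ kernel (q P φ S') :=
  kernel.lift _ (kernel.ι _ ≫ inc P h) (by rw [Category.assoc, inc_q, kernel.condition])

lemma kinc_ι {S S' : Finset Λ} (h : S ⊆ S') :
    kinc P φ h ≫ kernel.ι (q P φ S') = kernel.ι (q P φ S) ≫ inc P h := kernel.lift_ι _ _ _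

lemma kinc_refl {S : Finset Λ} (h : S ⊆ S) : kinc P φ h = 𝟙 _ := by
  rw [← cancel_mono (kernel.ι (q P φ S)), kinc_ι, inc_refl, Category.comp_id, Category.id_comp]

lemma kinc_trans {S S' S'' : Finset Λ} (h : S ⊆ S') (h' : S' ⊆ S'') (h'' : S ⊆ S'') :
    kinc P φ h ≫ kinc P φ h' = kinc P φ h'' := by
  rw [← cancel_mono (kernel.ι (q P φ S'')), Category.assoc, kinc_ι, ← Category.assoc, kinc_ι,
    Category.assoc, inc_trans P h h' h'', kinc_ι]

/-- the index poset -/
structure Pt where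
  /-- the finite set of indices -/
  S : Finset Λ
  /-- the sub-family of relations -/
  N : Idx (kernel (q P φ S))

variable {P φ} in
/-- the order relation -/
def Pt.le (a b : Pt P φ) : Prop :=
  ∃ h : a.S ⊆ b.S, ∀ (V : X.Opens) (k : Γ(kernel (q P φ a.S), V)),
    k ∈ a.N.1.sec V → (kinc P φ h).app V k ∈ b.N.1.sec V

instance : Preorder (Pt P φ) where
  le := Pt.le
  le_refl a := ⟨Finset.Subset.refl _, fun V k hk => by rw [kinc_refl]; exact hk⟩
  le_trans a b c hab hbc := by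
    obtain ⟨h, H⟩ := hab
    obtain ⟨h', H'⟩ := hbc
    refine ⟨h.trans h', fun V k hk => ?_⟩
    rw [← kinc_trans P φ h h' (h.trans h')]
    exact H' V _ (H V k hk)

variable {P φ} in
lemma Pt.le_def {a b : Pt P φ} : a ≤ b ↔ Pt.le a b := Iff.rfl

variable {P φ} in
lemma Pt.subset_of_le {a b : Pt P φ} (h : a ≤ b) : a.S ⊆ b.S := h.1

lemma cmap_inc_π {a b : Pt P φ} (h : a ≤ b) :
    cmap (q P φ a.S) a.N ≫ inc P (Pt.subset_of_le h) ≫ cokernel.π (cmap (q P φ b.S) b.N) = 0 := by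
  apply eq_zero_of_affine
  intro U m
  obtain ⟨hS, H⟩ := h
  have hk := H U ((a.N.1.secEquiv a.N.2.1 U) m).1 ((a.N.1.secEquiv a.N.2.1 U) m).2
  change (cokernel.π (cmap (q P φ b.S) b.N)).app U ((inc P hS).app U
    ((kernel.ι (q P φ a.S)).app U ((a.N.1.secEquiv a.N.2.1 U) m).1)) = 0
  have e1 : (inc P hS).app U ((kernel.ι (q P φ a.S)).app U ((a.N.1.secEquiv a.N.2.1 U) m).1) =
      (kernel.ι (q P φ b.S)).app U ((kinc P φ hS).app U ((a.N.1.secEquiv a.N.2.1 U) m).1) :=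
    (congrArg (fun ψ : kernel (q P φ a.S) ⟶ Q P b.S =>
      (Scheme.Modules.Hom.app ψ U) ((a.N.1.secEquiv a.N.2.1 U) m).1) (kinc_ι P φ hS)).symm
  have e2 : (kernel.ι (q P φ b.S)).app U ((kinc P φ hS).app U ((a.N.1.secEquiv a.N.2.1 U) m).1) =
      (cmap (q P φ b.S) b.N).app U ((b.N.1.secEquiv b.N.2.1 U).symm ⟨_, hk⟩) := rfl
  rw [e1, e2]
  exact congrArg (fun ψ : b.N.1.toModules b.N.2.1 ⟶ cokernel (cmap (q P φ b.S) b.N) =>
    (Scheme.Modules.Hom.app ψ U) ((b.N.1.secEquiv b.N.2.1 U).symm ⟨_, hk⟩))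
    (cokernel.condition (cmap (q P φ b.S) b.N))

/-- the transition maps -/
noncomputable def dmap {a b : Pt P φ} (h : a ≤ b) :
    cokernel (cmap (q P φ a.S) a.N) ⟶ cokernel (cmap (q P φ b.S) b.N) :=
  cokernel.desc (cmap (q P φ a.S) a.N)
    (inc P (Pt.subset_of_le h) ≫ cokernel.π (cmap (q P φ b.S) b.N)) (cmap_inc_π P φ h)

lemma π_dmap {a b : Pt P φ} (h : a ≤ b) :
    cokernel.π (cmap (q P φ a.S) a.N) ≫ dmap P φ h =
      inc P (Pt.subset_of_le h) ≫ cokernel.π (cmap (q P φ b.S) b.N) := cokernel.π_desc _ _ _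

/-- the diagram `(S, N) ↦ (∐_{t ∈ S} P t) / N` -/
noncomputable def Dfun : Pt P φ ⥤ X.Modules where
  obj a := cokernel (cmap (q P φ a.S) a.N)
  map f := dmap P φ (leOfHom f)
  map_id a := by
    rw [← cancel_epi (cokernel.π (cmap (q P φ a.S) a.N)), π_dmap, inc_refl, Category.comp_id,
      Category.id_comp]
  map_comp {a b c} f g := by
    rw [← cancel_epi (cokernel.π (cmap (q P φ a.S) a.N)), π_dmap, ← Category.assoc, π_dmap,
      Category.assoc, π_dmap, ← Category.assoc,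
      inc_trans P (Pt.subset_of_le (leOfHom f)) (Pt.subset_of_le (leOfHom g))
        (Pt.subset_of_le (leOfHom (f ≫ g)))]

/-- the cocone over `F` -/
noncomputable def cι : Dfun P φ ⟶ (Functor.const (Pt P φ)).obj F where
  app a := cokernel.desc (cmap (q P φ a.S) a.N) (q P φ a.S) (cmap_comp _ a.N)
  naturality {a b} f := by
    change dmap P φ (leOfHom f) ≫ cokernel.desc (cmap (q P φ b.S) b.N) (q P φ b.S) (cmap_comp _ b.N) =
      cokernel.desc (cmap (q P φ a.S) a.N) (q P φ a.S) (cmap_comp _ a.N) ≫ 𝟙 F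
    rw [← cancel_epi (cokernel.π (cmap (q P φ a.S) a.N)), ← Category.assoc, π_dmap, Category.assoc,
      cokernel.π_desc, inc_q, cokernel.π_desc_assoc, Category.comp_id]

lemma π_cι (a : Pt P φ) : cokernel.π (cmap (q P φ a.S) a.N) ≫ (cι P φ).app a = q P φ a.S :=
  cokernel.π_desc _ _ _

section Main

variable [CompactSpace X] [QuasiSeparatedSpace X] [F.IsQuasicoherent]
  [hP : ∀ t, (P t).IsFinitePresentation]

instance isFinitePresentation_Q (S : Finset Λ) : (Q P S).IsFinitePresentation := by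
  classical
  exact isFinitePresentation_sigma_fintype _ (fun t => hP t.1)

instance isQuasicoherent_kernel_q (S : Finset Λ) : (kernel (q P φ S)).IsQuasicoherent :=
  isQuasicoherent_kernel _

instance isFinitePresentation_Dfun_obj (a : Pt P φ) : ((Dfun P φ).obj a).IsFinitePresentation :=
  isFinitePresentation_quotFunctor_obj (q P φ a.S) a.N

instance nonempty_pt : Nonempty (Pt P φ) := ⟨⟨∅, Classical.arbitrary _⟩⟩

omit [CompactSpace X] [QuasiSeparatedSpace X] [F.IsQuasicoherent] hP in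
lemma kinc_mem_imFam {S T : Finset Λ} (h : S ⊆ T) (N : Idx (kernel (q P φ S))) (V : X.Opens)
    (k : Γ(kernel (q P φ S), V)) (hk : k ∈ N.1.sec V) :
    (kinc P φ h).app V k ∈ (imFam (N.1.incl N.2.1 ≫ kinc P φ h)).sec V :=
  app_mem_imFam (N.1.incl N.2.1 ≫ kinc P φ h) V ((N.1.secEquiv N.2.1 V).symm ⟨k, hk⟩)

instance isDirected_pt : IsDirected (Pt P φ) (· ≤ ·) := by
  classical
  constructor
  intro a b
  have ha : a.S ⊆ a.S ∪ b.S := Finset.subset_union_left
  have hb : b.S ⊆ a.S ∪ b.S := Finset.subset_union_right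
  have hqa : (a.N.1.toModules a.N.2.1).IsQuasicoherent := a.N.1.isQuasicoherent_toModules a.N.2.1 a.N.2.2
  have hfa : (a.N.1.toModules a.N.2.1).IsFiniteType := a.N.1.isFiniteType_toModules a.N.2.1 a.N.2.2
  have hqb : (b.N.1.toModules b.N.2.1).IsQuasicoherent := b.N.1.isQuasicoherent_toModules b.N.2.1 b.N.2.2
  have hfb : (b.N.1.toModules b.N.2.1).IsFiniteType := b.N.1.isFiniteType_toModules b.N.2.1 b.N.2.2
  obtain ⟨M, hMa, hMb⟩ := exists_ge_ge (imIdx (a.N.1.incl a.N.2.1 ≫ kinc P φ ha))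
    (imIdx (b.N.1.incl b.N.2.1 ≫ kinc P φ hb))
  refine ⟨⟨a.S ∪ b.S, M⟩, ⟨ha, fun V k hk => ?_⟩, ⟨hb, fun V k hk => ?_⟩⟩
  · exact (PresheafOfModules.Submodule.le_iff.mp hMa (op V)) (kinc_mem_imFam P φ ha a.N V k hk)
  · exact (PresheafOfModules.Submodule.le_iff.mp hMb (op V)) (kinc_mem_imFam P φ hb b.N V k hk)

lemma cι_surj (hit : ∀ (U : X.affineOpens) (f : Γ(F, U.1)), ∃ (t : Λ) (y : Γ(P t, U.1)),
    (φ t).app U.1 y = f) (U : X.affineOpens) (f : Γ(F, U.1)) :
    ∃ (i : Pt P φ) (y : Γ((Dfun P φ).obj i, U.1)), ((cι P φ).app i).app U.1 y = f := by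
  obtain ⟨t, y, hy⟩ := hit U f
  let i : Pt P φ := ⟨{t}, Classical.arbitrary _⟩
  let t' : ({t} : Finset Λ) := ⟨t, Finset.mem_singleton_self t⟩
  refine ⟨i, (cokernel.π (cmap (q P φ i.S) i.N)).app U.1
    ((Sigma.ι (fun s : ({t} : Finset Λ) => P s.1) t').app U.1 y), ?_⟩
  have h1 : Sigma.ι (fun s : ({t} : Finset Λ) => P s.1) t' ≫
      cokernel.π (cmap (q P φ i.S) i.N) ≫ (cι P φ).app i = φ t := by
    rw [π_cι]
    exact ι_q P φ {t} t'
  exact (congrArg (fun ψ : P t ⟶ F => (Scheme.Modules.Hom.app ψ U.1) y) h1).trans hy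

lemma cι_inj (U : X.affineOpens) (i : Pt P φ) (y : Γ((Dfun P φ).obj i, U.1))
    (hy : ((cι P φ).app i).app U.1 y = 0) :
    ∃ (j : Pt P φ) (h : i ≤ j), ((Dfun P φ).map (homOfLE h)).app U.1 y = 0 := by
  have hqN : (i.N.1.toModules i.N.2.1).IsQuasicoherent :=
    i.N.1.isQuasicoherent_toModules i.N.2.1 i.N.2.2
  have hCq : (cokernel (cmap (q P φ i.S) i.N)).IsQuasicoherent := isQuasicoherent_cokernel _
  obtain ⟨x, rfl⟩ := surjective_app_of_epi (cokernel.π (cmap (q P φ i.S) i.N)) U.2 y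
  have hx : (q P φ i.S).app U.1 x = 0 := by
    rw [← hy]
    exact (congrArg (fun ψ : Q P i.S ⟶ F => (Scheme.Modules.Hom.app ψ U.1) x) (π_cι P φ i)).symm
  obtain ⟨k, hk⟩ := exists_kernel_section (q P φ i.S) U.1 x hx
  obtain ⟨N', hloc, hlfg, hkN'⟩ := exists_subFam_through_section (kernel (q P φ i.S)) U.1
    U.2.isCompact k
  obtain ⟨M, hiM, hN'M⟩ := exists_ge_ge i.N (⟨N', hloc, hlfg⟩ : Idx (kernel (q P φ i.S)))
  have hkM : k ∈ M.1.sec U.1 := (PresheafOfModules.Submodule.le_iff.mp hN'M (op U.1)) hkN'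
  have hle : i ≤ (⟨i.S, M⟩ : Pt P φ) := by
    refine ⟨Finset.Subset.refl _, fun V k' hk' => ?_⟩
    rw [kinc_refl]
    exact (PresheafOfModules.Submodule.le_iff.mp hiM (op V)) hk'
  refine ⟨⟨i.S, M⟩, hle, ?_⟩
  have h1 : cokernel.π (cmap (q P φ i.S) i.N) ≫ (Dfun P φ).map (homOfLE hle) =
      cokernel.π (cmap (q P φ i.S) M) := by
    change cokernel.π (cmap (q P φ i.S) i.N) ≫ dmap P φ hle = _
    rw [π_dmap, inc_refl, Category.id_comp]
  have h2 : ((Dfun P φ).map (homOfLE hle)).app U.1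
      ((cokernel.π (cmap (q P φ i.S) i.N)).app U.1 x) =
      (cokernel.π (cmap (q P φ i.S) M)).app U.1 x :=
    congrArg (fun ψ : Q P i.S ⟶ cokernel (cmap (q P φ i.S) M) =>
      (Scheme.Modules.Hom.app ψ U.1) x) h1
  rw [h2, ← hk]
  have e2 : (kernel.ι (q P φ i.S)).app U.1 k =
      (cmap (q P φ i.S) M).app U.1 ((M.1.secEquiv M.2.1 U.1).symm ⟨k, hkM⟩) := rfl
  rw [e2]
  exact congrArg (fun ψ : M.1.toModules M.2.1 ⟶ cokernel (cmap (q P φ i.S) M) =>
    (Scheme.Modules.Hom.app ψ U.1) ((M.1.secEquiv M.2.1 U.1).symm ⟨k, hkM⟩))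
    (cokernel.condition (cmap (q P φ i.S) M))

/-- the colimit property -/
noncomputable def isColimitCι (hit : ∀ (U : X.affineOpens) (f : Γ(F, U.1)),
    ∃ (t : Λ) (y : Γ(P t, U.1)), (φ t).app U.1 y = f) : IsColimit (Cocone.mk F (cι P φ)) :=
  ColimSections.isColimit_of_sections (Dfun P φ) F (cι P φ) (cι_surj P φ hit) (cι_inj P φ)

end Main

/-- **a quasi-coherent module on a qcqs scheme is a directed colimit of finitely presented modules** -/
theorem exists_filtered_colimit_fp [CompactSpace X] [QuasiSeparatedSpace X] (F : X.Modules)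
    [F.IsQuasicoherent] :
    ∃ (I : Type u) (_ : Preorder I) (_ : IsDirected I (· ≤ ·)) (_ : Nonempty I)
      (D : I ⥤ X.Modules) (c : D ⟶ (Functor.const I).obj F),
      Nonempty (IsColimit (Cocone.mk F c)) ∧ ∀ i, (D.obj i).IsFinitePresentation := by
  have key : ∀ t : (Σ U : X.affineOpens, Γ(F, U.1)), ∃ (P : X.Modules) (φ : P ⟶ F)
      (y : Γ(P, t.1.1)), P.IsFinitePresentation ∧ φ.app t.1.1 y = t.2 :=
    fun t => exists_fp_through_section F t.1.2 t.2
  choose P φ y hP hy using key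
  have hit : ∀ (U : X.affineOpens) (f : Γ(F, U.1)),
      ∃ (t : (Σ U : X.affineOpens, Γ(F, U.1))) (y : Γ(P t, U.1)), (φ t).app U.1 y = f :=
    fun U f => ⟨⟨U, f⟩, y ⟨U, f⟩, hy ⟨U, f⟩⟩
  exact ⟨Pt P φ, inferInstance, inferInstance, inferInstance, Dfun P φ, cι P φ,
    ⟨isColimitCι P φ hit⟩, fun i => inferInstance⟩

end Groth.Agent.Lib.QCoh.FiltColim
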