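import Groth.Agent.Lib.QCoh.TensorW
import Groth.Prelude.Def_CohB1
import Mathlib.CategoryTheory.Localization.Adjunction
import Mathlib.CategoryTheory.Localization.Monoidal.Braided

/-!
# QCoh API / TENSOR (lead): basic API for `CohB1.tensorMod`

`CohB1.tensorMod M N = shf (M.val ⊗ N.val)` (sheafification of the sectionwise tensor product).

* `shf X : PMod X ⥤ X.Modules` (sheafification), `incl X` (forget), `shfAdj X : shf X ⊣ incl X`
* `WX X` = locally bijective maps of presheaves of modules; `WX_iff_isIso`; `IsLocalization`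
* `MonMod X` : `X.Modules` with Mathlib's localized SYMMETRIC MONOIDAL structure (unit `O_X`)
* `shfCounitIso M : shf M.val ≅ M`, `WX_unit`, `shfWhiskerRightIso`, `shfWhiskerLeftIso`
* `tensorModMap`, `tensorModCongr`, `tensorModLeftUnitor : O ⊗ M ≅ M`, `tensorModRightUnitor`,
  `tensorModBraiding : M ⊗ N ≅ N ⊗ M`, `tensorModAssoc : (M ⊗ N) ⊗ K ≅ M ⊗ (N ⊗ K)`,
  `tensorModHomEquiv : (tensorMod M N ⟶ F) ≃ (M.val ⊗ N.val ⟶ F.val)`
-/

universe u
open CategoryTheory MonoidalCategory Opposite TensorProduct AlgebraicGeometry TopologicalSpace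

namespace Groth.Agent.Lib.QCoh

variable (X : Scheme.{u})

/-- Presheaves of modules over the structure presheaf of `X`, in the form on which Mathlib's
monoidal structure is declared.  (Same as the prelude's `PM X`, but written with
`X.presheaf` so that terms stay type-correct at reducible transparency.) -/
abbrev PM : Type (u + 1) :=
  PresheafOfModules.{u} (X.presheaf ⋙ forget₂ CommRingCat RingCat.{u})

/-- sheafification `PM X ⥤ X.Modules` -/
noncomputable def shf : PM X ⥤ X.Modules := CohB1.sheafifyMod X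

/-- the inclusion `X.Modules ⥤ PMod X` -/
noncomputable def incl : X.Modules ⥤ PM X :=
  SheafOfModules.forget X.ringCatSheaf ⋙ PresheafOfModules.restrictScalars (𝟙 X.ringCatSheaf.obj)

noncomputable def shfAdj : shf X ⊣ incl X :=
  PresheafOfModules.sheafificationAdjunction (𝟙 X.ringCatSheaf.obj)

instance : (incl X).Full :=
  inferInstanceAs (SheafOfModules.forget X.ringCatSheaf ⋙
    PresheafOfModules.restrictScalars (𝟙 X.ringCatSheaf.obj)).Full
instance : (incl X).Faithful :=
  inferInstanceAs (SheafOfModules.forget X.ringCatSheaf ⋙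
    PresheafOfModules.restrictScalars (𝟙 X.ringCatSheaf.obj)).Faithful

/-- locally bijective maps of presheaves of modules on `X` -/
abbrev WX : MorphismProperty (PM X) :=
  locallyBijective (Opens.grothendieckTopology X) X.presheaf

lemma WX_iff_isIso {P Q : PM X} (f : P ⟶ Q) : WX X f ↔ IsIso ((shf X).map f) := by
  let F := PresheafOfModules.sheafification (𝟙 X.ringCatSheaf.obj)
  let G := SheafOfModules.toSheaf X.ringCatSheaf
  have e : F ⋙ G ≅ _ := PresheafOfModules.sheafificationCompToSheaf (𝟙 X.ringCatSheaf.obj)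
  have h1 : IsIso (G.map (F.map f)) ↔ IsIso (F.map f) := isIso_iff_of_reflects_iso (F.map f) G
  have h2 := NatIso.isIso_map_iff e f
  have h3 := GrothendieckTopology.W_iff (J := Opens.grothendieckTopology X)
    ((PresheafOfModules.toPresheaf X.ringCatSheaf.obj).map f)
  have h4 := GrothendieckTopology.W_iff_isLocallyBijective (J := Opens.grothendieckTopology X)
    ((PresheafOfModules.toPresheaf X.ringCatSheaf.obj).map f)
  exact h4.symm.trans (h3.trans (h2.symm.trans h1))

lemma WX_eq : WX X = (MorphismProperty.isomorphisms _).inverseImage (shf X) := by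
  ext P Q f
  exact WX_iff_isIso X f

instance : (shf X).IsLocalization (WX X) := by
  rw [WX_eq]
  exact (shfAdj X).isLocalization

/-- `a(M.val) ≅ M` for a sheaf of modules `M`. -/
noncomputable def shfCounitIso (M : X.Modules) : (shf X).obj M.val ≅ M :=
  have h : IsIso (PresheafOfModules.sheafificationAdjunction (𝟙 X.ringCatSheaf.obj)).counit :=
    inferInstance
  have : IsIso ((shfAdj X).counit.app M) := (NatTrans.isIso_iff_isIso_app _).1 h M
  (asIso ((shfAdj X).counit.app M) : (shf X).obj ((incl X).obj M) ≅ M)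

/-- The sheafification of the unit presheaf of modules is the structure module. -/
noncomputable def shfUnitIso : (shf X).obj (𝟙_ (PM X)) ≅ Coh.structureModule X :=
  shfCounitIso X (Coh.structureModule X)


/-- `X.Modules` with the localized monoidal structure. -/
abbrev MonMod := LocalizedMonoidal (shf X) (WX X) (shfUnitIso X)

noncomputable example : SymmetricCategory (MonMod X) := inferInstance

variable {X}

/-- The unit of the sheafification adjunction is locally bijective. -/
lemma WX_unit (P : PM X) : WX X ((shfAdj X).unit.app P) := by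
  rw [WX_iff_isIso]
  have h := (shfAdj X).left_triangle_components P
  have : IsIso ((shfAdj X).counit.app ((shf X).obj P)) :=
    (shfCounitIso X ((shf X).obj P)).isIso_hom
  exact IsIso.of_isIso_fac_right h

/-- `a(P ⊗ K) ≅ a(ιa(P) ⊗ K)`. -/
noncomputable def shfWhiskerRightIso (P K : PM X) :
    (shf X).obj (P ⊗ K) ≅ (shf X).obj ((incl X).obj ((shf X).obj P) ⊗ K) :=
  have : IsIso ((shf X).map ((shfAdj X).unit.app P ▷ K)) :=
    (WX_iff_isIso X _).1 ((WX X).whiskerRight_mem _ (WX_unit P) K)
  asIso ((shf X).map ((shfAdj X).unit.app P ▷ K))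

/-- `a(K ⊗ P) ≅ a(K ⊗ ιa(P))`. -/
noncomputable def shfWhiskerLeftIso (K P : PM X) :
    (shf X).obj (K ⊗ P) ≅ (shf X).obj (K ⊗ (incl X).obj ((shf X).obj P)) :=
  have : IsIso ((shf X).map (K ◁ (shfAdj X).unit.app P)) :=
    (WX_iff_isIso X _).1 ((WX X).whiskerLeft_mem K _ (WX_unit P))
  asIso ((shf X).map (K ◁ (shfAdj X).unit.app P))

section API

open CohB1

lemma tensorMod_eq (M N : X.Modules) :
    tensorMod M N = (shf X).obj ((incl X).obj M ⊗ (incl X).obj N) := rfl

/-- Functoriality of `tensorMod`. -/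
noncomputable def tensorModMap {M M' N N' : X.Modules} (f : M ⟶ M') (g : N ⟶ N') :
    tensorMod M N ⟶ tensorMod M' N' :=
  show (shf X).obj ((incl X).obj M ⊗ (incl X).obj N) ⟶
    (shf X).obj ((incl X).obj M' ⊗ (incl X).obj N') from
  (shf X).map ((incl X).map f ⊗ₘ (incl X).map g)

lemma tensorModMap_def {M M' N N' : X.Modules} (f : M ⟶ M') (g : N ⟶ N') :
    tensorModMap f g = (shf X).map ((incl X).map f ⊗ₘ (incl X).map g) := rfl

@[simp] lemma tensorModMap_id (M N : X.Modules) : tensorModMap (𝟙 M) (𝟙 N) = 𝟙 _ := by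
  rw [tensorModMap_def, show (incl X).map (𝟙 M) = 𝟙 _ from (incl X).map_id M,
    show (incl X).map (𝟙 N) = 𝟙 _ from (incl X).map_id N, id_tensorHom_id]
  exact (shf X).map_id _

@[reassoc]
lemma tensorModMap_comp {M M' M'' N N' N'' : X.Modules} (f : M ⟶ M') (f' : M' ⟶ M'')
    (g : N ⟶ N') (g' : N' ⟶ N'') :
    tensorModMap (f ≫ f') (g ≫ g') = tensorModMap f g ≫ tensorModMap f' g' := by
  rw [tensorModMap_def, tensorModMap_def, tensorModMap_def,
    (incl X).map_comp, (incl X).map_comp, ← tensorHom_comp_tensorHom]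
  exact (shf X).map_comp _ _

/-- `tensorMod` respects isomorphisms. -/
noncomputable def tensorModCongr {M M' N N' : X.Modules} (e : M ≅ M') (e' : N ≅ N') :
    tensorMod M N ≅ tensorMod M' N' where
  hom := tensorModMap e.hom e'.hom
  inv := tensorModMap e.inv e'.inv
  hom_inv_id := by rw [← tensorModMap_comp, e.hom_inv_id, e'.hom_inv_id, tensorModMap_id]
  inv_hom_id := by rw [← tensorModMap_comp, e.inv_hom_id, e'.inv_hom_id, tensorModMap_id]

/-- `O_X ⊗ M ≅ M`. -/
noncomputable def tensorModLeftUnitor (M : X.Modules) :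
    tensorMod (Coh.structureModule X) M ≅ M :=
  show (shf X).obj (𝟙_ (PM X) ⊗ (incl X).obj M) ≅ M from
  (shf X).mapIso (λ_ ((incl X).obj M)) ≪≫ shfCounitIso X M

/-- `M ⊗ O_X ≅ M`. -/
noncomputable def tensorModRightUnitor (M : X.Modules) :
    tensorMod M (Coh.structureModule X) ≅ M :=
  show (shf X).obj ((incl X).obj M ⊗ 𝟙_ (PM X)) ≅ M from
  (shf X).mapIso (ρ_ ((incl X).obj M)) ≪≫ shfCounitIso X M

/-- `M ⊗ N ≅ N ⊗ M`. -/
noncomputable def tensorModBraiding (M N : X.Modules) : tensorMod M N ≅ tensorMod N M :=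
  show (shf X).obj ((incl X).obj M ⊗ (incl X).obj N) ≅
    (shf X).obj ((incl X).obj N ⊗ (incl X).obj M) from
  (shf X).mapIso (β_ ((incl X).obj M) ((incl X).obj N))

/-- `(M ⊗ N) ⊗ K ≅ M ⊗ (N ⊗ K)`. -/
noncomputable def tensorModAssoc (M N K : X.Modules) :
    tensorMod (tensorMod M N) K ≅ tensorMod M (tensorMod N K) :=
  show (shf X).obj ((incl X).obj ((shf X).obj ((incl X).obj M ⊗ (incl X).obj N)) ⊗
      (incl X).obj K) ≅
    (shf X).obj ((incl X).obj M ⊗
      (incl X).obj ((shf X).obj ((incl X).obj N ⊗ (incl X).obj K))) from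
  (shfWhiskerRightIso ((incl X).obj M ⊗ (incl X).obj N) ((incl X).obj K)).symm ≪≫
    (shf X).mapIso (α_ ((incl X).obj M) ((incl X).obj N) ((incl X).obj K)) ≪≫
    shfWhiskerLeftIso ((incl X).obj M) ((incl X).obj N ⊗ (incl X).obj K)

/-- Morphisms out of `tensorMod M N` are morphisms of presheaves of modules out of the sectionwise
tensor product. -/
noncomputable def tensorModHomEquiv (M N F : X.Modules) :
    (tensorMod M N ⟶ F) ≃ ((incl X).obj M ⊗ (incl X).obj N ⟶ (incl X).obj F) :=
  show ((shf X).obj ((incl X).obj M ⊗ (incl X).obj N) ⟶ F) ≃ _ from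
  (shfAdj X).homEquiv _ _

end API

end Groth.Agent.Lib.QCoh
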