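import Groth.Agent.Lib.QCoh.Helper18_Generic

/-!
# Weakly associated points of `O_X` via ring stalks; reduced schemes (helper18)

* `isWeakAssPoint_structureModule_iff_stalk` : `x` weakly associated to `O_X` iff some
  `g ∈ O_{X,x}` has `rad (ann g) = 𝔪_x` (ring stalk!).
* `isWeakAssPoint_structureModule_of_generic` : points without proper generization are weakly
  associated to `O_X`.
* `generic_of_isWeakAssPoint_structureModule_of_isReduced` : on a reduced scheme, weakly
  associated points of `O_X` have no proper generization.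
-/

universe u

open CategoryTheory CategoryTheory.Limits AlgebraicGeometry Opposite TopologicalSpace
open Groth.Agent.Lib.Helper18 IsLocalRing

namespace Groth.Agent.Lib.QCoh

variable {X : Scheme.{u}}

theorem isWeakAssPoint_structureModule_iff_stalk (x : X) :
    Curv2.IsWeakAssPoint (Coh.structureModule X) x ↔
      ∃ g : X.presheaf.stalk x,
        (WeakAss.ann (X.presheaf.stalk x) g).radical = maximalIdeal (X.presheaf.stalk x) := by
  obtain ⟨V, hV0, hxV, -⟩ := Opens.isBasis_iff_nbhd.1 (X.isBasis_affineOpens)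
    (show x ∈ (⊤ : X.Opens) from trivial)
  have hV : IsAffineOpen V := hV0
  rw [isWeakAssPoint_structureModule_iff hV x hxV]
  let _ : Algebra Γ(X, V) (X.presheaf.stalk x) :=
    TopCat.Presheaf.algebra_section_stalk X.presheaf ⟨x, hxV⟩
  have hloc := hV.isLocalization_stalk ⟨x, hxV⟩
  have key := fun a : Γ(X, V) => WeakAss.radical_ann_eq_maximalIdeal_iff
    (R' := X.presheaf.stalk x) (hV.primeIdealOf ⟨x, hxV⟩).asIdeal
    (Algebra.linearMap Γ(X, V) (X.presheaf.stalk x)) a
  constructor
  · rintro ⟨a, ha⟩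
    exact ⟨_, (key a).2 ha⟩
  · rintro ⟨g, hg⟩
    obtain ⟨⟨a, t⟩, hat⟩ := IsLocalization.surj (hV.primeIdealOf ⟨x, hxV⟩).asIdeal.primeCompl g
    refine ⟨a, (key a).1 ?_⟩
    have hu : IsUnit (algebraMap Γ(X, V) (X.presheaf.stalk x) t.1) :=
      IsLocalization.map_units _ t
    have e : Algebra.linearMap Γ(X, V) (X.presheaf.stalk x) a =
        (algebraMap Γ(X, V) (X.presheaf.stalk x) t.1) • g := by
      rw [Algebra.linearMap_apply, ← hat, smul_eq_mul, mul_comm]
    rw [e, WeakAss.ann_smul_of_isUnit hu]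
    exact hg

theorem isWeakAssPoint_structureModule_of_generic (x : X) (hx : ∀ y : X, y ⤳ x → y = x) :
    Curv2.IsWeakAssPoint (Coh.structureModule X) x := by
  obtain ⟨V, hV0, hxV, -⟩ := Opens.isBasis_iff_nbhd.1 (X.isBasis_affineOpens)
    (show x ∈ (⊤ : X.Opens) from trivial)
  have hV : IsAffineOpen V := hV0
  apply isWeakAssPoint_structureModule_of_minimalPrimes hV x hxV
  refine ⟨⟨(hV.primeIdealOf ⟨x, hxV⟩).isPrime, bot_le⟩, ?_⟩
  rintro q ⟨hqprime, -⟩ hqle
  set Q : PrimeSpectrum Γ(X, V) := ⟨q, hqprime⟩ with hQ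
  have hηV := fromSpec_mem hV Q
  have hPη : hV.primeIdealOf ⟨hV.fromSpec Q, hηV⟩ = Q := primeIdealOf_fromSpec hV Q
  have hspec : hV.fromSpec Q ⤳ x := by
    rw [specializes_iff_primeIdealOf_le hV hxV hηV, hPη]
    exact hqle
  have heq : hV.fromSpec Q = x := hx _ hspec
  have : hV.primeIdealOf ⟨x, hxV⟩ = Q := by
    rw [← hPη]
    congr 1
    exact Subtype.ext heq.symm
  rw [this]

theorem generic_of_isWeakAssPoint_structureModule_of_isReduced [IsReduced X] (x : X)
    (hx : Curv2.IsWeakAssPoint (Coh.structureModule X) x) (y : X) (hy : y ⤳ x) : y = x := by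
  obtain ⟨g, hg⟩ := (isWeakAssPoint_structureModule_iff_stalk x).1 hx
  have hred : _root_.IsReduced (X.presheaf.stalk x) := inferInstance
  -- every element of the maximal ideal kills `g`
  have hkill : ∀ t ∈ maximalIdeal (X.presheaf.stalk x), t * g = 0 := by
    intro t ht
    rw [← hg] at ht
    obtain ⟨n, hn⟩ := ht
    rw [WeakAss.mem_ann, smul_eq_mul] at hn
    apply hred.eq_zero
    refine ⟨n + 1, ?_⟩
    rw [mul_pow, pow_succ g n, ← mul_assoc, mul_comm (t ^ (n + 1)), pow_succ t n]
    calc g ^ n * (t ^ n * t) * g = g ^ n * t * (t ^ n * g) := by ring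
      _ = 0 := by rw [hn, mul_zero]
  -- `g` is a unit
  have hgunit : IsUnit g := by
    by_contra hnu
    have hgm : g ∈ maximalIdeal (X.presheaf.stalk x) := (IsLocalRing.mem_maximalIdeal g).2 hnu
    have hgg : g * g = 0 := hkill g hgm
    have hg0 : g = 0 := hred.eq_zero g ⟨2, by rw [pow_two]; exact hgg⟩
    have htop : WeakAss.ann (X.presheaf.stalk x) g = ⊤ := by
      rw [hg0]; ext r; simp
    rw [htop, Ideal.radical_top] at hg
    exact (IsLocalRing.maximalIdeal.isMaximal _).ne_top hg.symm
  have hm0 : ∀ t ∈ maximalIdeal (X.presheaf.stalk x), t = 0 := by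
    intro t ht
    exact (hgunit.mul_left_eq_zero).1 (hkill t ht)
  -- the point `y` corresponds to a prime of the stalk
  have hyr : y ∈ Set.range (X.fromSpecStalk x) := by
    rw [Scheme.range_fromSpecStalk]; exact hy
  obtain ⟨P, rfl⟩ := hyr
  have hP : P = closedPoint (X.presheaf.stalk x) := by
    apply PrimeSpectrum.ext
    apply le_antisymm
    · exact IsLocalRing.le_maximalIdeal P.isPrime.ne_top
    · intro t ht
      change t ∈ maximalIdeal _ at ht
      rw [hm0 t ht]
      exact P.asIdeal.zero_mem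
  rw [hP]
  exact Scheme.fromSpecStalk_closedPoint

end Groth.Agent.Lib.QCoh
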