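import Groth.Agent.Lib.QCoh.Helper74_LocFreeStalk
import Groth.Agent.Lib.QCoh.Helper18_PullbackSupport
import Groth.Agent.Lib.QCoh.FinitePresentation

/-!
# QCoh API (helper74): torsion-free coherent modules on regular schemes of dimension ≤ 1

Namespace `Groth.Agent.Lib.QCoh.TFDimOne74`.
-/

set_option linter.style.haveILetI false
universe u
open CategoryTheory CategoryTheory.Limits AlgebraicGeometry Opposite TopologicalSpace

namespace Groth.Agent.Lib.QCoh.TFDimOne74
open Groth.Agent.Lib.QCoh IsLocalRing

/-- A regular local domain of dimension at most one is a principal ideal ring. -/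
theorem isPrincipalIdealRing_of_isRegularLocalRing (R : Type u) [CommRing R] [IsDomain R]
    [IsRegularLocalRing R] (h : ringKrullDim R ≤ 1) : IsPrincipalIdealRing R := by
  have h1 : (Module.finrank (ResidueField R) (CotangentSpace R) : WithBot ℕ∞) = ringKrullDim R :=
    (IsRegularLocalRing.iff_finrank_cotangentSpace R).1 inferInstance
  have h2 : Module.finrank (ResidueField R) (CotangentSpace R) ≤ 1 := by
    have h3 : ((Module.finrank (ResidueField R) (CotangentSpace R) : ℕ) : WithBot ℕ∞) ≤ 1 :=
      h1 ▸ h
    exact_mod_cast h3
  exact ((tfae_of_isNoetherianRing_of_isLocalRing_of_isDomain R).out 0 5).2 h2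

theorem ringKrullDim_stalk_le (X : Scheme.{u}) (x : X) :
    ringKrullDim (X.presheaf.stalk x) ≤ topologicalKrullDim X := by
  rw [ringKrullDim_stalk_eq_coheight]
  let _ := specializationOrder X
  have h1 : ((Order.coheight x : ℕ∞) : WithBot ℕ∞) ≤ Order.krullDim X :=
    Order.coheight_le_krullDim x
  have h2 : Order.krullDim X = topologicalKrullDim X :=
    (Order.krullDim_eq_of_orderIso (irreducibleSetEquivPoints (α := X))).symm
  rw [← h2]
  exact h1

/-- On an integral locally Noetherian regular scheme of dimension ≤ 1, a coherent module is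
torsion free iff it is finite locally free. -/
theorem torsionFree_iff_isFinLocFree (X : Scheme.{u}) [IsIntegral X] [IsLocallyNoetherian X]
    (hreg : ∀ x : X, IsRegularLocalRing (X.presheaf.stalk x))
    (hdim : topologicalKrullDim X ≤ 1) (F : X.Modules) [F.IsQuasicoherent] [F.IsFiniteType] :
    (∀ x : X, NoZeroSMulDivisors (X.presheaf.stalk x) (F.presheaf.stalk x)) ↔
      FlatMod.IsFinLocFree F := by
  constructor
  · intro htf
    have := isFinitePresentation_of_isLocallyNoetherian F
    apply isFinLocFree_of_isFlat_of_isFinitePresentation F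
    intro x
    have := hreg x
    have := htf x
    have hpid : IsPrincipalIdealRing (X.presheaf.stalk x) :=
      isPrincipalIdealRing_of_isRegularLocalRing _ ((ringKrullDim_stalk_le X x).trans hdim)
    have hfin : Module.Finite (X.presheaf.stalk x) (F.presheaf.stalk x) := finite_stalk F x
    have hfree : Module.Free (X.presheaf.stalk x) (F.presheaf.stalk x) :=
      Module.free_of_finite_type_torsion_free'
    exact inferInstanceAs (Module.Flat (X.presheaf.stalk x) (F.presheaf.stalk x))
  · intro h x
    have := (free_finite_stalk_of_isFinLocFree h x).1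
    have htf : Module.IsTorsionFree (X.presheaf.stalk x) (F.presheaf.stalk x) := inferInstance
    refine ⟨fun {c m} hcm => ?_⟩
    by_cases hc : c = 0
    · exact Or.inl hc
    · refine Or.inr ?_
      have hreg := htf.isSMulRegular (IsRegular.of_ne_zero hc)
      exact hreg (show c • m = c • 0 by rw [hcm, smul_zero])

end Groth.Agent.Lib.QCoh.TFDimOne74
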