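import Groth.Agent.Lib.QCoh.Helper50_FinitePush
import Groth.Agent.Lib.QCoh.Helper49_FP
import Mathlib.AlgebraicGeometry.Morphisms.FinitePresentation
import Mathlib.RingTheory.Finiteness.ModuleFinitePresentation

/-!
# QCoh API (helper50): finite presentation and finite pushforward

Namespace `Groth.Agent.Lib.QCoh`.

* `fp_of_fp_restrict` : `B` finite over `A`, `M` a `B`-module f.p. over `A` ⇒ f.p. over `B`.
* `fp_restrict_of_fp` : `B` finite and f.p. as an `A`-algebra, `M` f.p. over `B` ⇒ f.p. over `A`.
* `isFinitePresentation_of_pushforward_isFinite` : `f` finite, `F` qcoh, `f_*F` f.p. ⇒ `F` f.p.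
* `isFinitePresentation_pushforward_of_isFinite` : `f` finite l.f.p., `F` qcoh f.p. ⇒ `f_*F` f.p.
-/

universe u

open CategoryTheory CategoryTheory.Limits AlgebraicGeometry Opposite TopologicalSpace

namespace Groth.Agent.Lib.QCoh

section algebra

variable {A B M : Type*} [CommRing A] [CommRing B] [AddCommGroup M] [Module A M] [Module B M]
  (φ : A →+* B) (h : ∀ (a : A) (m : M), a • m = φ a • m)

include h in
lemma fp_of_fp_restrict (hφ : φ.Finite) (hM : Module.FinitePresentation A M) :
    Module.FinitePresentation B M := by
  let _ : Algebra A B := φ.toAlgebra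
  have : IsScalarTower A B M := ⟨fun a b m => by
    change (φ a * b) • m = a • (b • m)
    rw [mul_smul, h]⟩
  have : Module.Finite A B := hφ
  have : Module.Finite B M := Module.Finite.of_restrictScalars_finite A B M
  obtain ⟨n, f, hf⟩ := Module.Finite.exists_fin' B M
  refine Module.finitePresentation_of_surjective f hf ?_
  have : Module.Finite A (Fin n → B) := Module.Finite.trans B (Fin n → B)
  have hfg : (LinearMap.ker (f.restrictScalars A)).FG :=
    Module.FinitePresentation.fg_ker (f.restrictScalars A) hf
  apply Submodule.FG.of_restrictScalars A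
  rwa [LinearMap.ker_restrictScalars] at hfg

include h in
lemma fp_restrict_of_fp (hφ : φ.Finite) (hφ' : φ.FinitePresentation)
    (hM : Module.FinitePresentation B M) : Module.FinitePresentation A M := by
  let _ : Algebra A B := φ.toAlgebra
  have : IsScalarTower A B M := ⟨fun a b m => by
    change (φ a * b) • m = a • (b • m)
    rw [mul_smul, h]⟩
  have : Module.Finite A B := hφ
  have : Algebra.FinitePresentation A B := hφ'
  have : Module.FinitePresentation A B := Module.FinitePresentation.of_finite_of_finitePresentation A B
  exact Module.FinitePresentation.trans A M B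

end algebra

variable {X Y : Scheme.{u}} (f : X ⟶ Y)

theorem finitePresentation_Γ_of_finitePresentation_Γ_pushforward [IsFinite f] (F : X.Modules)
    (V : Y.Opens) (hV : IsAffineOpen V)
    (h : Module.FinitePresentation Γ(Y, V) Γ((Scheme.Modules.pushforward f).obj F, V)) :
    Module.FinitePresentation Γ(X, f ⁻¹ᵁ V) Γ(F, f ⁻¹ᵁ V) := by
  have key := @fp_of_fp_restrict Γ(Y, V) Γ(X, f ⁻¹ᵁ V)
    Γ((Scheme.Modules.pushforward f).obj F, V) _ _ _ _
    (show Module Γ(X, f ⁻¹ᵁ V) Γ(F, f ⁻¹ᵁ V) from inferInstance)
    (f.app V).hom (fun _ _ => rfl) (IsFinite.finite_app f V hV) h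
  exact key

theorem finitePresentation_Γ_pushforward_of_finitePresentation_Γ [IsFinite f]
    [LocallyOfFinitePresentation f] (F : X.Modules) (V : Y.Opens)
    (hV : IsAffineOpen V) (h : Module.FinitePresentation Γ(X, f ⁻¹ᵁ V) Γ(F, f ⁻¹ᵁ V)) :
    Module.FinitePresentation Γ(Y, V) Γ((Scheme.Modules.pushforward f).obj F, V) := by
  have hfp : (f.app V).hom.FinitePresentation := by
    rw [Scheme.Hom.app_eq_appLE]
    exact f.finitePresentation_appLE hV (hV.preimage f) le_rfl
  have key := @fp_restrict_of_fp Γ(Y, V) Γ(X, f ⁻¹ᵁ V)
    Γ((Scheme.Modules.pushforward f).obj F, V) _ _ _ _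
    (show Module Γ(X, f ⁻¹ᵁ V) Γ(F, f ⁻¹ᵁ V) from inferInstance)
    (f.app V).hom (fun _ _ => rfl) (IsFinite.finite_app f V hV) hfp h
  exact key

/-- **Finite presentation descends along finite pushforward**: if `f` is finite, `F`
quasi-coherent and `f_*F` is of finite presentation, then so is `F`. -/
theorem isFinitePresentation_of_pushforward_isFinite [IsFinite f] (F : X.Modules)
    [F.IsQuasicoherent] [h : ((Scheme.Modules.pushforward f).obj F).IsFinitePresentation] :
    F.IsFinitePresentation := by
  refine isFinitePresentation_of_isOpenCover F _ (isOpenCover_preimage_affineOpens f) fun V => ?_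
  refine exists_presentation_restrict_of_finitePresentation (V.2.preimage f) F ?_
  exact finitePresentation_Γ_of_finitePresentation_Γ_pushforward f F V V.2
    (finitePresentation_Γ_of_isAffineOpen V.2 _)

/-- **Finite, locally finitely presented pushforward preserves finite presentation** (for
quasi-coherent modules). -/
theorem isFinitePresentation_pushforward_of_isFinite [IsFinite f] [LocallyOfFinitePresentation f]
    (F : X.Modules) [F.IsQuasicoherent] [h : F.IsFinitePresentation] :
    ((Scheme.Modules.pushforward f).obj F).IsFinitePresentation := by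
  have hq : ((Scheme.Modules.pushforward f).obj F).IsQuasicoherent :=
    isQuasicoherent_pushforward_of_isAffineHom f F
  rw [isFinitePresentation_iff_forall_finitePresentation]
  intro V
  exact finitePresentation_Γ_pushforward_of_finitePresentation_Γ f F V V.2
    (finitePresentation_Γ_of_isAffineOpen (V.2.preimage f) F)

end Groth.Agent.Lib.QCoh
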