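import Groth.Agent.Lib.QCoh.Helper50_Pushforward
import Mathlib.Algebra.Category.ModuleCat.ChangeOfRings

/-!
# QCoh API, part Q3 (helper50): the dictionary for `Spec φ`

Namespace `Groth.Agent.Lib.QCoh`.  `φ : R ⟶ S` in `CommRingCat`.

* `pushforwardSpecΓIso φ` : `Γ((Spec φ)_* N) ≅ restrictScalars Γ(N)` (natural iso of functors)
* `tildePullbackIso φ` : `tilde_R ⋙ (Spec φ)^* ≅ extendScalars φ ⋙ tilde_S`
* `pullbackTildeIso φ M` : `(Spec φ)^* (M^~) ≅ (S ⊗_R M)^~`
* `tildePushforwardIso φ N` : `(Spec φ)_* (N^~) ≅ (N_R)^~`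
-/

universe u

open CategoryTheory CategoryTheory.Limits AlgebraicGeometry Opposite TopologicalSpace

namespace Groth.Agent.Lib.QCoh
variable {R S : CommRingCat.{u}} (φ : R ⟶ S)

set_option backward.isDefEq.respectTransparency false in
/-- Global sections of a pushforward along `Spec φ`: restriction of scalars. -/
noncomputable def pushforwardSpecΓIso :
    Scheme.Modules.pushforward (Spec.map φ) ⋙ moduleSpecΓFunctor (R := R) ≅
      moduleSpecΓFunctor (R := S) ⋙ ModuleCat.restrictScalars φ.hom :=
  (Functor.associator _ _ _).symm ≪≫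
    Functor.isoWhiskerRight (pushforwardCompModulesSpecToSheafIso φ)
      (TopCat.Sheaf.forget _ _ ⋙ (evaluation _ _).obj (.op ⊤)) ≪≫
    Iso.refl _

set_option backward.isDefEq.respectTransparency false in
/-- **Pullback along `Spec φ` of `M^~` is `(S ⊗_R M)^~`**, naturally in `M`. -/
noncomputable def tildePullbackIso :
    tilde.functor R ⋙ Scheme.Modules.pullback (Spec.map φ) ≅
      ModuleCat.extendScalars φ.hom ⋙ tilde.functor S :=
  (((tilde.adjunction (R := R)).comp
      (Scheme.Modules.pullbackPushforwardAdjunction (Spec.map φ))).ofNatIsoRight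
        (pushforwardSpecΓIso φ)).leftAdjointUniq
    ((ModuleCat.extendRestrictScalarsAdj φ.hom).comp (tilde.adjunction (R := S)))

/-- Pushforward along `Spec φ` of `N^~` is `(N_R)^~` (restriction of scalars). -/
noncomputable def tildePushforwardIso (N : ModuleCat.{u} S) :
    (Scheme.Modules.pushforward (Spec.map φ)).obj (tilde N) ≅
      tilde ((ModuleCat.restrictScalars φ.hom).obj N) := by
  have : ((Scheme.Modules.pushforward (Spec.map φ)).obj (tilde N)).IsQuasicoherent :=
    isQuasicoherent_pushforward_Spec φ _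
  exact (asIso ((Scheme.Modules.pushforward (Spec.map φ)).obj (tilde N)).fromTildeΓ).symm ≪≫
    (tilde.functor R).mapIso ((pushforwardSpecΓIso φ).app (tilde N) ≪≫
      (ModuleCat.restrictScalars φ.hom).mapIso (tilde.toTildeΓNatIso.app N).symm)

/-- Objectwise form of `tildePullbackIso`. -/
noncomputable def pullbackTildeIso (M : ModuleCat.{u} R) :
    (Scheme.Modules.pullback (Spec.map φ)).obj (tilde M) ≅
      tilde ((ModuleCat.extendScalars φ.hom).obj M) :=
  (tildePullbackIso φ).app M

end Groth.Agent.Lib.QCoh
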