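import Groth.Prelude.Def_Pic
import Groth.Agent.Lib.QCoh.Local

/-!
# Invertibility (`PicF.IsInvertible`) is local for open immersions

* `nonempty_restrict_iso_unit_of_fac`: triviality of `M.restrict f` transfers to `M.restrict g` when `f = j ≫ g`, `j` iso
* `isInvertible_of_openImmersion_cover`: if every point lies in the range of an open immersion `f` with
  `M.restrict f` invertible then `M` is invertible
* `isInvertible_restrict`: restriction of an invertible module along an open immersion is invertible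
-/

universe u
open CategoryTheory CategoryTheory.Limits AlgebraicGeometry TopologicalSpace Opposite

namespace Groth.Agent.Lib.QCoh

open Scheme.Modules

theorem nonempty_restrict_iso_unit_of_fac {X Z Z' : Scheme.{u}} (M : X.Modules) (f : Z ⟶ X)
    (g : Z' ⟶ X) [IsOpenImmersion f] [IsOpenImmersion g] (j : Z ⟶ Z') [IsIso j]
    (hfac : j ≫ g = f)
    (h : Nonempty (M.restrict f ≅ Coh.structureModule Z)) :
    Nonempty (M.restrict g ≅ Coh.structureModule Z') := by
  obtain ⟨e⟩ := h
  have e1 : (M.restrict g).restrict j ≅ Coh.structureModule Z :=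
    ((restrictFunctorComp j g).app M).symm ≪≫ (restrictFunctorCongr hfac).app M ≪≫ e
  exact ⟨(restrictInvRestrictIso j (M.restrict g)).symm ≪≫
    (restrictFunctor (inv j)).mapIso e1 ≪≫ restrictUnitIso (inv j)⟩

/-- if `(M|_f)|_{V'}` is trivial then `M` is trivial on the open `f(V')` -/
theorem nonempty_restrict_image_iso_unit {X Z : Scheme.{u}} (M : X.Modules) (f : Z ⟶ X)
    [IsOpenImmersion f] (V' : Z.Opens)
    (h : Nonempty ((M.restrict f).restrict V'.ι ≅ Coh.structureModule (V' : Scheme.{u}))) :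
    Nonempty (M.restrict (f ''ᵁ V').ι ≅ Coh.structureModule ((f ''ᵁ V' : X.Opens) : Scheme.{u})) := by
  obtain ⟨e⟩ := h
  let f' : (V' : Scheme.{u}) ⟶ X := V'.ι ≫ f
  have hr : Set.range f' = Set.range (f ''ᵁ V').ι := by
    simp [f', Set.range_comp]
  let j : (V' : Scheme.{u}) ≅ (f ''ᵁ V' : X.Opens) := IsOpenImmersion.isoOfRangeEq f' (f ''ᵁ V').ι hr
  have hj : j.hom ≫ (f ''ᵁ V').ι = f' := IsOpenImmersion.isoOfRangeEq_hom_fac f' (f ''ᵁ V').ι hr
  refine nonempty_restrict_iso_unit_of_fac M f' (f ''ᵁ V').ι j.hom hj ?_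
  exact ⟨(restrictFunctorComp V'.ι f).app M ≪≫ e⟩

theorem isInvertible_of_openImmersion_cover {X : Scheme.{u}} (M : X.Modules)
    (h : ∀ x : X, ∃ (Z : Scheme.{u}) (f : Z ⟶ X) (_ : IsOpenImmersion f),
      x ∈ Set.range f ∧ PicF.IsInvertible (M.restrict f)) : PicF.IsInvertible M := by
  intro x
  obtain ⟨Z, f, hf, ⟨z, rfl⟩, hinv⟩ := h x
  obtain ⟨V', hz, he⟩ := hinv z
  exact ⟨f ''ᵁ V', ⟨z, hz, rfl⟩, nonempty_restrict_image_iso_unit M f V' he⟩

end Groth.Agent.Lib.QCoh
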