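import Groth.Agent.Lib.QCoh.FiniteType
import Groth.Agent.Lib.QCoh.Coherent
import Groth.Agent.Lib.QCoh.Local

/-!
# Finite type / quasi-coherence are local for covers by open immersions (helper66)

* `exists_generatingSections_restrict_image`
* `isFiniteType_of_openImmersion_cover`
* `isQuasicoherent_of_openImmersion_cover`
-/

universe u
open CategoryTheory CategoryTheory.Limits AlgebraicGeometry TopologicalSpace Opposite

namespace Groth.Agent.Lib.QCoh

open Scheme.Modules

/-- the isomorphism `V' ≅ f(V')` for an open immersion `f` -/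
noncomputable def imageIso {X Z : Scheme.{u}} (f : Z ⟶ X) [IsOpenImmersion f] (V' : Z.Opens) :
    (V' : Scheme.{u}) ≅ (f ''ᵁ V' : X.Opens) :=
  IsOpenImmersion.isoOfRangeEq (V'.ι ≫ f) (f ''ᵁ V').ι (by simp [Set.range_comp])

lemma imageIso_hom_ι {X Z : Scheme.{u}} (f : Z ⟶ X) [IsOpenImmersion f] (V' : Z.Opens) :
    (imageIso f V').hom ≫ (f ''ᵁ V').ι = V'.ι ≫ f :=
  IsOpenImmersion.isoOfRangeEq_hom_fac _ _ _

/-- `(M|_{f(V')})|_{V'} ≅ (M|_f)|_{V'}` -/
noncomputable def restrictImageIso {X Z : Scheme.{u}} (M : X.Modules) (f : Z ⟶ X)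
    [IsOpenImmersion f] (V' : Z.Opens) :
    (M.restrict (f ''ᵁ V').ι).restrict (imageIso f V').hom ≅ (M.restrict f).restrict V'.ι :=
  ((restrictFunctorComp (imageIso f V').hom (f ''ᵁ V').ι).app M).symm ≪≫
    (restrictFunctorCongr (imageIso_hom_ι f V')).app M ≪≫ (restrictFunctorComp V'.ι f).app M

theorem exists_generatingSections_restrict_image {X Z : Scheme.{u}} (M : X.Modules) (f : Z ⟶ X)
    [IsOpenImmersion f] (V' : Z.Opens)
    (h : ∃ G : ((M.restrict f).restrict V'.ι).GeneratingSections, G.IsFiniteType) :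
    ∃ G : (M.restrict (f ''ᵁ V').ι).GeneratingSections, G.IsFiniteType := by
  obtain ⟨G1, hG1⟩ := exists_generatingSections_of_iso (restrictImageIso M f V').symm h
  exact exists_generatingSections_of_iso
    (restrictInvRestrictIso (imageIso f V').hom (M.restrict (f ''ᵁ V').ι))
    ⟨generatingSectionsRestrict (inv (imageIso f V').hom) G1, inferInstance⟩

/-- finite type is local for covers by open immersions -/
theorem isFiniteType_of_openImmersion_cover {X : Scheme.{u}} (M : X.Modules)
    (h : ∀ x : X, ∃ (Z : Scheme.{u}) (f : Z ⟶ X) (_ : IsOpenImmersion f),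
      x ∈ Set.range f ∧ (M.restrict f).IsFiniteType) : M.IsFiniteType := by
  have h' : ∀ x : X, ∃ W : X.Opens, x ∈ W ∧
      ∃ G : (M.restrict W.ι).GeneratingSections, G.IsFiniteType := by
    intro x
    obtain ⟨Z, f, hf, ⟨z, rfl⟩, hft⟩ := h x
    obtain ⟨ι, U, hU, hG⟩ := (isFiniteType_iff_exists_isOpenCover (M.restrict f)).1 hft
    have hz : z ∈ (⊤ : Z.Opens) := trivial
    rw [← hU.iSup_eq_top] at hz
    obtain ⟨i, hi⟩ := Opens.mem_iSup.1 hz
    exact ⟨f ''ᵁ U i, ⟨z, hi, rfl⟩, exists_generatingSections_restrict_image M f (U i) (hG i)⟩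
  choose W hxW hG using h'
  refine isFiniteType_of_isOpenCover M W ?_ hG
  rw [IsOpenCover, ← top_le_iff]
  intro x _
  exact Opens.mem_iSup.2 ⟨x, hxW x⟩

/-- quasi-coherence is local for covers by open immersions -/
theorem isQuasicoherent_of_openImmersion_cover {X : Scheme.{u}} (M : X.Modules)
    (h : ∀ x : X, ∃ (Z : Scheme.{u}) (f : Z ⟶ X) (_ : IsOpenImmersion f),
      x ∈ Set.range f ∧ (M.restrict f).IsQuasicoherent) : M.IsQuasicoherent := by
  choose Z f hf hx hq using h
  refine isQuasicoherent_of_isOpenCover M (fun x : X => (f x).opensRange) ?_ fun x => ?_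
  · rw [IsOpenCover, ← top_le_iff]
    intro x _
    exact Opens.mem_iSup.2 ⟨x, hx x⟩
  · have hr : Set.range (f x) = Set.range (f x).opensRange.ι := by simp
    let j : Z x ≅ ((f x).opensRange : Scheme.{u}) :=
      IsOpenImmersion.isoOfRangeEq (f x) (f x).opensRange.ι hr
    have hj : j.hom ≫ (f x).opensRange.ι = f x := IsOpenImmersion.isoOfRangeEq_hom_fac _ _ hr
    have h1 : ((M.restrict (f x).opensRange.ι).restrict j.hom).IsQuasicoherent :=
      isQuasicoherent_of_iso
        (((restrictFunctorComp j.hom (f x).opensRange.ι).app M).symm ≪≫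
          (restrictFunctorCongr hj).app M).symm (hq x)
    exact isQuasicoherent_of_restrict_iso j.hom _

end Groth.Agent.Lib.QCoh
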