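import Groth.Agent.Lib.QCoh.OmegaS2
import Groth.Agent.Lib.QCoh.TensorQCoh
import Groth.Agent.Lib.QCoh.Helper50_Pullback

/-!
# QCoh API / OMEGA (lead): `Ω_{Spec A/Spec R} = (Ω[A⁄R])^~`

* `betaIso`, `beta : A ⊗[R] A ≃+* Γ(Spec A ×_{Spec R} Spec A, ⊤)`, `delta` (map induced by diagonal), `delta_beta`
* `nonempty_linearEquiv_Γ_omega : Nonempty (Γ(Omega.sheaf (Spec A → Spec R), ⊤) ≃ₗ[A] Ω[A⁄R])`
* `isoTildeOfLinearEquiv F N e : F ≅ tilde N` for `F` qcoh on `Spec S`, `e : Γ(F,⊤) ≃ₗ[S] N`
* `nonempty_omega_iso_tilde` (= S2157)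
* `instModuleOf` : `Module A Γ(M,U)` for `M : (Spec (CommRingCat.of A)).Modules` (Mathlib's instance is not found
  by instance search for `CommRingCat.of A`)
-/

universe u
open CategoryTheory CategoryTheory.Limits AlgebraicGeometry Opposite TopologicalSpace TensorProduct

namespace Groth.Agent.Lib.QCoh

open Scheme.Modules

section

variable (R A : Type u) [CommRing R] [CommRing A] [Algebra R A]

/-- `Spec A ⟶ Spec R` -/
noncomputable abbrev fSpec : Spec (CommRingCat.of A) ⟶ Spec (CommRingCat.of R) :=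
  Spec.map (CommRingCat.ofHom (algebraMap R A))

/-- the fibre square `Spec A ×_{Spec R} Spec A` -/
noncomputable abbrev PP : Scheme.{u} := pullback (fSpec R A) (fSpec R A)

/-- the diagonal -/
noncomputable abbrev diag : Spec (CommRingCat.of A) ⟶ PP R A := pullback.diagonal (fSpec R A)

lemma diag_comp_iso :
    diag R A ≫ (pullbackSpecIso R A A).hom =
      Spec.map (CommRingCat.ofHom (Algebra.TensorProduct.lmul' R : A ⊗[R] A →ₐ[R] A).toRingHom) := by
  rw [diag, diagonal_SpecMap, Category.assoc, Iso.inv_hom_id, Category.comp_id]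

/-- the ring isomorphism `A ⊗[R] A ≃ Γ(Spec A ×_{Spec R} Spec A, ⊤)` -/
noncomputable def betaIso : CommRingCat.of (A ⊗[R] A) ≅ Γ(PP R A, ⊤) :=
  (Scheme.ΓSpecIso (CommRingCat.of (A ⊗[R] A))).symm ≪≫ Scheme.Γ.mapIso (pullbackSpecIso R A A).op

noncomputable def beta : A ⊗[R] A ≃+* Γ(PP R A, ⊤) := (betaIso R A).commRingCatIsoToRingEquiv

/-- the map on global sections induced by the diagonal -/
noncomputable def delta : Γ(PP R A, ⊤) →+* Γ(Spec (CommRingCat.of A), ⊤) :=
  ((diag R A).appLE ⊤ ⊤ le_top).hom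

lemma delta_beta (x : A ⊗[R] A) :
    delta R A (beta R A x) =
      (Scheme.ΓSpecIso (CommRingCat.of A)).inv (Algebra.TensorProduct.lmul' R x) := by
  have h : (betaIso R A).hom ≫ (diag R A).appLE ⊤ ⊤ le_top =
      CommRingCat.ofHom (Algebra.TensorProduct.lmul' R : A ⊗[R] A →ₐ[R] A).toRingHom ≫
        (Scheme.ΓSpecIso (CommRingCat.of A)).inv := by
    have h1 : (pullbackSpecIso R A A).hom.appTop ≫ (diag R A).appLE ⊤ ⊤ le_top =
        (diag R A ≫ (pullbackSpecIso R A A).hom).appTop := by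
      have e1 : ∀ {X Y : Scheme.{u}} (g : X ⟶ Y), g.appLE ⊤ ⊤ le_top = g.appTop := by
        intro X Y g
        simp only [Scheme.Hom.appLE, Scheme.Hom.appTop]
        erw [X.presheaf.map_id]
        exact Category.comp_id _
      rw [← e1, ← e1]
      exact Scheme.Hom.appLE_comp_appLE _ _ _ _ _ _ _
    change ((Scheme.ΓSpecIso (CommRingCat.of (A ⊗[R] A))).inv ≫ (pullbackSpecIso R A A).hom.appTop) ≫ _ = _
    rw [Category.assoc, h1, diag_comp_iso]
    exact (Scheme.ΓSpecIso_inv_naturality _).symm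
  exact congr($h x)


lemma delta_surjective : Function.Surjective (delta R A) := by
  intro y
  obtain ⟨a, rfl⟩ : ∃ a, (Scheme.ΓSpecIso (CommRingCat.of A)).inv a = y :=
    ⟨(Scheme.ΓSpecIso (CommRingCat.of A)).hom y, by
      rw [← CommRingCat.comp_apply, Iso.hom_inv_id]; rfl⟩
  refine ⟨beta R A (a ⊗ₜ 1), ?_⟩
  rw [delta_beta]
  simp

lemma delta_beta_eq_zero_iff (x : A ⊗[R] A) :
    delta R A (beta R A x) = 0 ↔ Algebra.TensorProduct.lmul' (S := A) R x = 0 := by
  rw [delta_beta]
  constructor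
  · intro h
    have := congrArg (Scheme.ΓSpecIso (CommRingCat.of A)).hom h
    rw [← CommRingCat.comp_apply, Iso.inv_hom_id, map_zero] at this
    exact this
  · intro h
    rw [h, map_zero]


/-- the ideal module of the diagonal -/
noncomputable abbrev Mid : (PP R A).Modules := ClSub.idealMod (diag R A).ker

lemma omega_eq :
    Omega.sheaf (fSpec R A) = (Scheme.Modules.pullback (diag R A)).obj (Mid R A) := rfl

instance : (Omega.sheaf (fSpec R A)).IsQuasicoherent :=
  isQuasicoherent_pullback (diag R A) (Mid R A)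

lemma ker_eq : (RingHom.ker ((diag R A).ker.subschemeι.app ⊤).hom) = RingHom.ker (delta R A) := by
  have h1 := Scheme.IdealSheafData.ker_subschemeι_app (diag R A).ker ⟨⊤, isAffineOpen_top _⟩
  have h2 := Scheme.Hom.ker_apply (diag R A) ⟨⊤, isAffineOpen_top _⟩
  refine h1.trans (h2.trans ?_)
  have e1 : (diag R A).appLE ⊤ ⊤ le_top = (diag R A).app ⊤ := by
    simp only [Scheme.Hom.appLE]
    erw [(Spec (CommRingCat.of A)).presheaf.map_id]
    exact Category.comp_id _
  unfold delta
  rw [e1]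
  rfl


/-- the `A`-module structure on sections of a module over `Spec (CommRingCat.of A)`; instance search
does not find Mathlib's instance because `↑(CommRingCat.of A)` is reduced to `A` in the discrimination tree -/
noncomputable instance instModuleOf (M : (Spec (CommRingCat.of A)).Modules)
    (U : (Spec (CommRingCat.of A)).Opens) : Module A Γ(M, U) :=
  Scheme.Modules.instModuleCarrierCarrierObjOppositeOpensCarrierCarrierCommRingCatSpecAbPresheafOp
    (R := CommRingCat.of A)

set_option maxHeartbeats 800000 in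
/-- **global sections of `Ω_{Spec A/Spec R}` are `Ω[A⁄R]`** -/
theorem nonempty_linearEquiv_Γ_omega :
    Nonempty (Γ(Omega.sheaf (fSpec R A), ⊤) ≃ₗ[A] Ω[A⁄R]) := by
  let _ : Algebra Γ(PP R A, ⊤) Γ(Spec (CommRingCat.of A), ⊤) := (delta R A).toAlgebra
  let hV := isAffineOpen_top (PP R A)
  let hU := isAffineOpen_top (Spec (CommRingCat.of A))
  let e0 : Γ(Omega.sheaf (fSpec R A), ⊤) ≃ₗ[Γ(Spec (CommRingCat.of A), ⊤)]
      Γ(Spec (CommRingCat.of A), ⊤) ⊗[Γ(PP R A, ⊤)] Γ(Mid R A, ⊤) :=
    pullbackΓLinearEquiv (diag R A) (Mid R A) hV hU le_top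
  let g : Γ(Mid R A, ⊤) ≃ₗ[Γ(PP R A, ⊤)] RingHom.ker (delta R A) :=
    idealModΓEquiv (diag R A).ker ⊤ ≪≫ₗ LinearEquiv.ofEq _ _ (ker_eq R A)
  let e1 := TensorProduct.AlgebraTensorModule.congr
    (LinearEquiv.refl Γ(Spec (CommRingCat.of A), ⊤) Γ(Spec (CommRingCat.of A), ⊤)) g
  let γ : A →+* Γ(Spec (CommRingCat.of A), ⊤) :=
    ((Scheme.ΓSpecIso (CommRingCat.of A)).inv ≫
      (Spec (CommRingCat.of A)).presheaf.map (⊤ : (Spec (CommRingCat.of A)).Opens).leTop.op).hom
  have hγ : ∀ a : A, γ a = (Scheme.ΓSpecIso (CommRingCat.of A)).inv a := by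
    intro a
    change ((Spec (CommRingCat.of A)).presheaf.map _) ((Scheme.ΓSpecIso (CommRingCat.of A)).inv a) = _
    erw [(Spec (CommRingCat.of A)).presheaf.map_id]
    rfl
  obtain ⟨E, hE⟩ := OmegaAlg.exists_addEquiv_kaehler (beta R A) (delta R A) γ
    (fun a => by
      rw [delta_beta, hγ]
      simp)
    (delta_beta_eq_zero_iff R A) (delta_surjective R A)
  refine ⟨{ toFun := fun x => E (e1 (e0 x))
            map_add' := fun x y => by rw [map_add, map_add, map_add]
            map_smul' := fun a x => ?_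
            invFun := fun w => e0.symm (e1.symm (E.symm w))
            left_inv := fun x => by simp
            right_inv := fun w => by simp }⟩
  have hx : a • x = (γ a) • x := rfl
  rw [hx, LinearEquiv.map_smul, LinearEquiv.map_smul, hE]
  rfl

end

end Groth.Agent.Lib.QCoh

namespace Groth.Agent.Lib.QCoh

open Scheme.Modules

/-- a quasi-coherent module on `Spec S` is the tilde of any module linearly equivalent to its global sections -/
noncomputable def isoTildeOfLinearEquiv {S : CommRingCat.{u}} (F : (Spec S).Modules) [F.IsQuasicoherent]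
    (N : ModuleCat.{u} S) (e : Γ(F, ⊤) ≃ₗ[S] N) : F ≅ tilde N :=
  (isoTildeΓ F).symm ≪≫ (tilde.functor S).mapIso
    (LinearEquiv.toModuleIso (X₁ := moduleSpecΓFunctor.obj F) (X₂ := N) e)

/-- **`Ω_{Spec A / Spec R} ≅ (Ω[A⁄R])^~`** -/
theorem nonempty_omega_iso_tilde (R A : Type u) [CommRing R] [CommRing A] [Algebra R A] :
    Nonempty (Omega.sheaf (Spec.map (CommRingCat.ofHom (algebraMap R A))) ≅
      tilde (R := CommRingCat.of A) (ModuleCat.of A (Ω[A⁄R]))) := by
  obtain ⟨e⟩ := nonempty_linearEquiv_Γ_omega R A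
  exact ⟨isoTildeOfLinearEquiv (S := CommRingCat.of A) (Omega.sheaf (fSpec R A))
    (ModuleCat.of A (Ω[A⁄R])) e⟩

end Groth.Agent.Lib.QCoh
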