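import Groth.Agent.Lib.QCoh.Helper18_Ass
import Groth.Agent.Lib.QCoh.Helper50_Pushforward
import Mathlib.AlgebraicGeometry.Noetherian

/-!
# QCoh API (helper18): weakly associated points and pushforward along affine morphisms

Namespace `Groth.Agent.Lib.QCoh`.

* `exists_isWeakAssPoint_of_pushforward` : `f` affine, `F` q-coh, `s` weakly associated to `f_* F`
  ⇒ `s = f x` for a weakly associated point `x` of `F`  (Stacks 05C3 / 0AVQ).
* `isWeakAssPoint_pushforward_of_isLocallyNoetherian` : `X` locally Noetherian, `x` weakly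
  associated to `F` ⇒ `f x` weakly associated to `f_* F`.
-/

universe u

open CategoryTheory CategoryTheory.Limits AlgebraicGeometry Opposite TopologicalSpace
open Groth.Agent.Lib.Helper18

namespace Groth.Agent.Lib.QCoh

variable {X S : Scheme.{u}} (f : X ⟶ S) [IsAffineHom f] (F : X.Modules) [F.IsQuasicoherent]

lemma primeIdealOf_injective {V : S.Opens} (hV : IsAffineOpen V) {a b : S} (ha : a ∈ V)
    (hb : b ∈ V) (h : hV.primeIdealOf ⟨a, ha⟩ = hV.primeIdealOf ⟨b, hb⟩) : a = b := by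
  have h1 := hV.fromSpec_primeIdealOf ⟨a, ha⟩
  have h2 := hV.fromSpec_primeIdealOf ⟨b, hb⟩
  rw [h] at h1
  exact h1.symm.trans h2

theorem exists_isWeakAssPoint_of_pushforward (s : S)
    (hs : Curv2.IsWeakAssPoint ((Scheme.Modules.pushforward f).obj F) s) :
    ∃ x : X, f x = s ∧ Curv2.IsWeakAssPoint F x := by
  have hG : ((Scheme.Modules.pushforward f).obj F).IsQuasicoherent :=
    isQuasicoherent_pushforward_of_isAffineHom f F
  obtain ⟨V, hV0, hsV, -⟩ := Opens.isBasis_iff_nbhd.1 (S.isBasis_affineOpens)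
    (show s ∈ (⊤ : S.Opens) from trivial)
  have hV : IsAffineOpen V := hV0
  have hU : IsAffineOpen (f ⁻¹ᵁ V) := hV.preimage f
  obtain ⟨m, hm⟩ := (isWeakAssPoint_iff_of_isAffineOpen _ hV s hsV).1 hs
  let m' : Γ(F, f ⁻¹ᵁ V) := m
  let _ : Module Γ(X, f ⁻¹ᵁ V) Γ((Scheme.Modules.pushforward f).obj F, V) :=
    inferInstanceAs (Module Γ(X, f ⁻¹ᵁ V) Γ(F, f ⁻¹ᵁ V))
  obtain ⟨q, hq, hqp⟩ := WeakAss.exists_minimalPrimes_ann_comap (A := Γ(S, V))
    (B := Γ(X, f ⁻¹ᵁ V)) (M := Γ((Scheme.Modules.pushforward f).obj F, V)) (f.app V).hom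
    (fun a n => rfl) m _ hm
  have hqp' : q.IsPrime := hq.1.1
  set Q : PrimeSpectrum Γ(X, f ⁻¹ᵁ V) := ⟨q, hqp'⟩ with hQ
  have hxU := fromSpec_mem hU Q
  refine ⟨hU.fromSpec Q, ?_, ?_⟩
  · have h1 := IsAffineOpen.comap_primeIdealOf_appLE (f := f) V hV (f ⁻¹ᵁ V) hU le_rfl hxU
    rw [primeIdealOf_fromSpec] at h1
    apply primeIdealOf_injective hV (le_rfl (a := f ⁻¹ᵁ V) hxU) hsV
    rw [← h1]
    apply PrimeSpectrum.ext
    change q.comap (f.appLE V (f ⁻¹ᵁ V) le_rfl).hom = _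
    rw [Scheme.Hom.appLE_eq_app]
    exact hqp
  · rw [isWeakAssPoint_iff_of_isAffineOpen F hU _ hxU, primeIdealOf_fromSpec]
    exact ⟨m', hq⟩

theorem isWeakAssPoint_pushforward_of_isLocallyNoetherian [IsLocallyNoetherian X] (x : X)
    (hx : Curv2.IsWeakAssPoint F x) :
    Curv2.IsWeakAssPoint ((Scheme.Modules.pushforward f).obj F) (f x) := by
  have hG : ((Scheme.Modules.pushforward f).obj F).IsQuasicoherent :=
    isQuasicoherent_pushforward_of_isAffineHom f F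
  obtain ⟨V, hV0, hsV, -⟩ := Opens.isBasis_iff_nbhd.1 (S.isBasis_affineOpens)
    (show f x ∈ (⊤ : S.Opens) from trivial)
  have hV : IsAffineOpen V := hV0
  have hU : IsAffineOpen (f ⁻¹ᵁ V) := hV.preimage f
  have hxU : x ∈ f ⁻¹ᵁ V := hsV
  have hN : IsNoetherianRing Γ(X, f ⁻¹ᵁ V) :=
    IsLocallyNoetherian.component_noetherian ⟨f ⁻¹ᵁ V, hU⟩
  obtain ⟨m, hm⟩ := (isWeakAssPoint_iff_of_isAffineOpen F hU x hxU).1 hx
  rw [WeakAss.ann_eq_colon] at hm
  obtain ⟨m', hm'⟩ := Submodule.exists_eq_colon_of_mem_minimalPrimes hm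
  rw [← WeakAss.ann_eq_colon] at hm'
  rw [isWeakAssPoint_iff_of_isAffineOpen _ hV (f x) hsV]
  let m'' : Γ((Scheme.Modules.pushforward f).obj F, V) := m'
  let _ : Module Γ(X, f ⁻¹ᵁ V) Γ((Scheme.Modules.pushforward f).obj F, V) :=
    inferInstanceAs (Module Γ(X, f ⁻¹ᵁ V) Γ(F, f ⁻¹ᵁ V))
  refine ⟨m'', ?_⟩
  have h1 := IsAffineOpen.comap_primeIdealOf_appLE (f := f) V hV (f ⁻¹ᵁ V) hU le_rfl hxU
  have h2 : (WeakAss.ann Γ(X, f ⁻¹ᵁ V) m'').comap (f.app V).hom = WeakAss.ann Γ(S, V) m'' :=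
    WeakAss.ann_comap (A := Γ(S, V)) (B := Γ(X, f ⁻¹ᵁ V))
      (M := Γ((Scheme.Modules.pushforward f).obj F, V)) (f.app V).hom (fun a n => rfl) m''
  have h3 : (hV.primeIdealOf ⟨f x, hsV⟩).asIdeal = WeakAss.ann Γ(S, V) m'' := by
    rw [← h2, ← h1]
    change (hU.primeIdealOf ⟨x, hxU⟩).asIdeal.comap (f.appLE V (f ⁻¹ᵁ V) le_rfl).hom = _
    rw [Scheme.Hom.appLE_eq_app, hm']
    rfl
  rw [← h3, Ideal.minimalPrimes_eq_subsingleton_self]
  rfl

end Groth.Agent.Lib.QCoh
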