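import Groth.Agent.Lib.QCoh.Helper18_AssPush
import Groth.Agent.Lib.Helper18.WeakAssFinite
import Mathlib.AlgebraicGeometry.Morphisms.Finite

/-!
# QCoh API (helper18): weakly associated points and finite pushforward

Namespace `Groth.Agent.Lib.QCoh`.

* `isWeakAssPoint_pushforward_of_isFinite` : `f` finite, `F` q-coh, `x` weakly associated to `F`
  ⇒ `f x` weakly associated to `f_* F`.
* `weakAss_pushforward_eq_image_of_isFinite` : `WeakAss (f_* F) = f '' WeakAss F`.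
-/

universe u

open CategoryTheory CategoryTheory.Limits AlgebraicGeometry Opposite TopologicalSpace
open Groth.Agent.Lib.Helper18

namespace Groth.Agent.Lib.QCoh

variable {X S : Scheme.{u}} (f : X ⟶ S) [IsFinite f] (F : X.Modules) [F.IsQuasicoherent]

theorem isWeakAssPoint_pushforward_of_isFinite (x : X) (hx : Curv2.IsWeakAssPoint F x) :
    Curv2.IsWeakAssPoint ((Scheme.Modules.pushforward f).obj F) (f x) := by
  have hG : ((Scheme.Modules.pushforward f).obj F).IsQuasicoherent :=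
    isQuasicoherent_pushforward_of_isAffineHom f F
  obtain ⟨V, hV0, hsV, -⟩ := Opens.isBasis_iff_nbhd.1 (S.isBasis_affineOpens)
    (show f x ∈ (⊤ : S.Opens) from trivial)
  have hV : IsAffineOpen V := hV0
  have hU : IsAffineOpen (f ⁻¹ᵁ V) := hV.preimage f
  have hxU : x ∈ f ⁻¹ᵁ V := hsV
  obtain ⟨m, hm⟩ := (isWeakAssPoint_iff_of_isAffineOpen F hU x hxU).1 hx
  let _ : Algebra Γ(S, V) Γ(X, f ⁻¹ᵁ V) := (f.app V).hom.toAlgebra
  have hfin : Module.Finite Γ(S, V) Γ(X, f ⁻¹ᵁ V) := IsFinite.finite_app f V hV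
  let _ : Module Γ(X, f ⁻¹ᵁ V) Γ((Scheme.Modules.pushforward f).obj F, V) :=
    inferInstanceAs (Module Γ(X, f ⁻¹ᵁ V) Γ(F, f ⁻¹ᵁ V))
  have htower : IsScalarTower Γ(S, V) Γ(X, f ⁻¹ᵁ V) Γ((Scheme.Modules.pushforward f).obj F, V) :=
    IsScalarTower.of_algebraMap_smul (fun a n => by
      change (f.app V a) • n = a • n
      rfl)
  let m₀ : Γ((Scheme.Modules.pushforward f).obj F, V) := m
  have key := WeakAss.exists_mem_minimalPrimes_ann_under_of_finite (A := Γ(S, V))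
    (B := Γ(X, f ⁻¹ᵁ V)) (M := Γ((Scheme.Modules.pushforward f).obj F, V)) m₀
  obtain ⟨m', hm'⟩ := key _ hm
  rw [isWeakAssPoint_iff_of_isAffineOpen _ hV (f x) hsV]
  refine ⟨m', ?_⟩
  have h1 := IsAffineOpen.comap_primeIdealOf_appLE (f := f) V hV (f ⁻¹ᵁ V) hU le_rfl hxU
  have h3 : (hV.primeIdealOf ⟨f x, hsV⟩).asIdeal =
      (hU.primeIdealOf ⟨x, hxU⟩).asIdeal.comap (algebraMap Γ(S, V) Γ(X, f ⁻¹ᵁ V)) := by
    rw [← h1]
    change (hU.primeIdealOf ⟨x, hxU⟩).asIdeal.comap (f.appLE V (f ⁻¹ᵁ V) le_rfl).hom = _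
    rw [Scheme.Hom.appLE_eq_app]
    rfl
  rw [h3]
  exact hm'

theorem weakAss_pushforward_eq_image_of_isFinite :
    {s : S | Curv2.IsWeakAssPoint ((Scheme.Modules.pushforward f).obj F) s} =
      f '' {x : X | Curv2.IsWeakAssPoint F x} := by
  ext s
  constructor
  · intro hs
    obtain ⟨x, hx, hxF⟩ := exists_isWeakAssPoint_of_pushforward f F s hs
    exact ⟨x, hxF, hx⟩
  · rintro ⟨x, hxF, rfl⟩
    exact isWeakAssPoint_pushforward_of_isFinite f F x hxF

end Groth.Agent.Lib.QCoh
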