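import Groth.Agent.Lib.QCoh.Helper18_StructureAss2
import Mathlib.RingTheory.KrullDimension.Basic

/-!
# Dense opens contain generic points; schematically dense ⇒ dense (helper18)

* `mem_of_dense_of_generic` : `X` loc. Noetherian, `U` dense open, `x` without proper
  generization ⇒ `x ∈ U`.
* `dense_of_isSchematicallyDense` : schematically dense opens are dense.
* `generic_of_ringKrullDim_le_zero` : if `dim O_{X,x} ≤ 0` then `x` has no proper generization.
-/

universe u

open CategoryTheory CategoryTheory.Limits AlgebraicGeometry Opposite TopologicalSpace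
open Groth.Agent.Lib.Helper18 IsLocalRing

namespace Groth.Agent.Lib.QCoh

variable {X : Scheme.{u}}

theorem mem_of_dense_of_generic [IsLocallyNoetherian X] (U : X.Opens) (hU : Dense (U : Set X))
    (x : X) (hx : ∀ y : X, y ⤳ x → y = x) : x ∈ U := by
  obtain ⟨V, hV0, hxV, -⟩ := Opens.isBasis_iff_nbhd.1 (X.isBasis_affineOpens)
    (show x ∈ (⊤ : X.Opens) from trivial)
  have hV : IsAffineOpen V := hV0
  apply mem_of_dense_of_minimalPrime U hU hV x hxV
  refine ⟨⟨(hV.primeIdealOf ⟨x, hxV⟩).isPrime, bot_le⟩, ?_⟩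
  rintro q ⟨hqprime, -⟩ hqle
  set Q : PrimeSpectrum Γ(X, V) := ⟨q, hqprime⟩ with hQ
  have hηV := fromSpec_mem hV Q
  have hPη : hV.primeIdealOf ⟨hV.fromSpec Q, hηV⟩ = Q := primeIdealOf_fromSpec hV Q
  have hspec : hV.fromSpec Q ⤳ x := by
    rw [specializes_iff_primeIdealOf_le hV hxV hηV, hPη]
    exact hqle
  have heq : hV.fromSpec Q = x := hx _ hspec
  have : hV.primeIdealOf ⟨x, hxV⟩ = Q := by
    rw [← hPη]
    congr 1
    exact Subtype.ext heq.symm
  rw [this]

theorem dense_of_isSchematicallyDense (U : X.Opens) (hU : CInt.IsSchematicallyDense U) :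
    Dense (U : Set X) := by
  rw [dense_iff_inter_open]
  intro V hVo hVne
  by_contra hempty
  rw [Set.not_nonempty_iff_eq_empty] at hempty
  let V' : X.Opens := ⟨V, hVo⟩
  have hbot : V' ⊓ U = ⊥ := by
    ext z
    simp only [Opens.coe_inf, Opens.coe_bot]
    exact Set.ext_iff.1 hempty z
  have hinj := hU V'
  obtain ⟨x, hxV⟩ := hVne
  have h1 : (1 : Γ(X, V')) = 0 := by
    apply hinj
    have : Subsingleton Γ(X, V' ⊓ U) := by
      rw [hbot]; infer_instance
    exact Subsingleton.elim _ _
  have h2 : (1 : X.presheaf.stalk x) = 0 := by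
    have := congrArg (X.presheaf.germ V' x hxV) h1
    rwa [map_one, map_zero] at this
  exact one_ne_zero h2

theorem generic_of_ringKrullDim_le_zero (x : X) (h : ringKrullDim (X.presheaf.stalk x) ≤ 0)
    (y : X) (hy : y ⤳ x) : y = x := by
  have hdim : Ring.KrullDimLE 0 (X.presheaf.stalk x) := by
    rw [Ring.krullDimLE_iff]
    exact_mod_cast h
  have hyr : y ∈ Set.range (X.fromSpecStalk x) := by
    rw [Scheme.range_fromSpecStalk]; exact hy
  obtain ⟨P, rfl⟩ := hyr
  have hPp : (P : PrimeSpectrum (X.presheaf.stalk x)).asIdeal.IsPrime :=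
    (P : PrimeSpectrum (X.presheaf.stalk x)).isPrime
  have hmax : (P : PrimeSpectrum (X.presheaf.stalk x)).asIdeal.IsMaximal := hPp.isMaximal'
  have hP : P = closedPoint (X.presheaf.stalk x) := by
    apply PrimeSpectrum.ext
    exact IsLocalRing.eq_maximalIdeal hmax
  rw [hP]
  exact Scheme.fromSpecStalk_closedPoint

end Groth.Agent.Lib.QCoh
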