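import Groth.Agent.Lib.QCoh.Helper18_HartogsDepth

/-!
# Converse of Hartogs extension (helper18)

Namespace `Groth.Agent.Lib.QCoh.Hartogs`.

If `Γ(F,V) → Γ(F,V ∩ U)` is bijective for all affine opens `V`, then `depth F_x ≥ 2` for all
`x ∉ U` (`F` coherent on a locally Noetherian scheme).
-/

set_option autoImplicit false
universe u

open AlgebraicGeometry CategoryTheory Opposite TopologicalSpace RingTheory.Sequence

namespace Groth.Agent.Lib.QCoh.Hartogs

open Scheme.Modules Groth.Agent.Lib.QCoh Groth.Agent.Lib.QCoh.Glue74 Groth.Agent.Lib.Helper22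

section Algebra

open Groth.Agent.Lib.Helper29 in
/-- If no nonzero element of `M` is killed by `I`, then `I` contains an `M`-regular element. -/
theorem exists_isSMulRegular_of_forall_smul_eq_zero {A : Type u} [CommRing A] [IsNoetherianRing A]
    (I : Ideal A) (M : Type u) [AddCommGroup M] [Module A M] [Module.Finite A M]
    (h : ∀ m : M, (∀ f ∈ I, f • m = 0) → m = 0) : ∃ x ∈ I, IsSMulRegular M x := by
  by_contra hcon
  push Not at hcon
  have hsub : ((I : Ideal A) : Set A) ⊆ ⋃ p ∈ associatedPrimes A M, (p : Set A) := by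
    intro x hx
    exact (not_isSMulRegular_iff_mem_biUnion_ass A M x).mp (hcon x hx)
  have hfin : (associatedPrimes A M).Finite := associatedPrimes.finite A M
  have hsub' : ((I : Ideal A) : Set A) ⊆
      ⋃ p ∈ ((hfin.toFinset : Finset (Ideal A)) : Set (Ideal A)), ((id p : Ideal A) : Set A) := by
    simpa using hsub
  rw [Ideal.subset_union_prime (f := id) I I] at hsub'
  · obtain ⟨p, hp, hle⟩ := hsub'
    have hp' : p ∈ associatedPrimes A M := by simpa using hp
    obtain ⟨hprime, m, hm⟩ := isAssociatedPrime_iff.1 hp'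
    have hm0 : m = 0 := by
      apply h
      intro f hf
      have : f ∈ p := hle hf
      rw [hm, Submodule.mem_colon_singleton] at this
      simpa using this
    apply hprime.ne_top
    rw [hm, Ideal.eq_top_iff_one, Submodule.mem_colon_singleton, hm0, smul_zero]
    exact Submodule.zero_mem _
  · intro p hp _ _
    have hp' : p ∈ associatedPrimes A M := by simpa using hp
    exact hp'.isPrime

/-- Criterion for `depth_I M ≥ 2`. -/
theorem two_le_idealDepth_of_forall {A : Type u} [CommRing A] [IsNoetherianRing A]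
    (I : Ideal A) (M : Type u) [AddCommGroup M] [Module A M] [Module.Finite A M]
    (h1 : ∀ m : M, (∀ f ∈ I, f • m = 0) → m = 0)
    (h2 : ∀ x ∈ I, IsSMulRegular M x → ∀ m : M, (∀ f ∈ I, ∃ n : M, f • m = x • n) →
      ∃ n : M, m = x • n) :
    (2 : ℕ∞) ≤ LocCoh.idealDepth I M := by
  unfold LocCoh.idealDepth
  split_ifs with hIM
  · exact le_top
  · obtain ⟨x, hxI, hx⟩ := exists_isSMulRegular_of_forall_smul_eq_zero I M h1
    obtain ⟨y, hyI, hy⟩ := exists_isSMulRegular_of_forall_smul_eq_zero I (QuotSMulTop x M) (by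
      intro mbar hmbar
      obtain ⟨m, rfl⟩ := Submodule.Quotient.mk_surjective _ mbar
      obtain ⟨n, hn⟩ := h2 x hxI hx m (by
        intro f hf
        have := hmbar f hf
        rw [← Submodule.Quotient.mk_smul, Submodule.Quotient.mk_eq_zero] at this
        obtain ⟨n, -, hn⟩ := (Submodule.mem_smul_pointwise_iff_exists _ _ _).1 this
        exact ⟨n, hn.symm⟩)
      rw [Submodule.Quotient.mk_eq_zero, hn]
      exact Submodule.smul_mem_pointwise_smul n x ⊤ trivial)
    have hreg : IsWeaklyRegular M [x, y] := by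
      rw [isWeaklyRegular_cons_iff]
      refine ⟨hx, ?_⟩
      rw [isWeaklyRegular_cons_iff]
      exact ⟨hy, IsWeaklyRegular.nil _ _⟩
    have hmem : ∀ r ∈ [x, y], r ∈ I := by
      intro r hr
      simp only [List.mem_cons, List.not_mem_nil, or_false] at hr
      rcases hr with rfl | rfl
      · exact hxI
      · exact hyI
    exact le_iSup₂_of_le [x, y] ⟨hreg, hmem⟩ (by simp)

end Algebra


section Geometry

variable {X : Scheme.{u}} (F : X.Modules) [F.IsQuasicoherent]

/-- Regularity of `x` on sections over an open equal to a basic open. -/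
lemma eq_zero_of_smul_eq_zero_of_eq_basicOpen {V : X.Opens} (hV : IsAffineOpen V) (x f : Γ(X, V))
    (h1 : ∀ m : Γ(F, V), x • m = 0 → m = 0) {O : X.Opens} (hO : O = X.basicOpen f)
    (hOV : O ≤ V) (t : Γ(F, O))
    (ht : X.presheaf.map (homOfLE hOV).op x • t = 0) : t = 0 := by
  subst hO
  exact eq_zero_of_smul_eq_zero_basicOpen F hV x f h1 t ht

/-- Division by a regular element, glued over the cover `D(f)`, `f ∈ I`, of `W`. -/
theorem exists_smul_eq_res_of_forall {V : X.Opens} (hV : IsAffineOpen V) (x : Γ(X, V))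
    (h1 : ∀ m : Γ(F, V), x • m = 0 → m = 0) (I : Ideal Γ(X, V)) {W : X.Opens} (hWV : W ≤ V)
    (hIW : ∀ f ∈ I, X.basicOpen f ≤ W) (hcov : ∀ w ∈ W, ∃ f ∈ I, w ∈ X.basicOpen f)
    (m : Γ(F, V)) (hm : ∀ f ∈ I, ∃ n : Γ(F, V), f • m = x • n) :
    ∃ t : Γ(F, W), X.presheaf.map (homOfLE hWV).op x • t = res F hWV m := by
  choose n hn using hm
  -- local sections
  have hunit : ∀ f : Γ(X, V), IsUnit (X.presheaf.map (homOfLE (X.basicOpen_le f)).op f) :=
    fun f => RingedSpace.isUnit_res_basicOpen _ f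
  let s : ∀ f : I, Γ(F, X.basicOpen f.1) := fun f =>
    (↑(hunit f.1).unit⁻¹ : Γ(X, X.basicOpen f.1)) • res F (X.basicOpen_le f.1) (n f.1 f.2)
  have hs : ∀ f : I, X.presheaf.map (homOfLE (X.basicOpen_le f.1)).op x • s f =
      res F (X.basicOpen_le f.1) m := by
    intro f
    have e1 : res F (X.basicOpen_le f.1) (f.1 • m) = res F (X.basicOpen_le f.1) (x • n f.1 f.2) :=
      congrArg _ (hn f.1 f.2)
    rw [res_smul, res_smul] at e1
    change _ • ((↑(hunit f.1).unit⁻¹ : Γ(X, X.basicOpen f.1)) • _) = _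
    rw [smul_comm, ← e1, smul_smul]
    have : (↑(hunit f.1).unit⁻¹ : Γ(X, X.basicOpen f.1)) *
        X.presheaf.map (homOfLE (X.basicOpen_le f.1)).op f.1 = 1 := by
      have := (hunit f.1).unit.inv_mul
      rwa [IsUnit.unit_spec] at this
    rw [this, one_smul]
  have hresx : ∀ {O O' : X.Opens} (h : O' ≤ O) (hO : O ≤ V),
      X.presheaf.map (homOfLE h).op (X.presheaf.map (homOfLE hO).op x) =
        X.presheaf.map (homOfLE (h.trans hO)).op x := by
    intro O O' h hO
    rw [← CommRingCat.comp_apply, ← Functor.map_comp]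
    rfl
  obtain ⟨t, ht⟩ := exists_gluing_of_cover F (fun f : I => X.basicOpen f.1) W
    (fun f => hIW f.1 f.2) (by
      intro w hw
      obtain ⟨f, hf, hwf⟩ := hcov w hw
      exact Opens.mem_iSup.2 ⟨⟨f, hf⟩, hwf⟩) s (by
    intro f g
    rw [← sub_eq_zero]
    apply eq_zero_of_smul_eq_zero_of_eq_basicOpen F hV x (f.1 * g.1) h1
      (X.basicOpen_mul f.1 g.1).symm (inf_le_left.trans (X.basicOpen_le f.1))
    change _ • (res F _ (s f) - res F _ (s g)) = 0
    rw [smul_sub, sub_eq_zero]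
    have e1 : X.presheaf.map (homOfLE (inf_le_left.trans (X.basicOpen_le f.1) :
        X.basicOpen f.1 ⊓ X.basicOpen g.1 ≤ V)).op x •
          res F (inf_le_left : X.basicOpen f.1 ⊓ X.basicOpen g.1 ≤ X.basicOpen f.1) (s f) =
        res F (inf_le_left.trans (X.basicOpen_le f.1)) m := by
      rw [← hresx (inf_le_left : X.basicOpen f.1 ⊓ X.basicOpen g.1 ≤ X.basicOpen f.1)
        (X.basicOpen_le f.1), ← res_smul, hs f, Glue74.res_res]
    have e2 : X.presheaf.map (homOfLE (inf_le_left.trans (X.basicOpen_le f.1) :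
        X.basicOpen f.1 ⊓ X.basicOpen g.1 ≤ V)).op x •
          res F (inf_le_right : X.basicOpen f.1 ⊓ X.basicOpen g.1 ≤ X.basicOpen g.1) (s g) =
        res F (inf_le_left.trans (X.basicOpen_le f.1)) m := by
      rw [← hresx (inf_le_right : X.basicOpen f.1 ⊓ X.basicOpen g.1 ≤ X.basicOpen g.1)
        (X.basicOpen_le g.1), ← res_smul, hs g, Glue74.res_res]
    rw [e1, e2])
  refine ⟨t, ?_⟩
  refine sections_ext_of_cover F (fun f : I => X.basicOpen f.1) W (fun f => hIW f.1 f.2) ?_ _ _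
    fun f => ?_
  · intro w hw
    obtain ⟨f, hf, hwf⟩ := hcov w hw
    exact Opens.mem_iSup.2 ⟨⟨f, hf⟩, hwf⟩
  · change res F _ (_ • t) = res F _ (res F hWV m)
    rw [res_smul, hresx, Glue74.res_res]
    change _ • F.presheaf.map (homOfLE (hIW f.1 f.2)).op t = _
    rw [ht f, hs f]

end Geometry


section Main

variable {X : Scheme.{u}}

/-- The ideal of the closed complement of `U` in an affine open `V`. -/
lemma exists_ideal_of_isAffineOpen (U : X.Opens) {V : X.Opens} (hV : IsAffineOpen V) :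
    ∃ I : Ideal Γ(X, V), (∀ f ∈ I, X.basicOpen f ≤ V ⊓ U) ∧
      (∀ w ∈ V ⊓ U, ∃ f ∈ I, w ∈ X.basicOpen f) ∧
      (∀ y : PrimeSpectrum Γ(X, V), I ≤ y.asIdeal ↔ hV.fromSpec y ∉ U) := by
  set Z : Set (PrimeSpectrum Γ(X, V)) := {y | hV.fromSpec y ∉ U} with hZ
  have hZc : IsClosed Z := by
    have : Z = (hV.fromSpec ⁻¹ᵁ U : Set (Spec Γ(X, V)))ᶜ := by
      ext y; rfl
    rw [this]
    exact (hV.fromSpec ⁻¹ᵁ U).2.isClosed_compl
  have hzl : ∀ y : PrimeSpectrum Γ(X, V),
      PrimeSpectrum.vanishingIdeal Z ≤ y.asIdeal ↔ hV.fromSpec y ∉ U := by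
    intro y
    have : y ∈ PrimeSpectrum.zeroLocus (PrimeSpectrum.vanishingIdeal Z : Set Γ(X, V)) ↔ y ∈ Z := by
      rw [PrimeSpectrum.zeroLocus_vanishingIdeal_eq_closure, hZc.closure_eq]
    exact this
  refine ⟨PrimeSpectrum.vanishingIdeal Z, ?_, ?_, hzl⟩
  · intro f hf w hw
    have hwV : w ∈ V := X.basicOpen_le f hw
    refine ⟨hwV, ?_⟩
    by_contra hwU
    set yw := hV.primeIdealOf ⟨w, hwV⟩ with hyw
    have e : hV.fromSpec yw = w := hV.fromSpec_primeIdealOf ⟨w, hwV⟩
    have hywZ : yw ∈ Z := by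
      change hV.fromSpec yw ∉ U
      rw [e]; exact hwU
    have h3 : f ∈ yw.asIdeal := (PrimeSpectrum.mem_vanishingIdeal Z f).1 hf yw hywZ
    have h4 : yw ∈ hV.fromSpec ⁻¹ᵁ X.basicOpen f := by
      change hV.fromSpec yw ∈ X.basicOpen f
      rw [e]; exact hw
    rw [hV.fromSpec_preimage_basicOpen] at h4
    exact h4 h3
  · rintro w ⟨hwV, hwU⟩
    set yw := hV.primeIdealOf ⟨w, hwV⟩ with hyw
    have e : hV.fromSpec yw = w := hV.fromSpec_primeIdealOf ⟨w, hwV⟩
    have h1 : ¬ PrimeSpectrum.vanishingIdeal Z ≤ yw.asIdeal := by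
      rw [hzl yw, e]
      exact fun h => h hwU
    obtain ⟨f, hf, hfy⟩ := Set.not_subset.1 h1
    refine ⟨f, hf, ?_⟩
    have h4 : yw ∈ hV.fromSpec ⁻¹ᵁ X.basicOpen f := by
      rw [hV.fromSpec_preimage_basicOpen]
      exact hfy
    have h5 : hV.fromSpec yw ∈ X.basicOpen f := h4
    rwa [e] at h5

open Groth.Agent.Lib.Helper49.Serre in
/-- **Converse of Hartogs**: if `Γ(F,V) → Γ(F,V ∩ U)` is bijective for every affine open `V`,
then `depth F_x ≥ 2` at every `x ∉ U`. -/
theorem two_le_depth_stalk_of_bijective [IsLocallyNoetherian X] (F : X.Modules)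
    [F.IsQuasicoherent] [F.IsFiniteType] (U : X.Opens)
    (h : ∀ V : X.Opens, IsAffineOpen V →
      Function.Bijective (F.presheaf.map (homOfLE (inf_le_left : V ⊓ U ≤ V)).op))
    (x : X) (hx : x ∉ U) :
    (2 : ℕ∞) ≤ LocCoh.depth (X.presheaf.stalk x) (F.presheaf.stalk x) := by
  obtain ⟨V, hV, hxV, -⟩ := Opens.isBasis_iff_nbhd.1 (X.isBasis_affineOpens)
    (show x ∈ (⊤ : X.Opens) from trivial)
  have : IsNoetherianRing Γ(X, V) := IsLocallyNoetherian.component_noetherian ⟨V, hV⟩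
  have : Module.Finite Γ(X, V) Γ(F, V) := finite_Γ_of_isAffineOpen hV F
  obtain ⟨I, hbasic, hcov, hIy⟩ := exists_ideal_of_isAffineOpen U hV
  have hbij := h V hV
  have hcover : V ⊓ U ≤ iSup (fun f : I => X.basicOpen f.1) := by
    intro w hw
    obtain ⟨f, hf, hwf⟩ := hcov w hw
    exact Opens.mem_iSup.2 ⟨⟨f, hf⟩, hwf⟩
  have h2 : ((2 : ℕ) : ℕ∞) ≤ LocCoh.idealDepth I Γ(F, V) := by
    apply two_le_idealDepth_of_forall
    · intro m hm
      apply hbij.1
      rw [map_zero]
      refine sections_ext_of_cover F (fun f : I => X.basicOpen f.1) (V ⊓ U)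
        (fun f => hbasic f.1 f.2) hcover _ _ fun f => ?_
      change res F _ (res F _ m) = res F _ 0
      rw [Glue74.res_res, res_zero]
      exact res_basicOpen_eq_zero_of_smul_eq_zero F f.1 m (hm f.1 f.2)
    · intro x₁ hx₁I hx₁ m hm
      have h1 : ∀ m' : Γ(F, V), x₁ • m' = 0 → m' = 0 := fun m' hm' => hx₁ (by simpa using hm')
      obtain ⟨t, ht⟩ := exists_smul_eq_res_of_forall F hV x₁ h1 I inf_le_left hbasic hcov m hm
      obtain ⟨n, rfl⟩ := hbij.2 t
      refine ⟨n, ?_⟩
      apply hbij.1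
      rw [F.map_smul]
      exact ht.symm
  have hle : I ≤ (hV.primeIdealOf ⟨x, hxV⟩).asIdeal := by
    rw [hIy, hV.fromSpec_primeIdealOf]
    exact hx
  have h3 := (le_idealDepth_iff 2 Γ(F, V) I).1 h2 (hV.primeIdealOf ⟨x, hxV⟩).asIdeal hle
  rw [depth_stalk_eq F hV x hxV]
  exact h3

end Main

end Groth.Agent.Lib.QCoh.Hartogs
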