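import Groth.Prelude.Def_RefHull
import Groth.Agent.Lib.QCoh.Helper18_StalkLoc
import Groth.Agent.Lib.QCoh.Helper50_FlatBC

/-!
# RefHull API, part 1 (helper74): sections of the sheaf Hom, gluing by germs, injectivity of
`evalStalk`

Namespace `Groth.Agent.Lib.QCoh.RefHull74`.

* `exists_section_of_germs` : a family of germs which is locally the family of germs of a section
  is globally so.
* `applySec g m` : for `g ∈ Γ(𝓗om(F,G), U)` and `m ∈ Γ(F, U)`, the section `g(m) ∈ Γ(G, U)`,
  characterised by `germ_applySec`.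
* `GenOn F U e` : the germs of the sections `e i ∈ Γ(F, U)` span every stalk `F_y`, `y ∈ U`.
* `evalStalk_injective_of_genOn`.
-/

set_option linter.style.haveILetI false
universe u
open CategoryTheory CategoryTheory.Limits AlgebraicGeometry Opposite TopologicalSpace

namespace Groth.Agent.Lib.QCoh.RefHull74
open RefHull Groth.Agent.Lib.QCoh

variable {X : Scheme.{u}}

/-- Sections of a module are determined by their germs. -/
theorem section_ext_germ (G : X.Modules) {U : X.Opens} (s t : Γ(G, U))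
    (h : ∀ (y : X) (hy : y ∈ U), G.presheaf.germ U y hy s = G.presheaf.germ U y hy t) : s = t :=
  TopCat.Presheaf.section_ext ⟨G.presheaf, G.isSheaf⟩ U s t h

/-- A family of germs which is locally the family of germs of a section comes from a section. -/
theorem exists_section_of_germs (G : X.Modules) (U : X.Opens) (t : ∀ y : U, G.presheaf.stalk y.1)
    (h : ∀ x : U, ∃ (W : X.Opens) (_ : x.1 ∈ W) (j : W ⟶ U) (n : Γ(G, W)),
      ∀ y : W, t ⟨y.1, j.le y.2⟩ = G.presheaf.germ W y.1 y.2 n) :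
    ∃ n : Γ(G, U), ∀ y : U, G.presheaf.germ U y.1 y.2 n = t y := by
  choose W hW j n hn using h
  have hAV : ∀ x : U, W x ≤ U := fun x => (j x).le
  have hcover : U ≤ iSup W := by
    intro y hy
    exact Opens.mem_iSup.2 ⟨⟨y, hy⟩, hW ⟨y, hy⟩⟩
  have hcompat : ∀ x x' : U,
      G.presheaf.map (homOfLE (inf_le_left : W x ⊓ W x' ≤ W x)).op (n x) =
        G.presheaf.map (homOfLE (inf_le_right : W x ⊓ W x' ≤ W x')).op (n x') := by
    intro x x'
    apply section_ext_germ
    intro y hy
    rw [TopCat.Presheaf.germ_res_apply, TopCat.Presheaf.germ_res_apply]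
    rw [← hn x ⟨y, hy.1⟩, ← hn x' ⟨y, hy.2⟩]
  obtain ⟨s, hs⟩ := exists_gluing_of_cover G W U hAV hcover n hcompat
  refine ⟨s, fun y => ?_⟩
  have h1 := hs y
  have h2 : G.presheaf.germ U y.1 y.2 s = G.presheaf.germ (W y) y.1 (hW y)
      (G.presheaf.map (homOfLE (hAV y)).op s) :=
    (TopCat.Presheaf.germ_res_apply G.presheaf (homOfLE (hAV y)) y.1 (hW y) s).symm
  rw [h2, h1]
  exact (hn y ⟨y.1, hW y⟩).symm

variable {F G : X.Modules}

/-- Sections of the sheaf Hom are equal if their stalk maps agree. -/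
theorem homSh_ext {U : X.Opens} {g g' : Γ(homSh F G, U)} (h : ∀ x : U, g.1 x = g'.1 x) : g = g' :=
  Subtype.ext (funext h)

theorem exists_applySec {U : X.Opens} (g : Γ(homSh F G, U)) (m : Γ(F, U)) :
    ∃ n : Γ(G, U), ∀ y : U, G.presheaf.germ U y.1 y.2 n = g.1 y (F.presheaf.germ U y.1 y.2 m) := by
  apply exists_section_of_germs G U (fun y => g.1 y (F.presheaf.germ U y.1 y.2 m))
  intro x
  obtain ⟨W, hxW, j, n, hn⟩ := isLocSect_of_mem g U (𝟙 U) m x
  exact ⟨W, hxW, j, n, fun y => hn y⟩

/-- The value `g(m) ∈ Γ(G, U)` of a section `g` of the sheaf Hom on a section `m` of `F`. -/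
noncomputable def applySec {U : X.Opens} (g : Γ(homSh F G, U)) (m : Γ(F, U)) : Γ(G, U) :=
  (exists_applySec g m).choose

theorem germ_applySec {U : X.Opens} (g : Γ(homSh F G, U)) (m : Γ(F, U)) (y : X) (hy : y ∈ U) :
    G.presheaf.germ U y hy (applySec g m) = g.1 ⟨y, hy⟩ (F.presheaf.germ U y hy m) :=
  (exists_applySec g m).choose_spec ⟨y, hy⟩

/-- The germs of the `e i` span all stalks of `F` over `U`. -/
def GenOn (F : X.Modules) (U : X.Opens) {ι : Type*} (e : ι → Γ(F, U)) : Prop :=
  ∀ (y : X) (hy : y ∈ U), Submodule.span (X.presheaf.stalk y)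
    (Set.range fun i => F.presheaf.germ U y hy (e i)) = ⊤

theorem GenOn.res {U V : X.Opens} {ι : Type*} {e : ι → Γ(F, U)} (he : GenOn F U e) (h : V ≤ U) :
    GenOn F V (fun i => F.presheaf.map (homOfLE h).op (e i)) := by
  intro y hy
  rw [← he y (h hy)]
  congr 2
  funext i
  exact TopCat.Presheaf.germ_res_apply F.presheaf (homOfLE h) y hy (e i)

/-- If the germs of finitely many sections `e i` over `U` span the stalks of `F` on `U`, then the
evaluation map `𝓗om(F, G)_x → Hom(F_x, G_x)` is injective for `x ∈ U`. -/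
theorem evalStalk_injective_of_genOn {ι : Type*} [Finite ι] {U : X.Opens} (e : ι → Γ(F, U))
    (he : GenOn F U e) (x : X) (hx : x ∈ U) : Function.Injective (evalStalk F G x) := by
  rw [← LinearMap.ker_eq_bot, LinearMap.ker_eq_bot']
  intro θ hθ
  obtain ⟨V₀, hxV₀, g₀, rfl⟩ := TopCat.Presheaf.exists_germ_eq (homSh F G).presheaf θ
  -- restrict to `V = V₀ ⊓ U`
  set V : X.Opens := V₀ ⊓ U with hV
  have hxV : x ∈ V := ⟨hxV₀, hx⟩
  set g : Γ(homSh F G, V) := (homSh F G).presheaf.map (homOfLE (inf_le_left : V ≤ V₀)).op g₀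
    with hg
  have hgerm : (homSh F G).presheaf.germ V₀ x hxV₀ g₀ = (homSh F G).presheaf.germ V x hxV g :=
    (TopCat.Presheaf.germ_res_apply (homSh F G).presheaf (homOfLE inf_le_left) x hxV g₀).symm
  rw [hgerm] at hθ ⊢
  rw [evalStalk_germ] at hθ
  -- the sections `g (e i)` vanish near `x`
  have key : ∀ i, ∃ W : X.Opens, x ∈ W ∧ ∃ hWV : W ≤ V, G.presheaf.map (homOfLE hWV).op
      (applySec g (F.presheaf.map (homOfLE (inf_le_right : V ≤ U)).op (e i))) = 0 := by
    intro i
    set n := applySec g (F.presheaf.map (homOfLE (inf_le_right : V ≤ U)).op (e i)) with hn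
    have h1 : G.presheaf.germ V x hxV n = G.presheaf.germ V x hxV 0 := by
      rw [germ_applySec, hθ, map_zero]
      rfl
    obtain ⟨W, hxW, iU, iV, hW⟩ := TopCat.Presheaf.germ_eq G.presheaf x hxV hxV _ _ h1
    refine ⟨W, hxW, iU.le, ?_⟩
    exact hW.trans (map_zero _)
  choose W hxW hWV hW using key
  set W' : X.Opens := V ⊓ ⨅ i, W i with hW'
  have hxW' : x ∈ W' := by
    refine ⟨hxV, ?_⟩
    have : x ∈ ((⨅ i, W i : X.Opens) : Set X) := by
      rw [Opens.coe_iInf]
      exact Set.mem_iInter.2 hxW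
    exact this
  have hW'V : W' ≤ V := inf_le_left
  have hzero : (homSh F G).presheaf.map (homOfLE hW'V).op g = 0 := by
    apply homSh_ext
    intro y
    have hyV : y.1 ∈ V := hW'V y.2
    have hyU : y.1 ∈ U := (inf_le_right : V ≤ U) hyV
    change g.1 ⟨y.1, hyV⟩ = 0
    apply LinearMap.ext_on_range (he y.1 hyU)
    intro i
    rw [LinearMap.zero_apply]
    have hyWi : y.1 ∈ W i := by
      have h1 : W' ≤ W i := inf_le_right.trans (iInf_le _ i)
      exact h1 y.2
    have h2 : F.presheaf.germ U y.1 hyU (e i) = F.presheaf.germ V y.1 hyV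
        (F.presheaf.map (homOfLE (inf_le_right : V ≤ U)).op (e i)) :=
      (TopCat.Presheaf.germ_res_apply F.presheaf (homOfLE inf_le_right) y.1 hyV (e i)).symm
    rw [h2, ← germ_applySec]
    have h3 := TopCat.Presheaf.germ_res_apply G.presheaf (homOfLE (hWV i)) y.1 hyWi
      (applySec g (F.presheaf.map (homOfLE (inf_le_right : V ≤ U)).op (e i)))
    rw [← h3, hW i, map_zero]
  have h4 := TopCat.Presheaf.germ_res_apply (homSh F G).presheaf (homOfLE hW'V) x hxW' g
  rw [← h4, hzero, map_zero]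

end Groth.Agent.Lib.QCoh.RefHull74
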