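import Groth.Agent.Lib.QCoh.Helper18_ReflExtend
import Groth.Agent.Lib.QCoh.Helper74_RefHullBasic
import Groth.Agent.Lib.Ample.GlobGenSection

/-!
# Finite type modules are locally generated by sections, stalkwise (helper18)

Namespace `Groth.Agent.Lib.QCoh.GenOnFT`.

* `exists_genOn_of_isFT` : for `F` of finite type (no quasi-coherence needed) and `x : X` there
  are an open `U ∋ x` and finitely many sections of `F` over `U` whose germs span all stalks
  `F_y`, `y ∈ U` (`RefHull74.GenOn`).
-/

set_option autoImplicit false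
universe u

open CategoryTheory CategoryTheory.Limits AlgebraicGeometry Opposite TopologicalSpace

namespace Groth.Agent.Lib.QCoh.GenOnFT

open Groth.Agent.Lib.QCoh Groth.Agent.Lib.QCoh.RefHull74 Groth.Agent.Lib.QCoh.ReflExtend
  Groth.Agent.Lib.Ample

variable {X : Scheme.{u}}

theorem exists_genOn_of_isFT (F : X.Modules) (hF : CohB1.IsFT F) (x : X) :
    ∃ (U : X.Opens) (_ : x ∈ U) (ι : Type u) (_ : Finite ι) (e : ι → Γ(F, U)), GenOn F U e := by
  obtain ⟨U, hxU, σ, hfin⟩ := exists_generatingSections_restrict F hF x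
  let N : (U : Scheme.{u}).Modules := F.restrict U.ι
  let p : freeModule (U : Scheme.{u}) σ.I ⟶ N := σ.π
  have hp : Epi p := σ.epi
  let e' : σ.I → Γ(N, ⊤) := fun i => secOf (SheafOfModules.ιFree i ≫ p)
  refine ⟨U.ι ''ᵁ ⊤, ⟨⟨x, hxU⟩, trivial, rfl⟩, σ.I, hfin,
    fun i => (show Γ(F, U.ι ''ᵁ ⊤) from e' i), ?_⟩
  rintro _ ⟨u, hu, rfl⟩
  have hspan := span_germ_eq_top_of_epi_free p u
  rw [eq_top_iff]
  intro b hb
  clear hb
  obtain ⟨a, rfl⟩ := (rsEquiv U F u).surjective b
  have ha : a ∈ Submodule.span ((U : Scheme.{u}).presheaf.stalk u) (Set.range fun i : σ.I =>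
      stalkMap (SheafOfModules.ιFree i ≫ p) u (germOne u)) := by rw [hspan]; trivial
  change rs U F u a ∈ _
  induction ha using Submodule.span_induction with
  | mem a ha =>
    obtain ⟨i, rfl⟩ := ha
    apply Submodule.subset_span
    refine ⟨i, ?_⟩
    have h1 := stalkMap_germOne (SheafOfModules.ιFree i ≫ p) u
    have h2 := rs_germ U F u ⊤ trivial (e' i)
    exact ((congrArg (rs U F u) h1).trans h2).symm
  | zero =>
    have : rs U F u 0 = 0 := map_zero (rsEquiv U F u)
    rw [this]
    exact Submodule.zero_mem _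
  | add a b _ _ iha ihb =>
    have : rs U F u (a + b) = rs U F u a + rs U F u b := map_add (rsEquiv U F u) a b
    rw [this]
    exact Submodule.add_mem _ iha ihb
  | smul r a _ iha =>
    rw [rs_smul]
    exact Submodule.smul_mem _ _ iha

end Groth.Agent.Lib.QCoh.GenOnFT
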