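import Groth.Agent.Lib.QCoh.Helper74_GlueFamily
import Groth.Agent.Lib.Helper22.QCohLoc

/-!
# Hartogs extension for quasi-coherent modules (helper18)

Namespace `Groth.Agent.Lib.QCoh.Hartogs`.

* `bijective_res_of_regular_pair` : `F` quasi-coherent, `V` affine open, `x y ∈ Γ(X,V)` a weakly
  `Γ(F,V)`-regular pair, `W ≤ V` an open containing `D(x)` and `D(y)`: then
  `Γ(F,V) → Γ(F,W)` is bijective.
-/

set_option autoImplicit false
universe u

open AlgebraicGeometry CategoryTheory Opposite TopologicalSpace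

namespace Groth.Agent.Lib.QCoh.Hartogs

open Scheme.Modules Groth.Agent.Lib.QCoh Groth.Agent.Lib.QCoh.Glue74 Groth.Agent.Lib.Helper22

variable {X : Scheme.{u}}

section Algebra

variable {A : Type*} [CommRing A] {M : Type*} [AddCommGroup M] [Module A M]

/-- A regular element stays regular after taking powers. -/
lemma eq_zero_of_pow_smul_eq_zero {x : A} (h1 : ∀ m : M, x • m = 0 → m = 0) (n : ℕ) (m : M)
    (h : x ^ n • m = 0) : m = 0 := by
  induction n with
  | zero => simpa using h
  | succ n ih =>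
    apply ih
    apply h1
    rw [← mul_smul, ← pow_succ']
    exact h

/-- If `x` is regular and `y` is regular modulo `x`, then `y` is regular modulo `x ^ k`. -/
lemma mem_pow_smul_of_smul_mem {x y : A} (h1 : ∀ m : M, x • m = 0 → m = 0)
    (h2 : ∀ m m' : M, y • m = x • m' → ∃ m'' : M, m = x • m'') (k : ℕ) :
    ∀ m m' : M, y • m = x ^ k • m' → ∃ m'' : M, m = x ^ k • m'' := by
  induction k with
  | zero => intro m _ _; exact ⟨m, by simp⟩
  | succ k ih =>
    intro m m' h
    obtain ⟨n, hn⟩ := ih m (x • m') (by rw [h, pow_succ, mul_smul])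
    -- `m = x^k n`, `y x^k n = x^(k+1) m'`, so `y n = x m'`
    have h3 : x ^ k • (y • n - x • m') = 0 := by
      rw [smul_sub, smul_comm (x ^ k) y n, ← hn, h, pow_succ, mul_smul, sub_self]
    have h4 := eq_zero_of_pow_smul_eq_zero h1 k _ h3
    obtain ⟨n', hn'⟩ := h2 n m' (sub_eq_zero.1 h4)
    exact ⟨n', by rw [hn, hn', pow_succ, mul_smul]⟩

/-- Iterated version: `y ^ j • m ∈ x ^ k M ⇒ m ∈ x ^ k M`. -/
lemma mem_pow_smul_of_pow_smul_mem {x y : A} (h1 : ∀ m : M, x • m = 0 → m = 0)
    (h2 : ∀ m m' : M, y • m = x • m' → ∃ m'' : M, m = x • m'') (k j : ℕ) :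
    ∀ m m' : M, y ^ j • m = x ^ k • m' → ∃ m'' : M, m = x ^ k • m'' := by
  induction j with
  | zero => intro m m' h; exact ⟨m', by simpa using h⟩
  | succ j ih =>
    intro m m' h
    obtain ⟨n, hn⟩ := ih (y • m) m' (by rw [← mul_smul, ← pow_succ]; exact h)
    exact mem_pow_smul_of_smul_mem h1 h2 k m n hn

end Algebra

section Geometry

lemma res_sub (M : X.Modules) {U' U : X.Opens} (h : U' ≤ U) (a b : Γ(M, U)) :
    res M h (a - b) = res M h a - res M h b := map_sub _ _ _

lemma res_zero (M : X.Modules) {U' U : X.Opens} (h : U' ≤ U) :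
    res M h (0 : Γ(M, U)) = 0 := map_zero _

variable (F : X.Modules) [F.IsQuasicoherent]

/-- On a basic open `D(f)` of an affine open `V`, an element `x ∈ Γ(X,V)` which is regular on
`Γ(F,V)` stays regular on `Γ(F,D(f))`. -/
lemma eq_zero_of_smul_eq_zero_basicOpen {V : X.Opens} (hV : IsAffineOpen V) (x f : Γ(X, V))
    (h1 : ∀ m : Γ(F, V), x • m = 0 → m = 0) (t : Γ(F, X.basicOpen f))
    (ht : X.presheaf.map (homOfLE (X.basicOpen_le f)).op x • t = 0) : t = 0 := by
  obtain ⟨n, m, hm⟩ := exists_pow_smul_eq_map_of_isAffineOpen F hV f t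
  have h3 : F.presheaf.map (homOfLE (X.basicOpen_le f)).op (x • m) = 0 := by
    rw [F.map_smul, hm, smul_comm, ht, smul_zero]
  obtain ⟨k, hk⟩ := exists_pow_smul_eq_zero_of_isAffineOpen F hV f (x • m) h3
  have h4 : f ^ k • m = 0 := h1 _ (by rw [smul_comm]; exact hk)
  have h5 : (X.presheaf.map (homOfLE (X.basicOpen_le f)).op f) ^ (k + n) • t = 0 := by
    rw [pow_add, mul_smul, ← hm, ← map_pow, ← F.map_smul, h4, map_zero]
  have hunit : IsUnit (X.presheaf.map (homOfLE (X.basicOpen_le f)).op f) :=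
    RingedSpace.isUnit_res_basicOpen _ f
  obtain ⟨u, hu⟩ := hunit.pow (k + n)
  rw [← hu] at h5
  have := congrArg (fun z => (↑u⁻¹ : Γ(X, X.basicOpen f)) • z) h5
  simpa [smul_smul] using this


/-- A section over `W ⊇ D(x)` (inside the affine open `V`) vanishing on `D(x)` is zero, when `x` is
regular on `Γ(F,V)`. -/
lemma eq_zero_of_res_basicOpen_eq_zero {V : X.Opens} (hV : IsAffineOpen V) (x : Γ(X, V))
    (h1 : ∀ m : Γ(F, V), x • m = 0 → m = 0) {W : X.Opens} (hWV : W ≤ V)
    (hxW : X.basicOpen x ≤ W) (s : Γ(F, W)) (hs : res F hxW s = 0) : s = 0 := by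
  have key : ∀ w : W, ∃ f : Γ(X, V), X.basicOpen f ≤ W ∧ w.1 ∈ X.basicOpen f :=
    fun w => hV.exists_basicOpen_le w (hWV w.2)
  choose f hfW hwf using key
  refine sections_ext_of_cover F (fun w : W => X.basicOpen (f w)) W hfW ?_ s 0 ?_
  · intro w hw
    exact Opens.mem_iSup.2 ⟨⟨w, hw⟩, hwf ⟨w, hw⟩⟩
  · intro w
    rw [map_zero]
    set x' := X.presheaf.map (homOfLE (X.basicOpen_le (f w))).op x with hx'
    have hle : X.basicOpen x' ≤ X.basicOpen x := by
      rw [hx', X.basicOpen_res]; exact inf_le_right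
    have h0 : F.presheaf.map (homOfLE (X.basicOpen_le x')).op (res F (hfW w) s) = 0 := by
      change res F _ (res F _ s) = 0
      rw [Glue74.res_res]
      have : res F ((X.basicOpen_le x').trans (hfW w)) s = res F hle (res F hxW s) :=
        (Glue74.res_res F _ _ s).symm
      rw [this, hs]
      exact map_zero _
    obtain ⟨n, hn⟩ := exists_pow_smul_eq_zero_of_isAffineOpen F (hV.basicOpen (f w)) x' _ h0
    exact eq_zero_of_pow_smul_eq_zero (eq_zero_of_smul_eq_zero_basicOpen F hV x (f w) h1) n _ hn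

/-- **Hartogs extension, affine form**: let `F` be quasi-coherent, `V` an affine open and
`x, y ∈ Γ(X,V)` with `x` regular on `M = Γ(F,V)` and `y` regular on `M/xM`.  Then for any open
`W ≤ V` containing `D(x)` and `D(y)`, restriction `Γ(F,V) → Γ(F,W)` is bijective. -/
theorem bijective_res_of_regular_pair {V : X.Opens} (hV : IsAffineOpen V) (x y : Γ(X, V))
    (h1 : ∀ m : Γ(F, V), x • m = 0 → m = 0)
    (h2 : ∀ m m' : Γ(F, V), y • m = x • m' → ∃ m'' : Γ(F, V), m = x • m'')
    {W : X.Opens} (hWV : W ≤ V) (hxW : X.basicOpen x ≤ W) (hyW : X.basicOpen y ≤ W) :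
    Function.Bijective (F.presheaf.map (homOfLE hWV).op) := by
  constructor
  · -- injectivity
    rw [injective_iff_map_eq_zero]
    intro m hm
    have h0 : F.presheaf.map (homOfLE (X.basicOpen_le x)).op m = 0 := by
      have : res F (X.basicOpen_le x) m = res F hxW (res F hWV m) := (Glue74.res_res F _ _ m).symm
      change res F _ m = 0
      rw [this]
      change res F hxW (F.presheaf.map (homOfLE hWV).op m) = 0
      rw [hm]
      exact map_zero _
    obtain ⟨n, hn⟩ := exists_pow_smul_eq_zero_of_isAffineOpen F hV x m h0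
    exact eq_zero_of_pow_smul_eq_zero h1 n m hn
  · -- surjectivity
    intro t
    have hresx : X.presheaf.map (homOfLE hxW).op (X.presheaf.map (homOfLE hWV).op x) =
        X.presheaf.map (homOfLE (X.basicOpen_le x)).op x := by
      rw [← CommRingCat.comp_apply, ← Functor.map_comp]
      rfl
    have hresy : X.presheaf.map (homOfLE hyW).op (X.presheaf.map (homOfLE hWV).op x) =
        X.presheaf.map (homOfLE (X.basicOpen_le y)).op x := by
      rw [← CommRingCat.comp_apply, ← Functor.map_comp]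
      rfl
    -- Step 1: `x^k t = m₁` on `D(x)`
    obtain ⟨k, m₁, hm₁⟩ := exists_pow_smul_eq_map_of_isAffineOpen F hV x (res F hxW t)
    -- Step 2: `x^k t = m₁` on `W`
    have hW1 : (X.presheaf.map (homOfLE hWV).op x) ^ k • t = res F hWV m₁ := by
      rw [← sub_eq_zero]
      apply eq_zero_of_res_basicOpen_eq_zero F hV x h1 hWV hxW
      rw [res_sub, res_smul, Glue74.res_res, sub_eq_zero, map_pow, hresx]
      change _ = F.presheaf.map (homOfLE (X.basicOpen_le x)).op m₁
      rw [hm₁]
    -- Step 3: `y^l t = m₂` on `D(y)`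
    obtain ⟨l, m₂, hm₂⟩ := exists_pow_smul_eq_map_of_isAffineOpen F hV y (res F hyW t)
    -- Step 4: `y^l m₁ = x^k m₂` on `D(y)`
    have h4 : F.presheaf.map (homOfLE (X.basicOpen_le y)).op (y ^ l • m₁ - x ^ k • m₂) = 0 := by
      have e1 : F.presheaf.map (homOfLE (X.basicOpen_le y)).op m₁ =
          (X.presheaf.map (homOfLE (X.basicOpen_le y)).op x) ^ k • res F hyW t := by
        have : res F (X.basicOpen_le y) m₁ = res F hyW (res F hWV m₁) := (Glue74.res_res F _ _ m₁).symm
        change res F _ m₁ = _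
        rw [this, ← hW1, res_smul, map_pow, hresy]
      rw [map_sub, F.map_smul, F.map_smul, hm₂, e1, map_pow, map_pow, smul_smul, smul_smul,
        mul_comm, sub_self]
    obtain ⟨N, hN⟩ := exists_pow_smul_eq_zero_of_isAffineOpen F hV y _ h4
    have h5 : y ^ (N + l) • m₁ = x ^ k • (y ^ N • m₂) := by
      rw [smul_sub, sub_eq_zero] at hN
      rw [pow_add, mul_smul, hN, smul_comm]
    obtain ⟨m, hm⟩ := mem_pow_smul_of_pow_smul_mem h1 h2 k (N + l) m₁ _ h5
    refine ⟨m, ?_⟩
    -- Step 5: `t - m|_W` is killed by `x^k`, hence vanishes on `D(x)`, hence is zero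
    rw [← sub_eq_zero]
    apply eq_zero_of_res_basicOpen_eq_zero F hV x h1 hWV hxW
    have h6 : (X.presheaf.map (homOfLE hWV).op x) ^ k • (res F hWV m - t) = 0 := by
      rw [smul_sub, hW1, hm, res_smul, map_pow, sub_self]
    have h7 := congrArg (res F hxW) h6
    rw [res_smul, map_pow] at h7
    have hunit : IsUnit (X.presheaf.map (homOfLE hxW).op (X.presheaf.map (homOfLE hWV).op x)) := by
      rw [hresx]
      exact RingedSpace.isUnit_res_basicOpen _ x
    obtain ⟨u, hu⟩ := hunit.pow k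
    rw [← hu] at h7
    have := congrArg (fun z => (↑u⁻¹ : Γ(X, X.basicOpen x)) • z) h7
    simp only [smul_smul, Units.inv_mul, one_smul] at this
    simpa using this

end Geometry


section Glue

/-- If `Γ(F,V) → Γ(F,V ∩ U)` is bijective for all affine opens `V`, it is bijective for all opens. -/
theorem bijective_res_inf_of_forall_isAffineOpen (F : X.Modules) (U : X.Opens)
    (h : ∀ V : X.Opens, IsAffineOpen V →
      Function.Bijective (F.presheaf.map (homOfLE (inf_le_left : V ⊓ U ≤ V)).op))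
    (V : X.Opens) :
    Function.Bijective (F.presheaf.map (homOfLE (inf_le_left : V ⊓ U ≤ V)).op) := by
  have hbasis : ∀ (V : X.Opens) (x : X), x ∈ V → ∃ W : X.Opens, IsAffineOpen W ∧ x ∈ W ∧ W ≤ V := by
    intro V x hx
    obtain ⟨W, hW, hxW, hWV⟩ := Opens.isBasis_iff_nbhd.mp X.isBasis_affineOpens hx
    exact ⟨W, hW, hxW, hWV⟩
  have hinj : ∀ V : X.Opens,
      Function.Injective (F.presheaf.map (homOfLE (inf_le_left : V ⊓ U ≤ V)).op) := by
    intro V s t hst
    refine eq_of_good F IsAffineOpen hbasis s t fun W hW hWV => ?_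
    apply (h W hW).1
    change res F _ (res F hWV s) = res F _ (res F hWV t)
    rw [Glue74.res_res, Glue74.res_res]
    have e : ∀ a : Γ(F, V), res F ((inf_le_left : W ⊓ U ≤ W).trans hWV) a =
        res F (inf_le_inf_right U hWV : W ⊓ U ≤ V ⊓ U) (res F inf_le_left a) :=
      fun a => (Glue74.res_res F _ _ a).symm
    rw [e, e]
    exact congrArg _ hst
  refine ⟨hinj V, fun t => ?_⟩
  choose W hW hxW hWV using (fun x : V => hbasis V x.1 x.2)
  have hs : ∀ x : V, ∃ s : Γ(F, W x),
      res F inf_le_left s = res F (inf_le_inf_right U (hWV x) : W x ⊓ U ≤ V ⊓ U) t :=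
    fun x => (h (W x) (hW x)).2 _
  choose s hs using hs
  have hcover : V ≤ iSup W := by
    intro y hy
    exact Opens.mem_iSup.2 ⟨⟨y, hy⟩, hxW ⟨y, hy⟩⟩
  obtain ⟨g, hg⟩ := exists_gluing_of_cover F W V hWV hcover s (by
    intro i j
    apply hinj (W i ⊓ W j)
    change res F _ (res F _ (s i)) = res F _ (res F _ (s j))
    rw [Glue74.res_res, Glue74.res_res]
    have e1 : res F ((inf_le_left : (W i ⊓ W j) ⊓ U ≤ W i ⊓ W j).trans inf_le_left) (s i) =
        res F (inf_le_inf_right U inf_le_left : (W i ⊓ W j) ⊓ U ≤ W i ⊓ U)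
          (res F inf_le_left (s i)) := (Glue74.res_res F _ _ _).symm
    have e2 : res F ((inf_le_left : (W i ⊓ W j) ⊓ U ≤ W i ⊓ W j).trans inf_le_right) (s j) =
        res F (inf_le_inf_right U inf_le_right : (W i ⊓ W j) ⊓ U ≤ W j ⊓ U)
          (res F inf_le_left (s j)) := (Glue74.res_res F _ _ _).symm
    rw [e1, e2, hs i, hs j, Glue74.res_res, Glue74.res_res])
  refine ⟨g, ?_⟩
  refine sections_ext_of_cover F (fun x : V => W x ⊓ U) (V ⊓ U)
    (fun x => inf_le_inf_right U (hWV x)) ?_ _ _ fun x => ?_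
  · rintro y ⟨hyV, hyU⟩
    exact Opens.mem_iSup.2 ⟨⟨y, hyV⟩, ⟨hxW ⟨y, hyV⟩, hyU⟩⟩
  · change res F _ (res F _ g) = res F _ t
    rw [Glue74.res_res]
    have e3 : res F ((inf_le_inf_right U (hWV x) : W x ⊓ U ≤ V ⊓ U).trans inf_le_left) g =
        res F inf_le_left (res F (hWV x) g) := (Glue74.res_res F _ _ _).symm
    rw [e3]
    change res F inf_le_left (F.presheaf.map (homOfLE (hWV x)).op g) = _
    rw [hg x, hs x]

end Glue

end Groth.Agent.Lib.QCoh.Hartogs
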