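import Groth.Agent.Lib.QCoh.Helper18_HartogsUnit
import Groth.Agent.Lib.QCoh.Helper74_LocFreeStalk
import Groth.Agent.Lib.Helper15.RegFlat

/-!
# Hartogs extension for flat quasi-coherent modules (helper18)

Namespace `Groth.Agent.Lib.QCoh.Hartogs`.

* `isIso_unit_of_flat_of_depth` : `X` locally Noetherian, `depth O_{X,x} ≥ 2` off `U`, `A` a flat
  quasi-coherent module (no finiteness) ⇒ `A ⟶ j_*(A|_U)` is an isomorphism.
-/

set_option autoImplicit false
universe u

open AlgebraicGeometry CategoryTheory Opposite TopologicalSpace RingTheory.Sequence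

namespace Groth.Agent.Lib.QCoh.Hartogs

open Scheme.Modules Groth.Agent.Lib.QCoh

section Algebra

variable {A : Type u} [CommRing A]

/-- Element-wise form of a weakly regular pair. -/
theorem regular_pair_of_isWeaklyRegular {M : Type u} [AddCommGroup M] [Module A M] {x y : A}
    (h : IsWeaklyRegular M [x, y]) :
    (∀ m : M, x • m = 0 → m = 0) ∧
      (∀ m m' : M, y • m = x • m' → ∃ m'' : M, m = x • m'') := by
  rw [isWeaklyRegular_cons_iff] at h
  obtain ⟨hx, hreg'⟩ := h
  rw [isWeaklyRegular_cons_iff] at hreg'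
  obtain ⟨hy, -⟩ := hreg'
  refine ⟨?_, ?_⟩
  · intro m hm
    apply hx
    simpa using hm
  · intro m m' hmm'
    have h0 : (Submodule.Quotient.mk m : QuotSMulTop x M) = 0 := by
      apply hy
      change y • (Submodule.Quotient.mk m : QuotSMulTop x M) = y • 0
      rw [smul_zero, ← Submodule.Quotient.mk_smul, hmm', Submodule.Quotient.mk_eq_zero]
      exact Submodule.smul_mem_pointwise_smul m' x ⊤ trivial
    rw [Submodule.Quotient.mk_eq_zero] at h0
    obtain ⟨m'', -, hm''⟩ := (Submodule.mem_smul_pointwise_iff_exists _ _ _).1 h0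
    exact ⟨m'', hm''.symm⟩

/-- From `depth_I M ≥ 2`: a weakly regular pair in `I`. -/
theorem exists_weaklyRegular_pair_of_two_le_idealDepth (I : Ideal A)
    (M : Type u) [AddCommGroup M] [Module A M] [Module.Finite A M]
    (h : (2 : ℕ∞) ≤ LocCoh.idealDepth I M) :
    ∃ x ∈ I, ∃ y ∈ I, IsWeaklyRegular M [x, y] := by
  unfold LocCoh.idealDepth at h
  split_ifs at h with hIM
  · obtain ⟨r, hr, hr0⟩ := Submodule.exists_sub_one_mem_and_smul_eq_zero_of_fg_of_le_smul I
      (⊤ : Submodule A M) Module.Finite.fg_top (by rw [hIM])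
    have hx : (1 - r) ∈ I := by
      have := I.neg_mem hr
      simpa using this
    have hact : ∀ m : M, (1 - r) • m = m := fun m => by
      rw [sub_smul, one_smul, hr0 m trivial, sub_zero]
    refine ⟨1 - r, hx, 1 - r, hx, ?_⟩
    rw [isWeaklyRegular_cons_iff]
    refine ⟨fun m m' hmm' => ?_, ?_⟩
    · simpa [hact] using hmm'
    · have hsub : Subsingleton (QuotSMulTop (1 - r) M) := by
        refine ⟨fun a b => ?_⟩
        obtain ⟨a, rfl⟩ := Submodule.Quotient.mk_surjective _ a
        obtain ⟨b, rfl⟩ := Submodule.Quotient.mk_surjective _ b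
        rw [Submodule.Quotient.eq]
        rw [← hact (a - b)]
        exact Submodule.smul_mem_pointwise_smul _ _ ⊤ trivial
      rw [isWeaklyRegular_cons_iff]
      exact ⟨fun a b _ => Subsingleton.elim a b, IsWeaklyRegular.nil _ _⟩
  · obtain ⟨rs, hrs, hlen⟩ : ∃ rs : List A, (IsWeaklyRegular M rs ∧ ∀ r ∈ rs, r ∈ I) ∧
        2 ≤ rs.length := by
      by_contra hcon
      push Not at hcon
      have : (⨆ (rs : List A) (_ : IsWeaklyRegular M rs ∧ ∀ r ∈ rs, r ∈ I),
          (rs.length : ℕ∞)) ≤ 1 := by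
        refine iSup₂_le fun rs hrs => ?_
        have := hcon rs hrs
        have h1 : rs.length ≤ 1 := by omega
        exact_mod_cast h1
      have h2 : (2 : ℕ∞) ≤ 1 := h.trans this
      exact absurd h2 (by decide)
    match rs, hrs, hlen with
    | x :: y :: rest, ⟨hreg, hmem⟩, _ =>
      rw [isWeaklyRegular_cons_iff] at hreg
      obtain ⟨hx, hreg'⟩ := hreg
      rw [isWeaklyRegular_cons_iff] at hreg'
      obtain ⟨hy, -⟩ := hreg'
      refine ⟨x, hmem x (by simp), y, hmem y (by simp), ?_⟩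
      rw [isWeaklyRegular_cons_iff]
      refine ⟨hx, ?_⟩
      rw [isWeaklyRegular_cons_iff]
      exact ⟨hy, IsWeaklyRegular.nil _ _⟩

end Algebra

section Scheme

variable {X : Scheme.{u}}

open Groth.Agent.Lib.Helper49.Serre in
/-- The ideal of `V ∖ U` in an affine open `V` has depth `≥ 2` on the ring, if `depth O_{X,x} ≥ 2`
off `U`. -/
theorem two_le_idealDepth_ring [IsLocallyNoetherian X] (U : X.Opens)
    (hdepth : ∀ x : X, x ∉ U →
      (2 : ℕ∞) ≤ LocCoh.depth (X.presheaf.stalk x) (X.presheaf.stalk x))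
    {V : X.Opens} (hV : IsAffineOpen V) (I : Ideal Γ(X, V))
    (hI : ∀ y : PrimeSpectrum Γ(X, V), I ≤ y.asIdeal → hV.fromSpec y ∉ U) :
    ((2 : ℕ) : ℕ∞) ≤ LocCoh.idealDepth I Γ(X, V) := by
  have : IsNoetherianRing Γ(X, V) := IsLocallyNoetherian.component_noetherian ⟨V, hV⟩
  rw [le_idealDepth_iff]
  intro p hp hIp
  have hyU := hI ⟨p, hp⟩ hIp
  let _ : Algebra Γ(X, V) (X.presheaf.stalk (hV.fromSpec ⟨p, hp⟩)) :=
    X.presheaf.algebra_section_stalk ⟨hV.fromSpec ⟨p, hp⟩, fromSpec_mem V hV _⟩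
  have : IsLocalization.AtPrime (X.presheaf.stalk (hV.fromSpec ⟨p, hp⟩)) p :=
    hV.isLocalization_stalk' ⟨p, hp⟩ (fromSpec_mem V hV _)
  have h1 := depth_eq_depth_localizedModule p (X.presheaf.stalk (hV.fromSpec ⟨p, hp⟩))
    Γ(X, V) (X.presheaf.stalk (hV.fromSpec ⟨p, hp⟩))
    (Algebra.linearMap Γ(X, V) (X.presheaf.stalk (hV.fromSpec ⟨p, hp⟩)))
  have h2 := hdepth _ hyU
  rw [h1] at h2
  exact h2

open Groth.Agent.Lib.Helper15.RegFlat in
/-- Hartogs on an affine open for a quasi-coherent module with flat sections. -/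
theorem bijective_res_inf_of_flat_of_isAffineOpen [IsLocallyNoetherian X] (U : X.Opens)
    (hdepth : ∀ x : X, x ∉ U →
      (2 : ℕ∞) ≤ LocCoh.depth (X.presheaf.stalk x) (X.presheaf.stalk x))
    (F : X.Modules) [F.IsQuasicoherent] {V : X.Opens} (hV : IsAffineOpen V)
    (hflat : Module.Flat Γ(X, V) Γ(F, V)) :
    Function.Bijective (F.presheaf.map (homOfLE (inf_le_left : V ⊓ U ≤ V)).op) := by
  have : IsNoetherianRing Γ(X, V) := IsLocallyNoetherian.component_noetherian ⟨V, hV⟩
  obtain ⟨I, hbasic, -, hIy⟩ := exists_ideal_of_isAffineOpen U hV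
  have h2 := two_le_idealDepth_ring U hdepth hV I (fun y hy => (hIy y).1 hy)
  obtain ⟨x, hxI, y, hyI, hreg⟩ := exists_weaklyRegular_pair_of_two_le_idealDepth I Γ(X, V) h2
  have hregF : IsWeaklyRegular Γ(F, V) [x, y] := isWeaklyRegular_of_flat Γ(F, V) [x, y] hreg
  obtain ⟨h1, h2'⟩ := regular_pair_of_isWeaklyRegular hregF
  exact bijective_res_of_regular_pair F hV x y h1 h2' inf_le_left (hbasic x hxI) (hbasic y hyI)

/-- The unit `G ⟶ j_*(G|_U)` is an isomorphism if restriction `Γ(G,V) → Γ(G,V ∩ U)` is bijective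
for all affine opens `V`. -/
theorem isIso_unit_of_forall_bijective (G : X.Modules) (U : X.Opens)
    (h : ∀ V : X.Opens, IsAffineOpen V →
      Function.Bijective (G.presheaf.map (homOfLE (inf_le_left : V ⊓ U ≤ V)).op)) :
    IsIso ((Scheme.Modules.restrictAdjunction U.ι).unit.app G) := by
  rw [Scheme.Modules.Hom.isIso_iff_isIso_app]
  intro V
  change IsIso (G.presheaf.map (homOfLE (U.ι.image_preimage_le V)).op)
  rw [ConcreteCategory.isIso_iff_bijective]
  have key : ∀ (O : X.Opens) (_ : O = V ⊓ U) (i : O ⟶ V),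
      Function.Bijective (G.presheaf.map i.op) := by
    rintro O rfl i
    have : i = homOfLE inf_le_left := Subsingleton.elim _ _
    rw [this]
    exact bijective_res_inf_of_forall_isAffineOpen G U h V
  exact key _ (ι_image_preimage U V) _

/-- **Hartogs for flat quasi-coherent modules.** -/
theorem isIso_unit_of_flat_of_depth [IsLocallyNoetherian X] (U : X.Opens)
    (hdepth : ∀ x : X, x ∉ U →
      (2 : ℕ∞) ≤ LocCoh.depth (X.presheaf.stalk x) (X.presheaf.stalk x))
    (F : X.Modules) [F.IsQuasicoherent] (hflat : FlatMod.IsFlat F) :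
    IsIso ((Scheme.Modules.restrictAdjunction U.ι).unit.app F) := by
  apply isIso_unit_of_forall_bijective
  intro V hV
  exact bijective_res_inf_of_flat_of_isAffineOpen U hdepth F hV
    ((isFlat_iff_forall_affineOpens F).1 hflat ⟨V, hV⟩)

end Scheme

end Groth.Agent.Lib.QCoh.Hartogs
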