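import Groth.Agent.Lib.QCoh.Helper18_HartogsFlat
import Groth.Agent.Lib.QCoh.Helper18_SchDense
import Groth.Agent.Lib.Ample.Helper50_LocalGen
import Groth.Agent.Lib.Helper18.DepthOne
import Groth.Agent.Lib.BlowUp.Helper18_Regular
import Groth.Agent.Lib.Helper29.FlatLocal

/-!
# Hartogs extension / schematic density for invertible modules, flat pullback (helper18)

Namespace `Groth.Agent.Lib.QCoh.Hartogs`.
-/

set_option autoImplicit false
universe u

open AlgebraicGeometry CategoryTheory Opposite TopologicalSpace IsLocalRing TensorProduct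

namespace Groth.Agent.Lib.QCoh.Hartogs

open Scheme.Modules Groth.Agent.Lib.QCoh Groth.Agent.Lib.QCoh.Glue74 Groth.Agent.Lib.Ample

variable {X : Scheme.{u}}

section Glue

variable (F : X.Modules) (U : X.Opens) (good : X.Opens → Prop)
  (hbasis : ∀ (V : X.Opens) (x : X), x ∈ V → ∃ W : X.Opens, good W ∧ x ∈ W ∧ W ≤ V)

include hbasis in
/-- Injectivity of `Γ(F,V) → Γ(F,V ∩ U)` can be checked on a basis. -/
theorem injective_res_inf_of_forall_good
    (h : ∀ V : X.Opens, good V →
      Function.Injective (F.presheaf.map (homOfLE (inf_le_left : V ⊓ U ≤ V)).op))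
    (V : X.Opens) :
    Function.Injective (F.presheaf.map (homOfLE (inf_le_left : V ⊓ U ≤ V)).op) := by
  intro s t hst
  refine eq_of_good F good hbasis s t fun W hW hWV => ?_
  apply h W hW
  change Glue74.res F _ (Glue74.res F hWV s) = Glue74.res F _ (Glue74.res F hWV t)
  rw [Glue74.res_res, Glue74.res_res]
  have e : ∀ a : Γ(F, V), Glue74.res F ((inf_le_left : W ⊓ U ≤ W).trans hWV) a =
      Glue74.res F (inf_le_inf_right U hWV : W ⊓ U ≤ V ⊓ U) (Glue74.res F inf_le_left a) :=
    fun a => (Glue74.res_res F _ _ a).symm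
  rw [e, e]
  exact congrArg _ hst

include hbasis in
/-- Bijectivity of `Γ(F,V) → Γ(F,V ∩ U)` can be checked on a basis. -/
theorem bijective_res_inf_of_forall_good
    (h : ∀ V : X.Opens, good V →
      Function.Bijective (F.presheaf.map (homOfLE (inf_le_left : V ⊓ U ≤ V)).op))
    (V : X.Opens) :
    Function.Bijective (F.presheaf.map (homOfLE (inf_le_left : V ⊓ U ≤ V)).op) := by
  have hinj := injective_res_inf_of_forall_good F U good hbasis (fun V hV => (h V hV).1)
  refine ⟨hinj V, fun t => ?_⟩
  choose W hW hxW hWV using (fun x : V => hbasis V x.1 x.2)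
  have hs : ∀ x : V, ∃ s : Γ(F, W x),
      Glue74.res F inf_le_left s = Glue74.res F (inf_le_inf_right U (hWV x) : W x ⊓ U ≤ V ⊓ U) t :=
    fun x => (h (W x) (hW x)).2 _
  choose s hs using hs
  have hcover : V ≤ iSup W := by
    intro y hy
    exact Opens.mem_iSup.2 ⟨⟨y, hy⟩, hxW ⟨y, hy⟩⟩
  obtain ⟨g, hg⟩ := exists_gluing_of_cover F W V hWV hcover s (by
    intro i j
    apply hinj (W i ⊓ W j)
    change Glue74.res F _ (Glue74.res F _ (s i)) = Glue74.res F _ (Glue74.res F _ (s j))
    rw [Glue74.res_res, Glue74.res_res]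
    have e1 : Glue74.res F ((inf_le_left : (W i ⊓ W j) ⊓ U ≤ W i ⊓ W j).trans inf_le_left) (s i) =
        Glue74.res F (inf_le_inf_right U inf_le_left : (W i ⊓ W j) ⊓ U ≤ W i ⊓ U)
          (Glue74.res F inf_le_left (s i)) := (Glue74.res_res F _ _ _).symm
    have e2 : Glue74.res F ((inf_le_left : (W i ⊓ W j) ⊓ U ≤ W i ⊓ W j).trans inf_le_right) (s j) =
        Glue74.res F (inf_le_inf_right U inf_le_right : (W i ⊓ W j) ⊓ U ≤ W j ⊓ U)
          (Glue74.res F inf_le_left (s j)) := (Glue74.res_res F _ _ _).symm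
    rw [e1, e2, hs i, hs j, Glue74.res_res, Glue74.res_res])
  refine ⟨g, ?_⟩
  refine sections_ext_of_cover F (fun x : V => W x ⊓ U) (V ⊓ U)
    (fun x => inf_le_inf_right U (hWV x)) ?_ _ _ fun x => ?_
  · rintro y ⟨hyV, hyU⟩
    exact Opens.mem_iSup.2 ⟨⟨y, hyV⟩, ⟨hxW ⟨y, hyV⟩, hyU⟩⟩
  · change Glue74.res F _ (Glue74.res F _ g) = Glue74.res F _ t
    rw [Glue74.res_res]
    have e3 : Glue74.res F ((inf_le_inf_right U (hWV x) : W x ⊓ U ≤ V ⊓ U).trans inf_le_left) g =
        Glue74.res F inf_le_left (Glue74.res F (hWV x) g) := (Glue74.res_res F _ _ _).symm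
    rw [e3]
    change Glue74.res F inf_le_left (F.presheaf.map (homOfLE (hWV x)).op g) = _
    rw [hg x, hs x]

end Glue

section Generator

variable (L : X.Modules) {W : X.Opens} {e : Γ(L, W)}

lemma resSec_smul_resSec {V V' : X.Opens} (hV : V ≤ W) (hV' : V' ≤ V) (r : Γ(X, V)) :
    resSec L hV' (r • resSec L hV e) = resFn hV' r • resSec L (hV'.trans hV) e := by
  rw [resSec_smul, resSec_resSec]

variable (he : IsGenerator L W e)

include he in
/-- Over an open where `L` has a generator, injectivity of restriction for functions gives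
injectivity for sections of `L`. -/
lemma injective_res_of_isGenerator {V V' : X.Opens} (hV : V ≤ W) (hV' : V' ≤ V)
    (h : Function.Injective (X.presheaf.map (homOfLE hV').op)) :
    Function.Injective (L.presheaf.map (homOfLE hV').op) := by
  intro s t hst
  obtain ⟨r, rfl⟩ := (he V hV).2 s
  obtain ⟨r', rfl⟩ := (he V hV).2 t
  have h1 : resSec L hV' (r • resSec L hV e) = resSec L hV' (r' • resSec L hV e) := hst
  rw [resSec_smul_resSec L, resSec_smul_resSec L] at h1
  have h2 := (he V' (hV'.trans hV)).1 h1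
  have h3 : r = r' := h h2
  rw [h3]

include he in
/-- Over an open where `L` has a generator, bijectivity of restriction for functions gives
bijectivity for sections of `L`. -/
lemma bijective_res_of_isGenerator {V V' : X.Opens} (hV : V ≤ W) (hV' : V' ≤ V)
    (h : Function.Bijective (X.presheaf.map (homOfLE hV').op)) :
    Function.Bijective (L.presheaf.map (homOfLE hV').op) := by
  refine ⟨injective_res_of_isGenerator L he hV hV' h.1, fun t => ?_⟩
  obtain ⟨r', rfl⟩ := (he V' (hV'.trans hV)).2 t
  obtain ⟨r, rfl⟩ := h.2 r'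
  exact ⟨r • resSec L hV e, resSec_smul_resSec L hV hV' r⟩

end Generator

section Invertible

/-- If `U` is schematically dense, sections of an invertible module restrict injectively. -/
theorem injective_res_inf_of_isInvertible {L : X.Modules} (hL : PicF.IsInvertible L) (U : X.Opens)
    (hU : CInt.IsSchematicallyDense U) (V : X.Opens) :
    Function.Injective (L.presheaf.map (homOfLE (inf_le_left : V ⊓ U ≤ V)).op) := by
  refine injective_res_inf_of_forall_good L U
    (fun W => ∃ (W' : X.Opens) (_ : W ≤ W') (e : Γ(L, W')), IsGenerator L W' e) ?_ ?_ V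
  · intro V x hx
    obtain ⟨W, -, hxW, hWV, e, he⟩ := exists_isAffineOpen_isGenerator_of_isInvertible hL x V hx
    exact ⟨W, ⟨W, le_rfl, e, he⟩, hxW, hWV⟩
  · rintro V ⟨W', hVW', e, he⟩
    exact injective_res_of_isGenerator L he hVW' inf_le_left (hU V)

/-- If restriction of functions `Γ(X,V) → Γ(X,V ∩ U)` is bijective for all `V`, the same holds for
sections of an invertible module. -/
theorem bijective_res_inf_of_isInvertible {L : X.Modules} (hL : PicF.IsInvertible L) (U : X.Opens)
    (hU : ∀ V : X.Opens,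
      Function.Bijective (X.presheaf.map (homOfLE (inf_le_left : V ⊓ U ≤ V)).op)) (V : X.Opens) :
    Function.Bijective (L.presheaf.map (homOfLE (inf_le_left : V ⊓ U ≤ V)).op) := by
  refine bijective_res_inf_of_forall_good L U
    (fun W => ∃ (W' : X.Opens) (_ : W ≤ W') (e : Γ(L, W')), IsGenerator L W' e) ?_ ?_ V
  · intro V x hx
    obtain ⟨W, -, hxW, hWV, e, he⟩ := exists_isAffineOpen_isGenerator_of_isInvertible hL x V hx
    exact ⟨W, ⟨W, le_rfl, e, he⟩, hxW, hWV⟩
  · rintro V ⟨W', hVW', e, he⟩
    exact bijective_res_of_isGenerator L he hVW' inf_le_left (hU V)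

end Invertible

end Groth.Agent.Lib.QCoh.Hartogs
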