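import Groth.Agent.Lib.QCoh.Helper18_HartogsInv
import Groth.Agent.Lib.Helper29.CM
import Mathlib.RingTheory.Ideal.AssociatedPrime.Localization

/-!
# Hartogs / schematic density along flat morphisms (helper18)

Namespace `Groth.Agent.Lib.QCoh.Hartogs`.

* `depth_le_of_flat_local` : `A → B` flat local hom of Noetherian local rings ⇒ `depth A ≤ depth B`.
* `depth_stalk_le_of_flat` : `f : X ⟶ Y` flat, both locally Noetherian ⇒
  `depth O_{Y,f x} ≤ depth O_{X,x}`.
* `mem_of_isSchematicallyDense_of_isAssociatedPrime` : a schematically dense open of a locally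
  Noetherian scheme contains every associated point of `O_X`.
* `isSchematicallyDense_preimage_of_flat'` : flat preimage of a schematically dense open
  (locally Noetherian target) is schematically dense.
* `injective_res_preimage_of_flat`, `bijective_res_preimage_of_flat` : S14330 content.
-/

set_option autoImplicit false
universe u

open AlgebraicGeometry CategoryTheory Opposite TopologicalSpace IsLocalRing TensorProduct

namespace Groth.Agent.Lib.QCoh.Hartogs

open Scheme.Modules Groth.Agent.Lib.QCoh Groth.Agent.Lib.Helper29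

/-- Flat local homomorphisms of Noetherian local rings do not decrease depth. -/
theorem depth_le_of_flat_local (A B : Type u) [CommRing A] [CommRing B] [IsLocalRing A]
    [IsLocalRing B] [IsNoetherianRing A] [IsNoetherianRing B] [Algebra A B]
    [IsLocalHom (algebraMap A B)] [Module.Flat A B] :
    LocCoh.depth A A ≤ LocCoh.depth B B := by
  have h := FlatLocal.depth_tensor A B A B
  have e : LocCoh.depth B (B ⊗[A] A) = LocCoh.depth B B :=
    CMLib.depth_congr (TensorProduct.AlgebraTensorModule.rid A B B)
  rw [← e, h]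
  exact le_self_add

/-- For a flat morphism of locally Noetherian schemes, `depth O_{Y,f x} ≤ depth O_{X,x}`. -/
theorem depth_stalk_le_of_flat {X Y : Scheme.{u}} (f : X ⟶ Y) [Flat f] [IsLocallyNoetherian X]
    [IsLocallyNoetherian Y] (x : X) :
    LocCoh.depth (Y.presheaf.stalk (f x)) (Y.presheaf.stalk (f x)) ≤
      LocCoh.depth (X.presheaf.stalk x) (X.presheaf.stalk x) := by
  let _ : Algebra (Y.presheaf.stalk (f x)) (X.presheaf.stalk x) := (f.stalkMap x).hom.toAlgebra
  have hflat : Module.Flat (Y.presheaf.stalk (f x)) (X.presheaf.stalk x) := Flat.stalkMap f x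
  have hloc : IsLocalHom (algebraMap (Y.presheaf.stalk (f x)) (X.presheaf.stalk x)) := by
    change IsLocalHom (f.stalkMap x).hom
    infer_instance
  exact depth_le_of_flat_local _ _

/-- A schematically dense open of a locally Noetherian scheme contains all associated points. -/
theorem mem_of_isSchematicallyDense_of_isAssociatedPrime {X : Scheme.{u}} [IsLocallyNoetherian X]
    (U : X.Opens) (hU : CInt.IsSchematicallyDense U) (x : X)
    (hx : IsAssociatedPrime (maximalIdeal (X.presheaf.stalk x)) (X.presheaf.stalk x)) :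
    x ∈ U := by
  by_contra hxU
  obtain ⟨W, hW0, hxW, -⟩ := Opens.isBasis_iff_nbhd.1 (X.isBasis_affineOpens)
    (show x ∈ (⊤ : X.Opens) from trivial)
  have hW : IsAffineOpen W := hW0
  have hN : IsNoetherianRing Γ(X, W) := IsLocallyNoetherian.component_noetherian ⟨W, hW⟩
  let _ : Algebra Γ(X, W) (X.presheaf.stalk x) :=
    TopCat.Presheaf.algebra_section_stalk X.presheaf ⟨x, hxW⟩
  have hloc := hW.isLocalization_stalk ⟨x, hxW⟩
  set p := (hW.primeIdealOf ⟨x, hxW⟩).asIdeal with hp
  have hlm : IsLocalizedModule p.primeCompl (Algebra.linearMap Γ(X, W) (X.presheaf.stalk x)) :=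
    (isLocalizedModule_iff_isLocalization' _ _).2 hloc
  have hass : (maximalIdeal (X.presheaf.stalk x)).comap (algebraMap Γ(X, W) (X.presheaf.stalk x)) ∈
      associatedPrimes Γ(X, W) Γ(X, W) :=
    Module.associatedPrimes.comap_mem_associatedPrimes_of_mem_associatedPrimes_of_isLocalizedModule_of_fg
      p.primeCompl (Algebra.linearMap Γ(X, W) (X.presheaf.stalk x)) _ hx
      ((isNoetherianRing_iff_ideal_fg _).1 hN _)
  have hcm : (maximalIdeal (X.presheaf.stalk x)).comap
      (algebraMap Γ(X, W) (X.presheaf.stalk x)) = p :=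
    IsLocalization.AtPrime.under_maximalIdeal (X.presheaf.stalk x) p
  rw [hcm] at hass
  obtain ⟨hpp, a, ha⟩ := (isAssociatedPrime_iff).1 hass
  have ha0 : a ≠ 0 := by
    rintro rfl
    apply hpp.ne_top
    rw [ha]
    ext r
    simp [Submodule.mem_colon_singleton]
  apply ha0
  apply hU W
  rw [map_zero]
  apply fn_eq_zero_of_germ_eq_zero
  intro y hy
  have hyW : y ∈ W := hy.1
  have : X.presheaf.germ (W ⊓ U) y hy (X.presheaf.map (homOfLE (inf_le_left : W ⊓ U ≤ W)).op a) =
      X.presheaf.germ W y hyW a := by
    exact X.presheaf.germ_res_apply (homOfLE (inf_le_left : W ⊓ U ≤ W)) y hy a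
  rw [this, fn_germ_eq_zero_iff hW y hyW]
  by_contra hcon
  push Not at hcon
  have hle : p ≤ (hW.primeIdealOf ⟨y, hyW⟩).asIdeal := by
    intro t ht
    by_contra htn
    apply hcon t htn
    rw [ha, Submodule.mem_colon_singleton] at ht
    simpa using ht
  have hspec : x ⤳ y := by
    have h1 := fromSpec_specializes hW (q := hW.primeIdealOf ⟨x, hxW⟩)
      (p := hW.primeIdealOf ⟨y, hyW⟩) hle
    rwa [hW.fromSpec_primeIdealOf, hW.fromSpec_primeIdealOf] at h1
  exact hxU (hspec.mem_open U.isOpen hy.2)

/-- Flat pullback preserves schematic density of opens over a locally Noetherian base. -/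
theorem isSchematicallyDense_preimage_of_flat' {X X' : Scheme.{u}} (f : X' ⟶ X) [Flat f]
    [IsLocallyNoetherian X] (V : X.Opens) (hV : CInt.IsSchematicallyDense V) :
    CInt.IsSchematicallyDense (f ⁻¹ᵁ V) :=
  isSchematicallyDense_preimage_of_flat f V
    (mem_of_isSchematicallyDense_of_isAssociatedPrime V hV)

/-- Sections of an invertible module on a flat `X'` over locally Noetherian `X` restrict
injectively to the preimage of a schematically dense open. -/
theorem injective_res_preimage_of_flat {X X' : Scheme.{u}} (f : X' ⟶ X) [Flat f]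
    [IsLocallyNoetherian X] {L : X'.Modules} (hL : PicF.IsInvertible L) (V : X.Opens)
    (hV : CInt.IsSchematicallyDense V) (W : X'.Opens) :
    Function.Injective (L.presheaf.map (homOfLE (inf_le_left : W ⊓ f ⁻¹ᵁ V ≤ W)).op) :=
  injective_res_inf_of_isInvertible hL _ (isSchematicallyDense_preimage_of_flat' f V hV) W

/-- Sections of an invertible module on a flat locally Noetherian `X'` over locally Noetherian `X`
restrict bijectively to the preimage of a big open (depth ≥ 2 outside). -/
theorem bijective_res_preimage_of_flat {X X' : Scheme.{u}} (f : X' ⟶ X) [Flat f]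
    [IsLocallyNoetherian X] [IsLocallyNoetherian X'] {L : X'.Modules} (hL : PicF.IsInvertible L)
    (V : X.Opens)
    (hV : ∀ x : X, x ∉ V → (2 : ℕ∞) ≤ LocCoh.depth (X.presheaf.stalk x) (X.presheaf.stalk x))
    (W : X'.Opens) :
    Function.Bijective (L.presheaf.map (homOfLE (inf_le_left : W ⊓ f ⁻¹ᵁ V ≤ W)).op) := by
  refine bijective_res_inf_of_isInvertible hL _ (fun W' => ?_) W
  refine bijective_res_inf_structureSheaf (f ⁻¹ᵁ V) (fun x' hx' => ?_) W'
  exact (hV (f x') hx').trans (depth_stalk_le_of_flat f x')

end Groth.Agent.Lib.QCoh.Hartogs
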