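import Groth.Agent.Lib.QCoh.Helper18_HartogsConv

/-!
# Hartogs extension in terms of the unit `F ⟶ j_* j^* F` (helper18)

Namespace `Groth.Agent.Lib.QCoh.Hartogs`.

* `isIso_unit_of_depth` : `depth G_x ≥ 2` off `U` ⇒ `G ⟶ j_*(G|_U)` is an isomorphism.
* `two_le_depth_stalk_pushforward_restrict` : if `j_*(F|_U)` is coherent, its stalks off `U` have
  depth `≥ 2`.
* `existsUnique_of_depth` : universal property of `F ⟶ j_*(F|_U)` among maps `F ⟶ G` which are
  isomorphisms over `U` with `depth G_x ≥ 2` off `U`.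
-/

set_option autoImplicit false
universe u

open AlgebraicGeometry CategoryTheory Opposite TopologicalSpace

namespace Groth.Agent.Lib.QCoh.Hartogs

open Scheme.Modules Groth.Agent.Lib.QCoh

variable {X : Scheme.{u}}

lemma ι_image_preimage (U V : X.Opens) : U.ι ''ᵁ U.ι ⁻¹ᵁ V = V ⊓ U := by
  rw [Scheme.Hom.image_preimage_eq_opensRange_inf, Scheme.Opens.opensRange_ι, inf_comm]

/-- Restriction between equal opens is bijective. -/
lemma bijective_map_of_eq (F : X.Modules) {O O' : X.Opens} (e : O' = O) (i : O' ⟶ O) :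
    Function.Bijective (F.presheaf.map i.op) := by
  subst e
  have : i = 𝟙 _ := Subsingleton.elim _ _
  rw [this, op_id, F.presheaf.map_id]
  exact (ConcreteCategory.isIso_iff_bijective (𝟙 (F.presheaf.obj (op O')))).1 inferInstance

/-- `depth G_x ≥ 2` off `U` ⇒ the unit `G ⟶ j_*(G|_U)` is an isomorphism. -/
theorem isIso_unit_of_depth [IsLocallyNoetherian X] (G : X.Modules) [G.IsQuasicoherent]
    [G.IsFiniteType] (U : X.Opens)
    (hdepth : ∀ x : X, x ∉ U →
      (2 : ℕ∞) ≤ LocCoh.depth (X.presheaf.stalk x) (G.presheaf.stalk x)) :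
    IsIso ((Scheme.Modules.restrictAdjunction U.ι).unit.app G) := by
  rw [Scheme.Modules.Hom.isIso_iff_isIso_app]
  intro V
  change IsIso (G.presheaf.map (homOfLE (U.ι.image_preimage_le V)).op)
  rw [ConcreteCategory.isIso_iff_bijective]
  have key : ∀ (O : X.Opens) (_ : O = V ⊓ U) (i : O ⟶ V),
      Function.Bijective (G.presheaf.map i.op) := by
    rintro O rfl i
    have : i = homOfLE inf_le_left := Subsingleton.elim _ _
    rw [this]
    exact bijective_res_inf_of_forall_isAffineOpen G U
      (fun V hV => bijective_res_inf_of_isAffineOpen G U hdepth hV) V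
  exact key _ (ι_image_preimage U V) _

/-- If `j_*(F|_U)` is coherent then its stalks at points outside `U` have depth at least two. -/
theorem two_le_depth_stalk_pushforward_restrict [IsLocallyNoetherian X] (F : X.Modules)
    (U : X.Opens)
    [((Scheme.Modules.pushforward U.ι).obj (F.restrict U.ι)).IsQuasicoherent]
    [((Scheme.Modules.pushforward U.ι).obj (F.restrict U.ι)).IsFiniteType]
    (x : X) (hx : x ∉ U) :
    (2 : ℕ∞) ≤ LocCoh.depth (X.presheaf.stalk x)
      (((Scheme.Modules.pushforward U.ι).obj (F.restrict U.ι)).presheaf.stalk x) := by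
  apply two_le_depth_stalk_of_bijective _ U _ x hx
  intro V _
  change Function.Bijective (F.presheaf.map
    (U.ι.opensFunctor.map ((Opens.map U.ι.base).map (homOfLE (inf_le_left : V ⊓ U ≤ V)))).op)
  apply bijective_map_of_eq
  change U.ι ''ᵁ U.ι ⁻¹ᵁ (V ⊓ U) = U.ι ''ᵁ U.ι ⁻¹ᵁ V
  rw [ι_image_preimage, ι_image_preimage, inf_assoc, inf_idem]


/-- Universal property of `F ⟶ j_*(F|_U)`: for `φ : F ⟶ G` an isomorphism over `U`, with `G`
coherent of depth `≥ 2` off `U`, there is a unique `ψ : G ⟶ j_*(F|_U)` with `φ ≫ ψ` the unit, and it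
is an isomorphism. -/
theorem existsUnique_and_isIso_of_depth [IsLocallyNoetherian X] (F G : X.Modules)
    [G.IsQuasicoherent] [G.IsFiniteType] (U : X.Opens) (φ : F ⟶ G)
    (hφ : IsIso ((Scheme.Modules.restrictFunctor U.ι).map φ))
    (hdepth : ∀ x : X, x ∉ U →
      (2 : ℕ∞) ≤ LocCoh.depth (X.presheaf.stalk x) (G.presheaf.stalk x)) :
    (∃! ψ : G ⟶ (Scheme.Modules.pushforward U.ι).obj (F.restrict U.ι),
        φ ≫ ψ = (Scheme.Modules.restrictAdjunction U.ι).unit.app F) ∧
      ∀ ψ : G ⟶ (Scheme.Modules.pushforward U.ι).obj (F.restrict U.ι),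
        φ ≫ ψ = (Scheme.Modules.restrictAdjunction U.ι).unit.app F → IsIso ψ := by
  set adj := Scheme.Modules.restrictAdjunction U.ι with hadj
  have hu : IsIso (adj.unit.app G) := isIso_unit_of_depth G U hdepth
  have nat : φ ≫ adj.unit.app G = adj.unit.app F ≫
      (Scheme.Modules.pushforward U.ι).map ((Scheme.Modules.restrictFunctor U.ι).map φ) :=
    adj.unit.naturality φ
  let ψ₀ : G ⟶ (Scheme.Modules.pushforward U.ι).obj (F.restrict U.ι) :=
    adj.unit.app G ≫ (Scheme.Modules.pushforward U.ι).map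
      (inv ((Scheme.Modules.restrictFunctor U.ι).map φ))
  have hψ₀ : φ ≫ ψ₀ = adj.unit.app F := by
    change φ ≫ adj.unit.app G ≫ _ = _
    rw [← Category.assoc, nat, Category.assoc, ← CategoryTheory.Functor.map_comp,
      IsIso.hom_inv_id, CategoryTheory.Functor.map_id]
    exact Category.comp_id _
  have huniq : ∀ ψ : G ⟶ (Scheme.Modules.pushforward U.ι).obj (F.restrict U.ι),
      φ ≫ ψ = adj.unit.app F → ψ = ψ₀ := by
    intro ψ hψ
    set ψ' := (adj.homEquiv G (F.restrict U.ι)).symm ψ with hψ'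
    have e1 : ψ = adj.unit.app G ≫ (Scheme.Modules.pushforward U.ι).map ψ' := by
      have h1 := adj.homEquiv_unit (X := G) (Y := F.restrict U.ι) (f := ψ')
      rw [hψ', Equiv.apply_symm_apply] at h1
      exact h1
    have e2 : (Scheme.Modules.restrictFunctor U.ι).map φ ≫ ψ' = 𝟙 _ := by
      apply (adj.homEquiv F (F.restrict U.ι)).injective
      have h2 := adj.homEquiv_unit (X := F) (Y := F.restrict U.ι)
        (f := (Scheme.Modules.restrictFunctor U.ι).map φ ≫ ψ')
      have h3 := adj.homEquiv_unit (X := F) (Y := F.restrict U.ι) (f := 𝟙 _)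
      rw [h2, h3, CategoryTheory.Functor.map_comp, CategoryTheory.Functor.map_id]
      have h4 : adj.unit.app F ≫ (Scheme.Modules.pushforward U.ι).map
          ((Scheme.Modules.restrictFunctor U.ι).map φ) ≫
            (Scheme.Modules.pushforward U.ι).map ψ' = adj.unit.app F := by
        rw [← Category.assoc, ← nat, Category.assoc, ← e1, hψ]
      exact h4.trans (Category.comp_id _).symm
    have e3 : ψ' = inv ((Scheme.Modules.restrictFunctor U.ι).map φ) :=
      IsIso.eq_inv_of_hom_inv_id e2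
    rw [e1, e3]
  refine ⟨⟨ψ₀, hψ₀, huniq⟩, fun ψ hψ => ?_⟩
  rw [huniq ψ hψ]
  infer_instance

end Groth.Agent.Lib.QCoh.Hartogs
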