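import Groth.Agent.Lib.QCoh.Helper74_RefHullAffine

/-!
# Stalk of the sheaf Hom for `F` of finite presentation and `G` arbitrary (helper18)

Namespace `Groth.Agent.Lib.QCoh.HomShStalk`.

* `semiLoc hU hDU α hα y hy : F_y → G_y` for `U` affine, `D ≤ U` open, `y ∈ D`, and
  `α : Γ(F,U) →+ Γ(G,D)` semilinear along restriction (F quasi-coherent, `G` arbitrary).
* `isLocSect_semiLoc`, `ofSemi` : the section of `𝓗om(F,G)` over `D`.
* `evalStalk_surjective_of_finitePresentation'` : surjectivity with `G` arbitrary.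
-/

set_option linter.style.haveILetI false
universe u
open CategoryTheory CategoryTheory.Limits AlgebraicGeometry Opposite TopologicalSpace

namespace Groth.Agent.Lib.QCoh.HomShStalk
open RefHull Groth.Agent.Lib.QCoh Groth.Agent.Lib.QCoh.RefHull74

variable {X : Scheme.{u}} {F G : X.Modules} {U D : X.Opens}

section SemiLoc

variable [F.IsQuasicoherent] (hU : IsAffineOpen U) (hDU : D ≤ U)
  (α : Γ(F, U) →+ Γ(G, D))
  (hα : ∀ (a : Γ(X, U)) (m : Γ(F, U)), α (a • m) = X.presheaf.map (homOfLE hDU).op a • α m)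

/-- The `Γ(X,U)`-linear map `Γ(F,U) → G_y`, `m ↦ germ_y (α m)`. -/
noncomputable def semiGerm (y : X) (hy : y ∈ D) :
    letI := stalkModuleOfOpen G U y (hDU hy)
    Γ(F, U) →ₗ[Γ(X, U)] G.presheaf.stalk y :=
  letI := stalkModuleOfOpen G U y (hDU hy)
  { toFun := fun m => G.presheaf.germ D y hy (α m)
    map_add' := fun a b => by rw [map_add, map_add]
    map_smul' := fun a m => by
      rw [hα, germ_smul, TopCat.Presheaf.germ_res_apply]
      rfl }

omit [F.IsQuasicoherent] in
theorem isUnit_end (G : X.Modules) (y : X) (hyU : y ∈ U) :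
    letI := stalkModuleOfOpen G U y hyU
    ∀ r : (hU.primeIdealOf ⟨y, hyU⟩).asIdeal.primeCompl,
      IsUnit (algebraMap Γ(X, U) (Module.End Γ(X, U) (G.presheaf.stalk y)) r) := by
  letI := stalkModuleOfOpen G U y hyU
  rintro ⟨r, hr⟩
  have hr' : IsUnit (X.presheaf.germ U y hyU r) := by
    rw [← Scheme.mem_basicOpen _ _ y hyU]
    exact (notMem_primeIdealOf_iff hU y hyU r).1 hr
  rw [Module.End.isUnit_iff]
  constructor
  · intro a b hab
    have hab' : X.presheaf.germ U y hyU r • a = X.presheaf.germ U y hyU r • b := hab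
    exact hr'.smul_left_cancel.1 hab'
  · obtain ⟨u, hu⟩ := hr'
    intro b
    refine ⟨(↑u⁻¹ : X.presheaf.stalk y) • b, ?_⟩
    change X.presheaf.germ U y hyU r • ((↑u⁻¹ : X.presheaf.stalk y) • b) = b
    rw [← hu, smul_smul, Units.mul_inv, one_smul]

/-- The stalk map at `y ∈ D` induced by a semilinear `α : Γ(F, U) → Γ(G, D)`. -/
noncomputable def semiLoc (y : X) (hy : y ∈ D) : StalkHom F G y :=
  letI := stalkModuleOfOpen F U y (hDU hy)
  letI := stalkModuleOfOpen G U y (hDU hy)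
  letI := X.presheaf.algebra_section_stalk ⟨y, hDU hy⟩
  haveI : IsScalarTower Γ(X, U) (X.presheaf.stalk y) (F.presheaf.stalk y) :=
    .of_algebraMap_smul fun _ _ => rfl
  haveI : IsScalarTower Γ(X, U) (X.presheaf.stalk y) (G.presheaf.stalk y) :=
    .of_algebraMap_smul fun _ _ => rfl
  haveI := hU.isLocalization_stalk ⟨y, hDU hy⟩
  haveI := isLocalizedModule_germ F hU y (hDU hy)
  (IsLocalizedModule.lift (hU.primeIdealOf ⟨y, hDU hy⟩).asIdeal.primeCompl
    (germₗ F U y (hDU hy)) (semiGerm hDU α hα y hy)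
    (isUnit_end hU G y (hDU hy))).extendScalarsOfIsLocalization
    (hU.primeIdealOf ⟨y, hDU hy⟩).asIdeal.primeCompl (X.presheaf.stalk y)

theorem semiLoc_germ (y : X) (hy : y ∈ D) (m : Γ(F, U)) :
    semiLoc hU hDU α hα y hy (F.presheaf.germ U y (hDU hy) m) = G.presheaf.germ D y hy (α m) := by
  letI := stalkModuleOfOpen F U y (hDU hy)
  letI := stalkModuleOfOpen G U y (hDU hy)
  letI := X.presheaf.algebra_section_stalk ⟨y, hDU hy⟩
  haveI : IsScalarTower Γ(X, U) (X.presheaf.stalk y) (F.presheaf.stalk y) :=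
    .of_algebraMap_smul fun _ _ => rfl
  haveI : IsScalarTower Γ(X, U) (X.presheaf.stalk y) (G.presheaf.stalk y) :=
    .of_algebraMap_smul fun _ _ => rfl
  haveI := hU.isLocalization_stalk ⟨y, hDU hy⟩
  haveI := isLocalizedModule_germ F hU y (hDU hy)
  exact IsLocalizedModule.lift_apply (hU.primeIdealOf ⟨y, hDU hy⟩).asIdeal.primeCompl
    (germₗ F U y (hDU hy)) (semiGerm hDU α hα y hy) (isUnit_end hU G y (hDU hy)) m

/-- The stalk maps of a semilinear map form a section of the sheaf Hom. -/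
theorem isLocSect_semiLoc :
    IsLocSect F G (fun y : D => semiLoc hU hDU α hα y.1 y.2) := by
  intro V i m' x
  obtain ⟨h, hDV, hxD⟩ := hU.exists_basicOpen_le x (hDU (i.le x.2))
  set E : X.Opens := X.basicOpen h with hE
  have hEU : E ≤ U := X.basicOpen_le h
  have hED : E ≤ D := hDV.trans i.le
  set m'' : Γ(F, E) := F.presheaf.map (homOfLE hDV).op m' with hm''
  obtain ⟨k, m, hm⟩ := Groth.Agent.Lib.Helper22.exists_pow_smul_eq_map_of_isAffineOpen F hU h m''
  have hunit : IsUnit (X.presheaf.map (homOfLE hEU).op h) :=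
    RingedSpace.isUnit_res_basicOpen _ h
  obtain ⟨u, hu⟩ := hunit
  refine ⟨E, hxD, homOfLE hDV, (↑(u⁻¹ ^ k) : Γ(X, E)) • G.presheaf.map (homOfLE hED).op (α m),
    fun y => ?_⟩
  have hyU : y.1 ∈ U := hEU y.2
  have hyD : y.1 ∈ D := hED y.2
  have e1 : F.presheaf.germ V y.1 (hDV y.2) m' = F.presheaf.germ E y.1 y.2 m'' :=
    (TopCat.Presheaf.germ_res_apply F.presheaf (homOfLE hDV) y.1 y.2 m').symm
  have e2 : G.presheaf.germ E y.1 y.2 (G.presheaf.map (homOfLE hED).op (α m)) =
      G.presheaf.germ D y.1 hyD (α m) :=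
    TopCat.Presheaf.germ_res_apply G.presheaf (homOfLE hED) y.1 y.2 (α m)
  have e3 : F.presheaf.germ U y.1 hyU m = F.presheaf.germ E y.1 y.2
      (F.presheaf.map (homOfLE hEU).op m) :=
    (TopCat.Presheaf.germ_res_apply F.presheaf (homOfLE hEU) y.1 y.2 m).symm
  change semiLoc hU hDU α hα y.1 hyD (F.presheaf.germ V y.1 (hDV y.2) m') = _
  rw [e1, germ_smul, e2, ← semiLoc_germ hU hDU α hα y.1 hyD m, e3, hm, germ_smul, map_smul,
    smul_smul, ← map_mul, ← hu, ← Units.val_pow_eq_pow_val, ← Units.val_mul, ← mul_pow,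
    inv_mul_cancel, one_pow, Units.val_one, map_one, one_smul]

/-- The section of the sheaf Hom over `D` defined by a semilinear map `Γ(F, U) → Γ(G, D)`. -/
noncomputable def ofSemi : Γ(homSh F G, D) :=
  ⟨fun y => semiLoc hU hDU α hα y.1 y.2, isLocSect_semiLoc hU hDU α hα⟩

end SemiLoc

/-- Finitely many stalk elements are germs of sections over a common neighbourhood. -/
theorem exists_common_sections (G : X.Modules) (x : X) {n : ℕ} (v : Fin n → G.presheaf.stalk x) :
    ∃ (W : X.Opens) (hxW : x ∈ W) (t : Fin n → Γ(G, W)),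
      ∀ i, G.presheaf.germ W x hxW (t i) = v i := by
  choose Wi hWi ti hti using fun i => TopCat.Presheaf.exists_germ_eq G.presheaf (v i)
  have hx : x ∈ (⨅ i, Wi i : X.Opens) := by
    rw [← SetLike.mem_coe, Opens.coe_iInf]
    exact Set.mem_iInter.2 hWi
  refine ⟨⨅ i, Wi i, hx, fun i => G.presheaf.map (homOfLE (iInf_le Wi i)).op (ti i), fun i => ?_⟩
  rw [TopCat.Presheaf.germ_res_apply]
  exact hti i

/-- Finitely many sections with zero germ at `x` vanish on a common neighbourhood of `x`. -/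
theorem exists_common_vanish (G : X.Modules) (x : X) {W : X.Opens} (hxW : x ∈ W)
    (s : Finset Γ(G, W)) (hs : ∀ σ ∈ s, G.presheaf.germ W x hxW σ = 0) :
    ∃ (D : X.Opens) (hDW : D ≤ W), x ∈ D ∧ ∀ σ ∈ s, G.presheaf.map (homOfLE hDW).op σ = 0 := by
  have key : ∀ σ : s, ∃ (E : X.Opens) (hEW : E ≤ W), x ∈ E ∧
      G.presheaf.map (homOfLE hEW).op σ.1 = 0 := by
    intro σ
    have h0 : G.presheaf.germ W x hxW σ.1 = G.presheaf.germ W x hxW 0 := by
      rw [hs σ.1 σ.2, map_zero]
    obtain ⟨E, hxE, iU, iV, hE⟩ := TopCat.Presheaf.germ_eq G.presheaf x hxW hxW _ _ h0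
    refine ⟨E, iU.le, hxE, ?_⟩
    rw [map_zero] at hE
    exact hE
  choose E hEW hxE hE using key
  have hx2 : x ∈ (⨅ σ, E σ : X.Opens) := by
    rw [← SetLike.mem_coe, Opens.coe_iInf]
    exact Set.mem_iInter.2 hxE
  have hx : x ∈ (W ⊓ ⨅ σ, E σ : X.Opens) := ⟨hxW, hx2⟩
  refine ⟨W ⊓ ⨅ σ, E σ, inf_le_left, hx, fun σ hσ => ?_⟩
  have hle : (W ⊓ ⨅ σ, E σ : X.Opens) ≤ E ⟨σ, hσ⟩ := inf_le_right.trans (iInf_le E ⟨σ, hσ⟩)
  have e : (homOfLE (inf_le_left : (W ⊓ ⨅ σ, E σ : X.Opens) ≤ W)).op =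
      (homOfLE (hEW ⟨σ, hσ⟩)).op ≫ (homOfLE hle).op := rfl
  rw [e, Functor.map_comp, ConcreteCategory.comp_apply, hE ⟨σ, hσ⟩, map_zero]

/-- For `F` quasi-coherent with finitely presented sections on an affine neighbourhood `U` of `x`
and `G` ARBITRARY, the evaluation map `𝓗om(F, G)_x → Hom(F_x, G_x)` is surjective. -/
theorem evalStalk_surjective_of_finitePresentation' [F.IsQuasicoherent] (hU : IsAffineOpen U)
    [Module.FinitePresentation Γ(X, U) Γ(F, U)] (x : X) (hx : x ∈ U) :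
    Function.Surjective (evalStalk F G x) := by
  classical
  intro φ
  obtain ⟨n, f, hf⟩ := Module.Finite.exists_fin' Γ(X, U) Γ(F, U)
  have hK : (LinearMap.ker f).FG := Module.FinitePresentation.fg_ker f hf
  obtain ⟨s, hs⟩ := hK
  obtain ⟨W₀, hxW₀, t₀, ht₀⟩ := exists_common_sections G x
    (fun i => φ (F.presheaf.germ U x hx (f fun j => if i = j then 1 else 0)))
  set W : X.Opens := W₀ ⊓ U with hW
  have hWU : W ≤ U := inf_le_right
  have hxW : x ∈ W := ⟨hxW₀, hx⟩
  let t : Fin n → Γ(G, W) := fun i => G.presheaf.map (homOfLE inf_le_left).op (t₀ i)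
  have ht : ∀ i, G.presheaf.germ W x hxW (t i) =
      φ (F.presheaf.germ U x hx (f fun j => if i = j then 1 else 0)) := by
    intro i
    rw [TopCat.Presheaf.germ_res_apply]
    exact ht₀ i
  let ρ : (Fin n → Γ(X, U)) → Γ(G, W) :=
    fun r => ∑ i, X.presheaf.map (homOfLE hWU).op (r i) • t i
  have hkey : ∀ r, G.presheaf.germ W x hxW (ρ r) = φ (F.presheaf.germ U x hx (f r)) := by
    intro r
    rw [LinearMap.pi_apply_eq_sum_univ f r, map_sum, map_sum, map_sum]
    refine Finset.sum_congr rfl fun i _ => ?_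
    rw [germ_smul, germ_smul, map_smul, ht, TopCat.Presheaf.germ_res_apply]
  have hρ : ∀ σ ∈ s.image ρ, G.presheaf.germ W x hxW σ = 0 := by
    intro σ hσ
    obtain ⟨r, hr, rfl⟩ := Finset.mem_image.1 hσ
    have hr' : f r = 0 := by
      have : r ∈ LinearMap.ker f := by rw [← hs]; exact Submodule.subset_span hr
      exact this
    rw [hkey, hr', map_zero, map_zero]
  obtain ⟨D, hDW, hxD, hD⟩ := exists_common_vanish G x hxW (s.image ρ) hρ
  have hDU : D ≤ U := hDW.trans hWU
  letI : Module Γ(X, U) Γ(G, D) := Module.compHom Γ(G, D) (X.presheaf.map (homOfLE hDU).op).hom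
  let tD : Fin n → Γ(G, D) := fun i => G.presheaf.map (homOfLE hDW).op (t i)
  let β : (Fin n → Γ(X, U)) →ₗ[Γ(X, U)] Γ(G, D) := Fintype.linearCombination Γ(X, U) tD
  have hβ : ∀ r, β r = G.presheaf.map (homOfLE hDW).op (ρ r) := by
    intro r
    rw [Fintype.linearCombination_apply, map_sum]
    refine Finset.sum_congr rfl fun i _ => ?_
    have e : X.presheaf.map (homOfLE hDW).op (X.presheaf.map (homOfLE hWU).op (r i)) =
        X.presheaf.map (homOfLE hDU).op (r i) := by
      rw [← ConcreteCategory.comp_apply, ← Functor.map_comp]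
      rfl
    rw [G.map_smul, e]
    rfl
  have hker : LinearMap.ker f ≤ LinearMap.ker β := by
    rw [← hs, Submodule.span_le]
    intro r hr
    rw [SetLike.mem_coe, LinearMap.mem_ker, hβ]
    exact hD _ (Finset.mem_image_of_mem ρ hr)
  let α₀ : Γ(F, U) →ₗ[Γ(X, U)] Γ(G, D) :=
    ((LinearMap.ker f).liftQ β hker) ∘ₗ (f.quotKerEquivOfSurjective hf).symm.toLinearMap
  have hα₀ : ∀ r, α₀ (f r) = β r := by
    intro r
    change (LinearMap.ker f).liftQ β hker ((f.quotKerEquivOfSurjective hf).symm (f r)) = _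
    rw [LinearMap.quotKerEquivOfSurjective_symm_apply, Submodule.liftQ_apply]
  have hα : ∀ (a : Γ(X, U)) (m : Γ(F, U)),
      α₀.toAddMonoidHom (a • m) = X.presheaf.map (homOfLE hDU).op a • α₀.toAddMonoidHom m :=
    fun a m => map_smul α₀ a m
  refine ⟨(homSh F G).presheaf.germ D x hxD (ofSemi hU hDU α₀.toAddMonoidHom hα), ?_⟩
  rw [evalStalk_germ]
  have hgen : GenOn F U (fun m : Γ(F, U) => m) :=
    genOn_of_span_eq_top F hU _ (by rw [Set.range_id']; exact Submodule.span_univ)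
  apply LinearMap.ext_on_range (hgen x hx)
  intro m
  obtain ⟨r, rfl⟩ := hf m
  change semiLoc hU hDU α₀.toAddMonoidHom hα x hxD (F.presheaf.germ U x hx (f r)) = _
  rw [semiLoc_germ, ← hkey]
  change G.presheaf.germ D x hxD (α₀ (f r)) = _
  rw [hα₀, hβ, TopCat.Presheaf.germ_res_apply]

/-- **The stalk of the sheaf Hom**: for `F` of finite presentation and `G` arbitrary,
`𝓗om(F, G)_x → Hom(F_x, G_x)` is bijective. -/
theorem evalStalk_bijective' (F G : X.Modules) [F.IsFinitePresentation] (x : X) :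
    Function.Bijective (evalStalk F G x) := by
  refine ⟨evalStalk_injective F G x, ?_⟩
  obtain ⟨U, hU, hxU, hfp⟩ := exists_affineOpen_finitePresentation F x
  exact evalStalk_surjective_of_finitePresentation' hU x hxU

end Groth.Agent.Lib.QCoh.HomShStalk
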