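import Groth.Agent.Lib.QCoh.Helper18_IdealPow
import Groth.Agent.Lib.QCoh.Helper18_StalkQCoh
import Groth.Agent.Lib.QCoh.AffineOpen
import Mathlib.AlgebraicGeometry.IdealSheaf.Basic
import Mathlib.AlgebraicGeometry.Noetherian
import Mathlib.RingTheory.Support

/-!
# Finite type q-coh modules supported on `V(J)` are killed by a power of `J`, for `J` locally
finitely generated (helper18; non-Noetherian version of `Helper18_IdealPow`)

* `exists_pow_le_annihilator_of_support_subset_of_fg` : affine local statement.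
* `exists_pow_smul_eq_zero_of_support_subset_of_fg` : quasi-compact `X`.
-/

universe u

open CategoryTheory CategoryTheory.Limits AlgebraicGeometry Opposite TopologicalSpace
open Groth.Agent.Lib.Helper18

namespace Groth.Agent.Lib.QCoh

variable {X : Scheme.{u}}

theorem exists_pow_le_annihilator_of_support_subset_of_fg (F : X.Modules)
    [F.IsQuasicoherent] [F.IsFiniteType] (J : X.IdealSheafData)
    (hJ : ∀ V : X.affineOpens, (J.ideal V).FG)
    (h : CohB1.support F ⊆ (J.support : Set X)) (W : X.affineOpens) :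
    ∃ n : ℕ, J.ideal W ^ n ≤ Module.annihilator Γ(X, W.1) Γ(F, W.1) := by
  have hW : IsAffineOpen W.1 := W.2
  have hfin : Module.Finite Γ(X, W.1) Γ(F, W.1) := finite_Γ_of_isAffineOpen hW F
  apply Ideal.exists_pow_le_of_le_radical_of_fg _ (hJ W)
  rw [← PrimeSpectrum.zeroLocus_subset_zeroLocus_iff, ← Module.support_eq_zeroLocus]
  intro p hp
  have hxW := fromSpec_mem hW p
  have hpx : hW.primeIdealOf ⟨hW.fromSpec p, hxW⟩ = p := primeIdealOf_fromSpec hW p
  have hsupp : hW.fromSpec p ∈ CohB1.support F := by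
    rw [← mem_support_iff_primeIdealOf_mem_support F hW _ hxW, hpx]
    exact hp
  have hJ : hW.fromSpec p ∈ J.support := h hsupp
  rw [Scheme.IdealSheafData.mem_support_iff_of_mem (U := W) hxW, Scheme.mem_zeroLocus_iff] at hJ
  intro f hf
  by_contra hfp
  apply hJ f hf
  rw [← hpx] at hfp
  exact (notMem_primeIdealOf_iff hW _ hxW f).1 hfp

theorem exists_pow_smul_eq_zero_of_support_subset_of_fg [CompactSpace X] (F : X.Modules)
    [F.IsQuasicoherent] [F.IsFiniteType] (J : X.IdealSheafData)
    (hJ : ∀ V : X.affineOpens, (J.ideal V).FG)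
    (h : CohB1.support F ⊆ (J.support : Set X)) :
    ∃ n : ℕ, ∀ (U : X.affineOpens) (a : Γ(X, U.1)), a ∈ J.ideal U ^ n →
      ∀ s : Γ(F, U.1), a • s = 0 := by
  classical
  have hcomp : IsCompact ((⊤ : X.Opens) : Set X) := by
    rw [Opens.coe_top]; exact isCompact_univ
  obtain ⟨t, ht, hcov⟩ := isCompact_iff_finite_and_eq_biUnion_affineOpens.1 hcomp
  choose nW hnW using exists_pow_le_annihilator_of_support_subset_of_fg F J hJ h
  refine ⟨ht.toFinset.sup nW, ?_⟩
  intro U a ha s
  apply section_eq_zero_of_germ_eq_zero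
  intro x hxU
  have hx' : x ∈ (⨆ i ∈ t, (i : X.Opens) : X.Opens) := hcov ▸ (trivial : x ∈ (⊤ : X.Opens))
  simp only [Opens.mem_iSup] at hx'
  obtain ⟨W, hWt, hxW⟩ := hx'
  have hW : IsAffineOpen W.1 := W.2
  obtain ⟨V, hV0, hxV, hVUW⟩ := Opens.isBasis_iff_nbhd.1 (X.isBasis_affineOpens)
    (show x ∈ U.1 ⊓ W.1 from ⟨hxU, hxW⟩)
  let V' : X.affineOpens := ⟨V, hV0⟩
  have hVU : V' ≤ U := hVUW.trans inf_le_left
  have hVW : V' ≤ W := hVUW.trans inf_le_right
  set n := ht.toFinset.sup nW with hn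
  have hnle : nW W ≤ n := Finset.le_sup (f := nW) (ht.mem_toFinset.2 hWt)
  rw [germ_smul]
  -- the germ of `a` lies in the ideal generated by germs of `J(W)^n`
  have hgerm_a : X.presheaf.germ U.1 x hxU a ∈
      (J.ideal W ^ n).map (X.presheaf.germ W.1 x hxW).hom := by
    have h1 : X.presheaf.map (homOfLE hVU).op a ∈ J.ideal V' ^ n := by
      rw [← J.map_ideal hVU, ← Ideal.map_pow]
      exact Ideal.mem_map_of_mem _ ha
    rw [← J.map_ideal hVW, ← Ideal.map_pow] at h1
    have h2 := Ideal.mem_map_of_mem (X.presheaf.germ V x hxV).hom h1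
    rw [Ideal.map_map] at h2
    have e1 : (X.presheaf.germ V x hxV).hom.comp (X.presheaf.map (homOfLE hVW).op).hom =
        (X.presheaf.germ W.1 x hxW).hom := by
      rw [← CommRingCat.hom_comp]
      congr 1
      exact TopCat.Presheaf.germ_res X.presheaf (homOfLE hVW) x hxV
    rw [e1] at h2
    have e2 : (X.presheaf.germ V x hxV).hom (X.presheaf.map (homOfLE hVU).op a) =
        X.presheaf.germ U.1 x hxU a := TopCat.Presheaf.germ_res_apply _ _ _ _ _
    rw [← e2]
    exact h2
  -- every such germ kills the stalk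
  let _ := stalkModuleOfOpen F W.1 x hxW
  let _ : Algebra Γ(X, W.1) (X.presheaf.stalk x) :=
    TopCat.Presheaf.algebra_section_stalk X.presheaf ⟨x, hxW⟩
  have := hW.isLocalization_stalk ⟨x, hxW⟩
  have := isScalarTower_stalk F W.1 x hxW
  have := isLocalizedModule_germ F hW x hxW
  set z := F.presheaf.germ U.1 x hxU s with hz
  have hle : (J.ideal W ^ n).map (X.presheaf.germ W.1 x hxW).hom ≤
      WeakAss.ann (X.presheaf.stalk x) z := by
    rw [Ideal.map_le_iff_le_comap]
    intro b hb
    rw [Ideal.mem_comap, WeakAss.mem_ann]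
    obtain ⟨⟨m, u⟩, hmu⟩ := IsLocalizedModule.surj (hW.primeIdealOf ⟨x, hxW⟩).asIdeal.primeCompl
      (germₗ F W.1 x hxW) z
    have hmu' : X.presheaf.germ W.1 x hxW u.1 • z = F.presheaf.germ W.1 x hxW m := hmu
    have hu : IsUnit (X.presheaf.germ W.1 x hxW u.1) := by
      rw [← Scheme.mem_basicOpen _ _ x hxW]
      exact (notMem_primeIdealOf_iff hW x hxW u.1).1 u.2
    have hbm : b • m = 0 := by
      have hb' : b ∈ J.ideal W ^ nW W := Ideal.pow_le_pow_right hnle hb
      exact Module.mem_annihilator.1 (hnW W hb') m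
    apply hu.smul_left_cancel.1
    rw [smul_zero, smul_comm, hmu', ← germ_smul, hbm, map_zero]
  exact WeakAss.mem_ann.1 (hle hgerm_a)

end Groth.Agent.Lib.QCoh
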