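import Groth.Agent.Lib.QCoh.Helper18_RegStalk
import Groth.Agent.Lib.QCoh.Helper18_AssFlat
import Groth.Agent.Lib.QCoh.Helper18_AssGen
import Groth.Agent.Lib.QCoh.Affine
import Groth.Prelude.Def_MeroDiv
import Groth.Agent.Lib.QCoh.Helper18_Generic

/-!
# Torsion-free quasi-coherent modules and associated points (helper18; S5084)

Namespace `Groth.Agent.Lib.QCoh.MeroTF`.
-/

set_option autoImplicit false
universe u

open CategoryTheory CategoryTheory.Limits AlgebraicGeometry Opposite TopologicalSpace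
open Groth.Agent.Lib.Helper18 IsLocalRing

namespace Groth.Agent.Lib.QCoh.MeroTF

open Groth.Agent.Lib.QCoh

variable {X : Scheme.{u}}

/-- Stalkwise torsion-freeness with respect to germs of regular sections. -/
def IsRegTorsionFree (F : X.Modules) : Prop :=
  ∀ (x : X) (s : X.presheaf.stalk x), s ∈ Mero.regStalk X x →
    ∀ a : F.presheaf.stalk x, s • a = 0 → a = 0

theorem toMerFun_eq_zero_iff (F : X.Modules) (U : X.Opens) (m : Γ(F, U)) :
    Mero.toMerFun F U m = 0 ↔
      ∀ x : U, ∃ s ∈ Mero.regStalk X x.1, s • F.presheaf.germ U x.1 x.2 m = 0 := by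
  constructor
  · intro h x
    have h1 : (Mero.toMerFun F U m).1 x = 0 := by rw [h]; rfl
    rw [Mero.toMerFun_apply, ← LocalizedModule.zero_mk (1 : Mero.regStalk X x.1),
      LocalizedModule.mk_eq] at h1
    obtain ⟨u, hu⟩ := h1
    refine ⟨u.1, u.2, ?_⟩
    have hu' : u • F.presheaf.germ U x.1 x.2 m = 0 := by simpa using hu
    exact hu'
  · intro h
    apply Subtype.ext
    funext x
    obtain ⟨s, hs, hsm⟩ := h x
    change LocalizedModule.mk (F.presheaf.germ U x.1 x.2 m) 1 = 0
    rw [← LocalizedModule.zero_mk (1 : Mero.regStalk X x.1), LocalizedModule.mk_eq]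
    refine ⟨⟨s, hs⟩, ?_⟩
    have hsm' : (⟨s, hs⟩ : Mero.regStalk X x.1) • F.presheaf.germ U x.1 x.2 m = 0 := hsm
    simpa using hsm'

theorem mono_toMer_iff (F : X.Modules) : Mono (Mero.toMer F) ↔ IsRegTorsionFree F := by
  constructor
  · intro hmono x s hs a hsa
    obtain ⟨U, hxU, b, hb, rfl⟩ := hs
    obtain ⟨W, hxW, m, rfl⟩ := TopCat.Presheaf.exists_germ_eq F.presheaf a
    -- restrict to U ⊓ W
    set V : X.Opens := U ⊓ W with hV
    have hxV : x ∈ V := ⟨hxU, hxW⟩
    set b' : Γ(X, V) := X.presheaf.map (homOfLE (inf_le_left : U ⊓ W ≤ U)).op b with hb'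
    set m' : Γ(F, V) := F.presheaf.map (homOfLE (inf_le_right : U ⊓ W ≤ W)).op m with hm'
    have hb'reg : b' ∈ Mero.regSub X V := Mero.regSub_res _ hb
    have hgb : X.presheaf.germ V x hxV b' = X.presheaf.germ U x hxU b :=
      TopCat.Presheaf.germ_res_apply X.presheaf _ x hxV b
    have hgm : F.presheaf.germ V x hxV m' = F.presheaf.germ W x hxW m :=
      TopCat.Presheaf.germ_res_apply F.presheaf _ x hxV m
    have h0 : F.presheaf.germ V x hxV (b' • m') = 0 := by
      rw [germ_smul, hgb, hgm]; exact hsa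
    have h0' : F.presheaf.germ V x hxV (b' • m') = F.presheaf.germ V x hxV 0 := by
      rw [h0, map_zero]
    obtain ⟨V', hxV', i1, i2, hres⟩ := TopCat.Presheaf.germ_eq F.presheaf x hxV hxV _ _ h0'
    have hres' : F.presheaf.map i1.op (b' • m') = 0 := by
      rw [hres, map_zero]
    set m'' : Γ(F, V') := F.presheaf.map i1.op m' with hm''
    have hmer : Mero.toMerFun F V' m'' = 0 := by
      rw [toMerFun_eq_zero_iff]
      intro y
      refine ⟨X.presheaf.germ V' y.1 y.2 (X.presheaf.map i1.op b'),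
        Mero.germ_mem_regStalk y (Mero.regSub_res i1 hb'reg), ?_⟩
      rw [← germ_smul]
      have : X.presheaf.map i1.op b' • m'' = F.presheaf.map i1.op (b' • m') :=
        (F.map_smul i1 b' m').symm
      rw [this, hres', map_zero]
    have hinj := app_injective_of_mono (Mero.toMer F) V'
    have hm''0 : m'' = 0 := by
      apply hinj
      change Mero.toMerFun F V' m'' = Mero.toMerFun F V' 0
      rw [hmer, map_zero]
    rw [← hgm, ← TopCat.Presheaf.germ_res_apply F.presheaf i1 x hxV' m', ← hm'', hm''0, map_zero]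
  · intro h
    apply mono_of_app_injective
    intro U
    change Function.Injective (Mero.toMerFun F U)
    rw [injective_iff_map_eq_zero]
    intro m hm
    apply section_eq_zero_of_germ_eq_zero
    intro x hx
    obtain ⟨s, hs, hsm⟩ := (toMerFun_eq_zero_iff F U m).1 hm ⟨x, hx⟩
    exact h x s hs _ hsm

/-- **Torsion-free iff all associated points are associated points of `O_X`** (S5084). -/
theorem mono_toMer_iff_ass [IsLocallyNoetherian X] (F : X.Modules) [F.IsQuasicoherent] :
    Mono (Mero.toMer F) ↔ ∀ x : X, Curv2.IsAssPoint F x →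
      IsAssociatedPrime (maximalIdeal (X.presheaf.stalk x)) (X.presheaf.stalk x) := by
  rw [mono_toMer_iff]
  constructor
  · intro h x hx
    obtain ⟨_, a, ha⟩ := hx
    have hne : ∀ t ∈ maximalIdeal (X.presheaf.stalk x),
        ¬ IsSMulRegular (X.presheaf.stalk x) t := by
      intro t ht hreg
      have htnzd : t ∈ nonZeroDivisors (X.presheaf.stalk x) := by
        rw [mem_nonZeroDivisors_iff_right]
        intro c hc
        apply hreg
        change t * c = t * 0
        rw [mul_comm, hc, mul_zero]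
      rw [← regStalk_eq_nonZeroDivisors_of_isLocallyNoetherian] at htnzd
      rw [ha] at ht
      obtain ⟨k, hk⟩ := ht
      rw [Submodule.mem_colon_singleton, Submodule.mem_bot] at hk
      have ha0 : a = 0 := h x (t ^ k) (pow_mem htnzd k) a hk
      have htop : (Submodule.colon (⊥ : Submodule (X.presheaf.stalk x) (F.presheaf.stalk x)) {a})
          = ⊤ := by
        rw [ha0]
        ext r
        simp [Submodule.mem_colon_singleton]
      rw [htop, Ideal.radical_top] at ha
      exact (IsLocalRing.maximalIdeal.isMaximal _).ne_top ha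
    obtain ⟨q, hq, hle⟩ := Groth.Agent.Lib.Helper29.CMLib.exists_mem_ass_ge
      (X.presheaf.stalk x) (X.presheaf.stalk x) (maximalIdeal (X.presheaf.stalk x)) hne
    have hqp : q.IsPrime := IsAssociatedPrime.isPrime hq
    have : maximalIdeal (X.presheaf.stalk x) = q :=
      (IsLocalRing.maximalIdeal.isMaximal _).eq_of_le hqp.ne_top hle
    rw [this]
    exact hq
  · intro hass x s hs a hsa
    by_contra ha
    obtain ⟨U, hxU, b, hb, rfl⟩ := hs
    obtain ⟨W, hxW, m0, rfl⟩ := TopCat.Presheaf.exists_germ_eq F.presheaf a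
    obtain ⟨V, hV0, hxV, hVUW⟩ := Opens.isBasis_iff_nbhd.1 (X.isBasis_affineOpens)
      (show x ∈ U ⊓ W from ⟨hxU, hxW⟩)
    have hV : IsAffineOpen V := hV0
    set b' : Γ(X, V) := X.presheaf.map (homOfLE (hVUW.trans inf_le_left)).op b with hb'
    set m : Γ(F, V) := F.presheaf.map (homOfLE (hVUW.trans inf_le_right)).op m0 with hm
    have hb'reg : b' ∈ Mero.regSub X V := Mero.regSub_res _ hb
    have hgb : X.presheaf.germ V x hxV b' = X.presheaf.germ U x hxU b :=
      TopCat.Presheaf.germ_res_apply X.presheaf _ x hxV b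
    have hgm : F.presheaf.germ V x hxV m = F.presheaf.germ W x hxW m0 :=
      TopCat.Presheaf.germ_res_apply F.presheaf _ x hxV m0
    have h0 : F.presheaf.germ V x hxV (b' • m) = 0 := by
      rw [germ_smul, hgb, hgm]; exact hsa
    obtain ⟨h, hhp, hh⟩ := (germ_eq_zero_iff_of_isAffineOpen F hV x hxV (b' • m)).1 h0
    have hann : WeakAss.ann Γ(X, V) m ≤ (hV.primeIdealOf ⟨x, hxV⟩).asIdeal := by
      intro r hr
      by_contra hrp
      apply ha
      rw [← hgm, germ_eq_zero_iff_of_isAffineOpen F hV x hxV m]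
      exact ⟨r, hrp, WeakAss.mem_ann.1 hr⟩
    obtain ⟨q, hqmin, hqle⟩ := Ideal.exists_minimalPrimes_le hann
    have hqp : q.IsPrime := hqmin.1.1
    let Q : PrimeSpectrum Γ(X, V) := ⟨q, hqp⟩
    have hyV : hV.fromSpec Q ∈ V := fromSpec_mem hV Q
    have hpy : hV.primeIdealOf ⟨hV.fromSpec Q, hyV⟩ = Q := primeIdealOf_fromSpec hV Q
    have hweak : Curv2.IsWeakAssPoint F (hV.fromSpec Q) := by
      rw [isWeakAssPoint_iff_of_isAffineOpen F hV _ hyV]
      exact ⟨m, by rw [hpy]; exact hqmin⟩
    obtain ⟨_, c, hc⟩ := hass _ ((isAssPoint_iff_isWeakAssPoint F _).2 hweak)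
    have hhb : h * b' ∈ q := by
      apply hqmin.1.2
      rw [WeakAss.mem_ann, mul_smul]
      exact hh
    have hhq : h ∉ q := fun hq' => hhp (hqle hq')
    have hb'q : b' ∈ q := (hqp.mem_or_mem hhb).resolve_left hhq
    have hgerm_nzd : X.presheaf.germ V (hV.fromSpec Q) hyV b' ∈
        nonZeroDivisors (X.presheaf.stalk (hV.fromSpec Q)) := hb'reg ⟨_, hyV⟩
    have hunit := isUnit_of_mem_nonZeroDivisors_of_radical_ann c
      (by rw [WeakAss.ann_eq_colon, ← hc]) _ hgerm_nzd
    have hnot : b' ∉ (hV.primeIdealOf ⟨hV.fromSpec Q, hyV⟩).asIdeal := by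
      rw [notMem_primeIdealOf_iff hV _ hyV, Scheme.mem_basicOpen _ _ _ hyV]
      exact hunit
    apply hnot
    rw [hpy]
    exact hb'q

end Groth.Agent.Lib.QCoh.MeroTF
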