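import Groth.Agent.Lib.QCoh.Helper18_PullbackStalk
import Mathlib.RingTheory.Flat.FaithfullyFlat.Algebra
import Mathlib.RingTheory.RingHom.Flat
import Mathlib.AlgebraicGeometry.Stalk
import Mathlib.AlgebraicGeometry.Morphisms.Preimmersion

/-!
# QCoh API (helper18): weakly associated points of a flat pullback

Namespace `Groth.Agent.Lib.QCoh`.

* `maximalIdeal_le_radical_map_of_generic` : if no point of the fibre through `x` other than `x`
  specializes to `x`, then `𝔪_x ≤ rad (𝔪_{f x} O_{X,x})`.
* `isWeakAssPoint_pullback_of_flat` : `f` flat at `x`, `x` generic in its fibre, `f x` weakly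
  associated to the quasi-coherent `G` ⇒ `x` weakly associated to `f^* G`.
-/

universe u

open CategoryTheory CategoryTheory.Limits AlgebraicGeometry Opposite TopologicalSpace TensorProduct
open Groth.Agent.Lib.Helper18 IsLocalRing

namespace Groth.Agent.Lib.QCoh

variable {X S : Scheme.{u}} (f : X ⟶ S)

theorem maximalIdeal_le_radical_map_of_generic (x : X)
    (hgen : ∀ y : X, f y = f x → y ⤳ x → y = x) :
    maximalIdeal (X.presheaf.stalk x) ≤
      ((maximalIdeal (S.presheaf.stalk (f x))).map (f.stalkMap x).hom).radical := by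
  rw [Ideal.radical_eq_sInf]
  refine le_sInf ?_
  rintro Q ⟨hQle, hQ⟩
  set Qp : Spec (X.presheaf.stalk x) := (⟨Q, hQ⟩ : PrimeSpectrum (X.presheaf.stalk x)) with hQp
  set y := X.fromSpecStalk x Qp with hy
  have hyx : y ⤳ x := by
    have : y ∈ Set.range (X.fromSpecStalk x) := ⟨Qp, rfl⟩
    rwa [Scheme.range_fromSpecStalk] at this
  have hcomap : Spec.map (f.stalkMap x) Qp = closedPoint (S.presheaf.stalk (f x)) := by
    apply PrimeSpectrum.ext
    change Q.comap (f.stalkMap x).hom = maximalIdeal _
    have hle : maximalIdeal (S.presheaf.stalk (f x)) ≤ Q.comap (f.stalkMap x).hom :=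
      Ideal.map_le_iff_le_comap.1 hQle
    exact ((maximalIdeal.isMaximal _).eq_of_le (hQ.comap _).ne_top hle).symm
  have hfy : f y = f x := by
    have h1 : (X.fromSpecStalk x ≫ f) Qp = (Spec.map (f.stalkMap x) ≫ S.fromSpecStalk (f x)) Qp := by
      rw [Scheme.SpecMap_stalkMap_fromSpecStalk]
    rw [Scheme.Hom.comp_apply, Scheme.Hom.comp_apply, hcomap] at h1
    rw [h1]
    exact Scheme.fromSpecStalk_closedPoint
  have hyeq : y = x := hgen y hfy hyx
  have : Qp = closedPoint (X.presheaf.stalk x) := by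
    apply (X.fromSpecStalk x).isEmbedding.injective
    rw [Scheme.fromSpecStalk_closedPoint]
    exact hyeq
  have hQ' : Q = maximalIdeal (X.presheaf.stalk x) := congrArg PrimeSpectrum.asIdeal this
  rw [hQ']

theorem isWeakAssPoint_pullback_of_flat (G : S.Modules) [G.IsQuasicoherent] (x : X)
    (hfl : (f.stalkMap x).hom.Flat) (hgen : ∀ y : X, f y = f x → y ⤳ x → y = x)
    (hs : Curv2.IsWeakAssPoint G (f x)) :
    Curv2.IsWeakAssPoint ((Scheme.Modules.pullback f).obj G) x := by
  let _ : Algebra (S.presheaf.stalk (f x)) (X.presheaf.stalk x) := (f.stalkMap x).hom.toAlgebra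
  obtain ⟨e⟩ := nonempty_stalk_pullback_linearEquiv f G x
  have hflat : Module.Flat (S.presheaf.stalk (f x)) (X.presheaf.stalk x) := hfl
  have hloc : IsLocalHom (algebraMap (S.presheaf.stalk (f x)) (X.presheaf.stalk x)) := by
    change IsLocalHom (f.stalkMap x).hom
    infer_instance
  have hff : Module.FaithfullyFlat (S.presheaf.stalk (f x)) (X.presheaf.stalk x) :=
    Module.FaithfullyFlat.of_flat_of_isLocalHom
  obtain ⟨m, hm⟩ := hs
  have hm0 : m ≠ 0 := by
    rintro rfl
    have : LinearMap.ker (LinearMap.toSpanSingleton (S.presheaf.stalk (f x))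
        (G.presheaf.stalk (f x)) 0) = ⊤ := by
      ext r; simp
    rw [this, Ideal.radical_top] at hm
    exact (maximalIdeal.isMaximal _).ne_top hm.symm
  set t : (X.presheaf.stalk x) ⊗[S.presheaf.stalk (f x)] (G.presheaf.stalk (f x)) :=
    (1 : X.presheaf.stalk x) ⊗ₜ m with ht
  have ht0 : t ≠ 0 := by
    rw [ht, Ne, Module.FaithfullyFlat.one_tmul_eq_zero_iff]
    exact hm0
  refine ⟨e.symm t, ?_⟩
  have hann : LinearMap.ker (LinearMap.toSpanSingleton (X.presheaf.stalk x) _ (e.symm t)) =
      WeakAss.ann (X.presheaf.stalk x) t := by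
    ext r
    rw [WeakAss.mem_ann, LinearMap.mem_ker, LinearMap.toSpanSingleton_apply, ← map_smul]
    exact e.symm.map_eq_zero_iff
  rw [hann]
  apply le_antisymm
  · exact (maximalIdeal.isMaximal _).isPrime.radical_le_iff.2
      (IsLocalRing.le_maximalIdeal (WeakAss.ann_ne_top ht0))
  · refine (maximalIdeal_le_radical_map_of_generic f x hgen).trans ?_
    rw [← hm]
    refine (Ideal.radical_mono (Ideal.map_radical_le _)).trans ?_
    rw [Ideal.radical_idem]
    apply Ideal.radical_mono
    rw [Ideal.map_le_iff_le_comap]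
    intro r hr
    rw [Ideal.mem_comap, WeakAss.mem_ann, ht]
    change (algebraMap _ _ r) • ((1 : X.presheaf.stalk x) ⊗ₜ[S.presheaf.stalk (f x)] m) = 0
    have : r • m = 0 := by simpa using hr
    rw [TensorProduct.smul_tmul', algebraMap_smul, TensorProduct.smul_tmul, this,
      TensorProduct.tmul_zero]

end Groth.Agent.Lib.QCoh
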