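import Groth.Agent.Lib.QCoh.Helper18_ZClosStalk
import Groth.Agent.Lib.QCoh.Helper18_HartogsInv
import Groth.Agent.Lib.QCoh.Affine

/-!
# Z-pure and Z-closed modules: first characterizations (helper18)

Namespace `Groth.Agent.Lib.QCoh.ZClosLib`.

* `isZClosedAt_of_notMem` (S5849)
* `isZPure_iff_forall_mono` (S5842), `isZPure_iff_forall_injective`, `isZPure_iff_forall_isCompact`
  (S5844)
* `isZClosed_iff_forall_isIso` (S5843), `isZClosed_iff_forall_bijective`,
  `isZClosed_iff_forall_isCompact` (S5845)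
-/

set_option autoImplicit false
universe u

open CategoryTheory CategoryTheory.Limits AlgebraicGeometry Opposite TopologicalSpace

namespace Groth.Agent.Lib.QCoh.ZClosLib

open ZClos Groth.Agent.Lib.QCoh Groth.Agent.Lib.QCoh.Hartogs

variable {X : Scheme.{u}} (Z : Set X) (F : X.Modules)

section Conv

variable (U V : X.Opens)

lemma injective_map_iff :
    Function.Injective (F.presheaf.map (homOfLE (U.ι.image_preimage_le V)).op) ↔
      Function.Injective (F.presheaf.map (homOfLE (inf_le_left : V ⊓ U ≤ V)).op) := by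
  have key : ∀ (O : X.Opens) (_ : O = V ⊓ U) (i : O ⟶ V),
      Function.Injective (F.presheaf.map i.op) ↔
        Function.Injective (F.presheaf.map (homOfLE (inf_le_left : V ⊓ U ≤ V)).op) := by
    rintro O rfl i
    have : i = homOfLE inf_le_left := Subsingleton.elim _ _
    rw [this]
  exact key _ (inf_eq U V).symm _

lemma bijective_map_iff :
    Function.Bijective (F.presheaf.map (homOfLE (U.ι.image_preimage_le V)).op) ↔
      Function.Bijective (F.presheaf.map (homOfLE (inf_le_left : V ⊓ U ≤ V)).op) := by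
  have key : ∀ (O : X.Opens) (_ : O = V ⊓ U) (i : O ⟶ V),
      Function.Bijective (F.presheaf.map i.op) ↔
        Function.Bijective (F.presheaf.map (homOfLE (inf_le_left : V ⊓ U ≤ V)).op) := by
    rintro O rfl i
    have : i = homOfLE inf_le_left := Subsingleton.elim _ _
    rw [this]
  exact key _ (inf_eq U V).symm _

end Conv

/-- The unit `F ⟶ j_*(F|_U)` is a monomorphism iff all restrictions `Γ(F,V) → Γ(F,V ∩ U)` are
injective. -/
theorem mono_resPushUnit_iff (U : X.Opens) :
    Mono (show F ⟶ (resPush U).obj F from (resPushUnit U).app F) ↔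
      ∀ V : X.Opens,
        Function.Injective (F.presheaf.map (homOfLE (inf_le_left : V ⊓ U ≤ V)).op) := by
  constructor
  · intro h V
    rw [← injective_map_iff]
    exact app_injective_of_mono (show F ⟶ (resPush U).obj F from (resPushUnit U).app F) V
  · intro h
    apply mono_of_app_injective
    intro V
    exact (injective_map_iff F U V).2 (h V)

/-- The unit `F ⟶ j_*(F|_U)` is an isomorphism iff all restrictions `Γ(F,V) → Γ(F,V ∩ U)` are
bijective. -/
theorem isIso_resPushUnit_iff (U : X.Opens) :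
    IsIso (show F ⟶ (resPush U).obj F from (resPushUnit U).app F) ↔
      ∀ V : X.Opens,
        Function.Bijective (F.presheaf.map (homOfLE (inf_le_left : V ⊓ U ≤ V)).op) := by
  constructor
  · intro h V
    rw [← bijective_map_iff]
    have h1 := (Scheme.Modules.Hom.isIso_iff_isIso_app
      (φ := show F ⟶ (resPush U).obj F from (resPushUnit U).app F)).1 h V
    exact (ConcreteCategory.isIso_iff_bijective _).1 h1
  · intro h
    exact isIso_unit_of_forall_bijective F U fun V _ => h V


section Pointwise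

variable (x : X)

/-- If all the units are monomorphisms, `ρ` is injective on the stalk at `x`. -/
lemma injective_rhoStalk_of_forall_mono (h : ∀ T : Cl Z, Mono (toDiagram Z F T)) :
    Function.Injective (rhoStalk Z F x) := by
  rw [injective_iff_map_eq_zero]
  intro a ha
  obtain ⟨V, hxV, s, rfl⟩ := TopCat.Presheaf.exists_germ_eq F.presheaf a
  rw [rhoStalk_germ Z F x ⊥ V hxV s, ← germH0_zero Z F x ⊥ V hxV] at ha
  obtain ⟨T'', hT, hT', W, hxW, hWV, hWV', hW⟩ := exists_of_germH0_eq Z F x hxV hxV _ _ ha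
  have hinj := (mono_resPushUnit_iff F T''.U).1 (h T'') W
  have e := TopCat.Presheaf.germ_res_apply F.presheaf (homOfLE hWV) x hxW s
  rw [← e]
  have h0 : F.presheaf.map (homOfLE hWV).op s = 0 := by
    apply hinj
    rw [map_zero]
    rw [Glue74.res_res] at hW
    have h1 := hW.trans (map_zero _)
    rw [← h1]
    exact Glue74.res_res F _ _ s
  rw [h0, map_zero]

/-- **S5849**: outside `Z`, the map `ρ_{X/Z}` is bijective on stalks. -/
theorem isZClosedAt_of_notMem (hx : x ∉ Z) : IsZClosedAt Z F x := by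
  have hxT : ∀ T : Cl Z, x ∈ T.U := fun T hT => hx (T.2 hT)
  constructor
  · rw [injective_iff_map_eq_zero]
    intro a ha
    obtain ⟨V, hxV, s, rfl⟩ := TopCat.Presheaf.exists_germ_eq F.presheaf a
    rw [rhoStalk_germ Z F x ⊥ V hxV s, ← germH0_zero Z F x ⊥ V hxV] at ha
    obtain ⟨T'', hT, hT', W, hxW, hWV, hWV', hW⟩ := exists_of_germH0_eq Z F x hxV hxV _ _ ha
    have hx' : x ∈ W ⊓ T''.U := ⟨hxW, hxT T''⟩
    have e := TopCat.Presheaf.germ_res_apply F.presheaf
      (homOfLE ((inf_le_left : W ⊓ T''.U ≤ W).trans hWV)) x hx' s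
    rw [← e]
    have h0 : F.presheaf.map (homOfLE ((inf_le_left : W ⊓ T''.U ≤ W).trans hWV)).op s = 0 := by
      rw [Glue74.res_res] at hW
      exact hW.trans (map_zero _)
    rw [h0, map_zero]
  · intro g
    obtain ⟨T, V, hxV, -, s, rfl⟩ := exists_germH0_eq Z F x g ⊤ trivial
    have hx' : x ∈ V ⊓ T.U := ⟨hxV, hxT T⟩
    refine ⟨F.presheaf.germ (V ⊓ T.U) x hx' s, ?_⟩
    rw [rhoStalk_germ Z F x T (V ⊓ T.U) hx' s]
    exact (germH0_res Z F x le_rfl hxV hx' inf_le_left s).symm

end Pointwise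

/-- **S5842**. -/
theorem isZPure_iff_forall_mono : IsZPure Z F ↔ ∀ T : Cl Z, Mono (toDiagram Z F T) := by
  constructor
  · intro h T
    have h' : Mono ((show F ⟶ (resPush T.U).obj F from (resPushUnit T.U).app F) ≫ ιH0 Z F T) := by
      rw [toDiagram_ιH0]
      exact h
    exact @mono_of_mono _ _ _ _ _ _ (ιH0 Z F T) h'
  · intro h
    apply mono_of_forall_stalkMap_injective
    intro x
    exact injective_rhoStalk_of_forall_mono Z F x h

theorem isZPure_iff_forall_injective :
    IsZPure Z F ↔ ∀ (T : Cl Z) (V : X.Opens),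
      Function.Injective (F.presheaf.map (homOfLE (inf_le_left : V ⊓ T.U ≤ V)).op) := by
  rw [isZPure_iff_forall_mono]
  exact forall_congr' fun T => mono_resPushUnit_iff F T.U

lemma exists_isCompact_basis (V : X.Opens) (x : X) (hx : x ∈ V) :
    ∃ W : X.Opens, IsCompact (W : Set X) ∧ x ∈ W ∧ W ≤ V := by
  obtain ⟨W, hW0, hxW, hWV⟩ := Opens.isBasis_iff_nbhd.1 (X.isBasis_affineOpens) hx
  have hW : IsAffineOpen W := hW0
  exact ⟨W, hW.isCompact, hxW, hWV⟩

/-- **S5844**. -/
theorem isZPure_iff_forall_isCompact :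
    IsZPure Z F ↔ ∀ (T : Cl Z) (V : X.Opens), IsCompact (V : Set X) →
      Function.Injective (F.presheaf.map (homOfLE (inf_le_left : V ⊓ T.U ≤ V)).op) := by
  rw [isZPure_iff_forall_injective]
  constructor
  · intro h T V _
    exact h T V
  · intro h T V
    exact injective_res_inf_of_forall_good F T.U (fun V => IsCompact (V : Set X))
      exists_isCompact_basis (h T) V


section LocalSurj

/-- If all restrictions `Γ(F,V) → Γ(F,V ∩ U)` are injective, surjectivity can be checked locally. -/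
lemma exists_res_inf_eq_of_locally (U : X.Opens)
    (hinj : ∀ V : X.Opens,
      Function.Injective (F.presheaf.map (homOfLE (inf_le_left : V ⊓ U ≤ V)).op))
    (V : X.Opens) (t : Γ(F, V ⊓ U))
    (hloc : ∀ x : X, x ∈ V → ∃ (W : X.Opens) (hWV : W ≤ V), x ∈ W ∧ ∃ s : Γ(F, W),
      Glue74.res F inf_le_left s = Glue74.res F (inf_le_inf_right U hWV) t) :
    ∃ s : Γ(F, V), Glue74.res F inf_le_left s = t := by
  choose W hWV hxW s hs using (fun x : V => hloc x.1 x.2)
  have hcover : V ≤ iSup W := by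
    intro y hy
    exact Opens.mem_iSup.2 ⟨⟨y, hy⟩, hxW ⟨y, hy⟩⟩
  obtain ⟨g, hg⟩ := exists_gluing_of_cover F W V hWV hcover s (by
    intro i j
    apply hinj (W i ⊓ W j)
    change Glue74.res F _ (Glue74.res F _ (s i)) = Glue74.res F _ (Glue74.res F _ (s j))
    rw [Glue74.res_res, Glue74.res_res]
    have e1 : Glue74.res F
        ((inf_le_left : (W i ⊓ W j) ⊓ U ≤ W i ⊓ W j).trans inf_le_left) (s i) =
        Glue74.res F (inf_le_inf_right U inf_le_left : (W i ⊓ W j) ⊓ U ≤ W i ⊓ U)
          (Glue74.res F inf_le_left (s i)) := (Glue74.res_res F _ _ _).symm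
    have e2 : Glue74.res F
        ((inf_le_left : (W i ⊓ W j) ⊓ U ≤ W i ⊓ W j).trans inf_le_right) (s j) =
        Glue74.res F (inf_le_inf_right U inf_le_right : (W i ⊓ W j) ⊓ U ≤ W j ⊓ U)
          (Glue74.res F inf_le_left (s j)) := (Glue74.res_res F _ _ _).symm
    rw [e1, e2, hs i, hs j, Glue74.res_res, Glue74.res_res])
  refine ⟨g, ?_⟩
  refine sections_ext_of_cover F (fun x : V => W x ⊓ U) (V ⊓ U)
    (fun x => inf_le_inf_right U (hWV x)) ?_ _ _ fun x => ?_
  · rintro y ⟨hyV, hyU⟩
    exact Opens.mem_iSup.2 ⟨⟨y, hyV⟩, ⟨hxW ⟨y, hyV⟩, hyU⟩⟩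
  · change Glue74.res F _ (Glue74.res F _ g) = Glue74.res F _ t
    rw [Glue74.res_res]
    have e3 : Glue74.res F
        ((inf_le_inf_right U (hWV x) : W x ⊓ U ≤ V ⊓ U).trans inf_le_left) g =
        Glue74.res F inf_le_left (Glue74.res F (hWV x) g) := (Glue74.res_res F _ _ _).symm
    rw [e3]
    change Glue74.res F inf_le_left (F.presheaf.map (homOfLE (hWV x)).op g) = _
    rw [hg x, hs x]

end LocalSurj

section Closed

lemma surjective_rhoStalk_of_forall_isIso (x : X) (h : ∀ T : Cl Z, IsIso (toDiagram Z F T)) :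
    Function.Surjective (rhoStalk Z F x) := by
  intro g
  obtain ⟨T, V, hxV, -, s, rfl⟩ := exists_germH0_eq Z F x g ⊤ trivial
  obtain ⟨s', rfl⟩ := ((isIso_resPushUnit_iff F T.U).1 (h T) V).2 s
  exact ⟨F.presheaf.germ V x hxV s', rhoStalk_germ Z F x T V hxV s'⟩

/-- **S5843**. -/
theorem isZClosed_iff_forall_isIso : IsZClosed Z F ↔ ∀ T : Cl Z, IsIso (toDiagram Z F T) := by
  constructor
  · intro h T
    have hiso : IsIso (rhoApp Z F) := h
    have hpure : IsZPure Z F := by
      unfold IsZPure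
      infer_instance
    have hinj := (isZPure_iff_forall_injective Z F).1 hpure
    refine (isIso_resPushUnit_iff F T.U).2 fun V => ⟨hinj T V, fun t => ?_⟩
    refine exists_res_inf_eq_of_locally F T.U (hinj T) V t fun x hxV => ?_
    obtain ⟨a, ha⟩ := (stalkMap_bijective_of_isIso (rhoApp Z F) x).2 (germH0 Z F x T V hxV t)
    obtain ⟨V₁, hxV₁, s₁, rfl⟩ := TopCat.Presheaf.exists_germ_eq F.presheaf a
    have ha' : rhoStalk Z F x (F.presheaf.germ V₁ x hxV₁ s₁) = germH0 Z F x T V hxV t := ha
    rw [rhoStalk_germ Z F x T V₁ hxV₁ s₁] at ha'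
    obtain ⟨T'', hT, hT', W, hxW, hWV₁, hWV, hW⟩ := exists_of_germH0_eq Z F x hxV₁ hxV _ _ ha'
    refine ⟨W, hWV, hxW, Glue74.res F hWV₁ s₁, ?_⟩
    apply hinj T'' (W ⊓ T.U)
    change Glue74.res F _ (Glue74.res F _ (Glue74.res F _ s₁)) =
      Glue74.res F _ (Glue74.res F _ t)
    rw [Glue74.res_res, Glue74.res_res, Glue74.res_res]
    rw [Glue74.res_res] at hW
    have e1 : Glue74.res F (((inf_le_left : (W ⊓ T.U) ⊓ T''.U ≤ W ⊓ T.U).trans
        inf_le_left).trans hWV₁) s₁ =
        Glue74.res F (inf_le_inf_right T''.U inf_le_left : (W ⊓ T.U) ⊓ T''.U ≤ W ⊓ T''.U)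
          (Glue74.res F ((inf_le_inf hWV₁ (Cl.U_anti hT)).trans inf_le_left) s₁) :=
      (Glue74.res_res F _ _ _).symm
    have e2 : Glue74.res F ((inf_le_left : (W ⊓ T.U) ⊓ T''.U ≤ W ⊓ T.U).trans
        (inf_le_inf_right T.U hWV)) t =
        Glue74.res F (inf_le_inf_right T''.U inf_le_left : (W ⊓ T.U) ⊓ T''.U ≤ W ⊓ T''.U)
          (Glue74.res F (inf_le_inf hWV (Cl.U_anti hT')) t) :=
      (Glue74.res_res F _ _ _).symm
    rw [e1, e2, hW]
  · intro h
    apply isIso_of_forall_stalkMap_bijective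
    intro x
    exact ⟨injective_rhoStalk_of_forall_mono Z F x fun T => by
      have := h T
      infer_instance, surjective_rhoStalk_of_forall_isIso Z F x h⟩

theorem isZClosed_iff_forall_bijective :
    IsZClosed Z F ↔ ∀ (T : Cl Z) (V : X.Opens),
      Function.Bijective (F.presheaf.map (homOfLE (inf_le_left : V ⊓ T.U ≤ V)).op) := by
  rw [isZClosed_iff_forall_isIso]
  exact forall_congr' fun T => isIso_resPushUnit_iff F T.U

/-- **S5845**. -/
theorem isZClosed_iff_forall_isCompact :
    IsZClosed Z F ↔ ∀ (T : Cl Z) (V : X.Opens), IsCompact (V : Set X) →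
      Function.Bijective (F.presheaf.map (homOfLE (inf_le_left : V ⊓ T.U ≤ V)).op) := by
  rw [isZClosed_iff_forall_bijective]
  constructor
  · intro h T V _
    exact h T V
  · intro h T V
    exact bijective_res_inf_of_forall_good F T.U (fun V => IsCompact (V : Set X))
      exists_isCompact_basis (h T) V

lemma isZPure_of_isZClosed (h : IsZClosed Z F) : IsZPure Z F := by
  have hiso : IsIso (rhoApp Z F) := h
  unfold IsZPure
  infer_instance

end Closed

section Subset

/-- **S5848**, pure part. -/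
theorem isZPure_of_subset {Z Z' : Set X} (h : Z' ⊆ Z) (hF : IsZPure Z F) : IsZPure Z' F := by
  rw [isZPure_iff_forall_injective] at hF ⊢
  intro T V
  exact hF ⟨T.1, T.2.trans h⟩ V

/-- **S5848**, closed part. -/
theorem isZClosed_of_subset {Z Z' : Set X} (h : Z' ⊆ Z) (hF : IsZClosed Z F) :
    IsZClosed Z' F := by
  rw [isZClosed_iff_forall_bijective] at hF ⊢
  intro T V
  exact hF ⟨T.1, T.2.trans h⟩ V

end Subset

end Groth.Agent.Lib.QCoh.ZClosLib
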