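import Groth.Agent.Lib.QCoh.Helper24_Colimits
import Groth.Agent.Lib.QCoh.Helper43_PushQcqs
import Groth.Prelude.Def_ZClos
import Mathlib.AlgebraicGeometry.Noetherian

/-!
# The Z-closure of a quasi-coherent module is quasi-coherent (helper18)

Namespace `Groth.Agent.Lib.QCoh.ZClosLib`.
-/

set_option autoImplicit false
universe u

open CategoryTheory CategoryTheory.Limits AlgebraicGeometry Opposite TopologicalSpace

namespace Groth.Agent.Lib.QCoh.ZClosLib

open ZClos Groth.Agent.Lib.QCoh

variable {X : Scheme.{u}}

theorem isQuasicoherent_resPush [IsLocallyNoetherian X] (U : X.Opens) (F : X.Modules)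
    [F.IsQuasicoherent] : ((resPush U).obj F).IsQuasicoherent := by
  have h1 : (F.restrict U.ι).IsQuasicoherent := isQuasicoherent_restrict U.ι F
  exact isQuasicoherent_pushforward_of_qcqs U.ι (F.restrict U.ι)

/-- **S5841**. -/
theorem isQuasicoherent_H0 [IsLocallyNoetherian X] (Z : Set X) (F : X.Modules)
    [F.IsQuasicoherent] : ((H0 Z).obj F).IsQuasicoherent :=
  isQuasicoherent_colimit ((diagram Z).obj F) fun T => isQuasicoherent_resPush T.U F

end Groth.Agent.Lib.QCoh.ZClosLib
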