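import Groth.Agent.Lib.QCoh.Helper18_HartogsUnit
import Groth.Agent.Lib.QCoh.Helper18_PullbackSupport
import Groth.Agent.Lib.QCoh.Helper18_StalkLocal
import Groth.Agent.Lib.QCoh.Helper18_StalkHomSpread
import Groth.Agent.Lib.QCoh.Helper18_StalkLinear
import Groth.Agent.Lib.QCoh.Helper66_SubExt3
import Groth.Agent.Lib.QCoh.Helper74_RefHullRefl
import Groth.Agent.Lib.QCoh.Helper43_PushQcqs
import Groth.Agent.Lib.Helper93.ReflexiveDepth2
import Groth.Agent.Lib.Helper93.Reflexive3

/-!
# Extending reflexive sheaves across a closed subset of depth ≥ 2 (helper18)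

Namespace `Groth.Agent.Lib.QCoh.ReflExtend`.
-/

set_option autoImplicit false
universe u

open AlgebraicGeometry CategoryTheory Opposite TopologicalSpace

namespace Groth.Agent.Lib.QCoh.ReflExtend

open Scheme.Modules Groth.Agent.Lib.QCoh

variable {X : Scheme.{u}}

/-- (a) coherent with reflexive stalks + `depth O_x ≥ 2` off `U` ⇒ `F ≅ j_* j^* F`. -/
theorem isIso_unit_of_isReflexive [IsLocallyNoetherian X] (U : X.Opens)
    (hU : ∀ x : X, x ∉ U → (2 : ℕ∞) ≤ LocCoh.depth (X.presheaf.stalk x) (X.presheaf.stalk x))
    (F : X.Modules) (hF : Coh.IsCoh F)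
    (hr : ∀ x : X, Module.IsReflexive (X.presheaf.stalk x) (F.presheaf.stalk x)) :
    IsIso ((Scheme.Modules.restrictAdjunction U.ι).unit.app F) := by
  have := hF.1
  have := hF.2
  apply Hartogs.isIso_unit_of_depth F U
  intro x hx
  have : Module.Finite (X.presheaf.stalk x) (F.presheaf.stalk x) := finite_stalk F x
  have := hr x
  exact_mod_cast Groth.Agent.Lib.Helper93.ReflexiveDepth.le_depth_of_isReflexive
    (F.presheaf.stalk x) 2 le_rfl (hU x hx)

lemma hX_of_isLocallyNoetherian [IsLocallyNoetherian X] :
    ∀ x : X, ∃ U : X.Opens, x ∈ U ∧ NoetherianSpace (U : Set X) := by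
  intro x
  obtain ⟨U, hU0, hxU, -⟩ := Opens.isBasis_iff_nbhd.1 (X.isBasis_affineOpens)
    (show x ∈ (⊤ : X.Opens) from trivial)
  have hU : IsAffineOpen U := hU0
  have : IsNoetherianRing Γ(X, U) := IsLocallyNoetherian.component_noetherian ⟨U, hU⟩
  exact ⟨U, hxU, noetherianSpace_of_isAffineOpen U hU⟩

/-- transport of reflexivity along a semilinear bijection over a ring isomorphism -/
theorem isReflexive_of_semilinear {R R' M M' : Type*} [CommRing R] [CommRing R']
    [AddCommGroup M] [Module R M] [AddCommGroup M'] [Module R' M']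
    (σ : R' ≃+* R) (θ : M' ≃+ M) (hθ : ∀ (r : R') (a : M'), θ (r • a) = σ r • θ a)
    [Module.IsReflexive R' M'] : Module.IsReflexive R M := by
  -- transport of functionals
  let pull : Module.Dual R' M' → Module.Dual R M := fun g =>
    { toFun := fun m => σ (g (θ.symm m))
      map_add' := fun m n => by rw [map_add, map_add, map_add]
      map_smul' := fun r m => by
        have h1 : θ.symm (r • m) = σ.symm r • θ.symm m := by
          apply θ.injective
          rw [hθ, AddEquiv.apply_symm_apply, RingEquiv.apply_symm_apply, AddEquiv.apply_symm_apply]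
        rw [h1, _root_.map_smul, smul_eq_mul, map_mul, RingEquiv.apply_symm_apply]
        rfl }
  let push : Module.Dual R M → Module.Dual R' M' := fun f =>
    { toFun := fun a => σ.symm (f (θ a))
      map_add' := fun a b => by rw [map_add, map_add, map_add]
      map_smul' := fun r a => by
        rw [hθ, _root_.map_smul, smul_eq_mul, map_mul, RingEquiv.symm_apply_apply]
        rfl }
  have hpp : ∀ f, pull (push f) = f := by
    intro f
    apply LinearMap.ext
    intro m
    change σ (σ.symm (f (θ (θ.symm m)))) = f m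
    rw [RingEquiv.apply_symm_apply, AddEquiv.apply_symm_apply]
  have hbij := Module.bijective_dual_eval R' M'
  constructor
  constructor
  · -- injective
    rw [injective_iff_map_eq_zero]
    intro m hm
    have h1 : Module.Dual.eval R' M' (θ.symm m) = 0 := by
      apply LinearMap.ext
      intro g
      have h2 := LinearMap.congr_fun hm (pull g)
      change σ (g (θ.symm m)) = 0 at h2
      change g (θ.symm m) = 0
      exact (map_eq_zero_iff σ σ.injective).1 h2
    have h3 := (injective_iff_map_eq_zero _).1 hbij.1 _ h1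
    have := congrArg θ h3
    rwa [AddEquiv.apply_symm_apply, map_zero] at this
  · -- surjective
    intro Φ
    let Φ' : Module.Dual R' (Module.Dual R' M') :=
      { toFun := fun g => σ.symm (Φ (pull g))
        map_add' := fun g h => by
          have : pull (g + h) = pull g + pull h := by
            apply LinearMap.ext
            intro m
            change σ ((g + h) (θ.symm m)) = σ (g (θ.symm m)) + σ (h (θ.symm m))
            rw [LinearMap.add_apply, map_add]
          rw [this, map_add, map_add]
        map_smul' := fun r g => by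
          have : pull (r • g) = σ r • pull g := by
            apply LinearMap.ext
            intro m
            change σ ((r • g) (θ.symm m)) = σ r • σ (g (θ.symm m))
            rw [LinearMap.smul_apply, smul_eq_mul, map_mul, smul_eq_mul]
          rw [this, _root_.map_smul, smul_eq_mul, map_mul, RingEquiv.symm_apply_apply]
          rfl }
    obtain ⟨a, ha⟩ := hbij.2 Φ'
    refine ⟨θ a, ?_⟩
    apply LinearMap.ext
    intro f
    have h1 := LinearMap.congr_fun ha (push f)
    change (push f) a = σ.symm (Φ (pull (push f))) at h1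
    rw [hpp] at h1
    change f (θ a) = Φ f
    have h2 : σ.symm (f (θ a)) = σ.symm (Φ f) := h1
    exact σ.symm.injective h2

/-- the comparison map of stalks as a plain function -/
noncomputable def rs (U : X.Opens) (M : X.Modules) (u : (U : Scheme.{u})) :
    ((Scheme.Modules.restrictFunctor U.ι).obj M).presheaf.stalk u → M.presheaf.stalk (U.ι u) :=
  fun a => (Scheme.Modules.restrictStalkNatIso U.ι u).hom.app M a

lemma rs_germ (U : X.Opens) (M : X.Modules) (u : (U : Scheme.{u})) (W : (U : Scheme.{u}).Opens)
    (hu : u ∈ W) (s : Γ((Scheme.Modules.restrictFunctor U.ι).obj M, W)) :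
    rs U M u (((Scheme.Modules.restrictFunctor U.ι).obj M).presheaf.germ W u hu s) =
      M.presheaf.germ (U.ι ''ᵁ W) (U.ι u) ⟨u, hu, rfl⟩ (show Γ(M, U.ι ''ᵁ W) from s) :=
  ConcreteCategory.congr_hom (Scheme.Modules.germ_restrictStalkNatIso_hom_app U.ι u M hu) s

/-- `restrictStalkNatIso` is semilinear over `U.stalkIso`. -/
lemma rs_smul (U : X.Opens) (M : X.Modules) (u : (U : Scheme.{u}))
    (r : (U : Scheme.{u}).presheaf.stalk u)
    (a : ((Scheme.Modules.restrictFunctor U.ι).obj M).presheaf.stalk u) :
    rs U M u (r • a) =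
      (show X.presheaf.stalk (U.ι u) from (U.stalkIso u).hom r) • rs U M u a := by
  obtain ⟨W₁, hu₁, r₁, rfl⟩ := TopCat.Presheaf.exists_germ_eq (U : Scheme.{u}).presheaf r
  obtain ⟨W₂, hu₂, a₂, rfl⟩ := TopCat.Presheaf.exists_germ_eq
    ((Scheme.Modules.restrictFunctor U.ι).obj M).presheaf a
  let W := W₁ ⊓ W₂
  have hu : u ∈ W := ⟨hu₁, hu₂⟩
  let r' : Γ((U : Scheme.{u}), W) := (U : Scheme.{u}).presheaf.map (homOfLE inf_le_left).op r₁
  let a' : Γ((Scheme.Modules.restrictFunctor U.ι).obj M, W) :=
    ((Scheme.Modules.restrictFunctor U.ι).obj M).presheaf.map (homOfLE inf_le_right).op a₂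
  have hr : (U : Scheme.{u}).presheaf.germ W₁ u hu₁ r₁ = (U : Scheme.{u}).presheaf.germ W u hu r' :=
    (TopCat.Presheaf.germ_res_apply _ (homOfLE inf_le_left) u hu r₁).symm
  have ha : ((Scheme.Modules.restrictFunctor U.ι).obj M).presheaf.germ W₂ u hu₂ a₂ =
      ((Scheme.Modules.restrictFunctor U.ι).obj M).presheaf.germ W u hu a' :=
    (TopCat.Presheaf.germ_res_apply _ (homOfLE inf_le_right) u hu a₂).symm
  rw [hr, ha, ← germ_smul, rs_germ, rs_germ]
  have h1 := StalkHomSpread.restrict_smul M W r' a'
  refine (congrArg _ h1).trans ?_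
  refine (germ_smul M (U.ι u) (U.ι ''ᵁ W) ⟨u, hu, rfl⟩ (show Γ(X, U.ι ''ᵁ W) from r')
    (show Γ(M, U.ι ''ᵁ W) from a')).trans ?_
  congr 1
  exact (ConcreteCategory.congr_hom (U.germ_stalkIso_hom (V := W) (x := u) hu) r').symm


/-- the comparison map of stalks as an additive equivalence -/
noncomputable def rsEquiv (U : X.Opens) (M : X.Modules) (u : (U : Scheme.{u})) :
    ((Scheme.Modules.restrictFunctor U.ι).obj M).presheaf.stalk u ≃+ M.presheaf.stalk (U.ι u) :=
  AddEquiv.ofBijective
    (AddMonoidHom.mk' (rs U M u) (fun a b => map_add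
      ((Scheme.Modules.restrictStalkNatIso U.ι u).hom.app M).hom a b))
    (StalkLocal.bijective_restrictStalkNatIso_app U u M)

lemma isReflexive_stalk_of_iso {M N : X.Modules} (e : M ≅ N) (x : X)
    [Module.IsReflexive (X.presheaf.stalk x) (M.presheaf.stalk x)] :
    Module.IsReflexive (X.presheaf.stalk x) (N.presheaf.stalk x) :=
  Module.equiv (LinearEquiv.ofBijective (stalkMapₗ e.hom x)
    (ZClosLib.stalkMap_bijective_of_isIso e.hom x))

/-- reflexivity of the stalk of `M` at `ι u` from reflexivity of the stalk of `M|_U` at `u`. -/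
lemma isReflexive_stalk_of_restrict (U : X.Opens) (M : X.Modules) (u : (U : Scheme.{u}))
    [Module.IsReflexive ((U : Scheme.{u}).presheaf.stalk u)
      (((Scheme.Modules.restrictFunctor U.ι).obj M).presheaf.stalk u)] :
    Module.IsReflexive (X.presheaf.stalk (U.ι u)) (M.presheaf.stalk (U.ι u)) :=
  isReflexive_of_semilinear (U.stalkIso u).commRingCatIsoToRingEquiv (rsEquiv U M u)
    (fun r a => rs_smul U M u r a)


/-- stalks of the reflexive hull of a coherent module on an integral locally Noetherian scheme
are reflexive. -/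
theorem isReflexive_stalk_ddual [IsIntegral X] [IsLocallyNoetherian X] (F : X.Modules)
    (hF : Coh.IsCoh F) (x : X) :
    Module.IsReflexive (X.presheaf.stalk x) ((RefHull.ddual F).presheaf.stalk x) := by
  have hD := RefHull74.isCoh_dual F hF
  have : (RefHull.dual F).IsQuasicoherent := hD.1
  have : (RefHull.dual F).IsFiniteType := hD.2
  have : (RefHull.dual F).IsFinitePresentation :=
    isFinitePresentation_of_isLocallyNoetherian (RefHull.dual F)
  have hqO : (Coh.structureModule X).IsQuasicoherent := (IsoLocus74.isCoh_structureModule X).1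
  let e2 := RefHull74.evalStalkEquiv (RefHull.dual F) (Coh.structureModule X) x
  have : Module.Finite (X.presheaf.stalk x) ((RefHull.dual F).presheaf.stalk x) :=
    finite_stalk _ x
  have eO : X.presheaf.stalk x ≃ₗ[X.presheaf.stalk x] (Coh.structureModule X).presheaf.stalk x :=
    (RefHull74.oxEquiv x).symm
  have : Module.IsReflexive (X.presheaf.stalk x) ((Coh.structureModule X).presheaf.stalk x) :=
    Module.equiv eO
  have : Module.Finite (X.presheaf.stalk x) ((Coh.structureModule X).presheaf.stalk x) :=
    Module.Finite.equiv eO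
  have := Groth.Agent.Lib.Helper93.Reflexive.isReflexive_linearMap (R := X.presheaf.stalk x)
    ((RefHull.dual F).presheaf.stalk x) ((Coh.structureModule X).presheaf.stalk x)
  exact Module.equiv e2.symm

/-- (b) a coherent module with reflexive stalks on `U` is the restriction of a coherent module
with reflexive stalks on `X`, isomorphic to its direct image. -/
theorem exists_iso_pushforward [IsIntegral X] [IsLocallyNoetherian X] (U : X.Opens)
    (hU : ∀ x : X, x ∉ U → (2 : ℕ∞) ≤ LocCoh.depth (X.presheaf.stalk x) (X.presheaf.stalk x))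
    (G : (U : Scheme.{u}).Modules) (hG : Coh.IsCoh G)
    (hr : ∀ x : (U : Scheme.{u}),
      Module.IsReflexive ((U : Scheme.{u}).presheaf.stalk x) (G.presheaf.stalk x)) :
    ∃ H : X.Modules, Coh.IsCoh H ∧
      (∀ x : X, Module.IsReflexive (X.presheaf.stalk x) (H.presheaf.stalk x)) ∧
      Nonempty (H ≅ (Scheme.Modules.pushforward U.ι).obj G) := by
  have := hG.1
  have := hG.2
  have hX := hX_of_isLocallyNoetherian (X := X)
  have : QuasiCompact U.ι := SubExt.quasiCompact_ι hX U
  let P := (Scheme.Modules.pushforward U.ι).obj G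
  have : P.IsQuasicoherent := isQuasicoherent_pushforward_of_qcqs U.ι G
  let i : G ⟶ P.restrict U.ι := inv ((restrictAdjunction U.ι).counit.app G)
  obtain ⟨G', i', e, hmono, hqc, hft, hcomm⟩ := SubExt.master_locallyNoetherian hX U P G i
  have hG' : Coh.IsCoh G' := ⟨hqc, hft⟩
  let H := RefHull.ddual G'
  have hH : Coh.IsCoh H := RefHull74.isCoh_ddual G' hG'
  have hHr : ∀ x, Module.IsReflexive (X.presheaf.stalk x) (H.presheaf.stalk x) :=
    fun x => isReflexive_stalk_ddual G' hG' x
  have hunit : IsIso ((restrictAdjunction U.ι).unit.app H) :=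
    isIso_unit_of_isReflexive U hU H hH hHr
  have hβ : IsIso ((restrictFunctor U.ι).map (RefHull.bidualMap G')) := by
    apply ZClosLib.isIso_of_forall_stalkMap_bijective
    intro u
    refine (StalkLocal.bijective_stalkMap_restrict_iff U (RefHull.bidualMap G') u).2 ?_
    apply (RefHull74.isReflexiveAt_iff_bijective G' hG' (U.ι u)).1
    have : Module.IsReflexive ((U : Scheme.{u}).presheaf.stalk u)
        (((restrictFunctor U.ι).obj G').presheaf.stalk u) := by
      have := hr u
      exact isReflexive_stalk_of_iso e.symm u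
    exact isReflexive_stalk_of_restrict U G' u
  refine ⟨H, hH, hHr, ⟨?_⟩⟩
  exact asIso ((restrictAdjunction U.ι).unit.app H) ≪≫
    (pushforward U.ι).mapIso ((asIso ((restrictFunctor U.ι).map (RefHull.bidualMap G'))).symm ≪≫ e)

end Groth.Agent.Lib.QCoh.ReflExtend
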