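import Groth.Agent.Lib.QCoh.Helper18_Generic

/-!
# Germs of regular sections (helper18)

* `regStalk_le_nonZeroDivisors` : germs of regular sections are nonzerodivisors.
* `mem_regStalk_of_fg_ann` : if `V` is an affine open nbhd of `x`, `a ∈ Γ(X,V)` has finitely
  generated annihilator and its germ at `x` is a nonzerodivisor, then the germ lies in
  `Mero.regStalk X x`.
* `regStalk_eq_nonZeroDivisors_of_isLocallyNoetherian` (S8863).
-/

universe u

open CategoryTheory CategoryTheory.Limits AlgebraicGeometry Opposite TopologicalSpace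
open Groth.Agent.Lib.Helper18 IsLocalRing

namespace Groth.Agent.Lib.QCoh

variable {X : Scheme.{u}}

theorem regStalk_le_nonZeroDivisors (x : X) :
    Mero.regStalk X x ≤ nonZeroDivisors (X.presheaf.stalk x) := by
  rintro g ⟨U, hx, f, hf, rfl⟩
  exact hf ⟨x, hx⟩

/-- every element of the stalk at a point of an affine open is a section times a unit -/
lemma exists_germ_mul_eq {V : X.Opens} (hV : IsAffineOpen V) (y : X) (hy : y ∈ V)
    (c : X.presheaf.stalk y) :
    ∃ (b s : Γ(X, V)), s ∉ (hV.primeIdealOf ⟨y, hy⟩).asIdeal ∧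
      c * X.presheaf.germ V y hy s = X.presheaf.germ V y hy b := by
  let _ : Algebra Γ(X, V) (X.presheaf.stalk y) :=
    TopCat.Presheaf.algebra_section_stalk X.presheaf ⟨y, hy⟩
  have hloc := hV.isLocalization_stalk ⟨y, hy⟩
  obtain ⟨⟨b, s⟩, hbs⟩ := IsLocalization.surj (hV.primeIdealOf ⟨y, hy⟩).asIdeal.primeCompl c
  exact ⟨b, s.1, s.2, hbs⟩

theorem germ_mem_nonZeroDivisors_of_ann {V : X.Opens} (hV : IsAffineOpen V) (a t : Γ(X, V))
    (ht : ∀ k : Γ(X, V), a * k = 0 → t * k = 0) (y : X) (hyV : y ∈ V)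
    (hyt : t ∉ (hV.primeIdealOf ⟨y, hyV⟩).asIdeal) :
    X.presheaf.germ V y hyV a ∈ nonZeroDivisors (X.presheaf.stalk y) := by
  rw [mem_nonZeroDivisors_iff_right]
  intro c hc
  obtain ⟨b, s, hs, hcs⟩ := exists_germ_mul_eq hV y hyV c
  have hsunit : IsUnit (X.presheaf.germ V y hyV s) := by
    rw [← Scheme.mem_basicOpen _ _ y hyV]
    exact (notMem_primeIdealOf_iff hV y hyV s).1 hs
  -- germ (a * b) = 0
  have h1 : X.presheaf.germ V y hyV (a * b) = 0 := by
    calc X.presheaf.germ V y hyV (a * b)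
        = X.presheaf.germ V y hyV a * X.presheaf.germ V y hyV b := map_mul _ _ _
      _ = X.presheaf.germ V y hyV a * (c * X.presheaf.germ V y hyV s) := by rw [hcs]
      _ = (c * X.presheaf.germ V y hyV a) * X.presheaf.germ V y hyV s := by ring
      _ = 0 := by rw [hc, zero_mul]
  rw [fn_germ_eq_zero_iff hV y hyV] at h1
  obtain ⟨r, hr, hrab⟩ := h1
  have h2 : t * (r * b) = 0 := ht (r * b) (by rw [← hrab]; ring)
  have h3 : X.presheaf.germ V y hyV b = 0 := by
    rw [fn_germ_eq_zero_iff hV y hyV]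
    refine ⟨t * r, ?_, by rw [mul_assoc]; exact h2⟩
    intro hmem
    rcases (hV.primeIdealOf ⟨y, hyV⟩).isPrime.mem_or_mem hmem with h | h
    · exact hyt h
    · exact hr h
  rw [h3] at hcs
  exact (hsunit.mul_left_eq_zero).1 hcs

theorem mem_regStalk_of_fg_ann {V : X.Opens} (hV : IsAffineOpen V) (x : X) (hxV : x ∈ V)
    (a : Γ(X, V)) (hfg : (WeakAss.ann Γ(X, V) a).FG)
    (ha : X.presheaf.germ V x hxV a ∈ nonZeroDivisors (X.presheaf.stalk x)) :
    X.presheaf.germ V x hxV a ∈ Mero.regStalk X x := by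
  classical
  -- find `t ∉ p_x` killing `ann a`
  have key : ∀ S : Finset Γ(X, V), (∀ k ∈ S, k ∈ WeakAss.ann Γ(X, V) a) →
      ∃ t : Γ(X, V), t ∉ (hV.primeIdealOf ⟨x, hxV⟩).asIdeal ∧
        ∀ k ∈ Ideal.span (S : Set Γ(X, V)), t * k = 0 := by
    intro S
    induction S using Finset.induction_on with
    | empty =>
      intro _
      refine ⟨1, (hV.primeIdealOf ⟨x, hxV⟩).isPrime.one_notMem, ?_⟩
      intro k hk
      simp only [Finset.coe_empty, Ideal.span_empty, Ideal.mem_bot] at hk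
      rw [hk, mul_zero]
    | insert k₀ S hk₀ ih =>
      intro hS
      obtain ⟨t₁, ht₁, hk₁⟩ := ih (fun k hk => hS k (Finset.mem_insert_of_mem hk))
      have hk₀a : k₀ * a = 0 := by
        have := hS k₀ (Finset.mem_insert_self k₀ S)
        rwa [WeakAss.mem_ann, smul_eq_mul] at this
      have hg0 : X.presheaf.germ V x hxV k₀ = 0 := by
        apply (mem_nonZeroDivisors_iff_right.1 ha)
        rw [← map_mul, hk₀a, map_zero]
      rw [fn_germ_eq_zero_iff hV x hxV] at hg0
      obtain ⟨t₀, ht₀, ht₀k⟩ := hg0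
      refine ⟨t₀ * t₁, ?_, ?_⟩
      · intro hmem
        rcases (hV.primeIdealOf ⟨x, hxV⟩).isPrime.mem_or_mem hmem with h | h
        · exact ht₀ h
        · exact ht₁ h
      · intro k hk
        rw [Finset.coe_insert, Ideal.mem_span_insert] at hk
        obtain ⟨c, k', hk', rfl⟩ := hk
        have e1 : t₁ * k' = 0 := hk₁ k' hk'
        calc t₀ * t₁ * (c * k₀ + k') = t₁ * c * (t₀ * k₀) + t₀ * (t₁ * k') := by ring
          _ = 0 := by rw [ht₀k, e1, mul_zero, mul_zero, add_zero]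
  obtain ⟨S, hS⟩ := hfg
  obtain ⟨t, htx, htk⟩ := key S (fun k hk => hS ▸ Ideal.subset_span hk)
  rw [hS] at htk
  have hxU : x ∈ X.basicOpen t := (notMem_primeIdealOf_iff hV x hxV t).1 htx
  have hUV : X.basicOpen t ≤ V := X.basicOpen_le t
  refine ⟨X.basicOpen t, hxU, X.presheaf.map (homOfLE hUV).op a, ?_, ?_⟩
  · rintro ⟨y, hy⟩
    change X.presheaf.germ (X.basicOpen t) y hy (X.presheaf.map (homOfLE hUV).op a) ∈ _
    rw [TopCat.Presheaf.germ_res_apply]
    apply germ_mem_nonZeroDivisors_of_ann hV a t _ y (hUV hy)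
    · exact (notMem_primeIdealOf_iff hV y (hUV hy) t).2 hy
    · intro k hk
      apply htk
      rw [WeakAss.mem_ann, smul_eq_mul, mul_comm]
      exact hk
  · rw [TopCat.Presheaf.germ_res_apply]

theorem regStalk_eq_nonZeroDivisors_of_isLocallyNoetherian [IsLocallyNoetherian X] (x : X) :
    Mero.regStalk X x = nonZeroDivisors (X.presheaf.stalk x) := by
  apply le_antisymm (regStalk_le_nonZeroDivisors x)
  intro g hg
  obtain ⟨W₁, hxW₁, b₁, rfl⟩ := X.presheaf.exists_germ_eq g
  obtain ⟨V, hV0, hxV, hVW⟩ := Opens.isBasis_iff_nbhd.1 (X.isBasis_affineOpens) hxW₁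
  have hV : IsAffineOpen V := hV0
  have hN : IsNoetherianRing Γ(X, V) := IsLocallyNoetherian.component_noetherian ⟨V, hV⟩
  have e : X.presheaf.germ W₁ x hxW₁ b₁ =
      X.presheaf.germ V x hxV (X.presheaf.map (homOfLE hVW).op b₁) := by
    rw [TopCat.Presheaf.germ_res_apply]
  rw [e] at hg ⊢
  exact mem_regStalk_of_fg_ann hV x hxV _ ((isNoetherianRing_iff_ideal_fg _).1 hN _) hg

end Groth.Agent.Lib.QCoh
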