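import Mathlib.AlgebraicGeometry.Noetherian
import Mathlib.Topology.Sober
import Mathlib.Topology.Inseparable

/-!
# Closures of locally closed subsets of sets stable under specialization (helper18)

Namespace `Groth.Agent.Lib.QCoh.ZClosLib`.

* `closure_subset_of_stableUnderSpecialization` : in a locally Noetherian scheme, if `Z` is stable
  under specialization and `S = C ∩ O ⊆ Z` with `C` closed, `O` open, then `closure S ⊆ Z`.
-/

set_option autoImplicit false
universe u

open AlgebraicGeometry TopologicalSpace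

namespace Groth.Agent.Lib.QCoh.ZClosLib

theorem closure_subset_of_stableUnderSpecialization {X : Scheme.{u}} [IsLocallyNoetherian X]
    {Z : Set X} (hZ : StableUnderSpecialization Z) {C O S : Set X} (hC : IsClosed C)
    (hO : IsOpen O) (hS : S = C ∩ O) (hSZ : S ⊆ Z) : closure S ⊆ Z := by
  have hSC : S ⊆ C := by rw [hS]; exact Set.inter_subset_left
  have hSO : S ⊆ O := by rw [hS]; exact Set.inter_subset_right
  intro y hy
  obtain ⟨A, hA0, hyA, -⟩ := Opens.isBasis_iff_nbhd.1 (X.isBasis_affineOpens)
    (show y ∈ (⊤ : X.Opens) from trivial)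
  have hA : IsAffineOpen A := hA0
  have hN : IsNoetherianRing Γ(X, A) := IsLocallyNoetherian.component_noetherian ⟨A, hA⟩
  have hNA : NoetherianSpace A := noetherianSpace_of_isAffineOpen A hA
  have hNA' : NoetherianSpace ((A : Set X)) := hNA
  have hNS : NoetherianSpace (↥(S ∩ (A : Set X))) :=
    NoetherianSpace.of_subset (W := (A : Set X)) Set.inter_subset_right
  have hy' : y ∈ closure (S ∩ (A : Set X)) := by
    have := A.isOpen.inter_closure (t := S) ⟨hyA, hy⟩
    rwa [Set.inter_comm] at this
  have hfin : (irreducibleComponents (↥(S ∩ (A : Set X)))).Finite :=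
    NoetherianSpace.finite_irreducibleComponents
  have hcover : S ∩ (A : Set X) =
      ⋃ K ∈ irreducibleComponents (↥(S ∩ (A : Set X))), (Subtype.val '' K) := by
    ext z
    simp only [Set.mem_iUnion, Set.mem_image, Subtype.exists, exists_and_right, exists_eq_right]
    constructor
    · intro hz
      have : (⟨z, hz⟩ : ↥(S ∩ (A : Set X))) ∈ ⋃₀ irreducibleComponents (↥(S ∩ (A : Set X))) := by
        rw [sUnion_irreducibleComponents]; trivial
      obtain ⟨K, hK, hzK⟩ := this
      exact ⟨K, hK, hz, hzK⟩
    · rintro ⟨K, -, hz, -⟩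
      exact hz
  rw [hcover, hfin.closure_biUnion] at hy'
  obtain ⟨K, hK, hyK⟩ := Set.mem_iUnion₂.1 hy'
  have hKirr : IsIrreducible K := hK.prop
  have hKirr' : IsIrreducible (Subtype.val '' K : Set X) :=
    hKirr.image _ continuous_subtype_val.continuousOn
  obtain ⟨η, hη⟩ := QuasiSober.sober hKirr'.closure isClosed_closure
  have hηcl : closure {η} = closure (Subtype.val '' K : Set X) := hη
  have hηy : η ⤳ y := by
    rw [specializes_iff_mem_closure, hηcl]
    exact hyK
  obtain ⟨q, hq⟩ := hKirr.nonempty
  have hqS : (q : X) ∈ S := q.2.1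
  have hηq : η ⤳ (q : X) := by
    rw [specializes_iff_mem_closure, hηcl]
    exact subset_closure ⟨q, hq, rfl⟩
  have hηO : η ∈ O := by
    exact hηq.mem_open hO (hSO hqS)
  have hηC : η ∈ C := by
    have h1 : (Subtype.val '' K : Set X) ⊆ C := by
      rintro _ ⟨k, -, rfl⟩
      exact hSC k.2.1
    have h2 : closure (Subtype.val '' K : Set X) ⊆ C := hC.closure_subset_iff.2 h1
    apply h2
    rw [← hηcl]
    exact subset_closure rfl
  have hηZ : η ∈ Z := hSZ (by rw [hS]; exact ⟨hηC, hηO⟩)
  exact hZ hηy hηZ

end Groth.Agent.Lib.QCoh.ZClosLib
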