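import Groth.Agent.Lib.QCoh.Helper18_AssNoeth
import Groth.Agent.Lib.QCoh.Helper18_Ass

/-!
# Associated points of `M~` on `Spec A` versus associated primes of `M` (helper18; S1578, S12215)

Namespace `Groth.Agent.Lib.QCoh.TildeAss`.
-/

set_option autoImplicit false
universe u

open CategoryTheory AlgebraicGeometry Opposite TopologicalSpace IsLocalRing

namespace Groth.Agent.Lib.QCoh.TildeAss

open Groth.Agent.Lib.QCoh Groth.Agent.Lib.Helper18

variable (A : CommRingCat.{u}) (M : ModuleCat.{u} A) (p : Spec A)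

/-- The ring isomorphism `A ≃ Γ(Spec A, ⊤)`. -/
noncomputable def φ : A →+* Γ(Spec A, ⊤) := (Scheme.ΓSpecIso A).inv.hom

lemma φ_bijective : Function.Bijective (φ A) :=
  ConcreteCategory.bijective_of_isIso (Scheme.ΓSpecIso A).inv

lemma hTop : IsAffineOpen (⊤ : (Spec A).Opens) := isAffineOpen_top (Spec A)

lemma φ_mem_primeIdealOf_iff (r : A) :
    φ A r ∈ ((hTop A).primeIdealOf ⟨p, trivial⟩).asIdeal ↔ r ∈ p.asIdeal := by
  rw [← not_iff_not, notMem_primeIdealOf_iff (hTop A) p trivial]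
  have h := basicOpen_eq_of_affine (R := A) r
  change p ∈ (Spec A).basicOpen ((Scheme.ΓSpecIso A).inv r) ↔ _
  rw [h]
  exact PrimeSpectrum.mem_basicOpen r p

lemma comap_primeIdealOf :
    ((hTop A).primeIdealOf ⟨p, trivial⟩).asIdeal.comap (φ A) = p.asIdeal := by
  ext r
  exact φ_mem_primeIdealOf_iff A p r

/-- The section of `M~` over `Spec A` given by `m : M`. -/
noncomputable def sec (m : M) : Γ(tilde M, ⊤) := (tilde.toOpen M ⊤).hom m

lemma sec_bijective : Function.Bijective (sec A M) :=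
  ConcreteCategory.bijective_of_isIso (tilde.toOpen M ⊤)

lemma φ_smul_sec (r : A) (m : M) : φ A r • sec A M m = sec A M (r • m) := by
  have h1 : sec A M (r • m) = r • sec A M m := map_smul (tilde.toOpen M ⊤).hom r m
  rw [h1, Scheme.Modules.smul_Spec_def]
  congr 1

lemma φ_smul_sec_eq_zero_iff (r : A) (m : M) : φ A r • sec A M m = 0 ↔ r • m = 0 := by
  rw [φ_smul_sec]
  constructor
  · intro h
    apply (sec_bijective A M).1
    rw [h]
    exact (map_zero (tilde.toOpen M ⊤).hom).symm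
  · intro h
    rw [h]
    exact map_zero (tilde.toOpen M ⊤).hom

section Alg

variable {A' B' : Type*} [CommRing A'] [CommRing B'] {M' N' : Type*} [AddCommGroup M'] [Module A' M']
  [AddCommGroup N'] [Module B' N']
  (f : A' →+* B') (hf : Function.Bijective f) (s : M' → N') (hs : Function.Bijective s)
  (hs0 : s 0 = 0) (hsm : ∀ r m, f r • s m = s (r • m))

include hs hs0 hsm in
lemma smul_eq_zero_iff_of_semilinear (r : A') (m : M') : f r • s m = 0 ↔ r • m = 0 := by
  rw [hsm]
  constructor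
  · intro h
    apply hs.1
    rw [h, hs0]
  · intro h
    rw [h, hs0]

include hs hs0 hsm in
lemma mem_radical_colon_iff_of_semilinear (r : A') (m : M') :
    f r ∈ (Submodule.colon (⊥ : Submodule B' N') {s m}).radical ↔
      r ∈ (Submodule.colon (⊥ : Submodule A' M') {m}).radical := by
  simp only [Ideal.mem_radical_iff, Submodule.mem_colon_singleton, Submodule.mem_bot]
  constructor
  · rintro ⟨n, hn⟩
    refine ⟨n, ?_⟩
    rw [← map_pow] at hn
    exact (smul_eq_zero_iff_of_semilinear f s hs hs0 hsm _ _).1 hn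
  · rintro ⟨n, hn⟩
    refine ⟨n, ?_⟩
    rw [← map_pow]
    exact (smul_eq_zero_iff_of_semilinear f s hs hs0 hsm _ _).2 hn

include hf hs hs0 hsm in
lemma mem_associatedPrimes_iff_of_semilinear (P : Ideal B') [P.IsPrime] :
    P.comap f ∈ associatedPrimes A' M' ↔ P ∈ associatedPrimes B' N' := by
  constructor
  · rintro ⟨_, x, hx⟩
    refine ⟨inferInstance, s x, ?_⟩
    ext r'
    obtain ⟨r, rfl⟩ := hf.2 r'
    rw [mem_radical_colon_iff_of_semilinear f s hs hs0 hsm, ← hx]
    rfl
  · rintro ⟨_, y, hy⟩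
    obtain ⟨x, rfl⟩ := hs.2 y
    refine ⟨inferInstance, x, ?_⟩
    ext r
    rw [← mem_radical_colon_iff_of_semilinear f s hs hs0 hsm, ← hy]
    rfl

include hf hs hs0 hsm in
lemma mem_minimalPrimes_ann_iff_of_semilinear (P : Ideal B') (m : M') :
    P.comap f ∈ (WeakAss.ann A' m).minimalPrimes ↔ P ∈ (WeakAss.ann B' (s m)).minimalPrimes := by
  have hcomap : (WeakAss.ann B' (s m)).comap f = WeakAss.ann A' m := by
    ext r
    rw [Ideal.mem_comap, WeakAss.mem_ann, WeakAss.mem_ann]
    exact smul_eq_zero_iff_of_semilinear f s hs hs0 hsm r m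
  rw [← hcomap, Ideal.comap_minimalPrimes_eq_of_surjective hf.2]
  constructor
  · rintro ⟨Q, hQ, hQP⟩
    rwa [← Ideal.comap_injective_of_surjective f hf.2 hQP]
  · intro h
    exact ⟨P, h, rfl⟩

end Alg

lemma sec_zero : sec A M 0 = 0 := map_zero (tilde.toOpen M ⊤).hom

/-- `p ∈ Ass_A M` iff the prime of the point `p` is in `Ass_{Γ(Spec A, ⊤)} Γ(M~, ⊤)`. -/
lemma mem_associatedPrimes_iff :
    p.asIdeal ∈ associatedPrimes A M ↔
      ((hTop A).primeIdealOf ⟨p, trivial⟩).asIdeal ∈
        associatedPrimes Γ(Spec A, ⊤) Γ(tilde M, ⊤) := by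
  rw [← comap_primeIdealOf A p]
  exact mem_associatedPrimes_iff_of_semilinear (φ A) (φ_bijective A) (sec A M) (sec_bijective A M)
    (sec_zero A M) (φ_smul_sec A M) _

lemma fg_primeIdealOf (h : p.asIdeal.FG) : ((hTop A).primeIdealOf ⟨p, trivial⟩).asIdeal.FG := by
  have : ((hTop A).primeIdealOf ⟨p, trivial⟩).asIdeal = p.asIdeal.map (φ A) := by
    rw [← comap_primeIdealOf A p, Ideal.map_comap_of_surjective _ (φ_bijective A).2]
  rw [this]
  exact h.map _

theorem isAssPoint_of_mem_associatedPrimes (h : p.asIdeal ∈ associatedPrimes A M) :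
    Curv2.IsAssPoint (tilde M) p :=
  Groth.Agent.Lib.QCoh.isAssPoint_of_mem_associatedPrimes (tilde M) (hTop A) p trivial
    ((mem_associatedPrimes_iff A M p).1 h)

theorem mem_associatedPrimes_of_isAssPoint (hfg : p.asIdeal.FG)
    (h : Curv2.IsAssPoint (tilde M) p) : p.asIdeal ∈ associatedPrimes A M :=
  (mem_associatedPrimes_iff A M p).2
    (Groth.Agent.Lib.QCoh.mem_associatedPrimes_of_isAssPoint (tilde M) (hTop A) p trivial
      (fg_primeIdealOf A p hfg) h)

theorem isWeakAssPoint_iff :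
    Curv2.IsWeakAssPoint (tilde M) p ↔ ∃ m : M, p.asIdeal ∈ (WeakAss.ann A m).minimalPrimes := by
  rw [isWeakAssPoint_iff_of_isAffineOpen (tilde M) (hTop A) p trivial]
  constructor
  · rintro ⟨y, hy⟩
    obtain ⟨m, rfl⟩ := (sec_bijective A M).2 y
    refine ⟨m, ?_⟩
    rw [← comap_primeIdealOf A p]
    exact (mem_minimalPrimes_ann_iff_of_semilinear (φ A) (φ_bijective A) (sec A M)
      (sec_bijective A M) (sec_zero A M) (φ_smul_sec A M) _ m).2 hy
  · rintro ⟨m, hm⟩
    refine ⟨sec A M m, ?_⟩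
    rw [← comap_primeIdealOf A p] at hm
    exact (mem_minimalPrimes_ann_iff_of_semilinear (φ A) (φ_bijective A) (sec A M)
      (sec_bijective A M) (sec_zero A M) (φ_smul_sec A M) _ m).1 hm

end Groth.Agent.Lib.QCoh.TildeAss
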