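import Groth.Agent.Lib.QCoh.Helper18_HartogsDepth
import Groth.Agent.Lib.QCoh.Helper18_HartogsConv

/-!
# Commutative algebra for the depth-2 criterion of Z-closedness (helper18; S5856)

Namespace `Groth.Agent.Lib.QCoh.ZClosLib`.
-/

set_option autoImplicit false
universe u v w

open IsLocalRing

namespace Groth.Agent.Lib.QCoh.ZClosLib

section Uniform

variable {A : Type u} [CommRing A]

/-- A finitely generated submodule all of whose elements are killed by elements outside the prime
`p` is killed by a single element outside `p`. -/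
theorem exists_notMem_forall_smul_eq_zero {M : Type v} [AddCommGroup M] [Module A M]
    (K : Submodule A M) (hK : K.FG) (p : Ideal A) [hp : p.IsPrime]
    (h : ∀ k ∈ K, ∃ t : A, t ∉ p ∧ t • k = 0) : ∃ h : A, h ∉ p ∧ ∀ k ∈ K, h • k = 0 := by
  have : Module.Finite A K := Module.Finite.iff_fg.2 hK
  have hsupp : (⟨p, hp⟩ : PrimeSpectrum A) ∉ Module.support A K := by
    rw [Module.notMem_support_iff']
    rintro ⟨k, hk⟩
    obtain ⟨t, htp, htk⟩ := h k hk
    exact ⟨t, htp, Subtype.ext htk⟩
  rw [Module.mem_support_iff_of_finite] at hsupp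
  obtain ⟨h, hann, hhp⟩ := Set.not_subset.1 hsupp
  refine ⟨h, hhp, fun k hk => ?_⟩
  have := Module.mem_annihilator.1 hann ⟨k, hk⟩
  exact congrArg Subtype.val this

/-- **Prime colon**: if `(P : n) ⊆ p`, some multiple `r • n` has `(P : r • n)` a prime `q ⊆ p`. -/
theorem exists_prime_colon_eq [IsNoetherianRing A] {N : Type v} [AddCommGroup N] [Module A N]
    (P : Submodule A N) (n : N) (p : Ideal A) [p.IsPrime]
    (hp : ∀ r : A, r • n ∈ P → r ∈ p) :
    ∃ (q : Ideal A) (_ : q.IsPrime) (r : A), q ≤ p ∧ ∀ t : A, t • (r • n) ∈ P ↔ t ∈ q := by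
  set nb : N ⧸ P := P.mkQ n with hnb
  set Q : Submodule A (N ⧸ P) := Submodule.span A {nb} with hQ
  have : Module.Finite A Q := Module.Finite.iff_fg.2 (Submodule.fg_span_singleton nb)
  have hle : Module.annihilator A Q ≤ p := by
    intro r hr
    apply hp
    have h1 := Module.mem_annihilator.1 hr ⟨nb, Submodule.mem_span_singleton_self nb⟩
    have h2 : r • nb = 0 := congrArg Subtype.val h1
    rw [hnb, ← map_smul, Submodule.mkQ_apply, Submodule.Quotient.mk_eq_zero] at h2
    exact h2
  obtain ⟨q, hq, hqp⟩ := Ideal.exists_minimalPrimes_le hle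
  have hass := Module.associatedPrimes.minimalPrimes_annihilator_subset_associatedPrimes A Q hq
  obtain ⟨hqprime, z, hz⟩ := (isAssociatedPrime_iff).1 hass
  obtain ⟨r, hr⟩ := Submodule.mem_span_singleton.1 z.2
  refine ⟨q, hqprime, r, hqp, fun t => ?_⟩
  rw [hz, Submodule.mem_colon_singleton, Submodule.mem_bot]
  have e : t • z = 0 ↔ t • (r • nb) = 0 := by
    rw [hr]
    constructor
    · intro h; exact congrArg Subtype.val h
    · intro h; exact Subtype.ext h
  rw [e, hnb, ← map_smul, ← map_smul, Submodule.mkQ_apply, Submodule.Quotient.mk_eq_zero]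

/-- **Spreading out**: if `a` is regular on `M_p` and `p • m ⊆ a M_p` (both expressed on `M`),
then some `h ∉ p` witnesses both uniformly. -/
theorem exists_spread [IsNoetherianRing A] {M : Type v} [AddCommGroup M] [Module A M]
    [Module.Finite A M] (p : Ideal A) [p.IsPrime] (a : A) (m : M)
    (h1 : ∀ k : M, a • k = 0 → ∃ t : A, t ∉ p ∧ t • k = 0)
    (h2 : ∀ f ∈ p, ∃ t : A, t ∉ p ∧ ∃ n : M, t • f • m = a • n) :
    ∃ h : A, h ∉ p ∧ (∀ k : M, a • k = 0 → h • k = 0) ∧
      (∀ f ∈ p, ∃ n : M, h • f • m = a • n) := by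
  have hNM : IsNoetherian A M := isNoetherian_of_isNoetherianRing_of_finite A M
  obtain ⟨h₁, hh₁p, hh₁⟩ := exists_notMem_forall_smul_eq_zero
    (LinearMap.ker (LinearMap.lsmul A M a)) (IsNoetherian.noetherian _) p
    (fun k hk => h1 k (by simpa using hk))
  set R : Submodule A M := LinearMap.range (LinearMap.lsmul A M a) with hR
  obtain ⟨h₂, hh₂p, hh₂⟩ := exists_notMem_forall_smul_eq_zero
    (Submodule.map (R.mkQ ∘ₗ LinearMap.toSpanSingleton A M m) p)
    (Submodule.FG.map _ ((isNoetherianRing_iff_ideal_fg A).1 inferInstance p)) p (by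
      rintro _ ⟨f, hf, rfl⟩
      obtain ⟨t, ht, n, hn⟩ := h2 f hf
      refine ⟨t, ht, ?_⟩
      rw [← map_smul, LinearMap.comp_apply, Submodule.mkQ_apply, Submodule.Quotient.mk_eq_zero,
        map_smul, LinearMap.toSpanSingleton_apply, hn]
      exact ⟨n, rfl⟩)
  refine ⟨h₁ * h₂, ?_, ?_, ?_⟩
  · intro hmem
    rcases (inferInstance : p.IsPrime).mem_or_mem hmem with h | h
    · exact hh₁p h
    · exact hh₂p h
  · intro k hk
    rw [mul_comm, mul_smul, hh₁ k (by simpa using hk), smul_zero]
  · intro f hf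
    have h3 := hh₂ _ ⟨f, hf, rfl⟩
    rw [← map_smul, LinearMap.comp_apply, Submodule.mkQ_apply, Submodule.Quotient.mk_eq_zero,
      map_smul, LinearMap.toSpanSingleton_apply] at h3
    obtain ⟨n, hn⟩ := h3
    refine ⟨h₁ • n, ?_⟩
    have hn' : a • n = h₂ • f • m := hn
    rw [mul_smul, ← hn', smul_comm]

end Uniform

section Local

variable {B : Type u} [CommRing B] [IsLocalRing B]

/-- **Local extension lemma**: `E` finite of depth `≥ 2`, `ψ : E → H` injective, `H` without
`𝔪`-torsion; any `g` with `𝔪 g ⊆ range ψ` lies in `range ψ`. -/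
theorem mem_range_of_maximalIdeal_smul_mem {E : Type u} [AddCommGroup E] [Module B E]
    [Module.Finite B E] {H : Type v} [AddCommGroup H] [Module B H] (ψ : E →ₗ[B] H)
    (hψ : Function.Injective ψ) (hd : (2 : ℕ∞) ≤ LocCoh.depth B E)
    (hH : ∀ g : H, (∀ t ∈ maximalIdeal B, t • g = 0) → g = 0)
    (g : H) (hg : ∀ t ∈ maximalIdeal B, ∃ e : E, ψ e = t • g) : ∃ e : E, ψ e = g := by
  obtain ⟨a, ha, b, hb, hreg, hab⟩ :=
    Hartogs.exists_regular_pair_of_two_le_idealDepth (maximalIdeal B) E hd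
  obtain ⟨u, hu⟩ := hg a ha
  obtain ⟨v, hv⟩ := hg b hb
  have h1 : b • u = a • v := by
    apply hψ
    rw [map_smul, map_smul, hu, hv, smul_smul, smul_smul, mul_comm]
  obtain ⟨w, hw⟩ := hab u v h1
  refine ⟨w, ?_⟩
  have hag : a • (g - ψ w) = 0 := by
    rw [smul_sub, ← map_smul, ← hw, hu, sub_self]
  have h0 : g - ψ w = 0 := by
    apply hH
    intro t ht
    obtain ⟨ut, hut⟩ := hg t ht
    have h2 : t • (g - ψ w) = ψ (ut - t • w) := by
      rw [map_sub, map_smul, hut, smul_sub]
    rw [h2]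
    have h3 : ψ (a • (ut - t • w)) = 0 := by
      rw [map_smul, ← h2, smul_comm, hag, smul_zero]
    have h4 : a • (ut - t • w) = 0 := hψ (by rw [h3, map_zero])
    rw [hreg _ h4, map_zero]
  exact (sub_eq_zero.1 h0).symm

end Local

section Loc

variable {R : Type u} [CommRing R] (S : Submonoid R)
  {M : Type v} [AddCommGroup M] [Module R M] {N : Type w} [AddCommGroup N] [Module R N]
  {M' : Type v} [AddCommGroup M'] [Module R M'] {N' : Type w} [AddCommGroup N'] [Module R N']
  (f : M →ₗ[R] M') (g : N →ₗ[R] N') [IsLocalizedModule S f] [IsLocalizedModule S g]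
  (φ : M →ₗ[R] N) (ψ : M' →ₗ[R] N') (hsq : ∀ m, ψ (f m) = g (φ m))

include hsq in
/-- A map between localized modules compatible with `φ : M → N` is bijective iff `ker φ` and
`coker φ` are `S`-torsion. -/
theorem bijective_iff_of_isLocalizedModule :
    Function.Bijective ψ ↔
      (∀ m, φ m = 0 → ∃ s ∈ S, s • m = 0) ∧ (∀ n, ∃ s ∈ S, ∃ m, s • n = φ m) := by
  constructor
  · rintro ⟨hinj, hsurj⟩
    constructor
    · intro m hm
      have h1 : f m = 0 := by
        apply hinj
        rw [hsq, hm, map_zero, map_zero]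
      obtain ⟨s, hs⟩ := (IsLocalizedModule.eq_zero_iff S f).1 h1
      exact ⟨s.1, s.2, hs⟩
    · intro n
      obtain ⟨a', ha'⟩ := hsurj (g n)
      obtain ⟨⟨m, s⟩, hms⟩ := IsLocalizedModule.surj S f a'
      have hms' : s.1 • a' = f m := hms
      have h1 : g (s.1 • n - φ m) = 0 := by
        rw [map_sub, map_smul, ← ha', ← hsq, sub_eq_zero, ← map_smul, hms']
      obtain ⟨t, ht⟩ := (IsLocalizedModule.eq_zero_iff S g).1 h1
      refine ⟨t.1 * s.1, S.mul_mem t.2 s.2, t.1 • m, ?_⟩
      have ht' : t.1 • (s.1 • n - φ m) = 0 := ht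
      rw [smul_sub, sub_eq_zero] at ht'
      rw [mul_smul, ht', map_smul]
  · rintro ⟨hker, hcoker⟩
    constructor
    · rw [injective_iff_map_eq_zero]
      intro a' ha'
      obtain ⟨⟨m, s⟩, hms⟩ := IsLocalizedModule.surj S f a'
      have hms' : s.1 • a' = f m := hms
      have h1 : g (φ m) = 0 := by
        rw [← hsq, ← hms', map_smul, ha', smul_zero]
      obtain ⟨t, ht⟩ := (IsLocalizedModule.eq_zero_iff S g).1 h1
      have ht' : φ (t.1 • m) = 0 := by rw [map_smul]; exact ht
      obtain ⟨s', hs', hs'm⟩ := hker _ ht'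
      have h2 : f m = 0 := by
        rw [IsLocalizedModule.eq_zero_iff S f]
        exact ⟨⟨s' * t.1, S.mul_mem hs' t.2⟩, by
          show (s' * t.1) • m = 0
          rw [mul_smul]; exact hs'm⟩
      have h3 : s.1 • a' = 0 := by rw [hms', h2]
      exact (IsLocalizedModule.smul_injective f s)
        (show s • a' = s • (0 : M') from by
          show s.1 • a' = s.1 • (0 : M')
          rw [h3, smul_zero])
    · intro b'
      obtain ⟨⟨n, s⟩, hns⟩ := IsLocalizedModule.surj S g b'
      have hns' : s.1 • b' = g n := hns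
      obtain ⟨s', hs', m, hm⟩ := hcoker n
      set σ : S := ⟨s' * s.1, S.mul_mem hs' s.2⟩ with hσ
      have hc' : (s' * s.1) • IsLocalizedModule.mk' f m σ = f m :=
        IsLocalizedModule.mk'_cancel' f m σ
      refine ⟨IsLocalizedModule.mk' f m σ, ?_⟩
      apply IsLocalizedModule.smul_injective g σ
      show (s' * s.1) • ψ (IsLocalizedModule.mk' f m σ) = (s' * s.1) • b'
      rw [← map_smul, hc', hsq, ← hm, map_smul, mul_smul, hns']

end Loc

end Groth.Agent.Lib.QCoh.ZClosLib
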