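import Groth.Agent.Lib.QCoh.Helper18_ZClosDepth
import Groth.Agent.Lib.QCoh.Helper18_ZClosQCoh
import Groth.Agent.Lib.QCoh.Helper18_ZClosAlg
import Groth.Agent.Lib.QCoh.Helper18_StalkLinear
import Groth.Agent.Lib.QCoh.Helper50_AffineDict

/-!
# Z-closedness at a point in terms of depth (helper18; S5856)

Namespace `Groth.Agent.Lib.QCoh.ZClosLib`.
-/

set_option autoImplicit false
universe u

open CategoryTheory CategoryTheory.Limits AlgebraicGeometry Opposite TopologicalSpace IsLocalRing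

namespace Groth.Agent.Lib.QCoh.ZClosLib

open ZClos Groth.Agent.Lib.QCoh Groth.Agent.Lib.QCoh.Hartogs Groth.Agent.Lib.Helper18

variable {X : Scheme.{u}}

lemma mem_primeIdealOf_iff_germ_mem {U : X.Opens} (hU : IsAffineOpen U) (x : X) (hx : x ∈ U)
    (r : Γ(X, U)) : r ∈ (hU.primeIdealOf ⟨x, hx⟩).asIdeal ↔
      X.presheaf.germ U x hx r ∈ maximalIdeal (X.presheaf.stalk x) := by
  rw [hU.primeIdealOf_eq_map_closedPoint]
  rfl

/-- The closure of a point of `Z`, as a member of `Cl Z`. -/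
def clPoint {Z : Set X} (hZ : StableUnderSpecialization Z) (y : X) (hy : y ∈ Z) : Cl Z :=
  ⟨⟨closure {y}, isClosed_closure⟩, fun _ hw => hZ (specializes_iff_mem_closure.2 hw) hy⟩

/-- **No `𝔪`-torsion**: for `G` quasi-coherent and `Z`-pure and `y ∈ Z`, no nonzero element of
`G_y` is killed by the maximal ideal. -/
theorem eq_zero_of_maximalIdeal_smul_eq_zero [IsLocallyNoetherian X] {Z : Set X}
    (hZ : StableUnderSpecialization Z) (G : X.Modules) [G.IsQuasicoherent] (hG : IsZPure Z G)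
    (y : X) (hy : y ∈ Z) (g : G.presheaf.stalk y)
    (hg : ∀ t ∈ maximalIdeal (X.presheaf.stalk y), t • g = 0) : g = 0 := by
  obtain ⟨V, hV0, hyV, -⟩ := Opens.isBasis_iff_nbhd.1 (X.isBasis_affineOpens)
    (show y ∈ (⊤ : X.Opens) from trivial)
  have hV : IsAffineOpen V := hV0
  have hN : IsNoetherianRing Γ(X, V) := IsLocallyNoetherian.component_noetherian ⟨V, hV⟩
  let _ := stalkModuleOfOpen G V y hyV
  have hloc := isLocalizedModule_germ G hV y hyV
  set q := (hV.primeIdealOf ⟨y, hyV⟩).asIdeal with hq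
  obtain ⟨⟨n, s⟩, hns⟩ := IsLocalizedModule.surj q.primeCompl (germₗ G V y hyV) g
  have hns' : X.presheaf.germ V y hyV s.1 • g = G.presheaf.germ V y hyV n := hns
  suffices h : G.presheaf.germ V y hyV n = 0 by
    apply IsLocalizedModule.smul_injective (germₗ G V y hyV) s
    show X.presheaf.germ V y hyV s.1 • g = X.presheaf.germ V y hyV s.1 • (0 : G.presheaf.stalk y)
    rw [smul_zero, hns', h]
  have hgn : ∀ a ∈ q, G.presheaf.germ V y hyV (a • n) = 0 := by
    intro a ha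
    rw [germ_smul, ← hns', smul_comm,
      hg _ ((mem_primeIdealOf_iff_germ_mem hV y hyV a).1 ha), smul_zero]
  -- uniform killer
  obtain ⟨h, hhq, hh⟩ := exists_notMem_forall_smul_eq_zero
    (Submodule.map (LinearMap.toSpanSingleton Γ(X, V) Γ(G, V) n) q)
    (Submodule.FG.map _ ((isNoetherianRing_iff_ideal_fg _).1 hN q)) q (by
      rintro _ ⟨a, ha, rfl⟩
      obtain ⟨t, ht, htn⟩ := (germ_eq_zero_iff_of_isAffineOpen G hV y hyV (a • n)).1 (hgn a ha)
      exact ⟨t, ht, htn⟩)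
  have hh' : ∀ a ∈ q, h • a • n = 0 := fun a ha => hh _ ⟨a, ha, rfl⟩
  rw [germ_eq_zero_iff_of_isAffineOpen G hV y hyV]
  refine ⟨h, hhq, ?_⟩
  let T : Cl Z := clPoint hZ y hy
  apply (isZPure_iff_forall_injective Z G).1 hG T V
  rw [map_zero]
  apply section_eq_zero_of_germ_eq_zero
  intro w hw
  have hwV : w ∈ V := hw.1
  have e := TopCat.Presheaf.germ_res_apply G.presheaf
    (homOfLE (inf_le_left : V ⊓ T.U ≤ V)) w hw (h • n)
  refine e.trans ?_
  rw [germ_eq_zero_iff_of_isAffineOpen G hV w hwV]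
  by_contra hcon
  push Not at hcon
  have hle : q ≤ (hV.primeIdealOf ⟨w, hwV⟩).asIdeal := by
    intro a ha
    by_contra han
    apply hcon a han
    rw [smul_comm]
    exact hh' a ha
  have hspec : y ⤳ w := by
    have h1 := fromSpec_specializes hV (q := hV.primeIdealOf ⟨y, hyV⟩)
      (p := hV.primeIdealOf ⟨w, hwV⟩) hle
    rwa [hV.fromSpec_primeIdealOf, hV.fromSpec_primeIdealOf] at h1
  exact hw.2 (specializes_iff_mem_closure.1 hspec)

/-- If `r ∉ 𝔭_x`, the germ of `r` at `x` is a unit. -/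
lemma isUnit_germ_of_notMem {U : X.Opens} (hU : IsAffineOpen U) (x : X) (hx : x ∈ U)
    (r : Γ(X, U)) (hr : r ∉ (hU.primeIdealOf ⟨x, hx⟩).asIdeal) :
    IsUnit (X.presheaf.germ U x hx r) := by
  by_contra hnu
  exact hr ((mem_primeIdealOf_iff_germ_mem hU x hx r).2 ((mem_maximalIdeal _).2 hnu))

/-- **Depth criterion, sufficiency**: if `depth F_{x'} ≥ 2` at all generizations `x' ∈ Z` of `x`,
then `F` is `Z`-closed at `x`. -/
theorem isZClosedAt_of_depth [IsLocallyNoetherian X] (Z : Set X)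
    (hZ : StableUnderSpecialization Z) (F : X.Modules) (hF : Coh.IsCoh F) (x : X)
    (hd : ∀ x' : X, x' ⤳ x → x' ∈ Z →
      (2 : ℕ∞) ≤ LocCoh.depth (X.presheaf.stalk x') (F.presheaf.stalk x')) :
    IsZClosedAt Z F x := by
  have : F.IsQuasicoherent := hF.1
  have : F.IsFiniteType := hF.2
  have hGqc : ((H0 Z).obj F).IsQuasicoherent := isQuasicoherent_H0 Z F
  have hGpure : IsZPure Z ((H0 Z).obj F) := isZPure_of_isZClosed _ _ (isZClosed_H0 Z F)
  have hinj_all : ∀ y : X, y ⤳ x → Function.Injective (rhoStalk Z F y) := by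
    intro y hy
    refine (isZPureAt_iff_depth Z F hZ hF y).2 fun x' hx'y hx'Z => ?_
    exact le_trans (by norm_num) (hd x' (hx'y.trans hy) hx'Z)
  refine ⟨hinj_all x specializes_rfl, ?_⟩
  intro g
  by_contra hg
  obtain ⟨V₀, hxV₀, n₀, rfl⟩ := TopCat.Presheaf.exists_germ_eq ((H0 Z).obj F).presheaf g
  obtain ⟨V, hV0, hxV, hVV₀⟩ := Opens.isBasis_iff_nbhd.1 (X.isBasis_affineOpens) hxV₀
  have hV : IsAffineOpen V := hV0
  have e0 := TopCat.Presheaf.germ_res_apply ((H0 Z).obj F).presheaf (homOfLE hVV₀) x hxV n₀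
  rw [← e0] at hg
  set n : Γ((H0 Z).obj F, V) := ((H0 Z).obj F).presheaf.map (homOfLE hVV₀).op n₀ with hn
  have hN : IsNoetherianRing Γ(X, V) := IsLocallyNoetherian.component_noetherian ⟨V, hV⟩
  set φ := appLinear (rhoApp Z F) V with hφ
  have hφgerm : ∀ (y : X) (hy : y ∈ V) (m : Γ(F, V)),
      rhoStalk Z F y (F.presheaf.germ V y hy m) =
        ((H0 Z).obj F).presheaf.germ V y hy (φ m) := fun y hy m =>
    stalkMap_germ (rhoApp Z F) y V hy m
  have hρsmul : ∀ (y : X) (c : X.presheaf.stalk y) (a : F.presheaf.stalk y),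
      rhoStalk Z F y (c • a) = c • rhoStalk Z F y a := fun y c a =>
    stalkMap_smul (rhoApp Z F) y c a
  set p := (hV.primeIdealOf ⟨x, hxV⟩).asIdeal with hp
  have hcolon : ∀ r : Γ(X, V), r • n ∈ LinearMap.range φ → r ∈ p := by
    rintro r ⟨m, hm⟩
    by_contra hrp
    apply hg
    obtain ⟨u, hu⟩ := isUnit_germ_of_notMem hV x hxV r hrp
    refine ⟨(↑u⁻¹ : X.presheaf.stalk x) • F.presheaf.germ V x hxV m, ?_⟩
    rw [hρsmul, hφgerm, hm, germ_smul, ← hu, smul_smul, Units.inv_mul, one_smul]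
  obtain ⟨q, hqprime, r, hqp, hcol⟩ := exists_prime_colon_eq (LinearMap.range φ) n p hcolon
  set n₁ := r • n with hn₁
  set Q : PrimeSpectrum Γ(X, V) := ⟨q, hqprime⟩ with hQ
  obtain ⟨y₀, hy₀⟩ : ∃ y : X, y = hV.fromSpec Q := ⟨_, rfl⟩
  have hyV : y₀ ∈ V := hy₀ ▸ QCoh.fromSpec_mem hV Q
  have hyx : y₀ ⤳ x := by
    have h1 := fromSpec_specializes hV (q := Q) (p := hV.primeIdealOf ⟨x, hxV⟩) hqp
    rwa [hV.fromSpec_primeIdealOf, ← hy₀] at h1
  have hQ' : (hV.primeIdealOf ⟨y₀, hyV⟩).asIdeal = q := by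
    subst hy₀
    rw [primeIdealOf_fromSpec]
  set g₁ := ((H0 Z).obj F).presheaf.germ V y₀ hyV n₁ with hg₁
  -- (i) `g₁` is not in the range
  have hnot : ¬ ∃ a, rhoStalk Z F y₀ a = g₁ := by
    rintro ⟨a, ha⟩
    let _ := stalkModuleOfOpen F V y₀ hyV
    have hloc := isLocalizedModule_germ F hV y₀ hyV
    obtain ⟨⟨m, s⟩, hms⟩ := IsLocalizedModule.surj
      (hV.primeIdealOf ⟨y₀, hyV⟩).asIdeal.primeCompl (germₗ F V y₀ hyV) a
    have hms' : X.presheaf.germ V y₀ hyV s.1 • a = F.presheaf.germ V y₀ hyV m := hms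
    have h1 : ((H0 Z).obj F).presheaf.germ V y₀ hyV (s.1 • n₁ - φ m) = 0 := by
      rw [map_sub, germ_smul, ← hφgerm, ← hms', hρsmul, ha, sub_self]
    obtain ⟨t, ht, htn⟩ := (germ_eq_zero_iff_of_isAffineOpen ((H0 Z).obj F) hV y₀ hyV _).1 h1
    rw [smul_sub, sub_eq_zero] at htn
    have h2 : (t * s.1) • n₁ ∈ LinearMap.range φ := ⟨t • m, by rw [map_smul, ← htn, mul_smul]⟩
    have h3 : t * s.1 ∈ q := (hcol _).1 h2
    rcases hqprime.mem_or_mem h3 with h4 | h4
    · have ht' : t ∉ q := by rw [← hQ']; exact ht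
      exact ht' h4
    · have hs' : s.1 ∉ q := by rw [← hQ']; exact s.2
      exact hs' h4
  -- (ii) `𝔪 g₁` is in the range
  have hmg : ∀ t ∈ maximalIdeal (X.presheaf.stalk y₀), ∃ e, rhoStalk Z F y₀ e = t • g₁ := by
    intro t ht
    let _ : Algebra Γ(X, V) (X.presheaf.stalk y₀) := X.presheaf.algebra_section_stalk ⟨y₀, hyV⟩
    have hloc := hV.isLocalization_stalk ⟨y₀, hyV⟩
    obtain ⟨⟨b, s⟩, hbs⟩ := IsLocalization.surj
      (hV.primeIdealOf ⟨y₀, hyV⟩).asIdeal.primeCompl t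
    have hbs' : t * X.presheaf.germ V y₀ hyV s.1 = X.presheaf.germ V y₀ hyV b := hbs
    have hbq : b ∈ q := by
      rw [← hQ', mem_primeIdealOf_iff_germ_mem hV y₀ hyV b, ← hbs']
      exact Ideal.mul_mem_right _ _ ht
    obtain ⟨m, hm⟩ := (hcol b).2 hbq
    obtain ⟨u, hu⟩ := isUnit_germ_of_notMem hV y₀ hyV s.1 s.2
    refine ⟨(↑u⁻¹ : X.presheaf.stalk y₀) • F.presheaf.germ V y₀ hyV m, ?_⟩
    rw [hρsmul, hφgerm, hm, germ_smul, ← hbs', ← hu, smul_smul, ← mul_assoc, mul_comm _ t,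
      mul_assoc, Units.inv_mul, mul_one]
  by_cases hy₀Z : y₀ ∈ Z
  · have hfin : Module.Finite (X.presheaf.stalk y₀) (F.presheaf.stalk y₀) := finite_stalk F y₀
    exact hnot (mem_range_of_maximalIdeal_smul_mem (stalkMapₗ (rhoApp Z F) y₀)
      (hinj_all y₀ hyx) (hd y₀ hyx hy₀Z)
      (fun g' hg' => eq_zero_of_maximalIdeal_smul_eq_zero hZ ((H0 Z).obj F) hGpure y₀ hy₀Z g' hg')
      g₁ hmg)
  · exact hnot ((isZClosedAt_of_notMem Z F y₀ hy₀Z).2 g₁)

/-- **Stalk bijectivity on an affine open**: for quasi-coherent `M`, `N`, the stalk map of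
`φ : M ⟶ N` at `x ∈ V` (affine) is bijective iff kernel and cokernel of `φ(V)` are
`𝔭_x`-torsion. -/
theorem bijective_stalkMap_iff {M N : X.Modules} [M.IsQuasicoherent] [N.IsQuasicoherent]
    (φ : M ⟶ N) {V : X.Opens} (hV : IsAffineOpen V) (x : X) (hx : x ∈ V) :
    Function.Bijective (stalkMap φ x) ↔
      (∀ m : Γ(M, V), φ.app V m = 0 → ∃ s : Γ(X, V),
        s ∉ (hV.primeIdealOf ⟨x, hx⟩).asIdeal ∧ s • m = 0) ∧
      (∀ n : Γ(N, V), ∃ s : Γ(X, V), s ∉ (hV.primeIdealOf ⟨x, hx⟩).asIdeal ∧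
        ∃ m : Γ(M, V), s • n = φ.app V m) := by
  let _ := stalkModuleOfOpen M V x hx
  let _ := stalkModuleOfOpen N V x hx
  have hlocM := isLocalizedModule_germ M hV x hx
  have hlocN := isLocalizedModule_germ N hV x hx
  let ψ : M.presheaf.stalk x →ₗ[Γ(X, V)] N.presheaf.stalk x :=
    { toFun := stalkMap φ x
      map_add' := map_add _
      map_smul' := fun r m => stalkMap_smul φ x (X.presheaf.germ V x hx r) m }
  have key := bijective_iff_of_isLocalizedModule
    (hV.primeIdealOf ⟨x, hx⟩).asIdeal.primeCompl (germₗ M V x hx) (germₗ N V x hx)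
    (appLinear φ V) ψ (fun m => stalkMap_germ φ x V hx m)
  refine Iff.trans ?_ (key.trans ?_)
  · rfl
  · constructor
    · rintro ⟨h1, h2⟩
      refine ⟨fun m hm => ?_, fun n => ?_⟩
      · obtain ⟨s, hs, hsm⟩ := h1 m hm
        exact ⟨s, hs, hsm⟩
      · obtain ⟨s, hs, m, hm⟩ := h2 n
        exact ⟨s, hs, m, hm⟩
    · rintro ⟨h1, h2⟩
      refine ⟨fun m hm => ?_, fun n => ?_⟩
      · obtain ⟨s, hs, hsm⟩ := h1 m hm
        exact ⟨s, hs, hsm⟩
      · obtain ⟨s, hs, m, hm⟩ := h2 n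
        exact ⟨s, hs, m, hm⟩

/-- Bijectivity of stalk maps of quasi-coherent modules passes to generizations. -/
theorem bijective_stalkMap_of_specializes {M N : X.Modules} [M.IsQuasicoherent]
    [N.IsQuasicoherent] (φ : M ⟶ N) {x x' : X} (h : x' ⤳ x)
    (hx : Function.Bijective (stalkMap φ x)) : Function.Bijective (stalkMap φ x') := by
  obtain ⟨V, hV0, hxV, -⟩ := Opens.isBasis_iff_nbhd.1 (X.isBasis_affineOpens)
    (show x ∈ (⊤ : X.Opens) from trivial)
  have hV : IsAffineOpen V := hV0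
  have hx'V : x' ∈ V := h.mem_open V.isOpen hxV
  have hle := Groth.Agent.Lib.Helper49.StalkLoc.primeIdealOf_le_of_specializes hV hx'V hxV h
  rw [bijective_stalkMap_iff φ hV x hxV] at hx
  rw [bijective_stalkMap_iff φ hV x' hx'V]
  obtain ⟨h1, h2⟩ := hx
  refine ⟨fun m hm => ?_, fun n => ?_⟩
  · obtain ⟨s, hs, hsm⟩ := h1 m hm
    exact ⟨s, fun hs' => hs (hle hs'), hsm⟩
  · obtain ⟨s, hs, m, hm⟩ := h2 n
    exact ⟨s, fun hs' => hs (hle hs'), m, hm⟩

section Smul

variable (F : X.Modules) (U : X.Opens)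

lemma smul_ofF (V : X.Opens) (r : Γ(X, V)) (s : Γ(F, U.ι ''ᵁ U.ι ⁻¹ᵁ V)) :
    r • ofF F U V s =
      ofF F U V (X.presheaf.map (homOfLE (U.ι.image_preimage_le V)).op r • s) := by
  have h1 : r • ofF F U V s = ofF F U V ((U.ι.appIso (U.ι ⁻¹ᵁ V)).inv (U.ι.app V r) • s) := rfl
  rw [h1]
  have h2 : (U.ι.appIso (U.ι ⁻¹ᵁ V)).inv (U.ι.app V r) =
      X.presheaf.map (homOfLE (U.ι.image_preimage_le V)).op r := by
    rw [← CommRingCat.comp_apply, Scheme.Hom.app_appIso_inv]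
    rfl
  rw [h2]

variable (x : X)

lemma germRP_smul (V : X.Opens) (hx : x ∈ V) (r : Γ(X, V)) (s : Γ(F, V ⊓ U)) :
    germRP F x U V hx (X.presheaf.map (homOfLE (inf_le_left : V ⊓ U ≤ V)).op r • s) =
      X.presheaf.germ V x hx r • germRP F x U V hx s := by
  unfold germRP
  rw [← germ_smul, smul_ofF, Glue74.res_smul]
  congr 3
  rw [← CommRingCat.comp_apply, ← Functor.map_comp]
  rfl

variable (Z : Set X)

lemma germH0_smul (T : Cl Z) (V : X.Opens) (hx : x ∈ V) (r : Γ(X, V)) (s : Γ(F, V ⊓ T.U)) :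
    germH0 Z F x T V hx (X.presheaf.map (homOfLE (inf_le_left : V ⊓ T.U ≤ V)).op r • s) =
      X.presheaf.germ V x hx r • germH0 Z F x T V hx s := by
  unfold germH0
  rw [germRP_smul, stalkMap_smul]

end Smul

section Spread

open Groth.Agent.Lib.Helper22

variable (F : X.Modules) [F.IsQuasicoherent]

/-- If `a • k = 0 → h • k = 0` on `Γ(F,V)`, then `a` is regular on `Γ(F, D(h))`. -/
lemma eq_zero_of_smul_eq_zero_basicOpen' {V : X.Opens} (hV : IsAffineOpen V) (a h : Γ(X, V))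
    (h1 : ∀ k : Γ(F, V), a • k = 0 → h • k = 0) (t : Γ(F, X.basicOpen h))
    (ht : X.presheaf.map (homOfLE (X.basicOpen_le h)).op a • t = 0) : t = 0 := by
  obtain ⟨n, m, hm⟩ := exists_pow_smul_eq_map_of_isAffineOpen F hV h t
  have h3 : F.presheaf.map (homOfLE (X.basicOpen_le h)).op (a • m) = 0 := by
    rw [F.map_smul, hm, smul_comm, ht, smul_zero]
  obtain ⟨k, hk⟩ := exists_pow_smul_eq_zero_of_isAffineOpen F hV h (a • m) h3
  have h4 : h • h ^ k • m = 0 := h1 _ (by rw [smul_comm]; exact hk)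
  have h5 : (X.presheaf.map (homOfLE (X.basicOpen_le h)).op h) ^ (1 + k + n) • t = 0 := by
    rw [pow_add, mul_smul, ← hm, ← map_pow, ← F.map_smul, pow_add, pow_one, mul_smul, h4,
      map_zero]
  have hunit : IsUnit (X.presheaf.map (homOfLE (X.basicOpen_le h)).op h) :=
    RingedSpace.isUnit_res_basicOpen _ h
  obtain ⟨u, hu⟩ := hunit.pow (1 + k + n)
  rw [← hu] at h5
  have := congrArg (fun z => (↑u⁻¹ : Γ(X, X.basicOpen h)) • z) h5
  simpa [smul_smul] using this

omit [F.IsQuasicoherent] in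
/-- Divisibility relations `h • f • m ∈ a Γ(F,V)` for `f ∈ 𝔭_x` give `f' • m ∈ a Γ(F,D(h))` for
all `f'` in the prime of `x` in `Γ(X, D(h))`. -/
lemma exists_smul_eq_smul_basicOpen {V : X.Opens} (hV : IsAffineOpen V) (x : X) (hxV : x ∈ V)
    (a h : Γ(X, V)) (m : Γ(F, V)) (hxh : x ∈ X.basicOpen h)
    (h2 : ∀ f ∈ (hV.primeIdealOf ⟨x, hxV⟩).asIdeal, ∃ n : Γ(F, V), h • f • m = a • n)
    (f' : Γ(X, X.basicOpen h))
    (hf' : f' ∈ ((hV.basicOpen h).primeIdealOf ⟨x, hxh⟩).asIdeal) :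
    ∃ n' : Γ(F, X.basicOpen h),
      f' • F.presheaf.map (homOfLE (X.basicOpen_le h)).op m =
        X.presheaf.map (homOfLE (X.basicOpen_le h)).op a • n' := by
  have hloc := hV.isLocalization_basicOpen h
  obtain ⟨⟨b, s⟩, hbs⟩ := IsLocalization.surj (Submonoid.powers h) f'
  obtain ⟨k, hk⟩ := s.2
  have hbs' : f' * (X.presheaf.map (homOfLE (X.basicOpen_le h)).op h) ^ k =
      X.presheaf.map (homOfLE (X.basicOpen_le h)).op b := by
    have : f' * X.presheaf.map (homOfLE (X.basicOpen_le h)).op s.1 =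
      X.presheaf.map (homOfLE (X.basicOpen_le h)).op b := hbs
    rw [← this, ← hk, map_pow]
  have hb : b ∈ (hV.primeIdealOf ⟨x, hxV⟩).asIdeal := by
    rw [mem_primeIdealOf_iff_germ_mem hV x hxV b]
    have e := TopCat.Presheaf.germ_res_apply X.presheaf (homOfLE (X.basicOpen_le h)) x hxh b
    rw [← e, ← hbs', map_mul]
    exact Ideal.mul_mem_right _ _
      ((mem_primeIdealOf_iff_germ_mem (hV.basicOpen h) x hxh f').1 hf')
  obtain ⟨n, hn⟩ := h2 b hb
  have hunit : IsUnit (X.presheaf.map (homOfLE (X.basicOpen_le h)).op h) :=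
    RingedSpace.isUnit_res_basicOpen _ h
  obtain ⟨u, hu⟩ := hunit.pow (k + 1)
  refine ⟨(↑u⁻¹ : Γ(X, X.basicOpen h)) • F.presheaf.map (homOfLE (X.basicOpen_le h)).op n, ?_⟩
  have hn' := congrArg (F.presheaf.map (homOfLE (X.basicOpen_le h)).op) hn
  rw [F.map_smul, F.map_smul, F.map_smul, ← hbs', smul_smul] at hn'
  rw [smul_comm, ← hn', smul_smul]
  have e1 : (↑u⁻¹ : Γ(X, X.basicOpen h)) *
      (X.presheaf.map (homOfLE (X.basicOpen_le h)).op h *
        (f' * X.presheaf.map (homOfLE (X.basicOpen_le h)).op h ^ k)) = f' := by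
    have : X.presheaf.map (homOfLE (X.basicOpen_le h)).op h *
        (f' * X.presheaf.map (homOfLE (X.basicOpen_le h)).op h ^ k) = ↑u * f' := by
      rw [hu, pow_succ]; ring
    rw [this, ← mul_assoc, Units.inv_mul, one_mul]
  rw [e1]

/-- **Depth criterion, necessity at the point**: if `F` is `Z`-closed at `x ∈ Z` then
`depth F_x ≥ 2`. -/
theorem two_le_depth_of_isZClosedAt [IsLocallyNoetherian X] (Z : Set X)
    (hZ : StableUnderSpecialization Z) (F : X.Modules) (hF : Coh.IsCoh F) (x : X) (hxZ : x ∈ Z)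
    (hx : IsZClosedAt Z F x) :
    (2 : ℕ∞) ≤ LocCoh.depth (X.presheaf.stalk x) (F.presheaf.stalk x) := by
  have : F.IsQuasicoherent := hF.1
  have : F.IsFiniteType := hF.2
  have hGqc : ((H0 Z).obj F).IsQuasicoherent := isQuasicoherent_H0 Z F
  have hGpure : IsZPure Z ((H0 Z).obj F) := isZPure_of_isZClosed _ _ (isZClosed_H0 Z F)
  have hfin : Module.Finite (X.presheaf.stalk x) (F.presheaf.stalk x) := finite_stalk F x
  have hρsmul : ∀ (c : X.presheaf.stalk x) (a : F.presheaf.stalk x),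
      rhoStalk Z F x (c • a) = c • rhoStalk Z F x a := fun c a =>
    stalkMap_smul (rhoApp Z F) x c a
  apply two_le_idealDepth_of_forall (maximalIdeal (X.presheaf.stalk x)) (F.presheaf.stalk x)
  · intro m hm
    apply hx.1
    rw [map_zero]
    apply eq_zero_of_maximalIdeal_smul_eq_zero hZ ((H0 Z).obj F) hGpure x hxZ
    intro t ht
    rw [← hρsmul, hm t ht, map_zero]
  · intro a ha hreg m hm
    obtain ⟨W, hxW, a₀, m₀, rfl, rfl⟩ := exists_germ_eq_pair F x a m
    obtain ⟨V, hV0, hxV, hVW⟩ := Opens.isBasis_iff_nbhd.1 (X.isBasis_affineOpens) hxW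
    have hV : IsAffineOpen V := hV0
    have ea := TopCat.Presheaf.germ_res_apply X.presheaf (homOfLE hVW) x hxV a₀
    have em := TopCat.Presheaf.germ_res_apply F.presheaf (homOfLE hVW) x hxV m₀
    rw [← ea] at ha hreg hm ⊢
    rw [← em] at hm ⊢
    set a₁ := X.presheaf.map (homOfLE hVW).op a₀ with ha₁
    set m₁ := F.presheaf.map (homOfLE hVW).op m₀ with hm₁
    have hN : IsNoetherianRing Γ(X, V) := IsLocallyNoetherian.component_noetherian ⟨V, hV⟩
    have hfinV : Module.Finite Γ(X, V) Γ(F, V) := finite_Γ_of_isAffineOpen hV F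
    set p := (hV.primeIdealOf ⟨x, hxV⟩).asIdeal with hp
    obtain ⟨h, hhp, hh1, hh2⟩ := exists_spread p a₁ m₁ (by
      intro k hk
      have h0 : F.presheaf.germ V x hxV k = 0 := by
        apply hreg
        show X.presheaf.germ V x hxV a₁ • F.presheaf.germ V x hxV k =
          X.presheaf.germ V x hxV a₁ • (0 : F.presheaf.stalk x)
        rw [← germ_smul, hk, map_zero, smul_zero]
      exact (germ_eq_zero_iff_of_isAffineOpen F hV x hxV k).1 h0) (by
      intro f hf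
      obtain ⟨n', hn'⟩ := hm _ ((mem_primeIdealOf_iff_germ_mem hV x hxV f).1 hf)
      let _ := stalkModuleOfOpen F V x hxV
      have hloc := isLocalizedModule_germ F hV x hxV
      obtain ⟨⟨n₀, s⟩, hns⟩ := IsLocalizedModule.surj p.primeCompl (germₗ F V x hxV) n'
      have hns' : X.presheaf.germ V x hxV s.1 • n' = F.presheaf.germ V x hxV n₀ := hns
      have h0 : F.presheaf.germ V x hxV (s.1 • f • m₁ - a₁ • n₀) = 0 := by
        rw [map_sub, germ_smul, germ_smul, germ_smul, hn', ← hns', smul_comm, sub_self]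
      obtain ⟨t', ht', ht'0⟩ := (germ_eq_zero_iff_of_isAffineOpen F hV x hxV _).1 h0
      rw [smul_sub, sub_eq_zero] at ht'0
      refine ⟨t' * s.1, ?_, t' • n₀, ?_⟩
      · intro hmem
        rcases (hV.primeIdealOf ⟨x, hxV⟩).isPrime.mem_or_mem hmem with h | h
        · exact ht' h
        · exact s.2 h
      · rw [mul_smul, ht'0, smul_comm])
    have hxh : x ∈ X.basicOpen h := (notMem_primeIdealOf_iff hV x hxV h).1 hhp
    have hV' : IsAffineOpen (X.basicOpen h) := hV.basicOpen h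
    set a' := X.presheaf.map (homOfLE (X.basicOpen_le h)).op a₁ with ha'
    set m' := F.presheaf.map (homOfLE (X.basicOpen_le h)).op m₁ with hm'
    have h1' : ∀ t : Γ(F, X.basicOpen h), a' • t = 0 → t = 0 := fun t ht =>
      eq_zero_of_smul_eq_zero_basicOpen' F hV a₁ h hh1 t ht
    let T : Cl Z := clPoint hZ x hxZ
    obtain ⟨I, hbasic, hcov, hIy⟩ := exists_ideal_of_isAffineOpen T.U hV'
    have hle : I ≤ (hV'.primeIdealOf ⟨x, hxh⟩).asIdeal := by
      rw [hIy, hV'.fromSpec_primeIdealOf]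
      exact fun hxU => hxU (subset_closure rfl)
    obtain ⟨t, ht⟩ := exists_smul_eq_res_of_forall F hV' a' h1' I inf_le_left hbasic hcov m'
      (fun f hf => exists_smul_eq_smul_basicOpen F hV x hxV a₁ h m₁ hxh hh2 f (hle hf))
    obtain ⟨e, he⟩ := hx.2 (germH0 Z F x T (X.basicOpen h) hxh t)
    refine ⟨e, ?_⟩
    apply hx.1
    have ea' := TopCat.Presheaf.germ_res_apply X.presheaf (homOfLE (X.basicOpen_le h)) x hxh a₁
    have em' := TopCat.Presheaf.germ_res_apply F.presheaf (homOfLE (X.basicOpen_le h)) x hxh m₁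
    rw [hρsmul, he, ← ea', ← em', rhoStalk_germ Z F x T (X.basicOpen h) hxh,
      ← germH0_smul]
    exact congrArg _ ht.symm

/-- **S5856**: `Z`-closedness at a point in terms of depth. -/
theorem isZClosedAt_iff_depth [IsLocallyNoetherian X] (Z : Set X)
    (hZ : StableUnderSpecialization Z) (F : X.Modules) (hF : Coh.IsCoh F) (x : X) :
    IsZClosedAt Z F x ↔ ∀ x' : X, x' ⤳ x → x' ∈ Z →
      (2 : ℕ∞) ≤ LocCoh.depth (X.presheaf.stalk x') (F.presheaf.stalk x') := by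
  have : F.IsQuasicoherent := hF.1
  have hGqc : ((H0 Z).obj F).IsQuasicoherent := isQuasicoherent_H0 Z F
  constructor
  · intro hx x' hx'x hx'Z
    exact two_le_depth_of_isZClosedAt Z hZ F hF x' hx'Z
      (bijective_stalkMap_of_specializes (rhoApp Z F) hx'x hx)
  · exact isZClosedAt_of_depth Z hZ F hF x

end Spread

end Groth.Agent.Lib.QCoh.ZClosLib
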