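import Groth.Agent.Lib.QCoh.Helper18_ZClosDepth
import Groth.Agent.Lib.QCoh.Helper18_ZClosQCoh
import Groth.Agent.Lib.QCoh.CohKernel
import Groth.Prelude.Def_FDesc

/-!
# Z-closure and coherence (helper18)

Namespace `Groth.Agent.Lib.QCoh.ZClosLib`.

* `isZPure_of_forall_ass_notMem` : a coherent module with no associated point in `Z` is `Z`-pure.
* `mono_ιH0_of_isZPure`, `isCoh_resPush_of_isCoh_H0` (S5867).
-/

set_option autoImplicit false
universe u

open CategoryTheory CategoryTheory.Limits AlgebraicGeometry Opposite TopologicalSpace IsLocalRing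

namespace Groth.Agent.Lib.QCoh.ZClosLib

open ZClos Groth.Agent.Lib.QCoh Groth.Agent.Lib.QCoh.Hartogs Groth.Agent.Lib.Helper18

variable {X : Scheme.{u}} (Z : Set X) (F : X.Modules)

theorem isZPure_of_forall_ass_notMem [IsLocallyNoetherian X] (hZ : StableUnderSpecialization Z)
    (hF : Coh.IsCoh F) (hass : ∀ x ∈ AssSch.Ass F, x ∉ Z) : IsZPure Z F := by
  have : F.IsQuasicoherent := hF.1
  have : F.IsFiniteType := hF.2
  apply mono_of_forall_stalkMap_injective
  intro x
  change IsZPureAt Z F x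
  rw [isZPureAt_iff_depth Z F hZ hF x]
  intro x' _ hx'Z
  rw [Order.one_le_iff_ne_zero]
  intro h0
  have hfin : Module.Finite (X.presheaf.stalk x') (F.presheaf.stalk x') := finite_stalk F x'
  exact hass x' ((Groth.Agent.Lib.Helper29.depth_eq_zero_iff_maximalIdeal_mem_ass _ _).1 h0) hx'Z

/-- For a Z-pure module, the colimit injections `j_*(F|_{X∖T}) ⟶ H⁰_{X/Z}(F)` are monomorphisms. -/
theorem mono_ιH0_of_isZPure (hF : IsZPure Z F) (T : Cl Z) : Mono (ιH0 Z F T) := by
  have hinj := (isZPure_iff_forall_injective Z F).1 hF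
  apply mono_of_forall_stalkMap_injective
  intro x
  rw [injective_iff_map_eq_zero]
  intro h hh
  obtain ⟨V, hxV, -, s, rfl⟩ := exists_germRP_eq F x T.U h ⊤ trivial
  have hh' : germH0 Z F x T V hxV s = germH0 Z F x T V hxV 0 := by
    rw [germH0_zero]
    exact hh
  obtain ⟨T'', hT, hT', W, hxW, hWV, hWV', hW⟩ := exists_of_germH0_eq Z F x hxV hxV _ _ hh'
  rw [germRP_res F x T.U hxV hxW hWV s]
  have h0 : Glue74.res F (inf_le_inf_right T.U hWV) s = 0 := by
    apply hinj T'' (W ⊓ T.U)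
    rw [map_zero]
    change Glue74.res F _ (Glue74.res F _ s) = 0
    rw [Glue74.res_res]
    have hsub : (W ⊓ T.U) ⊓ T''.U ≤ W ⊓ T''.U := inf_le_inf_right _ inf_le_left
    have h' := congrArg (Glue74.res F hsub) hW
    rw [Glue74.res_res] at h'
    refine h'.trans ?_
    have : Glue74.res F (inf_le_inf hWV' (Cl.U_anti hT')) (0 : Γ(F, V ⊓ T.U)) = 0 := map_zero _
    rw [this]
    exact map_zero _
  rw [h0, germRP_zero]

/-- **S5867**. -/
theorem isCoh_resPush_of_isCoh_H0 [IsLocallyNoetherian X] (hZ : StableUnderSpecialization Z)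
    (hF : Coh.IsCoh F) (hass : ∀ x ∈ AssSch.Ass F, x ∉ Z) (hH : Coh.IsCoh ((H0 Z).obj F))
    (T : Cl Z) : Coh.IsCoh ((resPush T.U).obj F) := by
  have : F.IsQuasicoherent := hF.1
  have hmono := mono_ιH0_of_isZPure Z F (isZPure_of_forall_ass_notMem Z F hZ hF hass) T
  exact isCoh_of_mono (ιH0 Z F T) hH (isQuasicoherent_resPush T.U F)

end Groth.Agent.Lib.QCoh.ZClosLib
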