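import Groth.Agent.Lib.QCoh.Helper18_StalkLinear
import Groth.Agent.Lib.QCoh.Helper18_Ass
import Groth.Agent.Lib.QCoh.Helper18_PullbackSupport
import Groth.Agent.Lib.QCoh.Helper50_AffineDict
import Groth.Agent.Lib.Helper93.ReflexiveDepth
import Groth.Agent.Lib.QCoh.Local
import Groth.Prelude.Def_CurvBase

/-!
# QCoh API (helper74): isomorphism criterion via depth ≥ 2 (Stacks 0AVS-style)

Namespace `Groth.Agent.Lib.QCoh.DepthIso74`.
-/

set_option linter.style.haveILetI false
universe u
open CategoryTheory CategoryTheory.Limits AlgebraicGeometry Opposite TopologicalSpace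

namespace Groth.Agent.Lib.QCoh.DepthIso74
open Groth.Agent.Lib.QCoh IsLocalRing

section Algebra

variable {R : Type u} [CommRing R] [IsLocalRing R] {M N : Type u} [AddCommGroup M] [Module R M]
  [AddCommGroup N] [Module R N]

/-- An element killed by the maximal ideal, in a module of which the maximal ideal is not an
associated prime, vanishes. -/
lemma eq_zero_of_forall_smul_eq_zero (hN : ¬ IsAssociatedPrime (maximalIdeal R) N) (w : N)
    (hw : ∀ a ∈ maximalIdeal R, a • w = 0) : w = 0 := by
  by_contra hne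
  apply hN
  refine ⟨inferInstance, w, ?_⟩
  have hle : maximalIdeal R ≤ Submodule.colon (⊥ : Submodule R N) {w} := by
    intro a ha
    rw [Submodule.mem_colon_singleton, Submodule.mem_bot]
    exact hw a ha
  have hne' : Submodule.colon (⊥ : Submodule R N) {w} ≠ ⊤ := by
    intro htop
    have h1 : (1 : R) ∈ Submodule.colon (⊥ : Submodule R N) {w} := by rw [htop]; trivial
    rw [Submodule.mem_colon_singleton, Submodule.mem_bot, one_smul] at h1
    exact hne h1
  have heq : Submodule.colon (⊥ : Submodule R N) {w} = maximalIdeal R :=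
    ((maximalIdeal.isMaximal R).eq_of_le hne' hle).symm
  rw [heq, Ideal.IsPrime.radical inferInstance]

/-- **Extension lemma**: `φ : M → N` injective, `depth M ≥ 2`, the maximal ideal not associated
to `N`; if `𝔪 g ⊆ φ(M)` then `g ∈ φ(M)`. -/
theorem mem_range_of_forall_smul_mem [Module.Finite R M] (φ : M →ₗ[R] N)
    (hφ : Function.Injective φ) (hd : (2 : ℕ∞) ≤ LocCoh.depth R M)
    (hN : ¬ IsAssociatedPrime (maximalIdeal R) N) (g : N)
    (hg : ∀ a ∈ maximalIdeal R, a • g ∈ LinearMap.range φ) : g ∈ LinearMap.range φ := by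
  by_cases htop : maximalIdeal R • (⊤ : Submodule R M) = ⊤
  · -- `M = 0`
    have hbot : (⊤ : Submodule R M) = ⊥ :=
      Submodule.eq_bot_of_le_smul_of_le_jacobson_bot (maximalIdeal R) ⊤ Module.Finite.fg_top
        htop.ge (maximalIdeal_le_jacobson ⊥)
    have hM : ∀ m : M, m = 0 := fun m => by
      have : m ∈ (⊤ : Submodule R M) := trivial
      rw [hbot] at this
      exact this
    have : g = 0 := eq_zero_of_forall_smul_eq_zero hN g fun a ha => by
      obtain ⟨m, hm⟩ := hg a ha
      rw [← hm, hM m, map_zero]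
    rw [this]; exact Submodule.zero_mem _
  · obtain ⟨a, ha, b, hb, hreg, hpair⟩ :=
      Groth.Agent.Lib.Helper93.ReflexiveDepth.exists_regular_two (maximalIdeal R) M hd htop
    obtain ⟨u, hu⟩ := hg a ha
    obtain ⟨v, hv⟩ := hg b hb
    have h1 : b • u = a • v := by
      apply hφ
      rw [map_smul, map_smul, hu, hv, smul_smul, smul_smul, mul_comm]
    obtain ⟨f, hf⟩ := hpair u v h1
    have hw : g - φ f = 0 := by
      apply eq_zero_of_forall_smul_eq_zero hN
      intro c hc
      obtain ⟨t, ht⟩ := hg c hc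
      have h2 : c • (g - φ f) = φ (t - c • f) := by
        rw [smul_sub, ← ht, map_sub, map_smul]
      have h3 : a • (t - c • f) = 0 := by
        apply hφ
        rw [map_zero, map_smul, ← h2, smul_smul, mul_comm, ← smul_smul, smul_sub, ← hu, hf,
          map_smul, sub_self, smul_zero]
      have h4 : t - c • f = 0 := hreg (show a • (t - c • f) = a • 0 by rw [h3, smul_zero])
      rw [h2, h4, map_zero]
    exact ⟨f, (sub_eq_zero.1 hw).symm⟩

/-- An element whose annihilator has radical the maximal ideal produces a nonzero element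
killed by the maximal ideal (Noetherian case). -/
lemma exists_ne_zero_forall_smul_eq_zero [IsNoetherianRing R] (x : M)
    (hx : Ideal.radical (LinearMap.ker (LinearMap.toSpanSingleton R M x)) = maximalIdeal R) :
    ∃ x' : M, x' ≠ 0 ∧ (∃ c : R, x' = c • x) ∧ ∀ a ∈ maximalIdeal R, a • x' = 0 := by
  classical
  set I : Ideal R := LinearMap.ker (LinearMap.toSpanSingleton R M x) with hI
  have hmem : ∀ c : R, c ∈ I ↔ c • x = 0 := fun c => by
    rw [hI, LinearMap.mem_ker, LinearMap.toSpanSingleton_apply]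
  obtain ⟨n, hn⟩ : ∃ n : ℕ, maximalIdeal R ^ n ≤ I := by
    have := Ideal.exists_radical_pow_le_of_fg I (IsNoetherian.noetherian _)
    rwa [hx] at this
  have h0 : ¬ maximalIdeal R ^ 0 ≤ I := by
    intro h
    have h1 : (1 : R) ∈ I := h (by rw [pow_zero, Ideal.one_eq_top]; trivial)
    have h2 : I = ⊤ := (Ideal.eq_top_iff_one _).2 h1
    have h3 : maximalIdeal R = ⊤ := by rw [← hx, h2, Ideal.radical_top]
    exact (maximalIdeal.isMaximal R).ne_top h3
  have hex : ∃ n : ℕ, maximalIdeal R ^ n ≤ I := ⟨n, hn⟩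
  obtain ⟨n₀, hn₀, hmin⟩ : ∃ n₀ : ℕ, maximalIdeal R ^ n₀ ≤ I ∧
      ∀ k < n₀, ¬ maximalIdeal R ^ k ≤ I :=
    ⟨Nat.find hex, Nat.find_spec hex, fun k hk => Nat.find_min hex hk⟩
  have hpos : n₀ ≠ 0 := fun h => h0 (h ▸ hn₀)
  obtain ⟨k, hk⟩ := Nat.exists_eq_succ_of_ne_zero hpos
  have hk' : ¬ maximalIdeal R ^ k ≤ I := hmin k (by rw [hk]; exact Nat.lt_succ_self k)
  obtain ⟨c, hc, hcI⟩ := SetLike.not_le_iff_exists.1 hk'
  refine ⟨c • x, fun h => hcI ((hmem c).2 h), ⟨c, rfl⟩, fun a ha => ?_⟩
  rw [smul_smul, ← hmem]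
  apply hn₀
  rw [hk, pow_succ']
  exact Ideal.mul_mem_mul ha hc

/-- A finite module over a Noetherian local ring having a weakly associated maximal ideal has
depth `< 1`. -/
theorem not_one_le_depth_of_weakAss [IsNoetherianRing R] [Module.Finite R M] (x : M)
    (hx : Ideal.radical (LinearMap.ker (LinearMap.toSpanSingleton R M x)) = maximalIdeal R) :
    ¬ (1 : ℕ∞) ≤ LocCoh.depth R M := by
  intro hd
  obtain ⟨x', hx'0, -, hx'⟩ := exists_ne_zero_forall_smul_eq_zero x hx
  by_cases htop : maximalIdeal R • (⊤ : Submodule R M) = ⊤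
  · have hbot : (⊤ : Submodule R M) = ⊥ :=
      Submodule.eq_bot_of_le_smul_of_le_jacobson_bot (maximalIdeal R) ⊤ Module.Finite.fg_top
        htop.ge (maximalIdeal_le_jacobson ⊥)
    have : x' ∈ (⊤ : Submodule R M) := trivial
    rw [hbot] at this
    exact hx'0 this
  · obtain ⟨a, ha, hreg⟩ :=
      Groth.Agent.Lib.Helper93.ReflexiveDepth.exists_regular_one (maximalIdeal R) M hd htop
    exact hx'0 (hreg (show a • x' = a • 0 by rw [hx' a ha, smul_zero]))

end Algebra

section Scheme

variable {X : Scheme.{u}} [IsLocallyNoetherian X] {F G : X.Modules} (φ : F ⟶ G)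
  [F.IsQuasicoherent] [F.IsFiniteType] [G.IsQuasicoherent]

/-- Injectivity part. -/
theorem mono_of_depth
    (h : ∀ x : X, Function.Injective (stalkMap φ x) ∨
      (1 : ℕ∞) ≤ LocCoh.depth (X.presheaf.stalk x) (F.presheaf.stalk x)) : Mono φ := by
  rw [mono_iff_forall_affine_injective]
  intro U
  rw [injective_iff_map_eq_zero]
  intro m hm
  by_contra hne
  obtain ⟨y, hy, ⟨m₀, hm₀⟩, hgerm⟩ := exists_isWeakAssPoint_of_section_ne_zero F U.2 m hne
  rcases h y with hinj | hd
  · apply hgerm
    apply hinj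
    rw [stalkMap_germ, hm, map_zero, map_zero]
  · have hfin : Module.Finite (X.presheaf.stalk y) (F.presheaf.stalk y) := finite_stalk F y
    exact not_one_le_depth_of_weakAss m₀ hm₀ hd

/-- **Isomorphism criterion**: on a locally Noetherian scheme, a map `φ : F ⟶ G` of
quasi-coherent modules with `F` coherent which at every point is either bijective on stalks or
satisfies `depth F_x ≥ 2` and `x ∉ Ass(G)`, is an isomorphism. -/
theorem isIso_of_depth
    (h : ∀ x : X, Function.Bijective (stalkMap φ x) ∨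
      ((2 : ℕ∞) ≤ LocCoh.depth (X.presheaf.stalk x) (F.presheaf.stalk x) ∧
        ¬ Curv2.IsAssPoint G x)) : IsIso φ := by
  have hmono : Mono φ := by
    refine mono_of_depth φ fun x => ?_
    rcases h x with hb | ⟨hd, -⟩
    · exact Or.inl hb.1
    · exact Or.inr (le_trans (by norm_num) hd)
  let S : ShortComplex X.Modules := ShortComplex.mk φ (cokernel.π φ) (cokernel.condition φ)
  have hS : S.ShortExact :=
    { exact := ShortComplex.exact_cokernel φ
      mono_f := hmono
      epi_g := inferInstance }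
  have hQ : (cokernel φ).IsQuasicoherent := isQuasicoherent_cokernel φ
  have hzero : IsZero (cokernel φ) := by
    by_contra hnz
    obtain ⟨x, q₀, hq₀⟩ := exists_isWeakAssPoint_of_not_isZero (cokernel φ) hnz
    obtain ⟨q', hq'0, -, hq'⟩ := exists_ne_zero_forall_smul_eq_zero q₀ hq₀
    obtain ⟨hinj, hsurj, hex⟩ := stalk_exact_of_shortExact S hS x
    obtain ⟨g, hg⟩ := hsurj q'
    -- `𝔪 g ⊆ φ(F_x)`
    have hmg : ∀ a ∈ maximalIdeal (X.presheaf.stalk x),
        a • g ∈ LinearMap.range (stalkMapₗ φ x) := by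
      intro a ha
      have h1 : stalkMap (cokernel.π φ) x (a • g) = 0 := by
        rw [stalkMap_smul, hg, hq' a ha]
      obtain ⟨f, hf⟩ := hex (a • g) h1
      exact ⟨f, hf⟩
    -- composition vanishes on stalks
    have hcomp : ∀ f : F.presheaf.stalk x, stalkMap (cokernel.π φ) x (stalkMap φ x f) = 0 := by
      intro f
      have h1 : (stalkFunctor X x).map φ ≫ (stalkFunctor X x).map (cokernel.π φ) = 0 := by
        rw [← Functor.map_comp, cokernel.condition, Functor.map_zero]
      exact congr($h1 f)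
    have hgr : g ∈ LinearMap.range (stalkMapₗ φ x) := by
      rcases h x with hb | ⟨hd, hass⟩
      · obtain ⟨f, hf⟩ := hb.2 g
        exact ⟨f, hf⟩
      · have hfin : Module.Finite (X.presheaf.stalk x) (F.presheaf.stalk x) := finite_stalk F x
        exact mem_range_of_forall_smul_mem (stalkMapₗ φ x) hinj hd hass g hmg
    obtain ⟨f, hf⟩ := hgr
    apply hq'0
    rw [← hg, ← hf]
    exact hcomp f
  have hepi : Epi φ := Preadditive.epi_of_isZero_cokernel φ hzero
  exact isIso_of_mono_of_epi φ

end Scheme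

end Groth.Agent.Lib.QCoh.DepthIso74
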