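import Groth.Agent.Lib.QCoh.Helper18_ZClosUniv
import Groth.Agent.Lib.QCoh.Helper18_HartogsConv
import Groth.Agent.Lib.QCoh.Helper18_AssNoeth
import Groth.Agent.Lib.QCoh.Helper74_DepthIso
import Groth.Agent.Lib.Helper29.DepthZero
import Groth.Agent.Lib.Helper49.StalkLoc

/-!
# Z-closure: support and depth criteria (helper18)

Namespace `Groth.Agent.Lib.QCoh.ZClosLib`.

* `exists_cl_res_eq_zero` : a section whose germs vanish outside `Z` restricts to zero on the
  complement of some closed `T ⊆ Z`.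
* `isZero_H0_iff` (S5870), `isZPureAt_iff_depth` (S5855), `two_le_depth_stalk_H0` (S5857).
-/

set_option autoImplicit false
universe u

open CategoryTheory CategoryTheory.Limits AlgebraicGeometry Opposite TopologicalSpace IsLocalRing

namespace Groth.Agent.Lib.QCoh.ZClosLib

open ZClos Groth.Agent.Lib.QCoh Groth.Agent.Lib.QCoh.Hartogs Groth.Agent.Lib.Helper18

variable {X : Scheme.{u}} (Z : Set X) (F : X.Modules)

/-- A section of `F` over `W` whose germs vanish at all points outside `Z` restricts to zero on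
`W ∖ T` for some closed `T ⊆ Z`. -/
theorem exists_cl_res_eq_zero [IsLocallyNoetherian X] (hZ : StableUnderSpecialization Z)
    {W : X.Opens} (s : Γ(F, W))
    (hs : ∀ (y : X) (hy : y ∈ W), y ∉ Z → F.presheaf.germ W y hy s = 0) :
    ∃ T : Cl Z, Glue74.res F (inf_le_left : W ⊓ T.U ≤ W) s = 0 := by
  set S : Set X := {y | ∃ hy : y ∈ W, F.presheaf.germ W y hy s ≠ 0} with hS
  have hSZ : S ⊆ Z := by
    rintro y ⟨hy, hne⟩
    by_contra hyZ
    exact hne (hs y hy hyZ)
  have hSW : S ⊆ W := fun y hy => hy.1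
  have hSeq : S = closure S ∩ (W : Set X) := by
    apply Set.Subset.antisymm
    · exact fun y hy => ⟨subset_closure hy, hSW hy⟩
    · rintro y ⟨hycl, hyW⟩
      by_contra hyS
      have h0 : F.presheaf.germ W y hyW s = 0 := by
        by_contra hne
        exact hyS ⟨hyW, hne⟩
      have h0' : F.presheaf.germ W y hyW s = F.presheaf.germ W y hyW 0 := by
        rw [h0, map_zero]
      obtain ⟨W', hyW', i₁, i₂, hW'⟩ := TopCat.Presheaf.germ_eq F.presheaf y hyW hyW s 0 h0'
      obtain ⟨z, hzW', hzS⟩ := mem_closure_iff.1 hycl W' W'.isOpen hyW'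
      obtain ⟨hzW, hzne⟩ := hzS
      apply hzne
      have e := TopCat.Presheaf.germ_res_apply F.presheaf i₁ z hzW' s
      rw [← e, hW', map_zero, map_zero]
  have hcl : closure S ⊆ Z :=
    closure_subset_of_stableUnderSpecialization hZ isClosed_closure W.isOpen hSeq hSZ
  let T : Cl Z := ⟨⟨closure S, isClosed_closure⟩, hcl⟩
  refine ⟨T, ?_⟩
  apply section_eq_zero_of_germ_eq_zero
  intro y hy
  have hyW : y ∈ W := hy.1
  have e := TopCat.Presheaf.germ_res_apply F.presheaf
    (homOfLE (inf_le_left : W ⊓ T.U ≤ W)) y hy s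
  refine e.trans ?_
  by_contra hne
  exact hy.2 (subset_closure (show y ∈ S from ⟨hyW, hne⟩))

/-- **S5870**. -/
theorem isZero_H0_iff [IsLocallyNoetherian X] (hZ : StableUnderSpecialization Z) :
    IsZero ((H0 Z).obj F) ↔ ∀ x : X, x ∉ Z → Subsingleton (F.presheaf.stalk x) := by
  constructor
  · intro h x hx
    have h1 := stalk_subsingleton_of_isZero h x
    have h2 := (isZClosedAt_of_notMem Z F x hx).1
    exact h2.subsingleton
  · intro h
    apply isZero_of_forall_stalk_subsingleton
    intro x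
    refine ⟨fun a b => ?_⟩
    have key : ∀ g : ((H0 Z).obj F).presheaf.stalk x, g = 0 := by
      intro g
      obtain ⟨T, V, hxV, -, s, rfl⟩ := exists_germH0_eq Z F x g ⊤ trivial
      obtain ⟨T', hT'⟩ := exists_cl_res_eq_zero Z F hZ s (fun y hy hyZ => by
        have := h y hyZ
        exact Subsingleton.elim _ _)
      have e := germH0_res Z F x (show T ≤ T ⊔ T' from le_sup_left) hxV hxV (le_refl V) s
      rw [e]
      have h0 : Glue74.res F (inf_le_inf (le_refl V) (Cl.U_anti (show T ≤ T ⊔ T' from le_sup_left)))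
          s = 0 := by
        have hsub : V ⊓ (T ⊔ T').U ≤ (V ⊓ T.U) ⊓ T'.U :=
          le_inf (inf_le_inf_left V (Cl.U_anti le_sup_left))
            (inf_le_right.trans (Cl.U_anti le_sup_right))
        have h' := congrArg (Glue74.res F hsub) hT'
        rw [Glue74.res_res] at h'
        exact h'.trans (map_zero _)
      rw [h0, germH0_zero]
    rw [key a, key b]

/-- **S5857**. -/
theorem two_le_depth_stalk_H0 [IsLocallyNoetherian X] (hZ : StableUnderSpecialization Z)
    (hH : Coh.IsCoh ((H0 Z).obj F)) (x : X) (hx : x ∈ Z) :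
    (2 : ℕ∞) ≤ LocCoh.depth (X.presheaf.stalk x) (((H0 Z).obj F).presheaf.stalk x) := by
  have : ((H0 Z).obj F).IsQuasicoherent := hH.1
  have : ((H0 Z).obj F).IsFiniteType := hH.2
  have hcl : closure {x} ⊆ Z := by
    intro y hy
    exact hZ (specializes_iff_mem_closure.2 hy) hx
  let T : Cl Z := ⟨⟨closure {x}, isClosed_closure⟩, hcl⟩
  have hbij := (isZClosed_iff_forall_bijective Z ((H0 Z).obj F)).1 (isZClosed_H0 Z F) T
  refine two_le_depth_stalk_of_bijective ((H0 Z).obj F) T.U (fun V _ => hbij V) x ?_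
  intro hxU
  exact hxU (subset_closure rfl)


/-- **S5855**: Z-purity at a point in terms of depth. -/
theorem isZPureAt_iff_depth [IsLocallyNoetherian X] (hZ : StableUnderSpecialization Z)
    (hF : Coh.IsCoh F) (x : X) :
    IsZPureAt Z F x ↔ ∀ x' : X, x' ⤳ x → x' ∈ Z →
      (1 : ℕ∞) ≤ LocCoh.depth (X.presheaf.stalk x') (F.presheaf.stalk x') := by
  have : F.IsQuasicoherent := hF.1
  have : F.IsFiniteType := hF.2
  constructor
  · intro hinj x' hx'x hx'Z
    by_contra hd
    have hfin : Module.Finite (X.presheaf.stalk x') (F.presheaf.stalk x') := finite_stalk F x'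
    have hd0 : LocCoh.depth (X.presheaf.stalk x') (F.presheaf.stalk x') = 0 := by
      rwa [Order.one_le_iff_ne_zero, not_not] at hd
    have hass : Curv2.IsAssPoint F x' :=
      (Groth.Agent.Lib.Helper29.depth_eq_zero_iff_maximalIdeal_mem_ass _ _).1 hd0
    obtain ⟨V, hV0, hxV, -⟩ := Opens.isBasis_iff_nbhd.1 (X.isBasis_affineOpens)
      (show x ∈ (⊤ : X.Opens) from trivial)
    have hV : IsAffineOpen V := hV0
    have hx'V : x' ∈ V := hx'x.mem_open V.isOpen hxV
    have hNV : IsNoetherianRing Γ(X, V) := IsLocallyNoetherian.component_noetherian ⟨V, hV⟩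
    have hass' := (isAssPoint_iff_mem_associatedPrimes F hV x' hx'V).1 hass
    obtain ⟨hpp, m, hm⟩ := (isAssociatedPrime_iff).1 hass'
    have hmem : ∀ t : Γ(X, V), t ∈ (hV.primeIdealOf ⟨x', hx'V⟩).asIdeal ↔ t • m = 0 := by
      intro t
      rw [hm, Submodule.mem_colon_singleton]
      simp
    have hgx : F.presheaf.germ V x hxV m ≠ 0 := by
      rw [Ne, germ_eq_zero_iff_of_isAffineOpen F hV x hxV]
      rintro ⟨t, ht, htm⟩
      apply ht
      apply Groth.Agent.Lib.Helper49.StalkLoc.primeIdealOf_le_of_specializes hV hx'V hxV hx'x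
      exact (hmem t).2 htm
    have hcl : closure {x'} ⊆ Z := by
      intro y hy
      exact hZ (specializes_iff_mem_closure.2 hy) hx'Z
    let T : Cl Z := ⟨⟨closure {x'}, isClosed_closure⟩, hcl⟩
    apply hgx
    apply hinj
    rw [map_zero, rhoStalk_germ Z F x T V hxV m]
    have h0 : Glue74.res F (inf_le_left : V ⊓ T.U ≤ V) m = 0 := by
      apply section_eq_zero_of_germ_eq_zero
      intro y hy
      have hyV : y ∈ V := hy.1
      have e := TopCat.Presheaf.germ_res_apply F.presheaf
        (homOfLE (inf_le_left : V ⊓ T.U ≤ V)) y hy m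
      refine e.trans ?_
      rw [germ_eq_zero_iff_of_isAffineOpen F hV y hyV]
      by_contra hcon
      push Not at hcon
      have hle : (hV.primeIdealOf ⟨x', hx'V⟩).asIdeal ≤ (hV.primeIdealOf ⟨y, hyV⟩).asIdeal := by
        intro t ht
        by_contra htn
        exact hcon t htn ((hmem t).1 ht)
      have hspec : x' ⤳ y := by
        have h1 := fromSpec_specializes hV (q := hV.primeIdealOf ⟨x', hx'V⟩)
          (p := hV.primeIdealOf ⟨y, hyV⟩) hle
        rwa [hV.fromSpec_primeIdealOf, hV.fromSpec_primeIdealOf] at h1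
      exact hy.2 (specializes_iff_mem_closure.1 hspec)
    rw [h0, germH0_zero]
  · intro hdepth
    change Function.Injective (rhoStalk Z F x)
    rw [injective_iff_map_eq_zero]
    intro a ha
    obtain ⟨V₀, hxV₀, m₀, rfl⟩ := TopCat.Presheaf.exists_germ_eq F.presheaf a
    obtain ⟨V, hV0, hxV, hVV₀⟩ := Opens.isBasis_iff_nbhd.1 (X.isBasis_affineOpens) hxV₀
    have hV : IsAffineOpen V := hV0
    have e0 := TopCat.Presheaf.germ_res_apply F.presheaf (homOfLE hVV₀) x hxV m₀
    rw [← e0] at ha ⊢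
    set m : Γ(F, V) := F.presheaf.map (homOfLE hVV₀).op m₀ with hm
    by_contra hne
    rw [rhoStalk_germ Z F x ⊥ V hxV m, ← germH0_zero Z F x ⊥ V hxV] at ha
    obtain ⟨T'', hT, hT', W, hxW, hWV, hWV', hW⟩ := exists_of_germH0_eq Z F x hxV hxV _ _ ha
    have hann : WeakAss.ann Γ(X, V) m ≤ (hV.primeIdealOf ⟨x, hxV⟩).asIdeal := by
      intro t ht
      by_contra htn
      exact hne ((germ_eq_zero_iff_of_isAffineOpen F hV x hxV m).2 ⟨t, htn, WeakAss.mem_ann.1 ht⟩)
    obtain ⟨p, hp, hpx⟩ := Ideal.exists_minimalPrimes_le hann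
    have hpp : p.IsPrime := hp.1.1
    set P : PrimeSpectrum Γ(X, V) := ⟨p, hpp⟩ with hP
    have hyV : hV.fromSpec P ∈ V := QCoh.fromSpec_mem hV P
    have hyx : hV.fromSpec P ⤳ x := by
      have h1 := fromSpec_specializes hV (q := P) (p := hV.primeIdealOf ⟨x, hxV⟩) hpx
      rwa [hV.fromSpec_primeIdealOf] at h1
    have hyweak : Curv2.IsWeakAssPoint F (hV.fromSpec P) := by
      rw [isWeakAssPoint_iff_of_isAffineOpen F hV _ hyV, primeIdealOf_fromSpec]
      exact ⟨m, hp⟩
    have hgy : F.presheaf.germ V (hV.fromSpec P) hyV m ≠ 0 := by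
      rw [Ne, germ_eq_zero_iff_of_isAffineOpen F hV _ hyV, primeIdealOf_fromSpec]
      rintro ⟨t, ht, htm⟩
      exact ht (hp.1.2 (WeakAss.mem_ann.2 htm))
    have hyW : hV.fromSpec P ∈ W := hyx.mem_open W.isOpen hxW
    have hyT : hV.fromSpec P ∈ (T''.1 : Set X) := by
      by_contra hyT
      have hy' : hV.fromSpec P ∈ W ⊓ T''.U := ⟨hyW, hyT⟩
      apply hgy
      have e := TopCat.Presheaf.germ_res_apply F.presheaf
        (homOfLE ((inf_le_left : W ⊓ T''.U ≤ W).trans hWV)) (hV.fromSpec P) hy' m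
      rw [← e]
      have h0 : F.presheaf.map (homOfLE ((inf_le_left : W ⊓ T''.U ≤ W).trans hWV)).op m = 0 := by
        rw [Glue74.res_res] at hW
        exact hW.trans (map_zero _)
      rw [h0, map_zero]
    have hyZ : hV.fromSpec P ∈ Z := T''.2 hyT
    obtain ⟨m₁, hm₁⟩ := hyweak
    have hfin := finite_stalk F (hV.fromSpec P)
    exact DepthIso74.not_one_le_depth_of_weakAss m₁ hm₁ (hdepth _ hyx hyZ)

end Groth.Agent.Lib.QCoh.ZClosLib
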