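import Groth.Agent.Lib.QCoh.Helper18_ZClosDepth

/-!
# Z-closure: isomorphism criterion (helper18)

Namespace `Groth.Agent.Lib.QCoh.ZClosLib`.

* `isIso_lift_of_bijective_off` (S5852).
-/

set_option autoImplicit false
universe u

open CategoryTheory CategoryTheory.Limits AlgebraicGeometry Opposite TopologicalSpace IsLocalRing

namespace Groth.Agent.Lib.QCoh.ZClosLib

open ZClos Groth.Agent.Lib.QCoh Groth.Agent.Lib.QCoh.Hartogs Groth.Agent.Lib.Helper18

variable {X : Scheme.{u}} (Z : Set X) (F : X.Modules)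

/-- **S5852**. -/
theorem isIso_lift_of_bijective_off [IsLocallyNoetherian X] (hZ : StableUnderSpecialization Z)
    {F' : X.Modules} (hF' : IsZClosed Z F') (u : F ⟶ F')
    (hu : ∀ x : X, x ∉ Z → Function.Bijective (stalkMap u x))
    (v : (H0 Z).obj F ⟶ F') (hv : rhoApp Z F ≫ v = u) : IsIso v := by
  -- Step 0: `v` is bijective on stalks outside `Z`
  have hv0 : ∀ y : X, y ∉ Z → Function.Bijective (stalkMap v y) := by
    intro y hy
    have h1 : (stalkMap v y : _ → _) ∘ (stalkMap (rhoApp Z F) y : _ → _) = (stalkMap u y : _ → _) := by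
      funext a
      rw [← hv]
      exact (stalkMap_comp_apply (rhoApp Z F) v y a).symm
    have h2 : Function.Bijective (stalkMap (rhoApp Z F) y) := isZClosedAt_of_notMem Z F y hy
    have h3 := hu y hy
    rw [← h1] at h3
    exact (Function.Bijective.of_comp_iff _ h2).1 h3
  have hHclosed := isZClosed_H0 Z F
  have hHinj := (isZPure_iff_forall_injective Z _).1 (isZPure_of_isZClosed Z _ hHclosed)
  have hHbij := (isZClosed_iff_forall_bijective Z _).1 hHclosed
  have hF'inj := (isZPure_iff_forall_injective Z _).1 (isZPure_of_isZClosed Z _ hF')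
  -- Step 1: `v` is injective on sections
  have hinj : ∀ V : X.Opens, Function.Injective (v.app V) := by
    intro V
    rw [injective_iff_map_eq_zero]
    intro k hk
    obtain ⟨T, hT⟩ := exists_cl_res_eq_zero Z ((H0 Z).obj F) hZ k (by
      intro y hy hyZ
      apply (hv0 y hyZ).1
      rw [stalkMap_germ, hk, map_zero, map_zero])
    apply hHinj T V
    rw [map_zero]
    exact hT
  have hmono : Mono v := mono_of_app_injective v hinj
  -- Step 2: `v` is surjective on stalks
  have hsurj : ∀ x : X, Function.Surjective (stalkMap v x) := by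
    intro x a'
    obtain ⟨V, hxV, s', rfl⟩ := TopCat.Presheaf.exists_germ_eq F'.presheaf a'
    -- local lifting lemma
    have hloc : ∀ (y : X) (hy : y ∈ V),
        F'.presheaf.germ V y hy s' ∈ Set.range (stalkMap v y) →
        ∃ (W : X.Opens) (_ : y ∈ W) (hWV : W ≤ V) (σ : Γ((H0 Z).obj F, W)),
          v.app W σ = Glue74.res F' hWV s' := by
      rintro y hy ⟨g, hg⟩
      obtain ⟨W₀, hyW₀, σ₀, rfl⟩ := TopCat.Presheaf.exists_germ_eq ((H0 Z).obj F).presheaf g
      rw [stalkMap_germ] at hg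
      obtain ⟨W, hyW, i₁, i₂, hW⟩ := TopCat.Presheaf.germ_eq F'.presheaf y hyW₀ hy _ _ hg
      refine ⟨W, hyW, i₂.le, ((H0 Z).obj F).presheaf.map i₁.op σ₀, ?_⟩
      rw [app_naturality_apply]
      exact hW
    set S : Set X := {y | ∃ hy : y ∈ V, F'.presheaf.germ V y hy s' ∉ Set.range (stalkMap v y)}
      with hS
    have hSZ : S ⊆ Z := by
      rintro y ⟨hy, hne⟩
      by_contra hyZ
      exact hne ((hv0 y hyZ).2 _)
    have hSV : S ⊆ V := fun y hy => hy.1
    have hSeq : S = closure S ∩ (V : Set X) := by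
      apply Set.Subset.antisymm
      · exact fun y hy => ⟨subset_closure hy, hSV hy⟩
      · rintro y ⟨hycl, hyV⟩
        by_contra hyS
        have hmem : F'.presheaf.germ V y hyV s' ∈ Set.range (stalkMap v y) := by
          by_contra hne
          exact hyS ⟨hyV, hne⟩
        obtain ⟨W, hyW, hWV, σ, hσ⟩ := hloc y hyV hmem
        obtain ⟨z, hzW, hzS⟩ := mem_closure_iff.1 hycl W W.isOpen hyW
        obtain ⟨hzV, hzne⟩ := hzS
        apply hzne
        refine ⟨((H0 Z).obj F).presheaf.germ W z hzW σ, ?_⟩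
        rw [stalkMap_germ, hσ]
        exact TopCat.Presheaf.germ_res_apply F'.presheaf (homOfLE hWV) z hzW s'
    have hcl : closure S ⊆ Z :=
      closure_subset_of_stableUnderSpecialization hZ isClosed_closure V.isOpen hSeq hSZ
    let T : Cl Z := ⟨⟨closure S, isClosed_closure⟩, hcl⟩
    have hloc' : ∀ y : ↥(V ⊓ T.U), ∃ (W : X.Opens) (_ : y.1 ∈ W) (hWV : W ≤ V ⊓ T.U)
        (σ : Γ((H0 Z).obj F, W)), v.app W σ = Glue74.res F' (hWV.trans inf_le_left) s' := by
      intro y
      have hyV : y.1 ∈ V := y.2.1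
      have hmem : F'.presheaf.germ V y.1 hyV s' ∈ Set.range (stalkMap v y.1) := by
        by_contra hne
        exact y.2.2 (subset_closure (show y.1 ∈ S from ⟨hyV, hne⟩))
      obtain ⟨W, hyW, hWV, σ, hσ⟩ := hloc y.1 hyV hmem
      refine ⟨W ⊓ (V ⊓ T.U), ⟨hyW, y.2⟩, inf_le_right,
        ((H0 Z).obj F).presheaf.map (homOfLE (inf_le_left : W ⊓ (V ⊓ T.U) ≤ W)).op σ, ?_⟩
      rw [app_naturality_apply, hσ]
      exact Glue74.res_res F' _ _ s'
    choose W hyW hWV σ hσ using hloc'
    obtain ⟨τ, hτ⟩ := exists_gluing_of_cover ((H0 Z).obj F) W (V ⊓ T.U) hWV (by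
      intro y hy
      exact Opens.mem_iSup.2 ⟨⟨y, hy⟩, hyW ⟨y, hy⟩⟩) σ (by
      intro i j
      apply hinj (W i ⊓ W j)
      rw [app_naturality_apply, app_naturality_apply, hσ i, hσ j]
      exact (Glue74.res_res F' _ _ s').trans (Glue74.res_res F' _ _ s').symm)
    obtain ⟨τ', hτ'⟩ := (hHbij T V).2 τ
    refine ⟨((H0 Z).obj F).presheaf.germ V x hxV τ', ?_⟩
    rw [stalkMap_germ]
    congr 1
    apply hF'inj T V
    rw [← app_naturality_apply, hτ']
    refine sections_ext_of_cover F' W (V ⊓ T.U) hWV (by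
      intro y hy
      exact Opens.mem_iSup.2 ⟨⟨y, hy⟩, hyW ⟨y, hy⟩⟩) _ _ fun i => ?_
    rw [← app_naturality_apply, hτ i, hσ i]
    exact (Glue74.res_res F' _ _ s').symm
  have hepi : Epi v := epi_of_forall_stalkMap_surjective v hsurj
  exact isIso_of_mono_of_epi v

end Groth.Agent.Lib.QCoh.ZClosLib
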