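import Groth.Agent.Lib.QCoh.Helper18_ZClosBasic
import Groth.Agent.Lib.QCoh.Helper18_SpecClosure
import Groth.Agent.Lib.QCoh.Helper18_HartogsInv

/-!
# Z-purity and Z-closedness are local on `X` (helper18; S5846, S5847)

Namespace `Groth.Agent.Lib.QCoh.ZClosLib`.
-/

set_option autoImplicit false
universe u

open AlgebraicGeometry CategoryTheory Opposite TopologicalSpace ZClos

namespace Groth.Agent.Lib.QCoh.ZClosLib

variable {X : Scheme.{u}}

lemma injective_map_congr (F : X.Modules) {O1 O1' O2 O2' : X.Opens} (h1 : O1 = O1')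
    (h2 : O2 = O2') (i : O2 ⟶ O1) (i' : O2' ⟶ O1') :
    Function.Injective (F.presheaf.map i.op) ↔ Function.Injective (F.presheaf.map i'.op) := by
  subst h1 h2
  rw [Subsingleton.elim i i']

lemma bijective_map_congr (F : X.Modules) {O1 O1' O2 O2' : X.Opens} (h1 : O1 = O1')
    (h2 : O2 = O2') (i : O2 ⟶ O1) (i' : O2' ⟶ O1') :
    Function.Bijective (F.presheaf.map i.op) ↔ Function.Bijective (F.presheaf.map i'.op) := by
  subst h1 h2
  rw [Subsingleton.elim i i']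

section Restrict

variable {Z : Set X} (U : X.Opens)

/-- The closure in `X` of a closed subset of `U` contained in `Z ∩ U`. -/
def clClosure [IsLocallyNoetherian X] (hZ : StableUnderSpecialization Z)
    (T : Cl (U.ι.base ⁻¹' Z)) : Cl Z :=
  ⟨⟨closure (U.ι.base '' (T.1 : Set U)), isClosed_closure⟩, by
    obtain ⟨C, hC, hCT⟩ := U.ι.isOpenEmbedding.isInducing.isClosed_iff.1 T.1.isClosed
    refine closure_subset_of_stableUnderSpecialization hZ hC U.isOpen ?_ ?_
    · rw [← hCT, Set.image_preimage_eq_inter_range, Scheme.Opens.range_ι]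
    · rintro _ ⟨y, hy, rfl⟩
      exact T.2 hy⟩

lemma mem_clClosure_iff [IsLocallyNoetherian X] (hZ : StableUnderSpecialization Z)
    (T : Cl (U.ι.base ⁻¹' Z)) (y : U) :
    U.ι.base y ∈ ((clClosure U hZ T).1 : Set X) ↔ y ∈ (T.1 : Set U) := by
  show U.ι.base y ∈ closure (U.ι.base '' (T.1 : Set U)) ↔ _
  have h := U.ι.isOpenEmbedding.isInducing.closure_eq_preimage_closure_image (T.1 : Set U)
  rw [T.1.isClosed.closure_eq] at h
  constructor
  · intro hy
    rw [h]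
    exact hy
  · intro hy
    rw [h] at hy
    exact hy

lemma image_inf_clClosure [IsLocallyNoetherian X] (hZ : StableUnderSpecialization Z)
    (T : Cl (U.ι.base ⁻¹' Z)) (W : (U : Scheme).Opens) :
    U.ι ''ᵁ (W ⊓ T.U) = U.ι ''ᵁ W ⊓ (clClosure U hZ T).U := by
  ext x
  constructor
  · rintro ⟨y, ⟨hyW, hyT⟩, rfl⟩
    refine ⟨⟨y, hyW, rfl⟩, fun h => hyT ?_⟩
    exact (mem_clClosure_iff U hZ T y).1 h
  · rintro ⟨⟨y, hyW, rfl⟩, hyT⟩
    refine ⟨y, ⟨hyW, fun h => hyT ?_⟩, rfl⟩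
    exact (mem_clClosure_iff U hZ T y).2 h

/-- The preimage in `U` of a closed subset of `X` contained in `Z`. -/
def clPreimage (T : Cl Z) : Cl (U.ι.base ⁻¹' Z) :=
  ⟨⟨U.ι.base ⁻¹' (T.1 : Set X), T.1.isClosed.preimage U.ι.continuous⟩, Set.preimage_mono T.2⟩

lemma image_preimage_eq_of_le {W : X.Opens} (hW : W ≤ U) : U.ι ''ᵁ (U.ι ⁻¹ᵁ W) = W := by
  ext x
  constructor
  · rintro ⟨y, hy, rfl⟩
    exact hy
  · intro hx
    exact ⟨⟨x, hW hx⟩, hx, rfl⟩

lemma image_inf_clPreimage (T : Cl Z) {W : X.Opens} (hW : W ≤ U) :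
    U.ι ''ᵁ (U.ι ⁻¹ᵁ W ⊓ (clPreimage U T).U) = W ⊓ T.U := by
  ext x
  constructor
  · rintro ⟨y, ⟨hyW, hyT⟩, rfl⟩
    exact ⟨hyW, fun h => hyT h⟩
  · rintro ⟨hxW, hxT⟩
    exact ⟨⟨x, hW hxW⟩, ⟨hxW, fun h => hxT h⟩, rfl⟩

end Restrict

section Main

variable (Z : Set X) (F : X.Modules)

theorem isZPure_restrict [IsLocallyNoetherian X] (hZ : StableUnderSpecialization Z)
    (h : IsZPure Z F) (U : X.Opens) :
    IsZPure (U.ι.base ⁻¹' Z) ((Scheme.Modules.restrictFunctor U.ι).obj F) := by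
  rw [isZPure_iff_forall_injective] at h ⊢
  intro T W
  have h1 := h (clClosure U hZ T) (U.ι ''ᵁ W)
  change Function.Injective
    (F.presheaf.map (U.ι.opensFunctor.map (homOfLE (inf_le_left : W ⊓ T.U ≤ W))).op)
  exact (injective_map_congr F rfl (image_inf_clClosure U hZ T W) _ _).2 h1

theorem isZClosed_restrict [IsLocallyNoetherian X] (hZ : StableUnderSpecialization Z)
    (h : IsZClosed Z F) (U : X.Opens) :
    IsZClosed (U.ι.base ⁻¹' Z) ((Scheme.Modules.restrictFunctor U.ι).obj F) := by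
  rw [isZClosed_iff_forall_bijective] at h ⊢
  intro T W
  have h1 := h (clClosure U hZ T) (U.ι ''ᵁ W)
  change Function.Bijective
    (F.presheaf.map (U.ι.opensFunctor.map (homOfLE (inf_le_left : W ⊓ T.U ≤ W))).op)
  exact (bijective_map_congr F rfl (image_inf_clClosure U hZ T W) _ _).2 h1

theorem isZPure_of_forall_restrict {ι : Type*} (V : ι → X.Opens) (hV : iSup V = ⊤)
    (h : ∀ i, IsZPure ((V i).ι.base ⁻¹' Z) ((Scheme.Modules.restrictFunctor (V i).ι).obj F)) :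
    IsZPure Z F := by
  rw [isZPure_iff_forall_injective]
  intro T V'
  refine Hartogs.injective_res_inf_of_forall_good F T.U (fun W => ∃ i, W ≤ V i) ?_ ?_ V'
  · intro V' x hx
    have hx' : x ∈ iSup V := by rw [hV]; trivial
    obtain ⟨i, hi⟩ := Opens.mem_iSup.1 hx'
    exact ⟨V' ⊓ V i, ⟨i, inf_le_right⟩, ⟨hx, hi⟩, inf_le_left⟩
  · rintro W ⟨i, hW⟩
    have h1 := (isZPure_iff_forall_injective _ _).1 (h i) (clPreimage (V i) T) ((V i).ι ⁻¹ᵁ W)
    change Function.Injective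
      (F.presheaf.map ((V i).ι.opensFunctor.map (homOfLE (inf_le_left :
        (V i).ι ⁻¹ᵁ W ⊓ (clPreimage (V i) T).U ≤ (V i).ι ⁻¹ᵁ W))).op) at h1
    exact (injective_map_congr F (image_preimage_eq_of_le (V i) hW)
      (image_inf_clPreimage (V i) T hW) _ _).1 h1

theorem isZClosed_of_forall_restrict {ι : Type*} (V : ι → X.Opens) (hV : iSup V = ⊤)
    (h : ∀ i, IsZClosed ((V i).ι.base ⁻¹' Z) ((Scheme.Modules.restrictFunctor (V i).ι).obj F)) :
    IsZClosed Z F := by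
  rw [isZClosed_iff_forall_bijective]
  intro T V'
  refine Hartogs.bijective_res_inf_of_forall_good F T.U (fun W => ∃ i, W ≤ V i) ?_ ?_ V'
  · intro V' x hx
    have hx' : x ∈ iSup V := by rw [hV]; trivial
    obtain ⟨i, hi⟩ := Opens.mem_iSup.1 hx'
    exact ⟨V' ⊓ V i, ⟨i, inf_le_right⟩, ⟨hx, hi⟩, inf_le_left⟩
  · rintro W ⟨i, hW⟩
    have h1 := (isZClosed_iff_forall_bijective _ _).1 (h i) (clPreimage (V i) T) ((V i).ι ⁻¹ᵁ W)
    change Function.Bijective
      (F.presheaf.map ((V i).ι.opensFunctor.map (homOfLE (inf_le_left :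
        (V i).ι ⁻¹ᵁ W ⊓ (clPreimage (V i) T).U ≤ (V i).ι ⁻¹ᵁ W))).op) at h1
    exact (bijective_map_congr F (image_preimage_eq_of_le (V i) hW)
      (image_inf_clPreimage (V i) T hW) _ _).1 h1

end Main

end Groth.Agent.Lib.QCoh.ZClosLib
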