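import Groth.Agent.Lib.QCoh.Helper18_ZClosClosedAt
import Groth.Agent.Lib.QCoh.Helper18_ZClosLocal

/-!
# The open locus where a coherent module is Z-closed (helper18; S5859)

Namespace `Groth.Agent.Lib.QCoh.ZClosLib`.
-/

set_option autoImplicit false
universe u

open CategoryTheory CategoryTheory.Limits AlgebraicGeometry Opposite TopologicalSpace IsLocalRing

namespace Groth.Agent.Lib.QCoh.ZClosLib

open ZClos Groth.Agent.Lib.QCoh Groth.Agent.Lib.QCoh.Hartogs Groth.Agent.Lib.Helper18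

variable {X : Scheme.{u}}

/-- For a morphism of coherent modules on a locally Noetherian scheme, the locus where the stalk
map is bijective is open. -/
theorem isOpen_setOf_bijective_stalkMap [IsLocallyNoetherian X] {M N : X.Modules}
    (hM : Coh.IsCoh M) (hN : Coh.IsCoh N) (φ : M ⟶ N) :
    IsOpen {x : X | Function.Bijective (stalkMap φ x)} := by
  have := hM.1
  have := hM.2
  have := hN.1
  have := hN.2
  rw [isOpen_iff_forall_mem_open]
  intro x hx
  obtain ⟨V, hV0, hxV, -⟩ := Opens.isBasis_iff_nbhd.1 (X.isBasis_affineOpens)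
    (show x ∈ (⊤ : X.Opens) from trivial)
  have hV : IsAffineOpen V := hV0
  have hNR : IsNoetherianRing Γ(X, V) := IsLocallyNoetherian.component_noetherian ⟨V, hV⟩
  have hfinM : Module.Finite Γ(X, V) Γ(M, V) := finite_Γ_of_isAffineOpen hV M
  have hfinN : Module.Finite Γ(X, V) Γ(N, V) := finite_Γ_of_isAffineOpen hV N
  have hNM : IsNoetherian Γ(X, V) Γ(M, V) := isNoetherian_of_isNoetherianRing_of_finite _ _
  rw [Set.mem_ofPred_eq, bijective_stalkMap_iff φ hV x hxV] at hx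
  obtain ⟨h1, h2⟩ := hx
  set p := (hV.primeIdealOf ⟨x, hxV⟩).asIdeal with hp
  obtain ⟨k₁, hk₁p, hk₁⟩ := exists_notMem_forall_smul_eq_zero
    (LinearMap.ker (appLinear φ V)) (IsNoetherian.noetherian _) p
    (fun k hk => h1 k (by simpa using hk))
  obtain ⟨k₂, hk₂p, hk₂⟩ := exists_notMem_forall_smul_eq_zero
    (⊤ : Submodule Γ(X, V) (Γ(N, V) ⧸ LinearMap.range (appLinear φ V)))
    Module.Finite.fg_top p (by
      rintro nb -
      obtain ⟨n, rfl⟩ := Submodule.Quotient.mk_surjective _ nb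
      obtain ⟨s, hs, m, hm⟩ := h2 n
      refine ⟨s, hs, ?_⟩
      rw [← Submodule.Quotient.mk_smul, Submodule.Quotient.mk_eq_zero]
      exact ⟨m, hm.symm⟩)
  refine ⟨X.basicOpen (k₁ * k₂), ?_, (X.basicOpen _).isOpen, ?_⟩
  · intro y hy
    have hyV : y ∈ V := X.basicOpen_le _ hy
    rw [Set.mem_ofPred_eq, bijective_stalkMap_iff φ hV y hyV]
    have hky : k₁ * k₂ ∉ (hV.primeIdealOf ⟨y, hyV⟩).asIdeal :=
      (notMem_primeIdealOf_iff hV y hyV _).2 hy
    have hk₁y : k₁ ∉ (hV.primeIdealOf ⟨y, hyV⟩).asIdeal :=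
      fun h => hky (Ideal.mul_mem_right _ _ h)
    have hk₂y : k₂ ∉ (hV.primeIdealOf ⟨y, hyV⟩).asIdeal :=
      fun h => hky (Ideal.mul_mem_left _ _ h)
    refine ⟨fun m hm => ⟨k₁, hk₁y, hk₁ m (by simpa using hm)⟩, fun n => ?_⟩
    have h3 := hk₂ (Submodule.Quotient.mk n) trivial
    rw [← Submodule.Quotient.mk_smul, Submodule.Quotient.mk_eq_zero] at h3
    obtain ⟨m, hm⟩ := h3
    exact ⟨k₂, hk₂y, m, hm.symm⟩
  · refine (notMem_primeIdealOf_iff hV x hxV _).1 fun hmem => ?_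
    rcases (hV.primeIdealOf ⟨x, hxV⟩).isPrime.mem_or_mem hmem with h | h
    · exact hk₁p h
    · exact hk₂p h

section LocalSurj

variable (F : X.Modules)

/-- Local-to-global surjectivity of `Γ(F,V) → Γ(F,V ∩ U)`, needing injectivity only on opens
inside `V`. -/
lemma exists_res_inf_eq_of_locally' (U : X.Opens) (V : X.Opens)
    (hinj : ∀ V' : X.Opens, V' ≤ V →
      Function.Injective (F.presheaf.map (homOfLE (inf_le_left : V' ⊓ U ≤ V')).op))
    (t : Γ(F, V ⊓ U))
    (hloc : ∀ x : X, x ∈ V → ∃ (W : X.Opens) (hWV : W ≤ V), x ∈ W ∧ ∃ s : Γ(F, W),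
      Glue74.res F inf_le_left s = Glue74.res F (inf_le_inf_right U hWV) t) :
    ∃ s : Γ(F, V), Glue74.res F inf_le_left s = t := by
  choose W hWV hxW s hs using (fun x : V => hloc x.1 x.2)
  have hcover : V ≤ iSup W := by
    intro y hy
    exact Opens.mem_iSup.2 ⟨⟨y, hy⟩, hxW ⟨y, hy⟩⟩
  obtain ⟨g, hg⟩ := exists_gluing_of_cover F W V hWV hcover s (by
    intro i j
    apply hinj (W i ⊓ W j) (inf_le_left.trans (hWV i))
    change Glue74.res F _ (Glue74.res F _ (s i)) = Glue74.res F _ (Glue74.res F _ (s j))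
    rw [Glue74.res_res, Glue74.res_res]
    have e1 : Glue74.res F
        ((inf_le_left : (W i ⊓ W j) ⊓ U ≤ W i ⊓ W j).trans inf_le_left) (s i) =
        Glue74.res F (inf_le_inf_right U inf_le_left : (W i ⊓ W j) ⊓ U ≤ W i ⊓ U)
          (Glue74.res F inf_le_left (s i)) := (Glue74.res_res F _ _ _).symm
    have e2 : Glue74.res F
        ((inf_le_left : (W i ⊓ W j) ⊓ U ≤ W i ⊓ W j).trans inf_le_right) (s j) =
        Glue74.res F (inf_le_inf_right U inf_le_right : (W i ⊓ W j) ⊓ U ≤ W j ⊓ U)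
          (Glue74.res F inf_le_left (s j)) := (Glue74.res_res F _ _ _).symm
    rw [e1, e2, hs i, hs j, Glue74.res_res, Glue74.res_res])
  refine ⟨g, ?_⟩
  refine sections_ext_of_cover F (fun x : V => W x ⊓ U) (V ⊓ U)
    (fun x => inf_le_inf_right U (hWV x)) ?_ _ _ fun x => ?_
  · rintro y ⟨hyV, hyU⟩
    exact Opens.mem_iSup.2 ⟨⟨y, hyV⟩, ⟨hxW ⟨y, hyV⟩, hyU⟩⟩
  · change Glue74.res F _ (Glue74.res F _ g) = Glue74.res F _ t
    rw [Glue74.res_res]
    have e3 : Glue74.res F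
        ((inf_le_inf_right U (hWV x) : W x ⊓ U ≤ V ⊓ U).trans inf_le_left) g =
        Glue74.res F inf_le_left (Glue74.res F (hWV x) g) := (Glue74.res_res F _ _ _).symm
    rw [e3]
    change Glue74.res F inf_le_left (F.presheaf.map (homOfLE (hWV x)).op g) = _
    rw [hg x, hs x]

end LocalSurj

section Pointwise

variable (Z : Set X) (F : X.Modules)

/-- If `F` is `Z`-pure at all points of `V`, restrictions `Γ(F,W) → Γ(F,W ∖ T)` are injective for
`W ⊆ V`. -/
lemma injective_res_inf_of_forall_isZPureAt (V : X.Opens) (h : ∀ y ∈ V, IsZPureAt Z F y)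
    (T : Cl Z) (W : X.Opens) (hW : W ≤ V) :
    Function.Injective (F.presheaf.map (homOfLE (inf_le_left : W ⊓ T.U ≤ W)).op) := by
  rw [injective_iff_map_eq_zero]
  intro s hs
  apply section_eq_zero_of_germ_eq_zero
  intro y hy
  apply h y (hW hy)
  rw [map_zero, rhoStalk_germ Z F y T W hy s]
  have h0 : Glue74.res F inf_le_left s = 0 := hs
  rw [h0, germH0_zero]

/-- If `F` is `Z`-closed at all points of `V`, restrictions `Γ(F,W) → Γ(F,W ∖ T)` are bijective
for `W ⊆ V`. -/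
theorem bijective_res_inf_of_forall_isZClosedAt (V : X.Opens) (h : ∀ y ∈ V, IsZClosedAt Z F y)
    (T : Cl Z) (W : X.Opens) (hW : W ≤ V) :
    Function.Bijective (F.presheaf.map (homOfLE (inf_le_left : W ⊓ T.U ≤ W)).op) := by
  have hinj := injective_res_inf_of_forall_isZPureAt Z F V (fun y hy => (h y hy).1)
  refine ⟨hinj T W hW, fun t => ?_⟩
  apply exists_res_inf_eq_of_locally' F T.U W (fun V' hV' => hinj T V' (hV'.trans hW)) t
  intro y hy
  obtain ⟨a, ha⟩ := (h y (hW hy)).2 (germH0 Z F y T W hy t)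
  obtain ⟨W₀, hyW₀, s₀, rfl⟩ := TopCat.Presheaf.exists_germ_eq F.presheaf a
  have hyW₁ : y ∈ W₀ ⊓ W := ⟨hyW₀, hy⟩
  have e0 := TopCat.Presheaf.germ_res_apply F.presheaf
    (homOfLE (inf_le_left : W₀ ⊓ W ≤ W₀)) y hyW₁ s₀
  rw [← e0, rhoStalk_germ Z F y T (W₀ ⊓ W) hyW₁] at ha
  obtain ⟨T'', hT, hT', W'', hyW'', hW''W₁, hW''W, hres⟩ :=
    exists_of_germH0_eq Z F y hyW₁ hy _ _ ha
  refine ⟨W'', hW''W, hyW'', Glue74.res F (hW''W₁.trans inf_le_left) s₀, ?_⟩
  apply hinj T'' (W'' ⊓ T.U) ((inf_le_left.trans hW''W).trans hW)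
  change Glue74.res F _ (Glue74.res F _ (Glue74.res F _ s₀)) =
    Glue74.res F _ (Glue74.res F _ t)
  have hle : (W'' ⊓ T.U) ⊓ T''.U ≤ W'' ⊓ T''.U := inf_le_inf_right _ inf_le_left
  have h1 := congrArg (Glue74.res F hle) hres
  change Glue74.res F _ (Glue74.res F _ (Glue74.res F _ (Glue74.res F _ s₀))) =
    Glue74.res F _ (Glue74.res F _ t) at h1
  rw [Glue74.res_res, Glue74.res_res, Glue74.res_res, Glue74.res_res] at h1
  rw [Glue74.res_res, Glue74.res_res, Glue74.res_res]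
  exact h1

/-- If all restrictions `Γ(F,W) → Γ(F,W ∖ T)`, `W ⊆ V`, are bijective then `F` is `Z`-closed at
all points of `V`. -/
theorem isZClosedAt_of_forall_bijective (V : X.Opens)
    (h : ∀ (T : Cl Z) (W : X.Opens), W ≤ V →
      Function.Bijective (F.presheaf.map (homOfLE (inf_le_left : W ⊓ T.U ≤ W)).op))
    (x : X) (hxV : x ∈ V) : IsZClosedAt Z F x := by
  constructor
  · rw [injective_iff_map_eq_zero]
    intro a ha
    obtain ⟨W₀, hxW₀, s₀, rfl⟩ := TopCat.Presheaf.exists_germ_eq F.presheaf a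
    have hxW₁ : x ∈ W₀ ⊓ V := ⟨hxW₀, hxV⟩
    have e0 := TopCat.Presheaf.germ_res_apply F.presheaf
      (homOfLE (inf_le_left : W₀ ⊓ V ≤ W₀)) x hxW₁ s₀
    rw [← e0] at ha ⊢
    generalize F.presheaf.map (homOfLE (inf_le_left : W₀ ⊓ V ≤ W₀)).op s₀ = s₁ at ha ⊢
    rw [rhoStalk_germ Z F x ⊥ (W₀ ⊓ V) hxW₁, ← germH0_zero Z F x ⊥ (W₀ ⊓ V) hxW₁] at ha
    obtain ⟨T'', hT, hT', W'', hxW'', hW''W₁, hW''W₁', hres⟩ :=
      exists_of_germH0_eq Z F x hxW₁ hxW₁ _ _ ha
    have h0 : Glue74.res F hW''W₁ s₁ = 0 := by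
      apply (h T'' W'' (hW''W₁.trans inf_le_right)).1
      change Glue74.res F _ (Glue74.res F _ s₁) = Glue74.res F _ 0
      rw [Glue74.res_res] at hres
      rw [Glue74.res_res]
      refine hres.trans ?_
      rw [Hartogs.res_zero, Hartogs.res_zero]
    have e1 := TopCat.Presheaf.germ_res_apply F.presheaf (homOfLE hW''W₁) x hxW'' s₁
    refine e1.symm.trans ?_
    have h0' : F.presheaf.map (homOfLE hW''W₁).op s₁ = 0 := h0
    rw [h0', map_zero]
  · intro g
    obtain ⟨T, W₀, hxW₀, hW₀V, t, rfl⟩ := exists_germH0_eq Z F x g V hxV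
    obtain ⟨s, hs⟩ := (h T W₀ hW₀V).2 t
    refine ⟨F.presheaf.germ W₀ x hxW₀ s, ?_⟩
    rw [rhoStalk_germ Z F x T W₀ hxW₀ s]
    exact congrArg _ hs

/-- From `(Z ∩ V)`-closedness of `F|_V` to bijectivity of restrictions. -/
theorem bijective_res_inf_of_isZClosed_restrict (V : X.Opens)
    (h : IsZClosed (V.ι.base ⁻¹' Z) ((Scheme.Modules.restrictFunctor V.ι).obj F)) (T : Cl Z)
    (W : X.Opens) (hW : W ≤ V) :
    Function.Bijective (F.presheaf.map (homOfLE (inf_le_left : W ⊓ T.U ≤ W)).op) := by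
  have h1 := (isZClosed_iff_forall_bijective _ _).1 h (clPreimage V T) (V.ι ⁻¹ᵁ W)
  change Function.Bijective
    (F.presheaf.map (V.ι.opensFunctor.map (homOfLE (inf_le_left :
      V.ι ⁻¹ᵁ W ⊓ (clPreimage V T).U ≤ V.ι ⁻¹ᵁ W))).op) at h1
  exact (bijective_map_congr F (image_preimage_eq_of_le V hW)
    (image_inf_clPreimage V T hW) _ _).1 h1

/-- From bijectivity of restrictions to `(Z ∩ V)`-closedness of `F|_V`. -/
theorem isZClosed_restrict_of_forall_bijective [IsLocallyNoetherian X]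
    (hZ : StableUnderSpecialization Z) (V : X.Opens)
    (h : ∀ (T : Cl Z) (W : X.Opens), W ≤ V →
      Function.Bijective (F.presheaf.map (homOfLE (inf_le_left : W ⊓ T.U ≤ W)).op)) :
    IsZClosed (V.ι.base ⁻¹' Z) ((Scheme.Modules.restrictFunctor V.ι).obj F) := by
  rw [isZClosed_iff_forall_bijective]
  intro T W
  have h1 := h (clClosure V hZ T) (V.ι ''ᵁ W) (V.ι_image_le W)
  change Function.Bijective
    (F.presheaf.map (V.ι.opensFunctor.map (homOfLE (inf_le_left : W ⊓ T.U ≤ W))).op)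
  exact (bijective_map_congr F rfl (image_inf_clClosure V hZ T W) _ _).2 h1

/-- `F|_V` is `(Z ∩ V)`-closed iff `F` is `Z`-closed at all points of `V`. -/
theorem isZClosed_restrict_iff_forall_isZClosedAt [IsLocallyNoetherian X]
    (hZ : StableUnderSpecialization Z) (V : X.Opens) :
    IsZClosed (V.ι.base ⁻¹' Z) ((Scheme.Modules.restrictFunctor V.ι).obj F) ↔
      ∀ x ∈ V, IsZClosedAt Z F x :=
  ⟨fun h x hx => isZClosedAt_of_forall_bijective Z F V
      (bijective_res_inf_of_isZClosed_restrict Z F V h) x hx,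
    fun h => isZClosed_restrict_of_forall_bijective Z F hZ V
      (bijective_res_inf_of_forall_isZClosedAt Z F V h)⟩

end Pointwise

end Groth.Agent.Lib.QCoh.ZClosLib
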