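import Groth.Agent.Lib.QCoh.Helper18_ZClosOpen
import Groth.Agent.Lib.Helper29.CM
import Groth.Agent.Lib.Helper29.DepthZero

/-!
# Serre's condition S2 and the Z^(2)-closure (helper18; S5861)

Namespace `Groth.Agent.Lib.QCoh.ZClosLib`.
-/

set_option autoImplicit false
universe u

open CategoryTheory CategoryTheory.Limits AlgebraicGeometry Opposite TopologicalSpace IsLocalRing

namespace Groth.Agent.Lib.QCoh.ZClosLib

open ZClos Groth.Agent.Lib.QCoh Groth.Agent.Lib.QCoh.Hartogs Groth.Agent.Lib.Helper18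

variable {X : Scheme.{u}}

theorem withBot_le_one_of_lt_two (a : WithBot ℕ∞) (h : a < 2) : a ≤ 1 := by
  induction a using WithBot.recBotCoe with
  | bot => exact bot_le
  | coe n =>
    induction n using ENat.recTopCoe with
    | top => exact absurd h (by simp)
    | coe n =>
      have h' : n < 2 := by
        have h2 : ((n : ℕ∞) : WithBot ℕ∞) < ((2 : ℕ∞) : WithBot ℕ∞) := h
        rw [WithBot.coe_lt_coe] at h2
        exact_mod_cast h2
      have : n ≤ 1 := by omega
      show ((n : ℕ∞) : WithBot ℕ∞) ≤ ((1 : ℕ∞) : WithBot ℕ∞)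
      rw [WithBot.coe_le_coe]
      exact_mod_cast this

theorem withBot_le_zero_of_lt_two (a : WithBot ℕ∞) (h : a < 2) (h1 : a ≠ 1) : a ≤ 0 := by
  induction a using WithBot.recBotCoe with
  | bot => exact bot_le
  | coe n =>
    induction n using ENat.recTopCoe with
    | top => exact absurd h (by simp)
    | coe n =>
      have h' : n < 2 := by
        have h2 : ((n : ℕ∞) : WithBot ℕ∞) < ((2 : ℕ∞) : WithBot ℕ∞) := h
        rw [WithBot.coe_lt_coe] at h2
        exact_mod_cast h2
      have h1' : n ≠ 1 := by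
        rintro rfl
        exact h1 rfl
      have : n ≤ 0 := by omega
      show ((n : ℕ∞) : WithBot ℕ∞) ≤ ((0 : ℕ∞) : WithBot ℕ∞)
      rw [WithBot.coe_le_coe]
      exact_mod_cast this

theorem stableUnderSpecialization_dimGe (X : Scheme.{u}) (n : ℕ) :
    StableUnderSpecialization (ZClos.dimGe X n) := by
  intro a b hab ha
  show (n : WithBot ℕ∞) ≤ ringKrullDim (X.presheaf.stalk b)
  have ha' : (n : WithBot ℕ∞) ≤ ringKrullDim (X.presheaf.stalk a) := ha
  rw [ringKrullDim_stalk_eq_coheight] at ha' ⊢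
  refine ha'.trans ?_
  exact_mod_cast Order.coheight_anti (show b ≤ a from hab)

/-- If all stalks of the coherent module `F` are nonzero, the stalk `F_x` has full support, so its
dimension is that of the local ring. -/
theorem supportDim_stalk_eq_of_forall_nontrivial [IsLocallyNoetherian X] (F : X.Modules)
    [F.IsQuasicoherent] [F.IsFiniteType] (hsupp : ∀ x : X, Nontrivial (F.presheaf.stalk x))
    (x : X) :
    Module.supportDim (X.presheaf.stalk x) (F.presheaf.stalk x) =
      ringKrullDim (X.presheaf.stalk x) := by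
  have hfin : Module.Finite (X.presheaf.stalk x) (F.presheaf.stalk x) := finite_stalk F x
  have hsupp' : Module.support (X.presheaf.stalk x) (F.presheaf.stalk x) = Set.univ := by
    rw [Set.eq_univ_iff_forall]
    intro 𝔮
    rw [Module.mem_support_iff_of_finite]
    intro c hc
    -- `c` annihilates `F_x`; show it is nilpotent
    obtain ⟨V, hV0, hxV, -⟩ := Opens.isBasis_iff_nbhd.1 (X.isBasis_affineOpens)
      (show x ∈ (⊤ : X.Opens) from trivial)
    have hV : IsAffineOpen V := hV0
    have hNR : IsNoetherianRing Γ(X, V) := IsLocallyNoetherian.component_noetherian ⟨V, hV⟩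
    have hfinV : Module.Finite Γ(X, V) Γ(F, V) := finite_Γ_of_isAffineOpen hV F
    set p := (hV.primeIdealOf ⟨x, hxV⟩).asIdeal with hp
    let _ : Algebra Γ(X, V) (X.presheaf.stalk x) := X.presheaf.algebra_section_stalk ⟨x, hxV⟩
    have hloc := hV.isLocalization_stalk ⟨x, hxV⟩
    obtain ⟨⟨r, s⟩, hrs⟩ := IsLocalization.surj p.primeCompl c
    have hrs' : c * X.presheaf.germ V x hxV s.1 = X.presheaf.germ V x hxV r := hrs
    have hr0 : ∀ m : Γ(F, V), F.presheaf.germ V x hxV (r • m) = 0 := by
      intro m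
      rw [germ_smul, ← hrs', mul_comm, mul_smul, Module.mem_annihilator.1 hc, smul_zero]
    obtain ⟨h, hhp, hh⟩ := exists_notMem_forall_smul_eq_zero
      (Submodule.map (LinearMap.lsmul Γ(X, V) Γ(F, V) r) ⊤)
      (Submodule.FG.map _ Module.Finite.fg_top) p (by
        rintro _ ⟨m, -, rfl⟩
        exact (germ_eq_zero_iff_of_isAffineOpen F hV x hxV (r • m)).1 (hr0 m))
    have hnil : IsNilpotent (h * r) := by
      rw [nilpotent_iff_mem_prime]
      intro J hJ
      have hJsupp : (⟨J, hJ⟩ : PrimeSpectrum Γ(X, V)) ∈ Module.support Γ(X, V) Γ(F, V) := by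
        have h1 := (mem_support_iff_primeIdealOf_mem_support F hV
          (hV.fromSpec ⟨J, hJ⟩) (QCoh.fromSpec_mem hV ⟨J, hJ⟩)).2 (by
            show ¬ Subsingleton _
            rw [not_subsingleton_iff_nontrivial]
            exact hsupp _)
        rwa [primeIdealOf_fromSpec] at h1
      apply Module.annihilator_le_of_mem_support hJsupp
      rw [Module.mem_annihilator]
      intro m
      rw [mul_smul]
      exact hh _ ⟨m, trivial, rfl⟩
    obtain ⟨k, hk⟩ := hnil
    have hk' : (X.presheaf.germ V x hxV h) ^ k * (X.presheaf.germ V x hxV r) ^ k = 0 := by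
      rw [← mul_pow, ← map_mul, ← map_pow, hk, map_zero]
    have hu := (isUnit_germ_of_notMem hV x hxV h hhp).pow k
    have hr' : (X.presheaf.germ V x hxV r) ^ k = 0 := (hu.mul_right_eq_zero).1 hk'
    have hc' : (c * X.presheaf.germ V x hxV s.1) ^ k = 0 := by rw [hrs', hr']
    rw [mul_pow] at hc'
    have hu' := (isUnit_germ_of_notMem hV x hxV s.1 s.2).pow k
    have hck : c ^ k = 0 := (hu'.mul_left_eq_zero).1 hc'
    exact 𝔮.isPrime.mem_of_pow_mem k (hck ▸ 𝔮.asIdeal.zero_mem)
  unfold Module.supportDim ringKrullDim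
  rw [hsupp']
  exact Order.krullDim_eq_of_orderIso OrderIso.Set.univ

/-- Under the hypotheses of S5860/S5861, condition `(S₂)` at `x'` is the depth condition of the
`Z^{(2)}`-closure. -/
theorem s2_iff [IsLocallyNoetherian X] (F : X.Modules) (hF : Coh.IsCoh F)
    (hsupp : ∀ x : X, Nontrivial (F.presheaf.stalk x))
    (hass : ∀ x ∈ AssSch.Ass F, ringKrullDim (X.presheaf.stalk x) ≠ 1) (x' : X) :
    min (2 : WithBot ℕ∞) (Module.supportDim (X.presheaf.stalk x') (F.presheaf.stalk x')) ≤
        ((LocCoh.depth (X.presheaf.stalk x') (F.presheaf.stalk x') : ℕ∞) : WithBot ℕ∞) ↔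
      (x' ∈ ZClos.dimGe X 2 →
        (2 : ℕ∞) ≤ LocCoh.depth (X.presheaf.stalk x') (F.presheaf.stalk x')) := by
  have : F.IsQuasicoherent := hF.1
  have : F.IsFiniteType := hF.2
  have hsd := supportDim_stalk_eq_of_forall_nontrivial F hsupp x'
  by_cases hx : x' ∈ ZClos.dimGe X 2
  · have hx2 : (2 : WithBot ℕ∞) ≤ ringKrullDim (X.presheaf.stalk x') := hx
    rw [hsd, min_eq_left hx2]
    constructor
    · intro h _
      exact WithBot.coe_le_coe.1 (h : ((2 : ℕ∞) : WithBot ℕ∞) ≤ _)
    · intro h
      exact (WithBot.coe_le_coe.2 (h hx) : ((2 : ℕ∞) : WithBot ℕ∞) ≤ _)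
  · refine ⟨fun _ h => absurd h hx, fun _ => ?_⟩
    have hdim : ringKrullDim (X.presheaf.stalk x') < 2 := not_le.1 hx
    have hfin : Module.Finite (X.presheaf.stalk x') (F.presheaf.stalk x') := finite_stalk F x'
    have hnt : Nontrivial (F.presheaf.stalk x') := hsupp x'
    rw [hsd]
    by_cases hd : LocCoh.depth (X.presheaf.stalk x') (F.presheaf.stalk x') = 0
    · have hass' : x' ∈ AssSch.Ass F :=
        (Groth.Agent.Lib.Helper29.depth_eq_zero_iff_maximalIdeal_mem_ass _ _).1 hd
      have h0 : ringKrullDim (X.presheaf.stalk x') ≤ 0 :=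
        withBot_le_zero_of_lt_two _ hdim (hass x' hass')
      rw [hd]
      exact (min_le_right _ _).trans h0
    · have h1 : (1 : ℕ∞) ≤ LocCoh.depth (X.presheaf.stalk x') (F.presheaf.stalk x') :=
        Order.one_le_iff_ne_zero.2 hd
      have h1' : ((1 : ℕ∞) : WithBot ℕ∞) ≤
          ((LocCoh.depth (X.presheaf.stalk x') (F.presheaf.stalk x') : ℕ∞) : WithBot ℕ∞) :=
        WithBot.coe_le_coe.2 h1
      exact (min_le_right _ _).trans ((withBot_le_one_of_lt_two _ hdim).trans h1')

end Groth.Agent.Lib.QCoh.ZClosLib
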