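import Groth.Agent.Lib.QCoh.Helper18_ZClosBasic
import Groth.Agent.Lib.QCoh.Helper18_SpecClosure

/-!
# Sections of the Z-closure over Noetherian opens (helper18)

Namespace `Groth.Agent.Lib.QCoh.ZClosLib`.

* `secH0 Z F T W s` : the section of `H⁰_{X/Z}(F)` over `W` given by `s ∈ Γ(F, W ∖ T)`.
* `exists_of_secH0_eq` : over a quasi-compact open, two such sections agree iff the underlying
  sections agree after enlarging `T`.
* `exists_secH0_eq` : over an open all of whose open subsets are quasi-compact, every section of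
  `H⁰_{X/Z}(F)` is of this form.
* `bijective_res_inf_H0`, `isZClosed_H0` (S5850).
-/

set_option autoImplicit false
universe u

open CategoryTheory CategoryTheory.Limits AlgebraicGeometry Opposite TopologicalSpace

namespace Groth.Agent.Lib.QCoh.ZClosLib

open ZClos Groth.Agent.Lib.QCoh Groth.Agent.Lib.QCoh.Hartogs

variable {X : Scheme.{u}} (Z : Set X) (F : X.Modules)

/-- The section of `H⁰_{X/Z}(F)` over `W` given by a section of `F` over `W ∖ T`. -/
noncomputable def secH0 (T : Cl Z) (W : X.Opens) (s : Γ(F, W ⊓ T.U)) : Γ((H0 Z).obj F, W) :=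
  (ιH0 Z F T).app W (ofF F T.U W (Glue74.res F (inf_eq T.U W).ge s))

lemma germ_secH0 (T : Cl Z) (W : X.Opens) (s : Γ(F, W ⊓ T.U)) (y : X) (hy : y ∈ W) :
    ((H0 Z).obj F).presheaf.germ W y hy (secH0 Z F T W s) = germH0 Z F y T W hy s :=
  (stalkMap_germ (ιH0 Z F T) y W hy _).symm

lemma secH0_res {T T'' : Cl Z} (hT : T ≤ T'') {W W' : X.Opens} (hW : W' ≤ W)
    (s : Γ(F, W ⊓ T.U)) :
    Glue74.res ((H0 Z).obj F) hW (secH0 Z F T W s) =
      secH0 Z F T'' W' (Glue74.res F (inf_le_inf hW (Cl.U_anti hT)) s) := by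
  refine TopCat.Presheaf.section_ext ⟨((H0 Z).obj F).presheaf, ((H0 Z).obj F).isSheaf⟩ W' _ _ ?_
  intro y hy
  have e1 := TopCat.Presheaf.germ_res_apply ((H0 Z).obj F).presheaf (homOfLE hW) y hy
    (secH0 Z F T W s)
  refine e1.trans ?_
  rw [germ_secH0, germ_secH0]
  exact germH0_res Z F y hT (hW hy) hy hW s

lemma secH0_zero (T : Cl Z) (W : X.Opens) : secH0 Z F T W 0 = 0 := by
  unfold secH0
  have : Glue74.res F (inf_eq T.U W).ge (0 : Γ(F, W ⊓ T.U)) = 0 := map_zero _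
  rw [this, ofF_zero, map_zero]

theorem exists_of_secH0_eq {W : X.Opens} (hW : IsCompact (W : Set X)) {T T' : Cl Z}
    (s : Γ(F, W ⊓ T.U)) (s' : Γ(F, W ⊓ T'.U)) (e : secH0 Z F T W s = secH0 Z F T' W s') :
    ∃ (T'' : Cl Z) (hT : T ≤ T'') (hT' : T' ≤ T''),
      Glue74.res F (inf_le_inf_left W (Cl.U_anti hT)) s =
        Glue74.res F (inf_le_inf_left W (Cl.U_anti hT')) s' := by
  have key : ∀ y : W, ∃ (T'' : Cl Z) (hT : T ≤ T'') (hT' : T' ≤ T'') (Wy : X.Opens)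
      (_ : y.1 ∈ Wy) (hWy : Wy ≤ W),
      Glue74.res F (inf_le_inf hWy (Cl.U_anti hT)) s =
        Glue74.res F (inf_le_inf hWy (Cl.U_anti hT')) s' := by
    intro y
    have h1 : germH0 Z F y.1 T W y.2 s = germH0 Z F y.1 T' W y.2 s' := by
      rw [← germ_secH0, ← germ_secH0, e]
    obtain ⟨T'', hT, hT', Wy, hyWy, hWyW, hWyW', h⟩ :=
      exists_of_germH0_eq Z F y.1 y.2 y.2 s s' h1
    exact ⟨T'', hT, hT', Wy, hyWy, hWyW, h⟩
  choose T'' hT hT' Wy hyWy hWyW hres using key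
  obtain ⟨t, ht⟩ := hW.elim_finite_subcover (fun y : W => (Wy y : Set X))
    (fun y => (Wy y).isOpen) (fun z hz => Set.mem_iUnion.2 ⟨⟨z, hz⟩, hyWy ⟨z, hz⟩⟩)
  have hle : ∀ y ∈ t, T'' y ≤ T ⊔ T' ⊔ t.sup T'' := fun y hy =>
    (Finset.le_sup (f := T'') hy).trans le_sup_right
  refine ⟨T ⊔ T' ⊔ t.sup T'', le_sup_left.trans le_sup_left, le_sup_right.trans le_sup_left, ?_⟩
  refine sections_ext_of_cover F (fun y : t => Wy y.1 ⊓ (T ⊔ T' ⊔ t.sup T'').U)
    (W ⊓ (T ⊔ T' ⊔ t.sup T'').U) (fun y => inf_le_inf_right _ (hWyW y.1)) ?_ _ _ fun y => ?_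
  · rintro z ⟨hzW, hzU⟩
    obtain ⟨y, hy⟩ := Set.mem_iUnion.1 (ht hzW)
    obtain ⟨hyt, hzy⟩ := Set.mem_iUnion.1 hy
    exact Opens.mem_iSup.2 ⟨⟨y, hyt⟩, ⟨hzy, hzU⟩⟩
  · change Glue74.res F _ (Glue74.res F _ s) = Glue74.res F _ (Glue74.res F _ s')
    rw [Glue74.res_res, Glue74.res_res]
    have e1 : Glue74.res F ((inf_le_inf_right (T ⊔ T' ⊔ t.sup T'').U (hWyW y.1)).trans
        (inf_le_inf_left W (Cl.U_anti (le_sup_left.trans le_sup_left)))) s =
        Glue74.res F (inf_le_inf_left (Wy y.1) (Cl.U_anti (hle y.1 y.2)))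
          (Glue74.res F (inf_le_inf (hWyW y.1) (Cl.U_anti (hT y.1))) s) :=
      (Glue74.res_res F _ _ _).symm
    have e2 : Glue74.res F ((inf_le_inf_right (T ⊔ T' ⊔ t.sup T'').U (hWyW y.1)).trans
        (inf_le_inf_left W (Cl.U_anti (le_sup_right.trans le_sup_left)))) s' =
        Glue74.res F (inf_le_inf_left (Wy y.1) (Cl.U_anti (hle y.1 y.2)))
          (Glue74.res F (inf_le_inf (hWyW y.1) (Cl.U_anti (hT' y.1))) s') :=
      (Glue74.res_res F _ _ _).symm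
    rw [e1, e2, hres y.1]


theorem exists_secH0_eq {W : X.Opens} (hW : ∀ W' : X.Opens, W' ≤ W → IsCompact (W' : Set X))
    (g : Γ((H0 Z).obj F, W)) : ∃ (T : Cl Z) (s : Γ(F, W ⊓ T.U)), secH0 Z F T W s = g := by
  have key : ∀ y : W, ∃ (T : Cl Z) (V : X.Opens) (_ : y.1 ∈ V) (hVW : V ≤ W)
      (s : Γ(F, V ⊓ T.U)), secH0 Z F T V s = Glue74.res ((H0 Z).obj F) hVW g := by
    intro y
    obtain ⟨T, V, hyV, hVW, s, hs⟩ := exists_germH0_eq Z F y.1
      (((H0 Z).obj F).presheaf.germ W y.1 y.2 g) W y.2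
    rw [← germ_secH0] at hs
    obtain ⟨V', hyV', iV, iW, h⟩ := TopCat.Presheaf.germ_eq ((H0 Z).obj F).presheaf y.1 hyV y.2
      _ _ hs
    refine ⟨T, V', hyV', iW.le, Glue74.res F (inf_le_inf_right _ iV.le) s, ?_⟩
    have e1 := secH0_res Z F (le_refl T) iV.le s
    exact e1.symm.trans h
  choose T V hyV hVW s hs using key
  obtain ⟨t, ht⟩ := (hW W le_rfl).elim_finite_subcover (fun y : W => (V y : Set X))
    (fun y => (V y).isOpen) (fun z hz => Set.mem_iUnion.2 ⟨⟨z, hz⟩, hyV ⟨z, hz⟩⟩)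
  have hov : ∀ i j : W, ∃ (Tij : Cl Z) (hi : T i ≤ Tij) (hj : T j ≤ Tij),
      Glue74.res F (inf_le_inf (inf_le_left : V i ⊓ V j ≤ V i) (Cl.U_anti hi)) (s i) =
        Glue74.res F (inf_le_inf (inf_le_right : V i ⊓ V j ≤ V j) (Cl.U_anti hj)) (s j) := by
    intro i j
    have e : secH0 Z F (T i) (V i ⊓ V j) (Glue74.res F (inf_le_inf_right _ inf_le_left) (s i)) =
        secH0 Z F (T j) (V i ⊓ V j) (Glue74.res F (inf_le_inf_right _ inf_le_right) (s j)) := by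
      have e1 := secH0_res Z F (le_refl (T i)) (inf_le_left : V i ⊓ V j ≤ V i) (s i)
      have e2 := secH0_res Z F (le_refl (T j)) (inf_le_right : V i ⊓ V j ≤ V j) (s j)
      refine e1.symm.trans (Eq.trans ?_ e2)
      rw [hs i, hs j, Glue74.res_res, Glue74.res_res]
    obtain ⟨Tij, hi, hj, h⟩ := exists_of_secH0_eq Z F (hW _ (inf_le_left.trans (hVW i))) _ _ e
    refine ⟨Tij, hi, hj, ?_⟩
    rw [Glue74.res_res, Glue74.res_res] at h
    exact h
  choose Tij hi hj hij using hov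
  set Tfin : Cl Z := (t ×ˢ t).sup (fun p => Tij p.1 p.2) ⊔ t.sup T with hTfin
  have hle1 : ∀ i ∈ t, ∀ j ∈ t, Tij i j ≤ Tfin := fun i hi' j hj' =>
    (Finset.le_sup (f := fun p : W × W => Tij p.1 p.2) (Finset.mk_mem_product hi' hj')).trans
      le_sup_left
  have hle2 : ∀ i ∈ t, T i ≤ Tfin := fun i hi' =>
    (Finset.le_sup (f := T) hi').trans le_sup_right
  obtain ⟨σ, hσ⟩ := exists_gluing_of_cover F (fun i : t => V i.1 ⊓ Tfin.U) (W ⊓ Tfin.U)
    (fun i => inf_le_inf_right _ (hVW i.1))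
    (by
      rintro z ⟨hzW, hzU⟩
      obtain ⟨y, hy⟩ := Set.mem_iUnion.1 (ht hzW)
      obtain ⟨hyt, hzy⟩ := Set.mem_iUnion.1 hy
      exact Opens.mem_iSup.2 ⟨⟨y, hyt⟩, ⟨hzy, hzU⟩⟩)
    (fun i => Glue74.res F (inf_le_inf_left _ (Cl.U_anti (hle2 i.1 i.2))) (s i.1))
    (by
      intro i j
      change Glue74.res F _ (Glue74.res F _ (s i.1)) = Glue74.res F _ (Glue74.res F _ (s j.1))
      rw [Glue74.res_res, Glue74.res_res]
      have hsub : (V i.1 ⊓ Tfin.U) ⊓ (V j.1 ⊓ Tfin.U) ≤ (V i.1 ⊓ V j.1) ⊓ (Tij i.1 j.1).U :=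
        le_inf (inf_le_inf inf_le_left inf_le_left)
          (inf_le_left.trans (inf_le_right.trans (Cl.U_anti (hle1 i.1 i.2 j.1 j.2))))
      have e1 : Glue74.res F ((inf_le_left : (V i.1 ⊓ Tfin.U) ⊓ (V j.1 ⊓ Tfin.U) ≤ _).trans
          (inf_le_inf_left _ (Cl.U_anti (hle2 i.1 i.2)))) (s i.1) =
          Glue74.res F hsub (Glue74.res F (inf_le_inf (inf_le_left : V i.1 ⊓ V j.1 ≤ V i.1)
            (Cl.U_anti (hi i.1 j.1))) (s i.1)) := (Glue74.res_res F _ _ _).symm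
      have e2 : Glue74.res F ((inf_le_right : (V i.1 ⊓ Tfin.U) ⊓ (V j.1 ⊓ Tfin.U) ≤ _).trans
          (inf_le_inf_left _ (Cl.U_anti (hle2 j.1 j.2)))) (s j.1) =
          Glue74.res F hsub (Glue74.res F (inf_le_inf (inf_le_right : V i.1 ⊓ V j.1 ≤ V j.1)
            (Cl.U_anti (hj i.1 j.1))) (s j.1)) := (Glue74.res_res F _ _ _).symm
      rw [e1, e2, hij])
  refine ⟨Tfin, σ, ?_⟩
  refine sections_ext_of_cover ((H0 Z).obj F) (fun i : t => V i.1) W (fun i => hVW i.1) ?_ _ _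
    fun i => ?_
  · intro z hzW
    obtain ⟨y, hy⟩ := Set.mem_iUnion.1 (ht hzW)
    obtain ⟨hyt, hzy⟩ := Set.mem_iUnion.1 hy
    exact Opens.mem_iSup.2 ⟨⟨y, hyt⟩, hzy⟩
  · have e1 := secH0_res Z F (le_refl Tfin) (hVW i.1) σ
    refine e1.trans ?_
    have e2 : Glue74.res F (inf_le_inf (hVW i.1) (Cl.U_anti (le_refl Tfin))) σ =
        Glue74.res F (inf_le_inf_left _ (Cl.U_anti (hle2 i.1 i.2))) (s i.1) := hσ i
    rw [e2]
    have e3 := secH0_res Z F (hle2 i.1 i.2) (le_refl (V i.1)) (s i.1)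
    refine e3.symm.trans ?_
    rw [hs i.1]
    exact Glue74.res_res _ _ _ _


theorem bijective_res_inf_H0 {W : X.Opens}
    (hW : ∀ W' : X.Opens, W' ≤ W → IsCompact (W' : Set X)) (T : Cl Z) :
    Function.Bijective
      (((H0 Z).obj F).presheaf.map (homOfLE (inf_le_left : W ⊓ T.U ≤ W)).op) := by
  constructor
  · rw [injective_iff_map_eq_zero]
    intro g hg
    obtain ⟨T₁, s, rfl⟩ := exists_secH0_eq Z F hW g
    have e1 := secH0_res Z F (le_refl T₁) (inf_le_left : W ⊓ T.U ≤ W) s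
    have e2 : secH0 Z F T₁ (W ⊓ T.U)
        (Glue74.res F (inf_le_inf inf_le_left (Cl.U_anti (le_refl T₁))) s) =
        secH0 Z F T₁ (W ⊓ T.U) 0 := by
      rw [secH0_zero, ← e1]
      exact hg
    obtain ⟨T'', hT, hT', h⟩ := exists_of_secH0_eq Z F (hW _ inf_le_left) _ _ e2
    have e3 := secH0_res Z F (show T₁ ≤ T ⊔ T'' from hT.trans le_sup_right) (le_refl W) s
    rw [Glue74.res_self] at e3
    rw [e3]
    have hsub : W ⊓ (T ⊔ T'').U ≤ (W ⊓ T.U) ⊓ T''.U :=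
      le_inf (inf_le_inf_left W (Cl.U_anti le_sup_left))
        (inf_le_right.trans (Cl.U_anti le_sup_right))
    have h0 : Glue74.res F (inf_le_inf (le_refl W)
        (Cl.U_anti (show T₁ ≤ T ⊔ T'' from hT.trans le_sup_right))) s = 0 := by
      have h' := congrArg (Glue74.res F hsub) h
      rw [Glue74.res_res, Glue74.res_res] at h'
      refine h'.trans ?_
      have : Glue74.res F (inf_le_inf_left (W ⊓ T.U) (Cl.U_anti hT'))
          (0 : Γ(F, (W ⊓ T.U) ⊓ T₁.U)) = 0 := map_zero _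
      rw [this]
      exact map_zero _
    rw [h0, secH0_zero]
  · intro g'
    obtain ⟨T₁, s, rfl⟩ := exists_secH0_eq Z F (fun W' h => hW W' (h.trans inf_le_left)) g'
    have hsub : W ⊓ (T ⊔ T₁).U ≤ (W ⊓ T.U) ⊓ T₁.U :=
      le_inf (inf_le_inf_left W (Cl.U_anti le_sup_left))
        (inf_le_right.trans (Cl.U_anti le_sup_right))
    refine ⟨secH0 Z F (T ⊔ T₁) W (Glue74.res F hsub s), ?_⟩
    have e1 := secH0_res Z F (le_refl (T ⊔ T₁)) (inf_le_left : W ⊓ T.U ≤ W) (Glue74.res F hsub s)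
    have e2 := secH0_res Z F (show T₁ ≤ T ⊔ T₁ from le_sup_right) (le_refl (W ⊓ T.U)) s
    rw [Glue74.res_self] at e2
    refine e1.trans (Eq.trans ?_ e2.symm)
    rw [Glue74.res_res]

lemma isCompact_of_le_isAffineOpen [IsLocallyNoetherian X] {W : X.Opens} (hW : IsAffineOpen W)
    {W' : X.Opens} (h : W' ≤ W) : IsCompact (W' : Set X) := by
  have hN : IsNoetherianRing Γ(X, W) := IsLocallyNoetherian.component_noetherian ⟨W, hW⟩
  have hNA : NoetherianSpace W := noetherianSpace_of_isAffineOpen W hW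
  have hNA' : NoetherianSpace ((W : Set X)) := hNA
  exact (noetherianSpace_set_iff (W : Set X)).1 hNA' _ h

lemma exists_noetherian_basis [IsLocallyNoetherian X] (V : X.Opens) (x : X) (hx : x ∈ V) :
    ∃ W : X.Opens, (∀ W' : X.Opens, W' ≤ W → IsCompact (W' : Set X)) ∧ x ∈ W ∧ W ≤ V := by
  obtain ⟨W, hW0, hxW, hWV⟩ := Opens.isBasis_iff_nbhd.1 (X.isBasis_affineOpens) hx
  have hW : IsAffineOpen W := hW0
  exact ⟨W, fun W' h => isCompact_of_le_isAffineOpen hW h, hxW, hWV⟩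

/-- **S5850**: the Z-closure is Z-closed. -/
theorem isZClosed_H0 [IsLocallyNoetherian X] : IsZClosed Z ((H0 Z).obj F) := by
  rw [isZClosed_iff_forall_bijective]
  intro T V
  exact bijective_res_inf_of_forall_good ((H0 Z).obj F) T.U
    (fun W => ∀ W' : X.Opens, W' ≤ W → IsCompact (W' : Set X)) exists_noetherian_basis
    (fun W hW => bijective_res_inf_H0 Z F hW T) V

end Groth.Agent.Lib.QCoh.ZClosLib
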