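import Groth.Agent.Lib.QCoh.Helper18_ZClosSections
import Groth.Agent.Lib.QCoh.Helper50_PullbackSections

/-!
# Universal property of the Z-closure (helper18)

Namespace `Groth.Agent.Lib.QCoh.ZClosLib`.

* `rhoApp_app_eq_secH0`, `hom_ext_secH0`, `hom_ext_of_rho` (uniqueness), `existsUnique_lift`
  (S5851).
-/

set_option autoImplicit false
universe u

open CategoryTheory CategoryTheory.Limits AlgebraicGeometry Opposite TopologicalSpace

namespace Groth.Agent.Lib.QCoh.ZClosLib

open ZClos Groth.Agent.Lib.QCoh Groth.Agent.Lib.QCoh.Hartogs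

variable {X : Scheme.{u}} (Z : Set X) (F : X.Modules)

lemma rhoApp_app_eq_secH0 (T : Cl Z) (W : X.Opens) (s : Γ(F, W)) :
    (rhoApp Z F).app W s = secH0 Z F T W (Glue74.res F inf_le_left s) := by
  refine TopCat.Presheaf.section_ext ⟨((H0 Z).obj F).presheaf, ((H0 Z).obj F).isSheaf⟩ W _ _ ?_
  intro y hy
  rw [germ_secH0, ← rhoStalk_germ Z F y T W hy s]
  exact (stalkMap_germ (rhoApp Z F) y W hy s).symm

/-- Morphisms out of the Z-closure agreeing on all sections `secH0` are equal. -/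
lemma hom_ext_secH0 {G : X.Modules} (v v' : (H0 Z).obj F ⟶ G)
    (h : ∀ (T : Cl Z) (V : X.Opens) (s : Γ(F, V ⊓ T.U)),
      v.app V (secH0 Z F T V s) = v'.app V (secH0 Z F T V s)) : v = v' := by
  ext W m
  refine TopCat.Presheaf.section_ext ⟨G.presheaf, G.isSheaf⟩ W _ _ ?_
  intro y hy
  have e1 := stalkMap_germ v y W hy m
  have e2 := stalkMap_germ v' y W hy m
  refine e1.symm.trans (Eq.trans ?_ e2)
  obtain ⟨T, V, hyV, hVW, s, hs⟩ := exists_germH0_eq Z F y
    (((H0 Z).obj F).presheaf.germ W y hy m) W hy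
  rw [← hs, ← germ_secH0, stalkMap_germ, stalkMap_germ, h]

/-- **Uniqueness in the universal property**: maps from the Z-closure to a Z-pure module are
determined by their composition with `ρ`. -/
theorem hom_ext_of_rho {G : X.Modules} (hG : IsZPure Z G) (v v' : (H0 Z).obj F ⟶ G)
    (h : rhoApp Z F ≫ v = rhoApp Z F ≫ v') : v = v' := by
  have hinj := (isZPure_iff_forall_injective Z G).1 hG
  apply hom_ext_secH0
  intro T V s
  apply hinj T V
  change Glue74.res G _ _ = Glue74.res G _ _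
  have n1 := app_naturality_apply v (homOfLE (inf_le_left : V ⊓ T.U ≤ V)) (secH0 Z F T V s)
  have n2 := app_naturality_apply v' (homOfLE (inf_le_left : V ⊓ T.U ≤ V)) (secH0 Z F T V s)
  refine n1.symm.trans (Eq.trans ?_ n2)
  have e2 : ((H0 Z).obj F).presheaf.map (homOfLE (inf_le_left : V ⊓ T.U ≤ V)).op (secH0 Z F T V s) =
      (rhoApp Z F).app (V ⊓ T.U) s := by
    rw [rhoApp_app_eq_secH0 Z F T (V ⊓ T.U) s]
    exact secH0_res Z F (le_refl T) (inf_le_left : V ⊓ T.U ≤ V) s
  rw [e2]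
  have h1 : (rhoApp Z F ≫ v).app (V ⊓ T.U) s = (rhoApp Z F ≫ v').app (V ⊓ T.U) s := by rw [h]
  exact h1

/-- **S5851**: universal property of the Z-closure. -/
theorem existsUnique_lift {F' : X.Modules} (hF' : IsZClosed Z F') (u : F ⟶ F') :
    ∃! v : (H0 Z).obj F ⟶ F', rhoApp Z F ≫ v = u := by
  have hiso : IsIso (rhoApp Z F') := hF'
  refine ⟨(H0 Z).map u ≫ inv (rhoApp Z F'), ?_, ?_⟩
  · have hn : rhoApp Z F ≫ (H0 Z).map u = u ≫ rhoApp Z F' := ((rho Z).naturality u).symm
    change rhoApp Z F ≫ (H0 Z).map u ≫ inv (rhoApp Z F') = u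
    rw [← Category.assoc, hn, Category.assoc, IsIso.hom_inv_id, Category.comp_id]
  · intro v hv
    apply hom_ext_of_rho Z F (isZPure_of_isZClosed Z F' hF')
    rw [hv]
    have hn : rhoApp Z F ≫ (H0 Z).map u = u ≫ rhoApp Z F' := ((rho Z).naturality u).symm
    rw [← Category.assoc, hn, Category.assoc, IsIso.hom_inv_id, Category.comp_id]

end Groth.Agent.Lib.QCoh.ZClosLib
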