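import Groth.Agent.Lib.QCoh.Helper74_GlueFamily
import Groth.Agent.Lib.QCoh.Helper74_LocFreeLift
import Groth.Agent.Lib.QCoh.Helper50_AffineDict

/-!
# Directed colimits of modules detected on sections over affine opens (helper50)

ns `Groth.Agent.Lib.QCoh.ColimSections`.  `isColimit_of_sections`: a cocone `c` from a directed diagram `D` of
`O_X`-modules to `F` is a colimit cocone as soon as, over every affine open `U`, every section of `F` comes from some
`D i` and a section of `D i` dying in `F` already dies in some `D j`, `j ≥ i`.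
-/

set_option autoImplicit false
universe u
open CategoryTheory CategoryTheory.Limits AlgebraicGeometry Opposite TopologicalSpace

namespace Groth.Agent.Lib.QCoh.ColimSections

open Scheme.Modules Groth.Agent.Lib.QCoh Groth.Agent.Lib.QCoh.Glue74

variable {X : Scheme.{u}} {I : Type u} [Preorder I] [IsDirected I (· ≤ ·)] [Nonempty I]
  (D : I ⥤ X.Modules) (F : X.Modules) (c : D ⟶ (Functor.const I).obj F)

section WD

variable (hinj : ∀ (U : X.affineOpens) (i : I) (y : Γ(D.obj i, U.1)), (c.app i).app U.1 y = 0 →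
    ∃ (j : I) (h : i ≤ j), (D.map (homOfLE h)).app U.1 y = 0)
  (s : Cocone D)

lemma c_map {i k : I} (h : i ≤ k) (V : X.Opens) (y : Γ(D.obj i, V)) :
    (c.app k).app V ((D.map (homOfLE h)).app V y) = (c.app i).app V y := by
  have h1 := c.naturality (homOfLE h)
  have h2 : D.map (homOfLE h) ≫ c.app k = c.app i := by
    rw [h1]; exact Category.comp_id _
  exact congrArg (fun ψ : D.obj i ⟶ F => (Scheme.Modules.Hom.app ψ V) y) h2

lemma s_map {i k : I} (h : i ≤ k) (V : X.Opens) (y : Γ(D.obj i, V)) :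
    (s.ι.app k).app V ((D.map (homOfLE h)).app V y) = (s.ι.app i).app V y :=
  congrArg (fun ψ : D.obj i ⟶ s.pt => (Scheme.Modules.Hom.app ψ V) y) (s.w (homOfLE h))

include hinj in
/-- well-definedness -/
lemma wd (U : X.affineOpens) (i i' : I) (y : Γ(D.obj i, U.1)) (y' : Γ(D.obj i', U.1))
    (h : (c.app i).app U.1 y = (c.app i').app U.1 y') :
    (s.ι.app i).app U.1 y = (s.ι.app i').app U.1 y' := by
  obtain ⟨k, hik, hi'k⟩ := exists_ge_ge i i'
  have h0 : (c.app k).app U.1 ((D.map (homOfLE hik)).app U.1 y - (D.map (homOfLE hi'k)).app U.1 y')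
      = 0 := by
    rw [map_sub, c_map D F c hik, c_map D F c hi'k, h, sub_self]
  obtain ⟨j, hkj, hj⟩ := hinj U k _ h0
  rw [map_sub, sub_eq_zero] at hj
  rw [← s_map D s hik, ← s_map D s hi'k, ← s_map D s hkj, ← s_map D s hkj
    (y := (D.map (homOfLE hi'k)).app U.1 y'), hj]

end WD

/-- **colimits detected on affine sections** -/
noncomputable def isColimit_of_sections
    (hsurj : ∀ (U : X.affineOpens) (f : Γ(F, U.1)), ∃ (i : I) (y : Γ(D.obj i, U.1)),
      (c.app i).app U.1 y = f)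
    (hinj : ∀ (U : X.affineOpens) (i : I) (y : Γ(D.obj i, U.1)), (c.app i).app U.1 y = 0 →
      ∃ (j : I) (h : i ≤ j), (D.map (homOfLE h)).app U.1 y = 0) :
    IsColimit (Cocone.mk F c) := by
  classical
  have key : ∀ s : Cocone D, ∃ g : F ⟶ s.pt, ∀ (U : X.affineOpens) (i : I) (y : Γ(D.obj i, U.1)),
      g.app U.1 ((c.app i).app U.1 y) = (s.ι.app i).app U.1 y := by
    intro s
    have hbasis : ∀ (V : X.Opens) (x : X), x ∈ V → ∃ W : X.Opens, IsAffineOpen W ∧ x ∈ W ∧ W ≤ V := by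
      intro V x hx
      obtain ⟨W, hW, hxW, hWV⟩ := exists_isAffineOpen_mem_and_subset (x := x) (U := V) hx
      exact ⟨W, hW, hxW, hWV⟩
    choose ci cy hcy using hsurj
    let φ : ∀ W : X.Opens, IsAffineOpen W → Γ(F, W) → Γ(s.pt, W) := fun W hW f =>
      (s.ι.app (ci ⟨W, hW⟩ f)).app W (cy ⟨W, hW⟩ f)
    have hφ : ∀ (W : X.Opens) (hW : IsAffineOpen W) (i : I) (y : Γ(D.obj i, W)),
        φ W hW ((c.app i).app W y) = (s.ι.app i).app W y := by
      intro W hW i y
      exact wd D F c hinj s ⟨W, hW⟩ _ i _ y (hcy ⟨W, hW⟩ _)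
    have hφa : ∀ (W : X.Opens) (hW : IsAffineOpen W) (f : Γ(F, W)),
        ∃ (i : I) (y : Γ(D.obj i, W)), (c.app i).app W y = f :=
      fun W hW f => ⟨_, _, hcy ⟨W, hW⟩ f⟩
    have H1 : ∀ {W' W : X.Opens} (hW' : IsAffineOpen W') (hW : IsAffineOpen W) (h : W' ≤ W)
        (a : Γ(F, W)), φ W' hW' (res F h a) = res s.pt h (φ W hW a) := by
      intro W' W hW' hW h a
      obtain ⟨i, y, rfl⟩ := hφa W hW a
      rw [hφ W hW]
      change φ W' hW' (F.presheaf.map (homOfLE h).op ((c.app i).app W y)) =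
        s.pt.presheaf.map (homOfLE h).op ((s.ι.app i).app W y)
      rw [← Lift74.app_naturality_apply', ← Lift74.app_naturality_apply', hφ W' hW']
    have H2 : ∀ (W₁ W₂ : X.Opens), IsAffineOpen W₁ → IsAffineOpen W₂ → ∀ x : X, x ∈ W₁ ⊓ W₂ →
        ∃ W' : X.Opens, IsAffineOpen W' ∧ x ∈ W' ∧ W' ≤ W₁ ∧ W' ≤ W₂ := by
      intro W₁ W₂ _ _ x hx
      obtain ⟨W, hW, hxW, hWle⟩ := hbasis (W₁ ⊓ W₂) x hx
      exact ⟨W, hW, hxW, hWle.trans inf_le_left, hWle.trans inf_le_right⟩
    obtain ⟨ψ, hψn, hψe⟩ := exists_family F s.pt IsAffineOpen hbasis φ (fun W' W => W' ≤ W)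
      (fun h => h) (fun hW' hW h a => H1 hW' hW h a) H2
    have hadd : ∀ (V : X.Opens) (a b : Γ(F, V)), ψ V (a + b) = ψ V a + ψ V b := by
      intro V a b
      refine eq_of_good s.pt IsAffineOpen hbasis _ _ fun W hW hWV => ?_
      rw [res_add, ← hψn, ← hψn, ← hψn, res_add, hψe W hW, hψe W hW, hψe W hW]
      obtain ⟨i, y, hy⟩ := hφa W hW (res F hWV a)
      obtain ⟨i', y', hy'⟩ := hφa W hW (res F hWV b)
      obtain ⟨k, hik, hi'k⟩ := exists_ge_ge i i'
      rw [← hy, ← hy', ← c_map D F c hik, ← c_map D F c hi'k, ← map_add, hφ, hφ, hφ, map_add]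
    have hsmul : ∀ (V : X.Opens) (r : Γ(X, V)) (a : Γ(F, V)), ψ V (r • a) = r • ψ V a := by
      intro V r a
      refine eq_of_good s.pt IsAffineOpen hbasis _ _ fun W hW hWV => ?_
      rw [res_smul, ← hψn, ← hψn, res_smul, hψe W hW, hψe W hW]
      obtain ⟨i, y, hy⟩ := hφa W hW (res F hWV a)
      rw [← hy, ← Scheme.Modules.Hom.app_smul, hφ, hφ, Scheme.Modules.Hom.app_smul]
    refine ⟨homOfFamily ψ (fun h a => hψn h a) hadd hsmul, fun U i y => ?_⟩
    rw [homOfFamily_app, hψe U.1 U.2, hφ]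
  choose g hg using key
  exact
    { desc := g
      fac := fun s i => by
        apply hom_ext_of_affine
        intro U
        ext y
        exact hg s U i y
      uniq := fun s m hm => by
        apply hom_ext_of_affine
        intro U
        ext f
        obtain ⟨i, y, rfl⟩ := hsurj U f
        rw [hg s U i y]
        exact congrArg (fun ψ : D.obj i ⟶ s.pt => (Scheme.Modules.Hom.app ψ U.1) y) (hm i) }

end Groth.Agent.Lib.QCoh.ColimSections
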