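import Groth.Agent.Lib.QCoh.Helper50_OmAffGen
import Groth.Agent.Lib.QCoh.Helper18_StalkLocal
import Groth.Agent.Lib.QCoh.Helper18_StalkQCoh
import Groth.Agent.Lib.QCoh.AffineOpen
import Mathlib.AlgebraicGeometry.Morphisms.FormallyUnramified
import Mathlib.AlgebraicGeometry.Morphisms.FiniteType

/-!
# `Omega.sheaf f`: quasi-coherent, of finite type for `f` locally of finite type, and
formal unramifiedness read on sections (helper50)
-/

universe u
open CategoryTheory CategoryTheory.Limits AlgebraicGeometry Opposite TopologicalSpace TensorProduct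

namespace Groth.Agent.Lib.QCoh.OmegaFT

open Scheme.Modules Groth.Agent.Lib.QCoh

variable {X Y : Scheme.{u}} (f : X ⟶ Y) [QuasiSeparated f]

instance isQuasicoherent_omega : (Omega.sheaf f).IsQuasicoherent :=
  isQuasicoherent_pullback (pullback.diagonal f) (OmAffG.IMod f)

/-- **L1** formal unramifiedness of `Γ(Y,V) → Γ(X,U)` is vanishing of `Γ(U, Ω_{X/Y})`. -/
theorem formallyUnramified_appLE_iff {U : X.Opens} {V : Y.Opens} (hU : IsAffineOpen U)
    (hV : IsAffineOpen V) (h : U ≤ f ⁻¹ᵁ V) :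
    (f.appLE V U h).hom.FormallyUnramified ↔ Subsingleton Γ(Omega.sheaf f, U) := by
  have hb := OmAffGen.bijective_toSect f hU hV h
  letI : Algebra Γ(Y, V) Γ(X, U) := (f.appLE V U h).hom.toAlgebra
  constructor
  · intro hfu
    have hsub : Subsingleton (Ω[Γ(X, U)⁄Γ(Y, V)]) := hfu.subsingleton_kaehlerDifferential
    refine ⟨fun a b => ?_⟩
    obtain ⟨a', rfl⟩ := hb.2 a
    obtain ⟨b', rfl⟩ := hb.2 b
    rw [Subsingleton.elim (α := Ω[Γ(X, U)⁄Γ(Y, V)]) a' b']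
  · intro hs
    have hsub : Subsingleton (Ω[Γ(X, U)⁄Γ(Y, V)]) :=
      ⟨fun a b => hb.1 (Subsingleton.elim (α := Γ(Omega.sheaf f, U)) _ _)⟩
    exact ⟨hsub⟩

omit [QuasiSeparated f] in
/-- **L2** -/
lemma comp_ι_appLE (U : X.Opens) (V : Y.Opens) (U₁ : U.toScheme.Opens)
    (e : U₁ ≤ (U.ι ≫ f) ⁻¹ᵁ V) :
    (U.ι ≫ f).appLE V U₁ e =
      f.appLE V (U.ι ''ᵁ U₁) (by
        rintro _ ⟨y, hy, rfl⟩
        exact e hy) := by
  rw [Scheme.Hom.comp_appLE, Scheme.Opens.ι_appLE]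
  rfl

/-- **L4** formal unramifiedness of the ring maps of `U.ι ≫ f`, read on sections of `Ω_{X/Y}`. -/
theorem formallyUnramified_comp_ι_appLE_iff (U : X.Opens) {V : Y.Opens} (hV : IsAffineOpen V)
    {U₁ : U.toScheme.Opens} (hU₁ : IsAffineOpen U₁) (e : U₁ ≤ (U.ι ≫ f) ⁻¹ᵁ V) :
    ((U.ι ≫ f).appLE V U₁ e).hom.FormallyUnramified ↔
      Subsingleton Γ(Omega.sheaf f, U.ι ''ᵁ U₁) := by
  rw [comp_ι_appLE]
  exact formallyUnramified_appLE_iff f (hU₁.image_of_isOpenImmersion U.ι) hV _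

/-- **L3** for `f` locally of finite type, `Ω_{X/Y}` is of finite type. -/
theorem isFiniteType_omega [LocallyOfFiniteType f] : (Omega.sheaf f).IsFiniteType := by
  -- cover by affine opens `U ≤ f⁻¹ V`
  let ι : Type u := {p : X.affineOpens × Y.affineOpens // (p.1 : X.Opens) ≤ f ⁻¹ᵁ (p.2 : Y.Opens)}
  refine isFiniteType_of_isOpenCover (Omega.sheaf f) (fun i : ι => (i.1.1 : X.Opens)) ?_ fun i => ?_
  · rw [IsOpenCover, ← top_le_iff]
    intro x _
    obtain ⟨_, ⟨V, hV, rfl⟩, hxV, -⟩ :=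
      Y.isBasis_affineOpens.exists_subset_of_mem_open (Set.mem_univ (f x)) isOpen_univ
    obtain ⟨_, ⟨U, hU, rfl⟩, hxU, hUV⟩ :=
      X.isBasis_affineOpens.exists_subset_of_mem_open
        (show x ∈ ((f ⁻¹ᵁ V : X.Opens) : Set X) from hxV) (f ⁻¹ᵁ V).isOpen
    exact Opens.mem_iSup.2 ⟨⟨(⟨U, hU⟩, ⟨V, hV⟩), hUV⟩, hxU⟩
  · obtain ⟨⟨⟨U, hU⟩, ⟨V, hV⟩⟩, h⟩ := i
    refine exists_generatingSections_restrict_of_finite hU (Omega.sheaf f) ?_
    have hb := OmAffGen.bijective_toSect f hU hV h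
    have hft : (f.appLE V U h).hom.FiniteType := f.finiteType_appLE hV hU h
    letI : Algebra Γ(Y, V) Γ(X, U) := (f.appLE V U h).hom.toAlgebra
    have : Algebra.FiniteType Γ(Y, V) Γ(X, U) := hft
    have hess : Algebra.EssFiniteType Γ(Y, V) Γ(X, U) := Algebra.EssFiniteType.of_finiteType _ _
    have hfin : Module.Finite Γ(X, U) (Ω[Γ(X, U)⁄Γ(Y, V)]) := KaehlerDifferential.finite _ _
    let T : Ω[Γ(X, U)⁄Γ(Y, V)] →ₗ[Γ(X, U)] Γ(Omega.sheaf f, U) := (OmAff.toSect f V U h).hom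
    exact Module.Finite.of_surjective T hb.2

end Groth.Agent.Lib.QCoh.OmegaFT
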