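import Mathlib
import Groth.Prelude.Def_Omega3
import Groth.Agent.Lib.Helper25.DiffCompat

/-!
# Restriction of a (universal) derivation along an open immersion (helper50)

For `f : X ⟶ S`, an open immersion `j : U ⟶ X` and a derivation `d : O_X → Ω` relative to `f`,
`restrictDer j d : O_U → Ω|_U` is the restricted derivation (relative to `j ≫ f`), and it is
universal if `d` is (`isUniversal_restrictDer`).
-/

set_option autoImplicit false
universe u

open CategoryTheory CategoryTheory.Limits AlgebraicGeometry TopologicalSpace Opposite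

namespace Groth.Agent.Lib.QCoh.RestrictDer

variable {X S U : Scheme.{u}} (j : U ⟶ X) [IsOpenImmersion j] {f : X ⟶ S} {Ω : X.Modules}
  (d : OmegaSh.Der f Ω)

lemma restrictDer_aux (V : S.Opens) (c : Γ(S, V)) :
    d.d (X := op (j ''ᵁ ((j ≫ f) ⁻¹ᵁ V)))
      ((j.appIso ((j ≫ f) ⁻¹ᵁ V)).inv ((j ≫ f).app V c)) = 0 := by
  have e1 : (j ≫ f).app V c = j.app (f ⁻¹ᵁ V) (f.app V c) := by
    rw [Scheme.Hom.comp_app]; rfl
  have e2 : (j.appIso (j ⁻¹ᵁ (f ⁻¹ᵁ V))).inv (j.app (f ⁻¹ᵁ V) (f.app V c)) =
      X.presheaf.map (homOfLE (j.image_preimage_le (f ⁻¹ᵁ V))).op (f.app V c) :=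
    congr($(j.app_appIso_inv (f ⁻¹ᵁ V)) (f.app V c))
  show d.d (X := op (j ''ᵁ (j ⁻¹ᵁ (f ⁻¹ᵁ V))))
      ((j.appIso (j ⁻¹ᵁ (f ⁻¹ᵁ V))).inv ((j ≫ f).app V c)) = 0
  rw [e1, e2]
  have e4 := d.d_map (homOfLE (j.image_preimage_le (f ⁻¹ᵁ V))).op (f.app V c)
  refine e4.trans ?_
  have e5 : d.d (X := op (f ⁻¹ᵁ V)) (f.app V c) = 0 := d.d_app c
  rw [e5, map_zero]
  rfl

/-- the restricted derivation `O_U → Ω|_U`, `s ↦ d(s)` on `j(W)` -/
noncomputable def restrictDer : OmegaSh.Der (j ≫ f) (Ω.restrict j) where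
  d {W} :=
    { toFun := fun s => d.d (X := op (j ''ᵁ W.unop)) ((j.appIso W.unop).inv s)
      map_zero' := by rw [map_zero, map_zero]; rfl
      map_add' := fun a b => by rw [map_add, map_add]; rfl }
  d_mul {W} a b := by
    show d.d (X := op (j ''ᵁ W.unop)) ((j.appIso W.unop).inv (a * b)) = _
    rw [map_mul, d.d_mul]
    rfl
  d_map {W W'} i a := by
    show d.d (X := op (j ''ᵁ W'.unop)) ((j.appIso W'.unop).inv (U.presheaf.map i a)) = _
    have h1 : (j.appIso W'.unop).inv (U.presheaf.map i a) =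
        X.presheaf.map (j.opensFunctor.op.map i) ((j.appIso W.unop).inv a) :=
      congr($(j.appIso_inv_naturality i) a)
    rw [h1, d.d_map]
    rfl
  d_app {V} c := restrictDer_aux j d V.unop c

lemma restrictDer_d (W : U.Opens) (s : Γ(U, W)) :
    (restrictDer j d).d (X := op W) s = d.d (X := op (j ''ᵁ W)) ((j.appIso W).inv s) := rfl

lemma restrictFunctor_map_app {F G : X.Modules} (α : F ⟶ G) (W : U.Opens) :
    ((Scheme.Modules.restrictFunctor j).map α).app W = α.app (j ''ᵁ W) := rfl

theorem isUniversal_restrictDer (hd : OmegaSh.IsUniversal d) :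
    OmegaSh.IsUniversal (restrictDer j d) := by
  intro F D
  have hsq : (j ≫ f) ≫ 𝟙 S = j ≫ f := Category.comp_id _
  obtain ⟨α, hα, huniq⟩ := hd _ (Groth.Agent.Lib.Helper25.DiffCompat.pushDer j (𝟙 S) hsq D)
  refine ⟨((Scheme.Modules.restrictAdjunction j).homEquiv Ω F).symm α, ?_, ?_⟩
  · ext W s
    induction W using Opposite.rec with | _ W => ?_
    have hα' := PresheafOfModules.Derivation.congr_d hα (X := op (j ''ᵁ W)) ((j.appIso W).inv s)
    have e1 : ((restrictDer j d).postcomp
        (((Scheme.Modules.restrictAdjunction j).homEquiv Ω F).symm α).val).d (X := op W) s =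
        (((Scheme.Modules.restrictAdjunction j).homEquiv Ω F).symm α).app W
          ((restrictDer j d).d (X := op W) s) := rfl
    rw [e1, restrictDer_d, Adjunction.homEquiv_counit]
    have e2 : (Scheme.Modules.Hom.app ((Scheme.Modules.restrictFunctor j).map α ≫
        (Scheme.Modules.restrictAdjunction j).counit.app F) W)
          (d.d (X := op (j ''ᵁ W)) ((j.appIso W).inv s)) =
        F.presheaf.map (eqToHom (j.preimage_image_eq W).symm).op
          (α.app (j ''ᵁ W) (d.d (X := op (j ''ᵁ W)) ((j.appIso W).inv s))) := rfl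
    have e3 : α.app (j ''ᵁ W) (d.d (X := op (j ''ᵁ W)) ((j.appIso W).inv s)) =
        D.d (X := op (j ⁻¹ᵁ (j ''ᵁ W))) (j.app (j ''ᵁ W) ((j.appIso W).inv s)) := hα'
    rw [e2, e3]
    have e4 := D.d_map (eqToHom (j.preimage_image_eq W).symm).op
      (j.app (j ''ᵁ W) ((j.appIso W).inv s))
    refine e4.symm.trans ?_
    congr 1
    exact congr($(j.appIso_inv_app_presheafMap W) s)
  · intro β hβ
    have hβ' : ∀ (W : U.Opens) (s : Γ(U, W)),
        β.app W ((restrictDer j d).d (X := op W) s) = D.d (X := op W) s := fun W s =>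
      PresheafOfModules.Derivation.congr_d hβ (X := op W) s
    have key : d.postcomp ((Scheme.Modules.restrictAdjunction j).homEquiv Ω F β).val =
        Groth.Agent.Lib.Helper25.DiffCompat.pushDer j (𝟙 S) hsq D := by
      ext V s
      induction V using Opposite.rec with | _ V => ?_
      have e1 : (d.postcomp ((Scheme.Modules.restrictAdjunction j).homEquiv Ω F β).val).d
          (X := op V) s =
          ((Scheme.Modules.restrictAdjunction j).homEquiv Ω F β).app V (d.d (X := op V) s) := rfl
      rw [e1, Adjunction.homEquiv_unit]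
      have e2 : (Scheme.Modules.Hom.app ((Scheme.Modules.restrictAdjunction j).unit.app Ω ≫
          (Scheme.Modules.pushforward j).map β) V) (d.d (X := op V) s) =
          β.app (j ⁻¹ᵁ V) (Ω.presheaf.map (homOfLE (j.image_preimage_le V)).op
            (d.d (X := op V) s)) := rfl
      rw [e2]
      have e3 := d.d_map (homOfLE (j.image_preimage_le V)).op s
      have e4 : X.presheaf.map (homOfLE (j.image_preimage_le V)).op s =
          (j.appIso (j ⁻¹ᵁ V)).inv (j.app V s) := (congr($(j.app_appIso_inv V) s)).symm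
      have e5 : Ω.presheaf.map (homOfLE (j.image_preimage_le V)).op (d.d (X := op V) s) =
          (restrictDer j d).d (X := op (j ⁻¹ᵁ V)) (j.app V s) := by
        rw [restrictDer_d, ← e4]
        exact e3.symm
      rw [e5, hβ']
      rfl
    rw [← huniq _ key, Equiv.symm_apply_apply]

end Groth.Agent.Lib.QCoh.RestrictDer
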