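import Mathlib
import Groth.Prelude.Def_Omega4
import Groth.Agent.Lib.QCoh.Helper50_RestrictDer
import Groth.Agent.Lib.QCoh.Helper50_OmegaFT
import Groth.Agent.Lib.QCoh.Helper66_FTLocal
import Groth.Agent.Lib.Helper25.OmegaUniv2
import Groth.Agent.Lib.Helper25.DiffSeq

/-!
# Any receptacle of a universal derivation is locally `Omega.sheaf` (helper50)

For `f : X ⟶ S` arbitrary, `(Ω, d)` universal and `j : U ⟶ X` an open immersion with `j ≫ f`
quasi-separated (e.g. `U` affine), `Ω|_U ≅ Omega.sheaf (j ≫ f)`.  Hence `Ω` is quasi-coherent,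
and of finite type when `f` is locally of finite type.
-/

set_option autoImplicit false
universe u

open CategoryTheory CategoryTheory.Limits AlgebraicGeometry TopologicalSpace Opposite

namespace Groth.Agent.Lib.QCoh.ReceptacleLocal

variable {X S : Scheme.{u}} {f : X ⟶ S} {Ω : X.Modules} (d : OmegaSh.Der f Ω)

omit d in
lemma exists_affine_nbhd (x : X) : ∃ W : X.Opens, IsAffineOpen W ∧ x ∈ W := by
  obtain ⟨_, ⟨W, hW : IsAffineOpen W, rfl⟩, hxW, -⟩ :=
    (X.isBasis_affineOpens).exists_subset_of_mem_open (Set.mem_univ x) isOpen_univ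
  exact ⟨W, hW, hxW⟩

/-- `Omega.sheaf (j ≫ f) ≅ Ω|_U`, compatible with the derivations -/
theorem exists_iso_restrict (hd : OmegaSh.IsUniversal d) {U : Scheme.{u}} (j : U ⟶ X)
    [IsOpenImmersion j] [QuasiSeparated (j ≫ f)] :
    ∃ θ : Omega.sheaf (j ≫ f) ≅ Ω.restrict j,
      (OmegaSh.dOmega (j ≫ f)).postcomp θ.hom.val = RestrictDer.restrictDer j d := by
  have h1 := Groth.Agent.Lib.Helper25.OmegaUniv2.isUniversal_dOmega (j ≫ f)
  have h2 := RestrictDer.isUniversal_restrictDer j d hd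
  obtain ⟨θ, hθ, -⟩ := h1 _ (RestrictDer.restrictDer j d)
  have := Groth.Agent.Lib.Helper25.DiffSeq.isIso_of_isUniversal _ _ h1 h2 θ hθ
  exact ⟨asIso θ, hθ⟩

include d in
theorem isQuasicoherent_of_isUniversal (hd : OmegaSh.IsUniversal d) : Ω.IsQuasicoherent := by
  refine isQuasicoherent_of_openImmersion_cover Ω fun x => ?_
  obtain ⟨W, hW, hxW⟩ := exists_affine_nbhd x
  have : IsAffine W.toScheme := hW
  refine ⟨W.toScheme, W.ι, inferInstance, by simpa using hxW, ?_⟩
  obtain ⟨θ, -⟩ := exists_iso_restrict d hd W.ι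
  exact isQuasicoherent_of_iso θ inferInstance

include d in
theorem isFiniteType_of_isUniversal [LocallyOfFiniteType f] (hd : OmegaSh.IsUniversal d) :
    Ω.IsFiniteType := by
  refine isFiniteType_of_openImmersion_cover Ω fun x => ?_
  obtain ⟨W, hW, hxW⟩ := exists_affine_nbhd x
  have : IsAffine W.toScheme := hW
  refine ⟨W.toScheme, W.ι, inferInstance, by simpa using hxW, ?_⟩
  obtain ⟨θ, -⟩ := exists_iso_restrict d hd W.ι
  have := OmegaFT.isFiniteType_omega (W.ι ≫ f)
  exact isFiniteType_of_iso θ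

end Groth.Agent.Lib.QCoh.ReceptacleLocal
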