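import Mathlib
import Groth.Prelude.Def_OmAff
import Groth.Agent.Lib.QCoh.Helper50_ReceptacleLocal

/-!
# Sections of a universal receptacle over affine pairs (helper50)

For `f : X ⟶ S` arbitrary, `(Ω, d)` a universal `S`-derivation of `O_X`, affine opens `U ≤ f⁻¹ V`:
the canonical map `toSec d V U h : Ω[Γ(X,U)/Γ(S,V)] → Γ(Ω, U)`, `D b ↦ d b`, is bijective.
-/

set_option autoImplicit false
universe u

open CategoryTheory CategoryTheory.Limits AlgebraicGeometry TopologicalSpace Opposite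

namespace Groth.Agent.Lib.QCoh.ReceptacleSections

open Groth.Agent.Lib.Helper25

variable {X S : Scheme.{u}} {f : X ⟶ S} {Ω : X.Modules} (d : OmegaSh.Der f Ω)

/-- `d` on sections over `W`, as a derivation relative to a ring map `φ` killed by `d` -/
noncomputable def derOf (W : X.Opens) {A : CommRingCat.{u}} (φ : A ⟶ Γ(X, W))
    (hφ : ∀ c, d.app W (φ c) = 0) : (OmAff.sectMod Ω W).Derivation φ :=
  ModuleCat.Derivation.mk (fun b => d.app W b) (fun a b => map_add _ a b)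
    (fun a b => SkyMod.app_mul f d W a b) hφ

lemma app_appLE (V : S.Opens) (U : X.Opens) (h : U ≤ f ⁻¹ᵁ V) (c : Γ(S, V)) :
    d.app U (f.appLE V U h c) = 0 := by
  have h1 : (f.appLE V U h).hom c = X.presheaf.map (homOfLE h).op (f.app V c) := rfl
  show d.app U ((f.appLE V U h).hom c) = 0
  rw [h1, SkyMod.app_map]
  have h3 : d.app (f ⁻¹ᵁ V) (f.app V c) = 0 := d.d_app c
  rw [h3, map_zero]

/-- the comparison map `Ω[Γ(X,U)/Γ(S,V)] → Γ(Ω, U)` -/
noncomputable def toSec (V : S.Opens) (U : X.Opens) (h : U ≤ f ⁻¹ᵁ V) :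
    CommRingCat.KaehlerDifferential (f.appLE V U h) ⟶ OmAff.sectMod Ω U :=
  (derOf d U (f.appLE V U h) (app_appLE d V U h)).desc

theorem toSec_d (V : S.Opens) (U : X.Opens) (h : U ≤ f ⁻¹ᵁ V) (b : Γ(X, U)) :
    toSec d V U h (CommRingCat.KaehlerDifferential.d b) = d.app U b :=
  (derOf d U (f.appLE V U h) (app_appLE d V U h)).desc_d b

omit d in
lemma smul_restrict_ι (U : X.Opens) (U₁ : U.toScheme.Opens) (r : Γ(X, U.ι ''ᵁ U₁))
    (m : Γ(Ω, U.ι ''ᵁ U₁)) :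
    ((show Γ(U, U₁) from r) • (show Γ(Ω.restrict U.ι, U₁) from m) : Γ(Ω.restrict U.ι, U₁)) =
      (r • m : Γ(Ω, U.ι ''ᵁ U₁)) := by
  have h1 : ((show Γ(U, U₁) from r) • (show Γ(Ω.restrict U.ι, U₁) from m) :
      Γ(Ω.restrict U.ι, U₁)) = (((U.ι.appIso U₁).inv r) • m : Γ(Ω, U.ι ''ᵁ U₁)) := rfl
  rw [h1]
  congr 1
  rw [Scheme.Opens.ι_appIso]; rfl

theorem bijective_desc_image (hd : OmegaSh.IsUniversal d) (U : X.Opens)
    [QuasiSeparated (U.ι ≫ f)] {U₁ : U.toScheme.Opens} (hU₁ : IsAffineOpen U₁) {V : S.Opens}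
    (hV : IsAffineOpen V) (e : U₁ ≤ (U.ι ≫ f) ⁻¹ᵁ V)
    (hφ : ∀ c, d.app (U.ι ''ᵁ U₁)
      (((U.ι ≫ f).appLE V U₁ e : Γ(S, V) ⟶ Γ(X, U.ι ''ᵁ U₁)) c) = 0) :
    Function.Bijective (derOf d (U.ι ''ᵁ U₁) ((U.ι ≫ f).appLE V U₁ e) hφ).desc := by
  obtain ⟨θ, hθ⟩ := ReceptacleLocal.exists_iso_restrict d hd U.ι
  have hT := OmAffGen.bijective_toSect (U.ι ≫ f) hU₁ hV e
  have hL : Function.Bijective (θ.hom.app U₁) := by
    have : IsIso (θ.hom.app U₁) := inferInstance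
    exact (ConcreteCategory.isIso_iff_bijective (θ.hom.app U₁)).1 this
  have hcomp : ∀ ω : CommRingCat.KaehlerDifferential ((U.ι ≫ f).appLE V U₁ e),
      (derOf d (U.ι ''ᵁ U₁) ((U.ι ≫ f).appLE V U₁ e) hφ).desc ω =
        θ.hom.app U₁ (OmAff.toSect (U.ι ≫ f) V U₁ e ω) := by
    intro ω
    letI := ((U.ι ≫ f).appLE V U₁ e).hom.toAlgebra
    have hω : ω ∈ Submodule.span Γ(U, U₁)
        (Set.range (KaehlerDifferential.D Γ(S, V) Γ(U, U₁))) := by
      rw [KaehlerDifferential.span_range_derivation]; trivial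
    induction hω using Submodule.span_induction with
    | mem y hy =>
      obtain ⟨b, rfl⟩ := hy
      have h1 := OmAff.toSect_d (U.ι ≫ f) V U₁ e b
      have h2 := (derOf d (U.ι ''ᵁ U₁) ((U.ι ≫ f).appLE V U₁ e) hφ).desc_d b
      refine h2.trans ?_
      refine Eq.trans ?_ (congrArg (fun z => θ.hom.app U₁ z) h1.symm)
      have h3 := PresheafOfModules.Derivation.congr_d hθ (X := op U₁) b
      refine Eq.trans ?_ h3.symm
      rw [RestrictDer.restrictDer_d]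
      show d.d (X := op (U.ι ''ᵁ U₁)) b = d.d (X := op (U.ι ''ᵁ U₁)) ((U.ι.appIso U₁).inv b)
      congr 1
      rw [Scheme.Opens.ι_appIso]; rfl
    | zero =>
      have e1 : (OmAff.toSect (U.ι ≫ f) V U₁ e).hom 0 = 0 := map_zero _
      have e2 : (derOf d (U.ι ''ᵁ U₁) ((U.ι ≫ f).appLE V U₁ e) hφ).desc.hom 0 = 0 := map_zero _
      have e3 : (θ.hom.app U₁).hom 0 = 0 := map_zero _
      exact e2.trans ((congrArg (fun z => (θ.hom.app U₁).hom z) e1).trans e3).symm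
    | add y z _ _ hy hz =>
      have e1 : (OmAff.toSect (U.ι ≫ f) V U₁ e).hom (y + z) =
          (OmAff.toSect (U.ι ≫ f) V U₁ e).hom y + (OmAff.toSect (U.ι ≫ f) V U₁ e).hom z :=
        map_add _ _ _
      have e2 : (derOf d (U.ι ''ᵁ U₁) ((U.ι ≫ f).appLE V U₁ e) hφ).desc.hom (y + z) =
          (derOf d (U.ι ''ᵁ U₁) ((U.ι ≫ f).appLE V U₁ e) hφ).desc.hom y +
          (derOf d (U.ι ''ᵁ U₁) ((U.ι ≫ f).appLE V U₁ e) hφ).desc.hom z := map_add _ _ _
      have e3 : (θ.hom.app U₁).hom ((OmAff.toSect (U.ι ≫ f) V U₁ e).hom y +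
          (OmAff.toSect (U.ι ≫ f) V U₁ e).hom z) =
          (θ.hom.app U₁).hom ((OmAff.toSect (U.ι ≫ f) V U₁ e).hom y) +
          (θ.hom.app U₁).hom ((OmAff.toSect (U.ι ≫ f) V U₁ e).hom z) := map_add _ _ _
      exact e2.trans ((congrArg₂ (· + ·) hy hz).trans
        ((congrArg (fun z => (θ.hom.app U₁).hom z) e1).trans e3).symm)
    | smul a y _ hy =>
      let a' : Γ(X, U.ι ''ᵁ U₁) := a
      have e1 : (OmAff.toSect (U.ι ≫ f) V U₁ e).hom (a • y) =
          a • (OmAff.toSect (U.ι ≫ f) V U₁ e).hom y :=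
        map_smul (OmAff.toSect (U.ι ≫ f) V U₁ e).hom a y
      have e2' := map_smul (derOf d (U.ι ''ᵁ U₁) ((U.ι ≫ f).appLE V U₁ e) hφ).desc.hom a'
      have e2 : (derOf d (U.ι ''ᵁ U₁) ((U.ι ≫ f).appLE V U₁ e) hφ).desc.hom (a • y) =
          a' • (derOf d (U.ι ''ᵁ U₁) ((U.ι ≫ f).appLE V U₁ e) hφ).desc.hom y := e2' y
      have e3 : (θ.hom.app U₁) (a • (OmAff.toSect (U.ι ≫ f) V U₁ e).hom y) =
          a • (θ.hom.app U₁) ((OmAff.toSect (U.ι ≫ f) V U₁ e).hom y) :=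
        Scheme.Modules.Hom.app_smul θ.hom a _
      have e4 := smul_restrict_ι (Ω := Ω) U U₁ a'
        ((θ.hom.app U₁) ((OmAff.toSect (U.ι ≫ f) V U₁ e).hom y))
      exact e2.trans ((congrArg (fun z => a' • z) hy).trans
        (e4.symm.trans ((congrArg (fun z => (θ.hom.app U₁) z) e1).trans e3).symm))
  have : ((derOf d (U.ι ''ᵁ U₁) ((U.ι ≫ f).appLE V U₁ e) hφ).desc :
      CommRingCat.KaehlerDifferential ((U.ι ≫ f).appLE V U₁ e) → Γ(Ω, U.ι ''ᵁ U₁)) =
      (fun m => θ.hom.app U₁ m) ∘ (fun ω => OmAff.toSect (U.ι ≫ f) V U₁ e ω) := by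
    funext ω
    exact hcomp ω
  rw [this]
  exact hL.comp hT

lemma bijective_desc_congr (W : X.Opens) {A : CommRingCat.{u}} (φ φ' : A ⟶ Γ(X, W)) (h : φ = φ')
    (hφ : ∀ c, d.app W (φ c) = 0) (hφ' : ∀ c, d.app W (φ' c) = 0) :
    Function.Bijective (derOf d W φ hφ).desc → Function.Bijective (derOf d W φ' hφ').desc := by
  subst h
  exact id

/-- **Sections of a universal receptacle over an affine pair are the Kähler differentials.** -/
theorem bijective_toSec (hd : OmegaSh.IsUniversal d) {U : X.Opens} (hU : IsAffineOpen U)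
    {V : S.Opens} (hV : IsAffineOpen V) (h : U ≤ f ⁻¹ᵁ V) :
    Function.Bijective (toSec d V U h) := by
  have : IsAffine U.toScheme := hU
  have e : (⊤ : U.toScheme.Opens) ≤ (U.ι ≫ f) ⁻¹ᵁ V := by
    intro x _
    exact h x.2
  have hle : U.ι ''ᵁ ⊤ ≤ f ⁻¹ᵁ V := by
    rintro _ ⟨y, hy, rfl⟩
    exact e hy
  have key : Function.Bijective (toSec d V (U.ι ''ᵁ ⊤) hle) := by
    have hφeq := OmegaFT.comp_ι_appLE f U V ⊤ e
    have hφ : ∀ c, d.app (U.ι ''ᵁ ⊤)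
        (((U.ι ≫ f).appLE V ⊤ e : Γ(S, V) ⟶ Γ(X, U.ι ''ᵁ ⊤)) c) = 0 := by
      intro c
      rw [hφeq]
      exact app_appLE d V _ _ c
    have hb := bijective_desc_image d hd U (isAffineOpen_top U.toScheme) hV e hφ
    exact bijective_desc_congr d _ _ _ hφeq hφ (app_appLE d V _ hle) hb
  have gen : ∀ (W : X.Opens) (_ : W = U) (hle : W ≤ f ⁻¹ᵁ V),
      Function.Bijective (toSec d V W hle) → Function.Bijective (toSec d V U h) := by
    rintro W rfl hle hb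
    exact hb
  exact gen _ U.ι_image_top hle key

end Groth.Agent.Lib.QCoh.ReceptacleSections
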