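import Mathlib
import Groth.Agent.Lib.QCoh.Helper50_ReceptacleSections
import Groth.Agent.Lib.QCoh.Helper50_PullbackSections

/-!
# The canonical map `h^* Ω → Ω'` on sections over affine opens (helper50)

For `h : X' ⟶ X`, `f : X ⟶ S`, `f' : X' ⟶ S'`, universal `(Ω, d)`, `(Ω', d')`, and a compatible
`c : h^* Ω ⟶ Ω'`: over affine opens `W ≤ h⁻¹ U`, `U ≤ f⁻¹ V`, `W ≤ f'⁻¹ V'` (with a ring map
`α : Γ(S,V) ⟶ Γ(S',V')` making the square of rings commute), `c.app W` corresponds to the algebraic
map `C ⊗_B Ω[B/A] → Ω[C/A']`, `c ⊗ D b ↦ c • D (φ b)`.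
-/

set_option autoImplicit false
universe u

open CategoryTheory CategoryTheory.Limits AlgebraicGeometry TopologicalSpace Opposite

namespace Groth.Agent.Lib.QCoh.DiffCompatSections

open Groth.Agent.Lib.QCoh Groth.Agent.Lib.QCoh.ReceptacleSections

variable {X S X' S' : Scheme.{u}} {f : X ⟶ S} {f' : X' ⟶ S'} (h : X' ⟶ X)
  {Ω : X.Modules} {Ω' : X'.Modules} (d : OmegaSh.Der f Ω) (d' : OmegaSh.Der f' Ω')
  (c : (Scheme.Modules.pullback h).obj Ω ⟶ Ω')

/-- the compatibility formula on small opens -/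
lemma app_pullbackSectionsMap (hc : OmegaSh.IsDiffCompat h d d' c) {U : X.Opens} {W : X'.Opens}
    (e : W ≤ h ⁻¹ᵁ U) (s : Γ(X, U)) :
    c.app W (pullbackSectionsMap h e Ω (d.app U s)) = d'.app W (h.appLE U W e s) := by
  have h1 : pullbackSectionsMap h e Ω (d.app U s) =
      ((Scheme.Modules.pullback h).obj Ω).presheaf.map (homOfLE e).op
        (OmegaSh.pullSect h Ω U (d.app U s)) := rfl
  rw [h1, app_naturality_apply c (homOfLE e), hc U s]
  have h2 := d'.d_map (homOfLE e).op (h.app U s)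
  exact h2.symm

/-- `c.app W` as a morphism of `Γ(X', W)`-modules -/
noncomputable def cMod (W : X'.Opens) :
    OmAff.sectMod ((Scheme.Modules.pullback h).obj Ω) W ⟶ OmAff.sectMod Ω' W :=
  ModuleCat.ofHom
    { toFun := fun m => c.app W m
      map_add' := fun a b => map_add _ a b
      map_smul' := fun r m => Scheme.Modules.Hom.app_smul c r m }

lemma cMod_apply (W : X'.Opens) (m : Γ((Scheme.Modules.pullback h).obj Ω, W)) :
    cMod h c W m = c.app W m := rfl

variable {U : X.Opens} {W : X'.Opens} {V : S.Opens} {V' : S'.Opens}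
  (e : W ≤ h ⁻¹ᵁ U) (hUV : U ≤ f ⁻¹ᵁ V) (hWV' : W ≤ f' ⁻¹ᵁ V')
  {α : Γ(S, V) ⟶ Γ(S', V')} (fac : α ≫ f'.appLE V' W hWV' = f.appLE V U hUV ≫ h.appLE U W e)

/-- the algebraic map `C ⊗_B Ω[B/A] → Ω[C/A']` -/
noncomputable def algMap :
    (ModuleCat.extendScalars (h.appLE U W e).hom).obj
        (CommRingCat.KaehlerDifferential (f.appLE V U hUV)) ⟶
      CommRingCat.KaehlerDifferential (f'.appLE V' W hWV') :=
  ((ModuleCat.extendRestrictScalarsAdj (h.appLE U W e).hom).homEquiv _ _).symm
    (CommRingCat.KaehlerDifferential.map fac)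

open TensorProduct ChangeOfRings in
lemma algMap_one_tmul (ω : CommRingCat.KaehlerDifferential (f.appLE V U hUV)) :
    algMap h e hUV hWV' fac ((1 : Γ(X', W)) ⊗ₜ[Γ(X, U), (h.appLE U W e).hom] ω) =
      CommRingCat.KaehlerDifferential.map fac ω := by
  have h1 := ModuleCat.extendRestrictScalarsAdj_homEquiv_apply (algMap h e hUV hWV' fac) ω
  refine h1.symm.trans ?_
  have h2 : ((ModuleCat.extendRestrictScalarsAdj (h.appLE U W e).hom).homEquiv _ _)
      (algMap h e hUV hWV' fac) = CommRingCat.KaehlerDifferential.map fac :=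
    Equiv.apply_symm_apply _ _
  rw [h2]

open TensorProduct ChangeOfRings in
/-- **Dictionary**: on affine opens, `c` is the algebraic map of differentials. -/
theorem dictionary (hc : OmegaSh.IsDiffCompat h d d' c)
    (κ : (ModuleCat.extendScalars (h.appLE U W e).hom).obj (ModuleCat.of Γ(X, U) Γ(Ω, U)) ≅
      ModuleCat.of Γ(X', W) Γ((Scheme.Modules.pullback h).obj Ω, W))
    (hκ : ∀ m : Γ(Ω, U), κ.hom ((1 : Γ(X', W)) ⊗ₜ[Γ(X, U), (h.appLE U W e).hom] m) =
      pullbackSectionsMap h e Ω m) :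
    (ModuleCat.extendScalars (h.appLE U W e).hom).map (toSec d V U hUV) ≫ κ.hom ≫ cMod h c W =
      algMap h e hUV hWV' fac ≫ toSec d' V' W hWV' := by
  have key : ∀ b : Γ(X, U),
      ((ModuleCat.extendScalars (h.appLE U W e).hom).map (toSec d V U hUV) ≫ κ.hom ≫ cMod h c W)
        ((1 : Γ(X', W)) ⊗ₜ[Γ(X, U), (h.appLE U W e).hom] (CommRingCat.KaehlerDifferential.d b)) =
      (algMap h e hUV hWV' fac ≫ toSec d' V' W hWV')
        ((1 : Γ(X', W)) ⊗ₜ[Γ(X, U), (h.appLE U W e).hom] (CommRingCat.KaehlerDifferential.d b)) := by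
    intro b
    have r1 : (algMap h e hUV hWV' fac ≫ toSec d' V' W hWV')
        ((1 : Γ(X', W)) ⊗ₜ[Γ(X, U), (h.appLE U W e).hom] (CommRingCat.KaehlerDifferential.d b)) =
        toSec d' V' W hWV' (algMap h e hUV hWV' fac
          ((1 : Γ(X', W)) ⊗ₜ[Γ(X, U), (h.appLE U W e).hom]
            (CommRingCat.KaehlerDifferential.d b))) := rfl
    rw [r1, algMap_one_tmul, CommRingCat.KaehlerDifferential.map_d, toSec_d]
    have l1 : ((ModuleCat.extendScalars (h.appLE U W e).hom).map (toSec d V U hUV) ≫ κ.hom ≫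
        cMod h c W)
        ((1 : Γ(X', W)) ⊗ₜ[Γ(X, U), (h.appLE U W e).hom] (CommRingCat.KaehlerDifferential.d b)) =
        c.app W (κ.hom ((1 : Γ(X', W)) ⊗ₜ[Γ(X, U), (h.appLE U W e).hom]
          (toSec d V U hUV (CommRingCat.KaehlerDifferential.d b)))) := rfl
    rw [l1, toSec_d, hκ]
    exact app_pullbackSectionsMap h d d' c hc e b
  have hT : (ModuleCat.extendRestrictScalarsAdj (h.appLE U W e).hom).unit.app
        (CommRingCat.KaehlerDifferential (f.appLE V U hUV)) ≫
      (ModuleCat.restrictScalars (h.appLE U W e).hom).map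
        ((ModuleCat.extendScalars (h.appLE U W e).hom).map (toSec d V U hUV) ≫ κ.hom ≫
          cMod h c W) =
      (ModuleCat.extendRestrictScalarsAdj (h.appLE U W e).hom).unit.app
        (CommRingCat.KaehlerDifferential (f.appLE V U hUV)) ≫
      (ModuleCat.restrictScalars (h.appLE U W e).hom).map
        (algMap h e hUV hWV' fac ≫ toSec d' V' W hWV') := by
    apply CommRingCat.KaehlerDifferential.ext
    intro b
    exact key b
  apply ModuleCat.ExtendScalars.hom_ext
  intro ω
  exact congr($hT ω)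

section Consequences

variable [Ω.IsQuasicoherent] (hd : OmegaSh.IsUniversal d) (hd' : OmegaSh.IsUniversal d')
  (hc : OmegaSh.IsDiffCompat h d d' c)
  (hU : IsAffineOpen U) (hW : IsAffineOpen W) (hV : IsAffineOpen V) (hV' : IsAffineOpen V')

include hd hd' hc hU hW hV hV' in
/-- the factorisation of `c.app W` through the algebraic map -/
theorem exists_factorisation :
    ∃ (G : (ModuleCat.extendScalars (h.appLE U W e).hom).obj
          (CommRingCat.KaehlerDifferential (f.appLE V U hUV)) →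
        Γ((Scheme.Modules.pullback h).obj Ω, W))
      (T : CommRingCat.KaehlerDifferential (f'.appLE V' W hWV') → Γ(Ω', W)),
      Function.Bijective G ∧ Function.Bijective T ∧
        ∀ t, c.app W (G t) = T (algMap h e hUV hWV' fac t) := by
  obtain ⟨κ, hκ⟩ := exists_iso_extendScalars_pullbackSections h hU hW e Ω
  have E := dictionary h d d' c e hUV hWV' fac hc κ hκ
  have hF : Function.Bijective (toSec d V U hUV) := bijective_toSec d hd hU hV hUV
  have hFiso : IsIso (toSec d V U hUV) := (ConcreteCategory.isIso_iff_bijective _).2 hF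
  have hT : Function.Bijective (toSec d' V' W hWV') := bijective_toSec d' hd' hW hV' hWV'
  have hG : Function.Bijective
      ((ModuleCat.extendScalars (h.appLE U W e).hom).map (toSec d V U hUV) ≫ κ.hom) :=
    (ConcreteCategory.isIso_iff_bijective _).1 inferInstance
  refine ⟨fun t => ((ModuleCat.extendScalars (h.appLE U W e).hom).map (toSec d V U hUV) ≫ κ.hom) t,
    fun ω => toSec d' V' W hWV' ω, hG, hT, fun t => ?_⟩
  exact congr($E t)

include hd hd' hc hU hW hV hV' in
theorem injective_app_of_injective_algMap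
    (hinj : Function.Injective (algMap h e hUV hWV' fac)) : Function.Injective (c.app W) := by
  obtain ⟨G, T, hG, hT, hGT⟩ := exists_factorisation h d d' c e hUV hWV' fac hd hd' hc hU hW hV hV'
  intro x y hxy
  obtain ⟨t, rfl⟩ := hG.2 x
  obtain ⟨t', rfl⟩ := hG.2 y
  rw [hGT, hGT] at hxy
  rw [hinj (hT.1 hxy)]

include hd hd' hc hU hW hV hV' in
theorem bijective_app_of_bijective_algMap
    (hbij : Function.Bijective (algMap h e hUV hWV' fac)) : Function.Bijective (c.app W) := by
  obtain ⟨G, T, hG, hT, hGT⟩ := exists_factorisation h d d' c e hUV hWV' fac hd hd' hc hU hW hV hV'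
  refine ⟨injective_app_of_injective_algMap h d d' c e hUV hWV' fac hd hd' hc hU hW hV hV' hbij.1,
    fun y => ?_⟩
  obtain ⟨ω, rfl⟩ := hT.2 y
  obtain ⟨t, rfl⟩ := hbij.2 ω
  exact ⟨G t, hGT t⟩

end Consequences

end Groth.Agent.Lib.QCoh.DiffCompatSections
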