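import Mathlib
import Groth.Agent.Lib.Helper25.SplitConormal
import Groth.Agent.Lib.QCoh.Helper50_DiffCompatSections
import Groth.Agent.Lib.QCoh.OmegaS1
import Groth.Agent.S18057

/-!
# The conormal map `C_{X'/X} → j^*Ω_{X/Y}` is injective when `X' → Y` is formally smooth (helper50)

ns `Groth.Agent.Lib.QCoh.ConormalMono`.
* `mem_ker_sq_of_one_tmul_D_eq_zero` (algebra): `A → B` surjective, `B` formally smooth over `R`,
  `1 ⊗ D a = 0` in `B ⊗_A Ω[A/R]` for `a` in the kernel `I` ⇒ `a ∈ I²`.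
* `exists_one_tmul`: elements of `extendScalars` along a surjective ring map are of the form `1 ⊗ m`.
* `conormalSect_eq_zero_of_mem_sq`: sections of the ideal lying in `I²` have zero class in the conormal sheaf.
* `injective_app`: injectivity of `φ` on sections over `j⁻¹V`, `V` affine in the coborder.
-/

set_option autoImplicit false
universe u

open CategoryTheory CategoryTheory.Limits AlgebraicGeometry TopologicalSpace Opposite TensorProduct

namespace Groth.Agent.Lib.QCoh.ConormalMono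

theorem mem_ker_sq_of_one_tmul_D_eq_zero (R A B : Type u) [CommRing R] [CommRing A] [CommRing B]
    [Algebra R A] [Algebra A B] [Algebra R B] [IsScalarTower R A B]
    (hs : Function.Surjective (algebraMap A B)) [Algebra.FormallySmooth R B] (a : A)
    (ha : algebraMap A B a = 0) (h : (1 : B) ⊗ₜ[A] KaehlerDifferential.D R A a = 0) :
    a ∈ (RingHom.ker (algebraMap A B)) ^ 2 := by
  let F := IsScalarTower.toAlgHom R A B
  have hsurj : Function.Surjective F.kerSquareLift := by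
    intro b
    obtain ⟨x, rfl⟩ := hs b
    exact ⟨Ideal.Quotient.mk _ x, F.kerSquareLift_mk x⟩
  have hnil : IsNilpotent (RingHom.ker F.kerSquareLift.toRingHom) :=
    ⟨2, by rw [F.ker_kerSquareLift, Ideal.cotangentIdeal_square]; rfl⟩
  let g := Algebra.FormallySmooth.liftOfSurjective (AlgHom.id R B) F.kerSquareLift hsurj hnil
  have hg : F.kerSquareLift.comp g = AlgHom.id R B :=
    Algebra.FormallySmooth.comp_liftOfSurjective _ _ hsurj hnil
  obtain ⟨l, hl⟩ := (retractionKerCotangentToTensorEquivSection (R := R) hs).symm ⟨g, hg⟩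
  have hx : KaehlerDifferential.kerCotangentToTensor R A B
      ((RingHom.ker (algebraMap A B)).toCotangent ⟨a, ha⟩) = 0 := by
    rw [KaehlerDifferential.kerCotangentToTensor_toCotangent]
    exact h
  have h0 : (RingHom.ker (algebraMap A B)).toCotangent ⟨a, ha⟩ = 0 := by
    have := congrArg l hx
    rw [map_zero, ← LinearMap.comp_apply, hl] at this
    exact this
  exact (Ideal.toCotangent_eq_zero _ _).1 h0

open ChangeOfRings in
/-- bundled version -/
theorem mem_ker_sq_bundled {R A B : CommRingCat.{u}} (ψ : R ⟶ A) (ρ : A ⟶ B)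
    (hρ : Function.Surjective ρ.hom) (hsm : (ψ ≫ ρ).hom.FormallySmooth) (a : A)
    (ha : ρ.hom a = 0)
    (h : ((1 : B) ⊗ₜ[A, ρ.hom] (CommRingCat.KaehlerDifferential.d a) :
      (ModuleCat.extendScalars ρ.hom).obj (CommRingCat.KaehlerDifferential ψ)) = 0) :
    a ∈ (RingHom.ker ρ.hom) ^ 2 := by
  letI := ψ.hom.toAlgebra
  letI := ρ.hom.toAlgebra
  letI : Algebra R B := (ψ ≫ ρ).hom.toAlgebra
  have : IsScalarTower R A B := IsScalarTower.of_algebraMap_eq (fun _ => rfl)
  have : Algebra.FormallySmooth R B := hsm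
  have h' : (1 : B) ⊗ₜ[A] KaehlerDifferential.D R A a = 0 := by
    have h1 := congrArg (extendScalarsIso A B Ω[A⁄R]).hom h
    have h2 : (extendScalarsIso A B Ω[A⁄R]).hom
        (0 : (ModuleCat.extendScalars (algebraMap A B)).obj (ModuleCat.of A Ω[A⁄R])) = 0 :=
      map_zero _
    exact h1.trans h2
  exact mem_ker_sq_of_one_tmul_D_eq_zero R A B hρ a ha h'

open ChangeOfRings in
theorem exists_one_tmul {A B : CommRingCat.{u}} (ρ : A ⟶ B) (hρ : Function.Surjective ρ.hom)
    (M : ModuleCat.{u} A) (t : (ModuleCat.extendScalars ρ.hom).obj M) :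
    ∃ m : M, t = (1 : B) ⊗ₜ[A, ρ.hom] m := by
  let _ := Module.compHom B ρ.hom
  have key : ∀ t : TensorProduct A B M, ∃ m : M, t = (1 : B) ⊗ₜ[A] m := by
    intro t
    induction t using TensorProduct.induction_on with
    | zero => exact ⟨0, (TensorProduct.tmul_zero _ _).symm⟩
    | tmul b m =>
      obtain ⟨a, rfl⟩ := hρ b
      refine ⟨a • m, ?_⟩
      rw [← TensorProduct.smul_tmul]
      congr 1
      show ρ.hom a = ρ.hom a * 1
      rw [mul_one]
    | add x y hx hy =>
      obtain ⟨m, rfl⟩ := hx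
      obtain ⟨m', rfl⟩ := hy
      exact ⟨m + m', (TensorProduct.tmul_add _ _ _).symm⟩
  exact key t

section Geom

variable {X' X Y : Scheme.{u}} (j : X' ⟶ X) [QuasiCompact j]

/-- sections of the ideal lying in the square of the ideal have zero class in the conormal sheaf -/
theorem conormalSect_eq_zero_of_mem_sq (V : X.Opens) (s : Γ(ClSub.idealMod j.ker, V))
    (hs : OmegaSh.idealSect j.ker V s ∈ (RingHom.ker (j.app V).hom) ^ 2) :
    OmegaSh.conormalSect j V s = 0 := by
  have key : ∀ a ∈ (RingHom.ker (j.app V).hom) ^ 2,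
      ∃ s' : Γ(ClSub.idealMod j.ker, V), OmegaSh.idealSect j.ker V s' = a ∧
        OmegaSh.conormalSect j V s' = 0 := by
    intro a ha
    rw [pow_two] at ha
    refine Submodule.mul_induction_on ha ?_ ?_
    · intro u hu v hv
      obtain ⟨sv, hsv⟩ := Groth.Agent.Lib.Helper25.SplitConormal.exists_idealSect' j V v hv
      refine ⟨u • sv, ?_, ?_⟩
      · rw [Groth.Agent.Lib.Helper25.SplitConormal.idealSect_smul, hsv]
      · have h1 : OmegaSh.conormalSect j V (u • sv) =
            j.app V u • OmegaSh.conormalSect j V sv :=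
          OmegaSh.pullSect_smul j (ClSub.idealMod j.ker) V u sv
        rw [h1, show j.app V u = 0 from hu, zero_smul]
    · intro x y hx hy
      obtain ⟨sx, hsx, hsx'⟩ := hx
      obtain ⟨sy, hsy, hsy'⟩ := hy
      refine ⟨sx + sy, ?_, ?_⟩
      · rw [map_add, hsx, hsy]
      · rw [map_add, hsx', hsy', add_zero]
  obtain ⟨s', hs', hs'0⟩ := key _ hs
  rw [← Groth.Agent.Lib.Helper25.SplitConormal.idealSect_injective j V hs']
  exact hs'0

end Geom

section Main

open Groth.Agent.Lib.QCoh.ReceptacleSections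

variable {X' X Y : Scheme.{u}} (j : X' ⟶ X) [IsImmersion j] [QuasiCompact j] (f : X ⟶ Y)
  {Ω' : X.Modules} (d : OmegaSh.Der f Ω') (hd : OmegaSh.IsUniversal d)
  (φ : Omega.conormal j ⟶ (Scheme.Modules.pullback j).obj Ω') (hφ : OmegaSh.IsConormalDiff j d φ)

omit [QuasiCompact j] in
lemma isAffineOpen_preimage {V : X.Opens} (hV : IsAffineOpen V) (hle : V ≤ j.coborderRange) :
    IsAffineOpen (j ⁻¹ᵁ V) := by
  obtain ⟨U₀, rfl⟩ : ∃ U₀ : j.coborderRange.toScheme.Opens, j.coborderRange.ι ''ᵁ U₀ = V := by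
    refine ⟨j.coborderRange.ι ⁻¹ᵁ V, ?_⟩
    rw [Scheme.Hom.image_preimage_eq_opensRange_inf, Scheme.Opens.opensRange_ι]
    exact inf_eq_right.mpr hle
  have hU₀ : IsAffineOpen U₀ := (j.coborderRange.ι.isAffineOpen_iff_of_isOpenImmersion).mp hV
  have h1 : IsAffineOpen (j.liftCoborder ⁻¹ᵁ U₀) := hU₀.preimage j.liftCoborder
  rw [j.liftCoborder_preimage U₀] at h1
  exact h1

include hd hφ in
open ChangeOfRings in
theorem injective_app (hf : MoreMor.IsFormallySmoothHom (j ≫ f)) {V : X.Opens}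
    (hV : IsAffineOpen V) (hle : V ≤ j.coborderRange) {V₀ : Y.Opens} (hV₀ : IsAffineOpen V₀)
    (hVV₀ : V ≤ f ⁻¹ᵁ V₀) : Function.Injective (φ.app (j ⁻¹ᵁ V)) := by
  have hq : Ω'.IsQuasicoherent := ReceptacleLocal.isQuasicoherent_of_isUniversal d hd
  have hU' : IsAffineOpen (j ⁻¹ᵁ V) := isAffineOpen_preimage j hV hle
  have hsurj : Function.Surjective (j.appLE V (j ⁻¹ᵁ V) le_rfl).hom := by
    rw [← Scheme.Hom.app_eq_appLE]
    exact Groth.Agent.Lib.Helper25.ImmDer.app_surjective_of_le_coborder j hV hle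
  have key : ∀ s : Γ(ClSub.idealMod j.ker, V),
      φ.app (j ⁻¹ᵁ V) (OmegaSh.conormalSect j V s) = 0 → OmegaSh.conormalSect j V s = 0 := by
    intro s hs
    rw [hφ V s] at hs
    obtain ⟨κ₂, hκ₂⟩ := exists_iso_extendScalars_pullbackSections j hV hU' le_rfl Ω'
    have h1 : κ₂.hom ((1 : Γ(X', j ⁻¹ᵁ V)) ⊗ₜ[Γ(X, V), (j.appLE V (j ⁻¹ᵁ V) le_rfl).hom]
        (d.app V (OmegaSh.idealSect j.ker V s))) = 0 := by
      rw [hκ₂]
      have e1 : pullbackSectionsMap j (le_refl (j ⁻¹ᵁ V)) Ω'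
          (d.app V (OmegaSh.idealSect j.ker V s)) =
          ((Scheme.Modules.pullback j).obj Ω').presheaf.map (homOfLE (le_refl (j ⁻¹ᵁ V))).op
            (OmegaSh.pullSect j Ω' V (d.app V (OmegaSh.idealSect j.ker V s))) := rfl
      rw [e1, hs, map_zero]
    have h2 : ((1 : Γ(X', j ⁻¹ᵁ V)) ⊗ₜ[Γ(X, V), (j.appLE V (j ⁻¹ᵁ V) le_rfl).hom]
        (d.app V (OmegaSh.idealSect j.ker V s)) :
        (ModuleCat.extendScalars (j.appLE V (j ⁻¹ᵁ V) le_rfl).hom).obj
          (ModuleCat.of Γ(X, V) Γ(Ω', V))) = 0 := by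
      have hinj : Function.Injective κ₂.hom :=
        ((ConcreteCategory.isIso_iff_bijective κ₂.hom).1 inferInstance).1
      apply hinj
      exact h1.trans (κ₂.hom.hom.map_zero).symm
    have hT : Function.Bijective (toSec d V₀ V hVV₀) := bijective_toSec d hd hV hV₀ hVV₀
    have hTiso : IsIso (toSec d V₀ V hVV₀) := (ConcreteCategory.isIso_iff_bijective _).2 hT
    have h3 : ((1 : Γ(X', j ⁻¹ᵁ V)) ⊗ₜ[Γ(X, V), (j.appLE V (j ⁻¹ᵁ V) le_rfl).hom]
        (CommRingCat.KaehlerDifferential.d (OmegaSh.idealSect j.ker V s)) :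
        (ModuleCat.extendScalars (j.appLE V (j ⁻¹ᵁ V) le_rfl).hom).obj
          (CommRingCat.KaehlerDifferential (f.appLE V₀ V hVV₀))) = 0 := by
      have hinj : Function.Injective
          ((ModuleCat.extendScalars (j.appLE V (j ⁻¹ᵁ V) le_rfl).hom).map (toSec d V₀ V hVV₀)) :=
        ((ConcreteCategory.isIso_iff_bijective _).1 inferInstance).1
      apply hinj
      refine Eq.trans ?_ ((ModuleCat.Hom.hom ((ModuleCat.extendScalars
        (j.appLE V (j ⁻¹ᵁ V) le_rfl).hom).map (toSec d V₀ V hVV₀))).map_zero).symm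
      rw [ModuleCat.ExtendScalars.map_tmul, toSec_d]
      exact h2
    have hsm : (f.appLE V₀ V hVV₀ ≫ j.appLE V (j ⁻¹ᵁ V) le_rfl).hom.FormallySmooth := by
      have h4 := Groth.Agent.S18057.formallySmooth_appLE (j ≫ f) hf hV₀ hU'
        (fun x hx => hVV₀ hx)
      rw [Scheme.Hom.appLE_comp_appLE]
      exact h4
    have ha : (j.appLE V (j ⁻¹ᵁ V) le_rfl).hom (OmegaSh.idealSect j.ker V s) = 0 := by
      rw [← Scheme.Hom.app_eq_appLE]
      exact Groth.Agent.Lib.Helper25.ImmDer.idealSect_mem j V s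
    have hmem := mem_ker_sq_bundled (f.appLE V₀ V hVV₀) (j.appLE V (j ⁻¹ᵁ V) le_rfl) hsurj hsm
      (OmegaSh.idealSect j.ker V s) ha h3
    apply conormalSect_eq_zero_of_mem_sq j V s
    rw [Scheme.Hom.app_eq_appLE]
    exact hmem
  obtain ⟨κ, hκ⟩ := exists_iso_extendScalars_pullbackSections j hV hU' le_rfl
    (ClSub.idealMod j.ker)
  have hrep : ∀ x : Γ(Omega.conormal j, j ⁻¹ᵁ V), ∃ s, x = OmegaSh.conormalSect j V s := by
    intro x
    obtain ⟨m, hm⟩ := exists_one_tmul (j.appLE V (j ⁻¹ᵁ V) le_rfl) hsurj _ (κ.inv x)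
    refine ⟨m, ?_⟩
    have h1 : x = κ.hom (κ.inv x) := (Iso.inv_hom_id_apply κ x).symm
    refine h1.trans ((congrArg (fun z => κ.hom z) hm).trans ((hκ m).trans ?_))
    show ((Scheme.Modules.pullback j).obj (ClSub.idealMod j.ker)).presheaf.map
      (homOfLE (le_refl (j ⁻¹ᵁ V))).op (OmegaSh.pullSect j (ClSub.idealMod j.ker) V m) = _
    have e2 : homOfLE (le_refl (j ⁻¹ᵁ V)) = 𝟙 _ := rfl
    rw [e2, op_id, CategoryTheory.Functor.map_id]
    rfl
  intro x y hxy
  obtain ⟨sx, rfl⟩ := hrep x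
  obtain ⟨sy, rfl⟩ := hrep y
  have h0 : φ.app (j ⁻¹ᵁ V) (OmegaSh.conormalSect j V (sx - sy)) = 0 := by
    rw [map_sub, map_sub, hxy, sub_self]
  have h5 := key (sx - sy) h0
  rw [map_sub, sub_eq_zero] at h5
  exact h5

end Main

end Groth.Agent.Lib.QCoh.ConormalMono
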