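import Mathlib
import Groth.Agent.Lib.QCoh.Helper50_ExtendScalars

/-!
# The transposed map of Kähler differentials versus unbundled linear maps (helper50)
-/

set_option autoImplicit false
universe u

open CategoryTheory TensorProduct

namespace Groth.Agent.Lib.QCoh.KaehlerAlg

variable {A A' B C : CommRingCat.{u}} {ψ : A ⟶ B} {ψ' : A' ⟶ C} {α : A ⟶ A'} {φ : B ⟶ C}
  (fac : α ≫ ψ' = ψ ≫ φ)

/-- the transposed map `C ⊗_B Ω[B/A] → Ω[C/A']` in bundled form -/
noncomputable def transp :
    (ModuleCat.extendScalars φ.hom).obj (CommRingCat.KaehlerDifferential ψ) ⟶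
      CommRingCat.KaehlerDifferential ψ' :=
  ((ModuleCat.extendRestrictScalarsAdj φ.hom).homEquiv _ _).symm
    (CommRingCat.KaehlerDifferential.map fac)

open ChangeOfRings in
lemma transp_one_tmul (ω : CommRingCat.KaehlerDifferential ψ) :
    (transp.{u} fac) ((1 : C) ⊗ₜ[B, φ.hom] ω) = CommRingCat.KaehlerDifferential.map fac ω := by
  have h1 := ModuleCat.extendRestrictScalarsAdj_homEquiv_apply (transp.{u} fac) ω
  refine h1.symm.trans ?_
  have h2 : ((ModuleCat.extendRestrictScalarsAdj φ.hom).homEquiv _ _) (transp.{u} fac) =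
      CommRingCat.KaehlerDifferential.map fac := Equiv.apply_symm_apply _ _
  rw [h2]

set_option maxHeartbeats 1600000 in
open ChangeOfRings in
/-- comparison with an unbundled linear map with the same values on `1 ⊗ D b` -/
theorem transp_eq :
    letI := ψ.hom.toAlgebra
    letI := ψ'.hom.toAlgebra
    letI := φ.hom.toAlgebra
    ∀ (M : C ⊗[B] Ω[B⁄A] →ₗ[C] Ω[C⁄A'])
      (_ : ∀ b : B, M ((1 : C) ⊗ₜ[B] KaehlerDifferential.D A B b) =
        KaehlerDifferential.D A' C (φ.hom b)),
      ∀ t : (ModuleCat.extendScalars φ.hom).obj (CommRingCat.KaehlerDifferential ψ),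
        transp fac t = M ((extendScalarsIso B C Ω[B⁄A]).hom t) := by
  letI := ψ.hom.toAlgebra
  letI := ψ'.hom.toAlgebra
  letI := φ.hom.toAlgebra
  intro M hM
  have key : transp fac =
      ((extendScalarsIso B C Ω[B⁄A]).hom ≫ ModuleCat.ofHom M :
        (ModuleCat.extendScalars φ.hom).obj (CommRingCat.KaehlerDifferential ψ) ⟶
          CommRingCat.KaehlerDifferential ψ') := by
    have hT : (ModuleCat.extendRestrictScalarsAdj φ.hom).unit.app
          (CommRingCat.KaehlerDifferential ψ) ≫
        (ModuleCat.restrictScalars φ.hom).map (transp.{u} fac) =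
        (ModuleCat.extendRestrictScalarsAdj φ.hom).unit.app
          (CommRingCat.KaehlerDifferential ψ) ≫
        (ModuleCat.restrictScalars φ.hom).map
          ((extendScalarsIso B C Ω[B⁄A]).hom ≫ ModuleCat.ofHom M :
            (ModuleCat.extendScalars φ.hom).obj (CommRingCat.KaehlerDifferential ψ) ⟶
              CommRingCat.KaehlerDifferential ψ') := by
      apply CommRingCat.KaehlerDifferential.ext
      intro b
      have l1 : ((ModuleCat.extendRestrictScalarsAdj φ.hom).unit.app
          (CommRingCat.KaehlerDifferential ψ) ≫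
          (ModuleCat.restrictScalars φ.hom).map (transp.{u} fac))
          (CommRingCat.KaehlerDifferential.d b) =
          (transp.{u} fac) ((1 : C) ⊗ₜ[B, φ.hom] (CommRingCat.KaehlerDifferential.d b)) := rfl
      rw [l1, transp_one_tmul, CommRingCat.KaehlerDifferential.map_d]
      exact (hM b).symm
    apply ModuleCat.ExtendScalars.hom_ext
    intro m
    exact congr($hT m)
  intro t
  exact congr($key t)

/-- ring-level: for `A → B → C` with `C` formally smooth over `B`, `C ⊗_B Ω[B/A] → Ω[C/A]` is
injective -/
lemma injective_mapBaseChange (R S T : Type u) [CommRing R] [CommRing S] [CommRing T]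
    [Algebra R S] [Algebra S T] [Algebra R T] [IsScalarTower R S T] [Algebra.FormallySmooth S T] :
    Function.Injective (KaehlerDifferential.mapBaseChange R S T) := by
  rw [injective_iff_map_eq_zero]
  intro x hx
  obtain ⟨y, rfl⟩ := (Algebra.H1Cotangent.exact_δ_mapBaseChange R S T x).1 hx
  rw [Subsingleton.elim y 0, map_zero]

/-- the transposed map is injective when `B → C` is formally smooth (same base `A`) -/
theorem transp_injective_of_formallySmooth {A B C : CommRingCat.{u}} {ψ : A ⟶ B} {ψ' : A ⟶ C}
    {φ : B ⟶ C} (fac : 𝟙 A ≫ ψ' = ψ ≫ φ) (hφ : φ.hom.FormallySmooth) :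
    Function.Injective (transp.{u} fac) := by
  letI := ψ.hom.toAlgebra
  letI := ψ'.hom.toAlgebra
  letI := φ.hom.toAlgebra
  have : IsScalarTower A B C := IsScalarTower.of_algebraMap_eq (fun a => by
    have := congr($fac a)
    exact this)
  have : Algebra.FormallySmooth B C := hφ
  have hM : ∀ b : B, KaehlerDifferential.mapBaseChange A B C
      ((1 : C) ⊗ₜ[B] KaehlerDifferential.D A B b) = KaehlerDifferential.D A C (φ.hom b) := by
    intro b
    rw [KaehlerDifferential.mapBaseChange_tmul, one_smul, KaehlerDifferential.map_D]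
    rfl
  have h1 := transp_eq fac (KaehlerDifferential.mapBaseChange A B C) hM
  have hinj := injective_mapBaseChange A B C
  have hiso : Function.Injective (extendScalarsIso B C Ω[B⁄A]).hom :=
    ((ConcreteCategory.isIso_iff_bijective (extendScalarsIso B C Ω[B⁄A]).hom).1 inferInstance).1
  intro t t' htt'
  rw [h1 t, h1 t'] at htt'
  exact hiso (hinj htt')

end Groth.Agent.Lib.QCoh.KaehlerAlg
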