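import Mathlib
import Groth.Agent.Lib.QCoh.Helper50_DiffCompatSections
import Groth.Agent.Lib.QCoh.Helper50_KaehlerAlg

/-!
# Factorisation of `c.app W` through `toSec` (explicit form) (helper50)
-/

set_option autoImplicit false
universe u

open CategoryTheory CategoryTheory.Limits AlgebraicGeometry TopologicalSpace Opposite

namespace Groth.Agent.Lib.QCoh.DiffCompatSections

open Groth.Agent.Lib.QCoh Groth.Agent.Lib.QCoh.ReceptacleSections

variable {X S X' S' : Scheme.{u}} {f : X ⟶ S} {f' : X' ⟶ S'} (h : X' ⟶ X)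
  {Ω : X.Modules} {Ω' : X'.Modules} (d : OmegaSh.Der f Ω) (d' : OmegaSh.Der f' Ω')
  (c : (Scheme.Modules.pullback h).obj Ω ⟶ Ω')
  {U : X.Opens} {W : X'.Opens} {V : S.Opens} {V' : S'.Opens}
  (e : W ≤ h ⁻¹ᵁ U) (hUV : U ≤ f ⁻¹ᵁ V) (hWV' : W ≤ f' ⁻¹ᵁ V')
  {α : Γ(S, V) ⟶ Γ(S', V')} (fac : α ≫ f'.appLE V' W hWV' = f.appLE V U hUV ≫ h.appLE U W e)

lemma algMap_eq_transp : algMap h e hUV hWV' fac = KaehlerAlg.transp.{u} fac := rfl

variable [Ω.IsQuasicoherent] (hd : OmegaSh.IsUniversal d)
  (hc : OmegaSh.IsDiffCompat h d d' c)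
  (hU : IsAffineOpen U) (hW : IsAffineOpen W) (hV : IsAffineOpen V)

include hd hc hU hW hV in
/-- the factorisation of `c.app W` through the algebraic map and `toSec d'` -/
theorem exists_factorisation_toSec :
    ∃ (G : (ModuleCat.extendScalars (h.appLE U W e).hom).obj
          (CommRingCat.KaehlerDifferential (f.appLE V U hUV)) →
        Γ((Scheme.Modules.pullback h).obj Ω, W)),
      Function.Bijective G ∧
        ∀ t, c.app W (G t) = toSec d' V' W hWV' (KaehlerAlg.transp.{u} fac t) := by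
  obtain ⟨κ, hκ⟩ := exists_iso_extendScalars_pullbackSections h hU hW e Ω
  have E := dictionary h d d' c e hUV hWV' fac hc κ hκ
  have hF : Function.Bijective (toSec d V U hUV) := bijective_toSec d hd hU hV hUV
  have hFiso : IsIso (toSec d V U hUV) := (ConcreteCategory.isIso_iff_bijective _).2 hF
  have hG : Function.Bijective
      ((ModuleCat.extendScalars (h.appLE U W e).hom).map (toSec d V U hUV) ≫ κ.hom) :=
    (ConcreteCategory.isIso_iff_bijective _).1 inferInstance
  refine ⟨fun t => ((ModuleCat.extendScalars (h.appLE U W e).hom).map (toSec d V U hUV) ≫ κ.hom) t,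
    hG, fun t => ?_⟩
  exact congr($E t)

end Groth.Agent.Lib.QCoh.DiffCompatSections
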