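import Mathlib
import Groth.Agent.Lib.Helper77.ExtPowBaseChange

/-!
# QCoh API (helper50): gluing exterior powers along base changes

Abstract algebra behind "the tilde of an exterior power is an exterior power of the tilde":
* `phi` : for base changes `f : M → E`, `l : ⋀ⁿ M → L` along `A → B`, the `B`-linear identification
  `L ≃ ⋀ⁿ_B E`, with `phi (l x) = extMap f n x`;
* `compat` : compatibility of `phi` with semilinear restriction maps.
-/

universe u
open TensorProduct exteriorPower

namespace Groth.Agent.Lib.QCoh.ExtPowGlue

open Groth.Agent.Lib.Helper77.ExtPowBaseChange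

section One

variable {A B M E L : Type u} [CommRing A] [CommRing B] [Algebra A B] [AddCommGroup M] [Module A M]
  [AddCommGroup E] [Module A E] [Module B E] [IsScalarTower A B E]
  [AddCommGroup L] [Module A L] [Module B L] [IsScalarTower A B L]
  (n : ℕ) {f : M →ₗ[A] E} (hf : IsBaseChange B f) {l : ↥(⋀[A]^n M) →ₗ[A] L} (hl : IsBaseChange B l)

/-- The identification `L ≃ ⋀ⁿ_B E` of two base changes of `⋀ⁿ_A M`. -/
noncomputable def phi : L ≃ₗ[B] ↥(⋀[B]^n E) :=
  hl.equiv.symm ≪≫ₗ (extMap_isBaseChange hf n).equiv

theorem phi_l (x : ↥(⋀[A]^n M)) : phi n hf hl (l x) = extMap (B := B) f n x := by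
  unfold phi
  rw [LinearEquiv.trans_apply]
  have h : hl.equiv.symm (l x) = (1 : B) ⊗ₜ[A] x := by
    rw [LinearEquiv.symm_apply_eq, IsBaseChange.equiv_tmul, one_smul]
  rw [h, IsBaseChange.equiv_tmul, one_smul]

theorem phi_symm_ιMulti (m : Fin n → M) :
    (phi n hf hl).symm (ιMulti B n (fun i => f (m i))) = l (ιMulti A n m) := by
  rw [LinearEquiv.symm_apply_eq, phi_l, extMap_ιMulti]

end One

section Two

variable {A B C M E L E' L' : Type u} [CommRing A] [CommRing B] [CommRing C] [Algebra A B]
  [Algebra A C] [AddCommGroup M] [Module A M]
  [AddCommGroup E] [Module A E] [Module B E] [IsScalarTower A B E]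
  [AddCommGroup L] [Module A L] [Module B L] [IsScalarTower A B L]
  [AddCommGroup E'] [Module A E'] [Module C E'] [IsScalarTower A C E']
  [AddCommGroup L'] [Module A L'] [Module C L'] [IsScalarTower A C L']
  (n : ℕ) {f : M →ₗ[A] E} (hf : IsBaseChange B f) {l : ↥(⋀[A]^n M) →ₗ[A] L} (hl : IsBaseChange B l)
  {f' : M →ₗ[A] E'} (hf' : IsBaseChange C f') {l' : ↥(⋀[A]^n M) →ₗ[A] L'}
  (hl' : IsBaseChange C l')
  (ρ : B →+* C) (rE : E →+ E') (rL : L →+ L')
  (hrE : ∀ (b : B) (x : E), rE (b • x) = ρ b • rE x)
  (hrL : ∀ (b : B) (x : L), rL (b • x) = ρ b • rL x)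
  (hEf : ∀ m, rE (f m) = f' m) (hLl : ∀ x, rL (l x) = l' x)

omit [IsScalarTower A B E] [Module A E] [Module A E'] [IsScalarTower A C E'] in
theorem comp_update (e : Fin n → E) (i : Fin n) (z : E) :
    (fun j => rE (Function.update e i z j)) = Function.update (fun j => rE (e j)) i (rE z) := by
  funext j
  by_cases hj : j = i
  · subst hj; simp
  · simp [Function.update_of_ne hj]

include hrE hrL hEf hLl in
theorem compat (e : Fin n → E) :
    rL ((phi n hf hl).symm (ιMulti B n e)) =
      (phi n hf' hl').symm (ιMulti C n (fun j => rE (e j))) := by
  have key : ∀ k : ℕ, ∀ e : Fin n → E, (∀ i : Fin n, k ≤ i.val → e i ∈ Set.range f) →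
      rL ((phi n hf hl).symm (ιMulti B n e)) =
        (phi n hf' hl').symm (ιMulti C n (fun j => rE (e j))) := by
    intro k
    induction k with
    | zero =>
      intro e he
      choose m hm using fun i => he i (Nat.zero_le _)
      have h1 : e = fun i => f (m i) := funext fun i => (hm i).symm
      rw [h1, phi_symm_ιMulti, hLl]
      have h2 : (fun j => rE (f (m j))) = fun j => f' (m j) := funext fun j => hEf (m j)
      rw [h2, phi_symm_ιMulti]
    | succ k ih =>
      intro e he
      by_cases hk : k < n
      · let i₀ : Fin n := ⟨k, hk⟩
        have hspan : e i₀ ∈ Submodule.span B (Set.range f) := by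
          rw [span_range_eq_top hf]; trivial
        have hgoal : ∀ x ∈ Submodule.span B (Set.range f),
            rL ((phi n hf hl).symm (ιMulti B n (Function.update e i₀ x))) =
              (phi n hf' hl').symm (ιMulti C n (fun j => rE (Function.update e i₀ x j))) := by
          intro x hx
          induction hx using Submodule.span_induction with
          | mem x hx =>
            refine ih _ fun i hi => ?_
            by_cases hii : i = i₀
            · subst hii; simpa using hx
            · rw [Function.update_of_ne hii]
              refine he i ?_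
              have : i.val ≠ k := fun h => hii (Fin.ext h)
              omega
          | zero =>
            rw [comp_update, map_zero, AlternatingMap.map_update_zero,
              AlternatingMap.map_update_zero, map_zero, map_zero, map_zero]
          | add x y _ _ hx hy =>
            rw [comp_update, map_add, AlternatingMap.map_update_add,
              AlternatingMap.map_update_add, map_add, map_add, map_add, hx, hy, comp_update,
              comp_update]
          | smul b x _ hx =>
            rw [comp_update, hrE, AlternatingMap.map_update_smul,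
              AlternatingMap.map_update_smul, LinearEquiv.map_smul, LinearEquiv.map_smul, hrL, hx,
              comp_update]
        have := hgoal _ hspan
        rwa [Function.update_eq_self] at this
      · refine ih e fun i _ => ?_
        exact absurd i.isLt (by omega)
  exact key n e fun i hi => absurd i.isLt (by omega)

end Two

end Groth.Agent.Lib.QCoh.ExtPowGlue
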