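import Groth.Agent.Lib.QCoh.Helper50_AffineDict
import Groth.Agent.Lib.Helper25.DiffSeq

/-!
# QCoh API (helper50): sections of `M^~` over an affine open are a base change

* `isBaseChange_of_bijective` : a bijective linear map over a bijective ring map is a base change.
* `isBaseChange_toOpen` : for `U ⊆ Spec R` affine open, `tilde.toOpen N U : N → Γ(N^~, U)` is a
  base change along `R → Γ(Spec R, U)`.
-/

universe u

open CategoryTheory CategoryTheory.Limits AlgebraicGeometry Opposite TopologicalSpace TensorProduct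

namespace Groth.Agent.Lib.QCoh.TildeResBC

open Scheme.Modules Groth.Agent.Lib.QCoh

theorem isBaseChange_of_bijective {R S₀ N P : Type u} [CommRing R] [CommRing S₀] [Algebra R S₀]
    [AddCommGroup N] [Module R N] [AddCommGroup P] [Module R P] [Module S₀ P]
    [IsScalarTower R S₀ P]
    (hR : Function.Surjective (algebraMap R S₀)) (t₀ : N →ₗ[R] P) (ht₀ : Function.Bijective t₀) :
    IsBaseChange S₀ t₀ := by
  apply IsBaseChange.of_lift_unique
  intro Q _ _ _ _ g
  let e := LinearEquiv.ofBijective t₀ ht₀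
  refine ⟨{ toFun := fun p => g (e.symm p)
            map_add' := fun p q => by rw [map_add, map_add]
            map_smul' := fun s p => ?_ }, ?_, ?_⟩
  · obtain ⟨r, rfl⟩ := hR s
    simp only [RingHom.id_apply]
    rw [algebraMap_smul, algebraMap_smul, LinearEquiv.map_smul, LinearMap.map_smul]
  · ext x
    change g (e.symm (t₀ x)) = g x
    congr 1
    exact e.symm_apply_apply x
  · intro g' hg'
    ext p
    change g' p = g (e.symm p)
    rw [← hg']
    change g' p = g' (t₀ (e.symm p))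
    congr 1
    exact (e.apply_symm_apply p).symm

theorem isBaseChange_of_res {R S₀ S N P Q : Type u} [CommRing R] [CommRing S₀] [CommRing S]
    [Algebra R S₀] [Algebra R S] [AddCommGroup N] [Module R N]
    [AddCommGroup P] [Module R P] [Module S₀ P] [IsScalarTower R S₀ P]
    [AddCommGroup Q] [Module R Q] [Module S Q] [IsScalarTower R S Q]
    (ρ : S₀ →+* S) (hρ : ∀ r, ρ (algebraMap R S₀ r) = algebraMap R S r)
    (hR : Function.Surjective (algebraMap R S₀)) (t₀ : N →ₗ[R] P) (ht₀ : Function.Bijective t₀)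
    (res : P →+ Q) (hres : ∀ (s : S₀) (p : P), res (s • p) = ρ s • res p)
    (hε : letI := ρ.toAlgebra
      ∃ ε : S ⊗[S₀] P ≃ₗ[S] Q, ∀ p : P, ε ((1 : S) ⊗ₜ[S₀] p) = res p)
    (t : N →ₗ[R] Q) (ht : ∀ x, t x = res (t₀ x)) : IsBaseChange S t := by
  letI := ρ.toAlgebra
  haveI : IsScalarTower R S₀ S := IsScalarTower.of_algebraMap_eq fun r => (hρ r).symm
  letI : Module S₀ Q := Module.compHom Q ρ
  haveI : IsScalarTower S₀ S Q := IsScalarTower.of_algebraMap_smul fun _ _ => rfl
  haveI : IsScalarTower R S₀ Q := by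
    refine IsScalarTower.of_algebraMap_smul fun r q => ?_
    change ρ (algebraMap R S₀ r) • q = r • q
    rw [hρ, algebraMap_smul]
  obtain ⟨ε, hε⟩ := hε
  let resₗ : P →ₗ[S₀] Q :=
    { toFun := res
      map_add' := fun x y => res.map_add x y
      map_smul' := fun s p => hres s p }
  have h2 : IsBaseChange S resₗ := IsBaseChange.of_equiv ε hε
  have h1 : IsBaseChange S₀ t₀ := isBaseChange_of_bijective hR t₀ ht₀
  have h3 := IsBaseChange.comp h1 h2
  have h4 : t = (resₗ.restrictScalars R).comp t₀ := LinearMap.ext ht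
  rw [h4]
  exact h3

section Res

variable {X : Scheme.{u}} (G : X.Modules) [G.IsQuasicoherent] {W W' : X.Opens}
  (hW : IsAffineOpen W) (hW' : IsAffineOpen W') (e : W' ≤ W)

include hW hW' in
set_option backward.isDefEq.respectTransparency false in
/-- Restriction of a quasi-coherent module between nested affine opens is a base change (equivalence
form), for the algebra structure `(Scheme.Hom.appLE (𝟙 X) W W' e).hom.toAlgebra`. -/
theorem exists_equiv_res :
    letI := (Scheme.Hom.appLE (𝟙 X) W W' e).hom.toAlgebra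
    ∃ ε : Γ(X, W') ⊗[Γ(X, W)] Γ(G, W) ≃ₗ[Γ(X, W')] Γ(G, W'),
      ∀ p : Γ(G, W), ε ((1 : Γ(X, W')) ⊗ₜ[Γ(X, W)] p) = G.presheaf.map (homOfLE e).op p := by
  letI := (Scheme.Hom.appLE (𝟙 X) W W' e).hom.toAlgebra
  obtain ⟨κ, hκ⟩ := exists_iso_extendScalars_pullbackSections (𝟙 X) hW hW' e G
  let κ' : Γ(X, W') ⊗[Γ(X, W)] Γ(G, W) ≃ₗ[Γ(X, W')]
      Γ((Scheme.Modules.pullback (𝟙 X)).obj G, W') := κ.toLinearEquiv
  let θ : Γ((Scheme.Modules.pullback (𝟙 X)).obj G, W') ≃ₗ[Γ(X, W')] Γ(G, W') :=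
    LinearEquiv.ofLinear (appLinear ((Scheme.Modules.pullbackId X).hom.app G) W')
      (appLinear ((Scheme.Modules.pullbackId X).inv.app G) W')
      (by
        ext x
        exact congr(($((Scheme.Modules.pullbackId X).inv_hom_id_app G)).app W' x))
      (by
        ext x
        exact congr(($((Scheme.Modules.pullbackId X).hom_inv_id_app G)).app W' x))
  refine ⟨κ' ≪≫ₗ θ, fun p => ?_⟩
  have h1 : κ' ((1 : Γ(X, W')) ⊗ₜ[Γ(X, W)] p) = pullbackSectionsMap (𝟙 X) e G p := hκ p
  rw [LinearEquiv.trans_apply, h1]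
  change ((Scheme.Modules.pullbackId X).hom.app G).app W'
    (((Scheme.Modules.pullback (𝟙 X)).obj G).presheaf.map (homOfLE e).op
      (OmegaSh.pullSect (𝟙 X) G W p)) = _
  rw [app_naturality_apply]
  congr 1
  exact Groth.Agent.Lib.Helper25.DiffSeq.pullbackId_hom_pullSect G W p

end Res

section Tilde

variable (R : CommRingCat.{u}) (N : ModuleCat.{u} R)

/-- `tilde.toOpen` as a linear map into `Γ(N^~, U)`. -/
noncomputable def toOpenₗ (U : (Spec R).Opens) : N →ₗ[R] Γ(tilde N, U) := (tilde.toOpen N U).hom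

lemma appLE_id_eq {X : Scheme.{u}} {W W' : X.Opens} (e : W' ≤ W) (s : Γ(X, W)) :
    (Scheme.Hom.appLE (𝟙 X) W W' e).hom s = X.presheaf.map (homOfLE e).op s := by
  simp [Scheme.Hom.appLE]
  rfl

set_option backward.isDefEq.respectTransparency false in
theorem isBaseChange_toOpen {U : (Spec R).Opens} (hU : IsAffineOpen U) :
    IsBaseChange Γ(Spec R, U) (toOpenₗ R N U) := by
  have key : ∀ y : Γ(Spec R, ⊤), (Spec R).presheaf.map (homOfLE (le_top : U ≤ ⊤)).op
      ((Spec R).presheaf.map (homOfLE (le_top : (⊤ : (Spec R).Opens) ≤ ⊤)).op y) =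
      (Spec R).presheaf.map (homOfLE (le_top : U ≤ ⊤)).op y := by
    intro y
    have h : (homOfLE (le_top : (⊤ : (Spec R).Opens) ≤ ⊤)).op = 𝟙 _ := rfl
    rw [h, CategoryTheory.Functor.map_id]
    rfl
  have hR : Function.Surjective (algebraMap R Γ(Spec R, ⊤)) := by
    rw [IsAffineOpen.algebraMap_Spec_obj]
    have : IsIso ((Scheme.ΓSpecIso R).inv ≫
        (Spec R).presheaf.map (homOfLE (le_top : (⊤ : (Spec R).Opens) ≤ ⊤)).op) := by
      have h : (homOfLE (le_top : (⊤ : (Spec R).Opens) ≤ ⊤)).op = 𝟙 _ := rfl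
      rw [h, CategoryTheory.Functor.map_id]
      infer_instance
    exact (ConcreteCategory.bijective_of_isIso _).2
  have ht₀ : Function.Bijective (toOpenₗ R N ⊤) :=
    ConcreteCategory.bijective_of_isIso (tilde.toOpen N ⊤)
  refine isBaseChange_of_res (Scheme.Hom.appLE (𝟙 (Spec R)) ⊤ U le_top).hom (fun r => ?_) hR
    (toOpenₗ R N ⊤) ht₀
    (AddMonoidHom.mk' ((tilde N).presheaf.map (homOfLE (le_top : U ≤ ⊤)).op)
      (fun x y => map_add _ x y)) (fun s p => ?_)
    (exists_equiv_res (tilde N) (isAffineOpen_top (Spec R)) hU le_top) _ (fun x => rfl)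
  · change (Scheme.Hom.appLE (𝟙 (Spec R)) ⊤ U le_top).hom
        ((Spec R).presheaf.map (homOfLE (le_top : (⊤ : (Spec R).Opens) ≤ ⊤)).op
          ((Scheme.ΓSpecIso R).inv r)) =
      (Spec R).presheaf.map (homOfLE (le_top : U ≤ ⊤)).op ((Scheme.ΓSpecIso R).inv r)
    rw [appLE_id_eq, key]
  · change (tilde N).presheaf.map (homOfLE (le_top : U ≤ ⊤)).op (s • p) = _
    rw [Scheme.Modules.map_smul, appLE_id_eq]
    rfl

end Tilde

end Groth.Agent.Lib.QCoh.TildeResBC
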