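import Mathlib
import Groth.Prelude.Def_ExtPow2
import Groth.Agent.Lib.QCoh.Helper50_ExtPowGlue
import Groth.Agent.Lib.QCoh.Helper50_TildeResBC

/-!
# QCoh API (helper50): `(⋀ⁿ M)^~` is an `n`-th exterior power of `M^~` on `Spec R`
-/

universe u

open CategoryTheory AlgebraicGeometry Opposite TopologicalSpace

namespace Groth.Agent.Lib.QCoh.ExtPowTilde

open Groth.Agent.Lib.QCoh.ExtPowGlue Groth.Agent.Lib.QCoh.TildeResBC

set_option backward.isDefEq.respectTransparency false in
theorem isExtPow_tilde (R : CommRingCat.{u}) (NM : ModuleCat.{u} R) (n : ℕ) :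
    ExtPow.IsExtPow n (tilde NM) (tilde (ModuleCat.of R ↥(⋀[R]^n NM))) := by
  classical
  let NL : ModuleCat.{u} R := ModuleCat.of R ↥(⋀[R]^n NM)
  have hf : ∀ U : (Spec R).affineOpens,
      IsBaseChange Γ(Spec R, U.1) (toOpenₗ R NM U.1) :=
    fun U => isBaseChange_toOpen R NM U.2
  have hl : ∀ U : (Spec R).affineOpens,
      IsBaseChange Γ(Spec R, U.1) (toOpenₗ R NL U.1) :=
    fun U => isBaseChange_toOpen R NL U.2
  let φ := fun U : (Spec R).affineOpens => phi n (hf U) (hl U)
  refine ⟨φ, ?_⟩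
  intro U V h e
  exact compat n (hf U) (hl U) (hf V) (hl V)
    ((Spec R).presheaf.map (homOfLE h).op).hom
    (AddMonoidHom.mk' ((tilde NM).presheaf.map (homOfLE h).op) (fun x y => map_add _ x y))
    (AddMonoidHom.mk' ((tilde NL).presheaf.map (homOfLE h).op) (fun x y => map_add _ x y))
    (fun b x => Scheme.Modules.map_smul (tilde NM) (homOfLE h) b x)
    (fun b x => Scheme.Modules.map_smul (tilde NL) (homOfLE h) b x)
    (fun m => rfl) (fun x => rfl) e

end Groth.Agent.Lib.QCoh.ExtPowTilde
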