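import Mathlib
import Groth.Agent.Lib.QCoh.Helper66_SubExt3

/-!
# Local sums of families of submodules (helper66)

ns `Groth.Agent.Lib.QCoh.SubExt`.
-/

set_option autoImplicit false
universe u v
open CategoryTheory AlgebraicGeometry Opposite TopologicalSpace

namespace Groth.Agent.Lib.QCoh.SubExt

open Groth.Agent.Lib.QCoh.Glue74 Groth.Agent.Lib.QCoh

variable {X : Scheme.{u}} {F : X.Modules} {ι : Type v} (N : ι → SubFam F)

lemma res_mem_iSup {D' D : X.Opens} (h : D' ≤ D) {m : Γ(F, D)} (hm : m ∈ ⨆ k, (N k).sec D) :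
    res F h m ∈ ⨆ k, (N k).sec D' := by
  induction hm using Submodule.iSup_induction' with
  | mem k y hy => exact Submodule.mem_iSup_of_mem k ((N k).res_mem h hy)
  | zero => rw [res_zero]; exact zero_mem _
  | add y z _ _ hy hz => rw [res_add]; exact add_mem hy hz

/-- the local sum -/
noncomputable def SubFam.lsum : SubFam F := SubFam.ofPred (fun D =>
  { carrier := {m | ∀ x ∈ D, ∃ (D' : X.Opens) (h : D' ≤ D), x ∈ D' ∧ res F h m ∈ ⨆ k, (N k).sec D'}
    add_mem' := by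
      intro a b ha hb x hx
      obtain ⟨D₁, h₁, hx₁, hm₁⟩ := ha x hx
      obtain ⟨D₂, h₂, hx₂, hm₂⟩ := hb x hx
      refine ⟨D₁ ⊓ D₂, inf_le_left.trans h₁, ⟨hx₁, hx₂⟩, ?_⟩
      have e₁ := res_mem_iSup N (inf_le_left : D₁ ⊓ D₂ ≤ D₁) hm₁
      have e₂ := res_mem_iSup N (inf_le_right : D₁ ⊓ D₂ ≤ D₂) hm₂
      rw [res_res] at e₁ e₂
      rw [res_add]
      exact add_mem e₁ e₂
    zero_mem' := by
      intro x hx
      refine ⟨D, le_rfl, hx, ?_⟩
      rw [res_zero]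
      exact zero_mem _
    smul_mem' := by
      intro c a ha x hx
      obtain ⟨D₁, h₁, hx₁, hm₁⟩ := ha x hx
      refine ⟨D₁, h₁, hx₁, ?_⟩
      rw [res_smul]
      exact Submodule.smul_mem _ _ hm₁ })
  (by
    intro D' D h s hs x hx
    obtain ⟨D₁, h₁, hx₁, hm₁⟩ := hs x (h hx)
    refine ⟨D₁ ⊓ D', inf_le_right, ⟨hx₁, hx⟩, ?_⟩
    have e₁ := res_mem_iSup N (inf_le_left : D₁ ⊓ D' ≤ D₁) hm₁
    rw [res_res] at e₁ ⊢
    exact e₁)

lemma SubFam.mem_lsum_iff {D : X.Opens} (m : Γ(F, D)) :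
    m ∈ (SubFam.lsum N).sec D ↔
      ∀ x ∈ D, ∃ (D' : X.Opens) (h : D' ≤ D), x ∈ D' ∧ res F h m ∈ ⨆ k, (N k).sec D' := Iff.rfl

lemma SubFam.le_lsum (k : ι) (D : X.Opens) : (N k).sec D ≤ (SubFam.lsum N).sec D := by
  intro m hm x hx
  refine ⟨D, le_rfl, hx, ?_⟩
  rw [res_self]
  exact Submodule.mem_iSup_of_mem k hm

lemma SubFam.lsum_isLocal : (SubFam.lsum N).IsLocal := by
  intro D s hs x hx
  obtain ⟨D₁, h₁, hx₁, hm₁⟩ := hs x hx
  obtain ⟨D', h', hxD', hm⟩ := hm₁ x hx₁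
  refine ⟨D', h'.trans h₁, hxD', ?_⟩
  rw [res_res] at hm
  exact hm

/-- the local sum of finitely many local, locally finitely generated families is locally finitely
generated -/
lemma SubFam.lsum_isLFG [Finite ι] [F.IsQuasicoherent] (hloc : ∀ k, (N k).IsLocal)
    (hlfg : ∀ k, (N k).IsLFG ⊤) : (SubFam.lsum N).IsLFG ⊤ := by
  have := Fintype.ofFinite ι
  intro x _
  obtain ⟨V, hV, hxV, -⟩ := exists_isAffineOpen_mem_and_subset (x := x) (U := ⊤) trivial
  have ex := fun k => exists_locGen_of_isAffineOpen (N k) (hloc k) (hlfg k) hV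
  choose n T hg using ex
  let ε := Fintype.equivFin (Σ k : ι, Fin (n k))
  refine ⟨V, le_top, hxV, _, fun j => T (ε.symm j).1 (ε.symm j).2, ?_, ?_⟩
  · intro j
    exact SubFam.le_lsum N _ V ((hg _).mem _)
  · intro V' hV' s hs y hy
    obtain ⟨D₁, h₁, hy₁, hm₁⟩ := hs y hy
    -- induction on membership in the sum
    have key : ∀ m ∈ ⨆ k, (N k).sec D₁, ∃ (D'' : X.Opens) (h'' : D'' ≤ D₁), y ∈ D'' ∧
        res F h'' m ∈ Submodule.span Γ(X, D'')
          (Set.range fun j => res F (h''.trans (h₁.trans hV')) (T (ε.symm j).1 (ε.symm j).2)) := by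
      intro m hm
      induction hm using Submodule.iSup_induction' with
      | mem k z hz =>
        obtain ⟨D'', h'', hyD'', hm''⟩ := (hg k).gen D₁ (h₁.trans hV') z hz y hy₁
        refine ⟨D'', h'', hyD'', (Submodule.span_le.mpr ?_) hm''⟩
        rintro _ ⟨i, rfl⟩
        refine Submodule.subset_span ⟨ε ⟨k, i⟩, ?_⟩
        show res F _ (T (ε.symm (ε ⟨k, i⟩)).1 (ε.symm (ε ⟨k, i⟩)).2) = _
        rw [Equiv.symm_apply_apply]
      | zero =>
        refine ⟨D₁, le_rfl, hy₁, ?_⟩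
        rw [res_zero]
        exact zero_mem _
      | add z w _ _ hz hw =>
        obtain ⟨D₂, h₂, hy₂, hm₂⟩ := hz
        obtain ⟨D₃, h₃, hy₃, hm₃⟩ := hw
        refine ⟨D₂ ⊓ D₃, inf_le_left.trans h₂, ⟨hy₂, hy₃⟩, ?_⟩
        have e₂ := span_res_mono (inf_le_left : D₂ ⊓ D₃ ≤ D₂) (h₂.trans (h₁.trans hV')) hm₂
        have e₃ := span_res_mono (inf_le_right : D₂ ⊓ D₃ ≤ D₃) (h₃.trans (h₁.trans hV')) hm₃
        rw [res_res] at e₂ e₃
        rw [res_add]
        exact add_mem e₂ e₃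
    obtain ⟨D'', h'', hyD'', hm''⟩ := key _ hm₁
    refine ⟨D'', h''.trans h₁, hyD'', ?_⟩
    rw [res_res] at hm''
    exact hm''

end Groth.Agent.Lib.QCoh.SubExt
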