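import Groth.Agent.Lib.QCoh.Helper50_FPExtF
import Groth.Agent.Lib.QCoh.Helper66_SubSum
import Groth.Agent.Lib.QCoh.Helper50_SubExtQcqs

/-!
# Finite type modules as directed colimits of finitely presented ones (helper50)

ns `Groth.Agent.Lib.QCoh.FPColim`.
* `exists_subFam_through_section`: sub-family version of `exists_subsheaf_through_section`
* `Idx K`: the (small, directed) poset of local, locally finitely generated sub-families of `K`
* `quotFunctor p : Idx (kernel p) ⥤ X.Modules`, `N ↦ P / N`, with cocone `quotCocone p` over `F` and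
  `isColimitQuotCocone` (for `p : P ⟶ F` epi, `X` qcqs, `P`, `F` quasi-coherent)
-/

set_option autoImplicit false
universe u
open CategoryTheory CategoryTheory.Limits AlgebraicGeometry Opposite TopologicalSpace

namespace Groth.Agent.Lib.QCoh.FPColim

open Scheme.Modules Groth.Agent.Lib.QCoh Groth.Agent.Lib.QCoh.SubExt Groth.Agent.Lib.QCoh.SubExtQ
open Groth.Agent.Lib.QCoh.Glue74 Groth.Agent.Lib.QCoh.FPExt

variable {X : Scheme.{u}}

/-- sub-family version: every section over a quasi-compact open lies in a local, locally finitely generated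
sub-family -/
theorem exists_subFam_through_section [CompactSpace X] [QuasiSeparatedSpace X]
    (F : X.Modules) [F.IsQuasicoherent] (U : X.Opens) (hU : IsCompact (U : Set X))
    (s : Γ(F, U)) : ∃ N : SubFam F, N.IsLocal ∧ N.IsLFG ⊤ ∧ s ∈ N.sec U := by
  obtain ⟨c, hc, hcov⟩ := (isCompact_and_isOpen_iff_finite_and_eq_biUnion_affineOpens
    (X := X) (U := Set.univ)).mp ⟨isCompact_univ, isOpen_univ⟩
  have : Finite c := hc
  obtain ⟨_, _⟩ := exists_wellFoundedLT c
  let V : c → X.Opens := fun V => (V.1 : X.Opens)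
  have hV : ∀ l, IsAffineOpen (V l) := fun V => V.1.2
  have hcov' : ∀ x : X, ∃ l, x ∈ V l := by
    intro x
    have hx : x ∈ ⋃ i ∈ c, ((i : X.Opens) : Set X) := hcov ▸ Set.mem_univ x
    obtain ⟨W, hW, hxW⟩ := Set.mem_iUnion₂.mp hx
    exact ⟨⟨W, hW⟩, hxW⟩
  let T : Fin 1 → Γ(F, U) := fun _ => s
  let N₀ : SubFam F := (⊤ : SubFam F).extend ⊥ U T
  have htop : ∀ (D : X.Opens) (m : Γ(F, D)), m ∈ (⊤ : SubFam F).sec D :=
    fun D m => (Submodule.mem_top : m ∈ (⊤ : Submodule Γ(X, D) Γ(F, D)))
  have hT2 : ∀ (V' : X.Opens) (h : V' ≤ U ⊓ ⊥) (m : Γ(F, V')), m ∈ (⊤ : SubFam F).sec V' →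
      LocSpan F T V' (h.trans inf_le_left) m := by
    intro V' h m _ x hx
    exact (h hx).2.elim
  have hloc₀ : N₀.IsLocal := SubFam.extend_isLocal (fun D m _ => htop D m)
  have hsat₀ : N₀.IsSat U := SubFam.extend_isSat.mono (sup_le bot_le le_rfl)
  have hlfg₀ : N₀.IsLFG U :=
    (SubFam.extend_isLFG (N := (⊤ : SubFam F)) (W := ⊥) (fun x hx => hx.elim) (fun i => htop _ _)
      hT2).anti le_sup_right
  obtain ⟨N, hloc, hlfg, hbase⟩ := exists_extension V U N₀ hV
    (fun l => isCompact_inf_Wof V hV U hU l) hloc₀ hsat₀ hlfg₀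
  have hlfg' : N.IsLFG ⊤ := by
    intro x _
    obtain ⟨l, hxV⟩ := hcov' x
    obtain ⟨V₀, -, hxV₀, n, t, hg⟩ := hlfg x ((mem_Wof _ U).mpr (Or.inr ⟨l, trivial, hxV⟩))
    exact ⟨V₀, le_top, hxV₀, n, t, hg⟩
  have hs : s ∈ N.sec U := by
    rw [hbase U le_rfl]
    exact (SubFam.mem_extend_iff _ _ _ _ _).mpr ⟨htop _ _, LocSpan.gen _ 0⟩
  exact ⟨N, hloc, hlfg', hs⟩

/-- local, locally finitely generated sub-families -/
def Idx (K : X.Modules) : Type u := {N : SubFam K // N.IsLocal ∧ N.IsLFG ⊤}

noncomputable instance (K : X.Modules) : PartialOrder (Idx K) := Subtype.partialOrder _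

instance isDirected_idx (K : X.Modules) [K.IsQuasicoherent] : IsDirected (Idx K) (· ≤ ·) := by
  constructor
  intro a b
  let N : Bool → SubFam K := fun k => cond k a.1 b.1
  have hloc : ∀ k, (N k).IsLocal := fun k => by cases k; exact b.2.1; exact a.2.1
  have hlfg : ∀ k, (N k).IsLFG ⊤ := fun k => by cases k; exact b.2.2; exact a.2.2
  refine ⟨⟨SubFam.lsum N, SubFam.lsum_isLocal N, SubFam.lsum_isLFG N hloc hlfg⟩, ?_, ?_⟩
  · change a.1 ≤ SubFam.lsum N
    rw [PresheafOfModules.Submodule.le_iff]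
    intro W
    exact SubFam.le_lsum N true W.unop
  · change b.1 ≤ SubFam.lsum N
    rw [PresheafOfModules.Submodule.le_iff]
    intro W
    exact SubFam.le_lsum N false W.unop

instance nonempty_idx [CompactSpace X] [QuasiSeparatedSpace X] (K : X.Modules)
    [K.IsQuasicoherent] : Nonempty (Idx K) := by
  obtain ⟨N, hloc, hlfg, -⟩ := exists_subFam_through_section K ⊥ (by simp) 0
  exact ⟨⟨N, hloc, hlfg⟩⟩

section Quot

variable {P F : X.Modules} (p : P ⟶ F)

/-- the inclusion of the sub-family into `P` -/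
noncomputable def cmap (j : Idx (kernel p)) : j.1.toModules j.2.1 ⟶ P :=
  j.1.incl j.2.1 ≫ kernel.ι p

lemma cmap_comp (j : Idx (kernel p)) : cmap p j ≫ p = 0 := by
  rw [cmap, Category.assoc, kernel.condition, comp_zero]

/-- the transition between sub-families -/
noncomputable def trans {j j' : Idx (kernel p)} (h : j ≤ j') :
    j.1.toModules j.2.1 ⟶ j'.1.toModules j'.2.1 :=
  ⟨PresheafOfModules.Submodule.homOfLE h⟩

lemma trans_cmap {j j' : Idx (kernel p)} (h : j ≤ j') : trans p h ≫ cmap p j' = cmap p j := by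
  rw [cmap, cmap, ← Category.assoc]
  rfl

lemma cmap_comp_π {j j' : Idx (kernel p)} (h : j ≤ j') :
    cmap p j ≫ cokernel.π (cmap p j') = 0 := by
  rw [← trans_cmap p h, Category.assoc, cokernel.condition, comp_zero]

/-- `N ↦ P / N` -/
noncomputable def quotFunctor : Idx (kernel p) ⥤ X.Modules where
  obj j := cokernel (cmap p j)
  map {j j'} h := cokernel.desc (cmap p j) (cokernel.π (cmap p j')) (cmap_comp_π p (leOfHom h))
  map_id j := by
    rw [← cancel_epi (cokernel.π (cmap p j)), cokernel.π_desc, Category.comp_id]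
  map_comp {j j' j''} h h' := by
    rw [← cancel_epi (cokernel.π (cmap p j)), cokernel.π_desc, cokernel.π_desc_assoc,
      cokernel.π_desc]

/-- the cocone over `F` -/
noncomputable def quotCoconeι : quotFunctor p ⟶ (Functor.const (Idx (kernel p))).obj F where
  app j := cokernel.desc (cmap p j) p (cmap_comp p j)
  naturality {j j'} h := by
    change cokernel.desc (cmap p j) (cokernel.π (cmap p j')) (cmap_comp_π p (leOfHom h)) ≫
      cokernel.desc (cmap p j') p (cmap_comp p j') = cokernel.desc (cmap p j) p (cmap_comp p j) ≫ 𝟙 F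
    rw [← cancel_epi (cokernel.π (cmap p j))]
    rw [cokernel.π_desc_assoc, cokernel.π_desc, cokernel.π_desc_assoc, Category.comp_id]

lemma π_quotCoconeι (j : Idx (kernel p)) :
    cokernel.π (cmap p j) ≫ (quotCoconeι p).app j = p := cokernel.π_desc _ _ _

lemma epi_quotFunctor_map {j j' : Idx (kernel p)} (h : j ⟶ j') : Epi ((quotFunctor p).map h) := by
  have : Epi (cokernel.π (cmap p j) ≫ (quotFunctor p).map h) := by
    change Epi (cokernel.π (cmap p j) ≫ cokernel.desc (cmap p j) (cokernel.π (cmap p j')) _)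
    rw [cokernel.π_desc]
    infer_instance
  exact epi_of_epi (cokernel.π (cmap p j)) _

end Quot

end Groth.Agent.Lib.QCoh.FPColim
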