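import Groth.Agent.Lib.QCoh.Helper50_FPColim

/-!
# Finite type modules as directed colimits of finitely presented ones, II (helper50)

ns `Groth.Agent.Lib.QCoh.FPColim`.
* `isColimitQuotCocone p`: for an epimorphism `p : P ⟶ F` of quasi-coherent modules on a qcqs scheme, `F` is the
  colimit of the quotients `P / N`, `N` running through the local, locally finitely generated sub-families of `ker p`
* `isFinitePresentation_quotFunctor_obj`: `P / N` is finitely presented if `P` is
* `exists_directed_colimit_fp`: the resulting statement for quasi-coherent modules of finite type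
-/

set_option autoImplicit false
universe u
open CategoryTheory CategoryTheory.Limits AlgebraicGeometry Opposite TopologicalSpace

namespace Groth.Agent.Lib.QCoh.FPColim

open Scheme.Modules Groth.Agent.Lib.QCoh Groth.Agent.Lib.QCoh.SubExt Groth.Agent.Lib.QCoh.SubExtQ
open Groth.Agent.Lib.QCoh.Glue74 Groth.Agent.Lib.QCoh.FPExt

variable {X : Scheme.{u}} {P F : X.Modules} (p : P ⟶ F)

lemma π_ι_indep [(kernel p).IsQuasicoherent] (s : Cocone (quotFunctor p)) (j j' : Idx (kernel p)) :
    cokernel.π (cmap p j) ≫ s.ι.app j = cokernel.π (cmap p j') ≫ s.ι.app j' := by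
  obtain ⟨k, hjk, hj'k⟩ := exists_ge_ge j j'
  have h1 : ∀ (i : Idx (kernel p)) (hik : i ≤ k),
      cokernel.π (cmap p i) ≫ s.ι.app i = cokernel.π (cmap p k) ≫ s.ι.app k := by
    intro i hik
    have hw : (quotFunctor p).map (homOfLE hik) ≫ s.ι.app k = s.ι.app i := s.w (homOfLE hik)
    have hπ : cokernel.π (cmap p i) ≫ (quotFunctor p).map (homOfLE hik) = cokernel.π (cmap p k) :=
      cokernel.π_desc _ _ _
    calc cokernel.π (cmap p i) ≫ s.ι.app i
        = cokernel.π (cmap p i) ≫ ((quotFunctor p).map (homOfLE hik) ≫ s.ι.app k) :=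
          congrArg (fun x => cokernel.π (cmap p i) ≫ x) hw.symm
      _ = (cokernel.π (cmap p i) ≫ (quotFunctor p).map (homOfLE hik)) ≫ s.ι.app k :=
          (Category.assoc _ _ _).symm
      _ = cokernel.π (cmap p k) ≫ s.ι.app k := congrArg (fun x => x ≫ s.ι.app k) hπ
  rw [h1 j hjk, h1 j' hj'k]

lemma kernel_ι_comp [CompactSpace X] [QuasiSeparatedSpace X] [(kernel p).IsQuasicoherent]
    (s : Cocone (quotFunctor p)) (j₀ : Idx (kernel p)) :
    kernel.ι p ≫ cokernel.π (cmap p j₀) ≫ s.ι.app j₀ = 0 := by
  apply eq_zero_of_affine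
  intro U m
  obtain ⟨N, hloc, hlfg, hm⟩ := exists_subFam_through_section (kernel p) (U : X.Opens)
    U.2.isCompact m
  rw [π_ι_indep p s j₀ ⟨N, hloc, hlfg⟩]
  have h1 : (kernel.ι p).app (U : X.Opens) m =
      (cmap p ⟨N, hloc, hlfg⟩).app (U : X.Opens) ((N.secEquiv hloc (U : X.Opens)).symm ⟨m, hm⟩) := rfl
  change (s.ι.app ⟨N, hloc, hlfg⟩).app (U : X.Opens)
    ((cokernel.π (cmap p ⟨N, hloc, hlfg⟩)).app (U : X.Opens) ((kernel.ι p).app (U : X.Opens) m)) = 0
  rw [h1]
  have h2 := congrArg (fun ψ : N.toModules hloc ⟶ cokernel (cmap p ⟨N, hloc, hlfg⟩) =>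
    (Scheme.Modules.Hom.app ψ (U : X.Opens)) ((N.secEquiv hloc (U : X.Opens)).symm ⟨m, hm⟩))
    (cokernel.condition (cmap p ⟨N, hloc, hlfg⟩))
  change (cokernel.π (cmap p ⟨N, hloc, hlfg⟩)).app (U : X.Opens)
    ((cmap p ⟨N, hloc, hlfg⟩).app (U : X.Opens) _) = 0 at h2
  rw [h2]
  exact map_zero _

/-- `F = colim P / N` -/
noncomputable def isColimitQuotCocone [CompactSpace X] [QuasiSeparatedSpace X]
    [(kernel p).IsQuasicoherent] [Epi p] : IsColimit (Cocone.mk F (quotCoconeι p)) where
  desc s := Abelian.epiDesc p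
    (cokernel.π (cmap p (Classical.arbitrary _)) ≫ s.ι.app (Classical.arbitrary _))
    (kernel_ι_comp p s _)
  fac s j := by
    have h1 : cokernel.π (cmap p j) ≫ (quotCoconeι p).app j ≫ Abelian.epiDesc p
        (cokernel.π (cmap p (Classical.arbitrary _)) ≫ s.ι.app (Classical.arbitrary _))
        (kernel_ι_comp p s _) = cokernel.π (cmap p j) ≫ s.ι.app j := by
      rw [← Category.assoc, π_quotCoconeι, Abelian.comp_epiDesc]
      exact π_ι_indep p s _ j
    exact (cancel_epi (cokernel.π (cmap p j))).1 h1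
  uniq s m hm := by
    rw [← cancel_epi p, Abelian.comp_epiDesc]
    have h : (quotCoconeι p).app (Classical.arbitrary _) ≫ m = s.ι.app (Classical.arbitrary _) :=
      hm (Classical.arbitrary _)
    calc p ≫ m = (cokernel.π (cmap p (Classical.arbitrary _)) ≫
          (quotCoconeι p).app (Classical.arbitrary _)) ≫ m := by rw [π_quotCoconeι]
      _ = cokernel.π (cmap p (Classical.arbitrary _)) ≫
          ((quotCoconeι p).app (Classical.arbitrary _) ≫ m) := Category.assoc _ _ _
      _ = _ := congrArg (fun x => cokernel.π (cmap p (Classical.arbitrary _)) ≫ x) h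

theorem isFinitePresentation_quotFunctor_obj [P.IsFinitePresentation] [F.IsQuasicoherent]
    (j : Idx (kernel p)) : ((quotFunctor p).obj j).IsFinitePresentation := by
  have hKq : (kernel p).IsQuasicoherent := isQuasicoherent_kernel p
  have hq : (j.1.toModules j.2.1).IsQuasicoherent := j.1.isQuasicoherent_toModules j.2.1 j.2.2
  have hft : (j.1.toModules j.2.1).IsFiniteType := j.1.isFiniteType_toModules j.2.1 j.2.2
  have hCq : (cokernel (cmap p j)).IsQuasicoherent := isQuasicoherent_cokernel _
  change (cokernel (cmap p j)).IsFinitePresentation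
  refine isFinitePresentation_of_forall_finitePresentation _ fun A => ?_
  exact fp_sections_cokernel (cmap p j) A.2
    (finite_Γ_of_isAffineOpen A.2 _) (finitePresentation_Γ_of_isAffineOpen A.2 P)

/-- **a quasi-coherent module of finite type on a qcqs scheme is a directed colimit of finitely presented
modules with epimorphic transition maps** -/
theorem exists_directed_colimit_fp [CompactSpace X] [QuasiSeparatedSpace X] (F : X.Modules)
    [F.IsQuasicoherent] [F.IsFiniteType] :
    ∃ (J : Type u) (_ : PartialOrder J) (_ : IsDirected J (· ≤ ·)) (_ : Nonempty J)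
      (D : J ⥤ X.Modules) (ι : D ⟶ (Functor.const J).obj F),
      Nonempty (IsColimit (Cocone.mk F ι)) ∧ (∀ j, (D.obj j).IsFinitePresentation) ∧
        ∀ (j j' : J) (h : j ⟶ j'), Epi (D.map h) := by
  obtain ⟨P, p, hPq, hPfp, hp⟩ := exists_epi_fp F
  have hKq : (kernel p).IsQuasicoherent := isQuasicoherent_kernel p
  exact ⟨Idx (kernel p), inferInstance, inferInstance, inferInstance, quotFunctor p, quotCoconeι p,
    ⟨isColimitQuotCocone p⟩, fun j => isFinitePresentation_quotFunctor_obj p j,
    fun j j' h => epi_quotFunctor_map p h⟩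

end Groth.Agent.Lib.QCoh.FPColim
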