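import Groth.Agent.Lib.QCoh.Helper50_FPPush
import Groth.Agent.Lib.QCoh.Helper50_AffineDict
import Groth.Agent.Lib.Cohomology.Helper1_KernelSections
import Groth.Agent.Lib.QCoh.Local

/-!
# Finite presentation and exactness on affine sections (helper50)

ns `Groth.Agent.Lib.QCoh.FPExt`.
* `fp_iff_of_bijective`, `finite_iff_of_bijective`: transfer along a bijective ring map
* `ker_appLinear_eq_range`, `ker_cokernel_π_eq_range` (affine, quasi-coherent)
* `finite_sections_kernel`: sections over an affine open of the kernel of an epi from finite onto f.p. are finite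
* `fp_sections_cokernel`: sections over an affine open of the cokernel of a map from finite to f.p. are f.p.
* `bijective_cokernel_desc`: `P/K' → M'` is bijective on sections over an affine where `K' → ker` is.
-/

set_option autoImplicit false
universe u
open CategoryTheory CategoryTheory.Limits AlgebraicGeometry Opposite TopologicalSpace

namespace Groth.Agent.Lib.QCoh.FPExt

open Scheme.Modules Groth.Agent.Lib.QCoh Groth.Agent.Lib.Cohomology

section algebra

variable {A B M : Type*} [CommRing A] [CommRing B] [AddCommGroup M] [Module A M] [Module B M]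
  (φ : A →+* B) (h : ∀ (a : A) (m : M), a • m = φ a • m)

include h in
lemma fp_iff_of_bijective (hφ : Function.Bijective φ) :
    Module.FinitePresentation A M ↔ Module.FinitePresentation B M :=
  ⟨fp_of_fp_restrict φ h (RingHom.Finite.of_surjective φ hφ.2),
    fp_restrict_of_fp φ h (RingHom.Finite.of_surjective φ hφ.2)
      (RingHom.FinitePresentation.of_bijective hφ)⟩

include h in
lemma finite_iff_of_bijective (hφ : Function.Bijective φ) :
    Module.Finite A M ↔ Module.Finite B M :=
  ⟨finite_of_finite_restrict φ h,
    finite_restrict_of_finite φ h (RingHom.Finite.of_surjective φ hφ.2)⟩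

end algebra

variable {X : Scheme.{u}}

lemma ker_appLinear_eq_range {M N : X.Modules} (φ : M ⟶ N) (A : X.Opens) :
    LinearMap.ker (appLinear φ A) = LinearMap.range (appLinear (kernel.ι φ) A) := by
  ext m
  constructor
  · intro hm
    obtain ⟨s, hs⟩ := exists_kernel_section φ A m hm
    exact ⟨s, hs⟩
  · rintro ⟨s, rfl⟩
    exact congrArg (fun ψ : kernel φ ⟶ N => (Scheme.Modules.Hom.app ψ A) s) (kernel.condition φ)

lemma ker_cokernel_π_eq_range {M N : X.Modules} [M.IsQuasicoherent] [N.IsQuasicoherent]
    (φ : M ⟶ N) {A : X.Opens} (hA : IsAffineOpen A) :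
    LinearMap.ker (appLinear (cokernel.π φ) A) = LinearMap.range (appLinear φ A) := by
  have hCq : (cokernel φ).IsQuasicoherent := isQuasicoherent_cokernel φ
  have hIq : (Abelian.image φ).IsQuasicoherent := isQuasicoherent_kernel (cokernel.π φ)
  ext m
  constructor
  · intro hm
    obtain ⟨s, hs⟩ := exists_kernel_section (cokernel.π φ) A m hm
    obtain ⟨t, ht⟩ := surjective_app_of_epi (Abelian.factorThruImage φ) hA s
    refine ⟨t, ?_⟩
    have h1 := congrArg (fun ψ : M ⟶ N => (Scheme.Modules.Hom.app ψ A) t) (Abelian.image.fac φ)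
    change (Abelian.image.ι φ).app A ((Abelian.factorThruImage φ).app A t) = φ.app A t at h1
    rw [ht] at h1
    exact h1.symm.trans hs
  · rintro ⟨t, rfl⟩
    exact congrArg (fun ψ : M ⟶ cokernel φ => (Scheme.Modules.Hom.app ψ A) t) (cokernel.condition φ)

/-- sections over an affine open of the kernel of an epimorphism from a finite onto a finitely presented
module are finite -/
theorem finite_sections_kernel {M N : X.Modules} [M.IsQuasicoherent] [N.IsQuasicoherent]
    (φ : M ⟶ N) [Epi φ] {A : X.Opens} (hA : IsAffineOpen A)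
    (hM : Module.Finite Γ(X, A) Γ(M, A)) (hN : Module.FinitePresentation Γ(X, A) Γ(N, A)) :
    Module.Finite Γ(X, A) Γ(kernel φ, A) := by
  have hsurj : Function.Surjective (appLinear φ A) := surjective_app_of_epi φ hA
  have hfg : (LinearMap.ker (appLinear φ A)).FG :=
    Module.FinitePresentation.fg_ker (appLinear φ A) hsurj
  rw [ker_appLinear_eq_range] at hfg
  have hinj : Function.Injective (appLinear (kernel.ι φ) A) := app_injective_of_mono (kernel.ι φ) A
  have : Module.Finite Γ(X, A) (LinearMap.range (appLinear (kernel.ι φ) A)) :=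
    Module.Finite.iff_fg.2 hfg
  exact Module.Finite.equiv (LinearEquiv.ofInjective (appLinear (kernel.ι φ) A) hinj).symm

/-- sections over an affine open of the cokernel of a map from a finite to a finitely presented module
are finitely presented -/
theorem fp_sections_cokernel {M N : X.Modules} [M.IsQuasicoherent] [N.IsQuasicoherent]
    (φ : M ⟶ N) {A : X.Opens} (hA : IsAffineOpen A)
    (hM : Module.Finite Γ(X, A) Γ(M, A)) (hN : Module.FinitePresentation Γ(X, A) Γ(N, A)) :
    Module.FinitePresentation Γ(X, A) Γ(cokernel φ, A) := by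
  have hCq : (cokernel φ).IsQuasicoherent := isQuasicoherent_cokernel φ
  have hsurj : Function.Surjective (appLinear (cokernel.π φ) A) :=
    surjective_app_of_epi (cokernel.π φ) hA
  refine Module.finitePresentation_of_surjective (appLinear (cokernel.π φ) A) hsurj ?_
  rw [ker_cokernel_π_eq_range φ hA, LinearMap.range_eq_map]
  exact (Module.Finite.fg_top).map _

/-- `P/K' ⟶ M'` is bijective on sections over an affine open over which `K' ⟶ ker (P ⟶ M')` is
surjective on sections -/
theorem bijective_cokernel_desc {P M' K' : X.Modules} [P.IsQuasicoherent] [M'.IsQuasicoherent]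
    [K'.IsQuasicoherent] (p : P ⟶ M') [Epi p] (k : K' ⟶ kernel p) {A : X.Opens}
    (hA : IsAffineOpen A) (hk : Function.Surjective (k.app A))
    (w : (k ≫ kernel.ι p) ≫ p = 0) :
    Function.Bijective ((cokernel.desc (k ≫ kernel.ι p) p w).app A) := by
  have hCq : (cokernel (k ≫ kernel.ι p)).IsQuasicoherent := isQuasicoherent_cokernel _
  have hfac : ∀ x : Γ(P, A), (cokernel.desc (k ≫ kernel.ι p) p w).app A
      ((cokernel.π (k ≫ kernel.ι p)).app A x) = p.app A x := fun x =>
    congrArg (fun ψ : P ⟶ M' => (Scheme.Modules.Hom.app ψ A) x) (cokernel.π_desc _ p w)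
  constructor
  · rw [injective_iff_map_eq_zero]
    intro n hn
    obtain ⟨x, rfl⟩ := surjective_app_of_epi (cokernel.π (k ≫ kernel.ι p)) hA n
    rw [hfac] at hn
    obtain ⟨s, hs⟩ := exists_kernel_section p A x hn
    obtain ⟨s', rfl⟩ := hk s
    rw [← hs]
    exact congrArg (fun ψ : K' ⟶ cokernel (k ≫ kernel.ι p) => (Scheme.Modules.Hom.app ψ A) s')
      (cokernel.condition (k ≫ kernel.ι p))
  · intro y
    obtain ⟨x, rfl⟩ := surjective_app_of_epi p hA y
    exact ⟨_, hfac x⟩

end Groth.Agent.Lib.QCoh.FPExt
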