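import Groth.Agent.Lib.QCoh.Helper50_FPExtA
import Groth.Agent.Lib.QCoh.Helper74_LocFreeLift

/-!
# Finite presentation: restriction to opens versus sections over affine opens (helper50)

ns `Groth.Agent.Lib.QCoh.FPExt`.
* `isIso_restrict_of_bijective`, `bijective_of_isIso_restrict`, `bijective_of_forall_affine`
* `fp_restrict_iff`, `finite_restrict_iff`: sections of `M.restrict f` over `A'` vs sections of `M` over `f ''ᵁ A'`
* `isFiniteType_restrict_of_finite`, `fp_sections_of_isFP_restrict`
* `fp_sections_of_cover`: finite presentation of sections over an affine open is local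
-/

set_option autoImplicit false
universe u
open CategoryTheory CategoryTheory.Limits AlgebraicGeometry Opposite TopologicalSpace

namespace Groth.Agent.Lib.QCoh.FPExt

open Scheme.Modules Groth.Agent.Lib.QCoh

variable {X : Scheme.{u}}

/-- a morphism bijective on sections over affine opens inside `W` restricts to an isomorphism on `W` -/
theorem isIso_restrict_of_bijective {M N : X.Modules} (ψ : M ⟶ N) (W : X.Opens)
    (h : ∀ A : X.Opens, IsAffineOpen A → A ≤ W → Function.Bijective (ψ.app A)) :
    IsIso ((restrictFunctor W.ι).map ψ) := by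
  rw [isIso_iff_forall_affine_bijective]
  intro A'
  have hle : W.ι ''ᵁ (A' : (W : Scheme.{u}).Opens) ≤ W := by
    have := W.ι.image_le_opensRange (A' : (W : Scheme.{u}).Opens)
    rwa [Scheme.Opens.opensRange_ι] at this
  exact h (W.ι ''ᵁ A') (A'.2.image_of_isOpenImmersion W.ι) hle

/-- a morphism restricting to an isomorphism on `W` is bijective on sections over all opens inside `W` -/
theorem bijective_of_isIso_restrict {M N : X.Modules} (ψ : M ⟶ N) (W : X.Opens)
    [IsIso ((restrictFunctor W.ι).map ψ)] (A : X.Opens) (hA : A ≤ W) :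
    Function.Bijective (ψ.app A) := by
  have h1 : IsIso (((restrictFunctor W.ι).map ψ).app (W.ι ⁻¹ᵁ A)) := inferInstance
  have h2 : Function.Bijective (((restrictFunctor W.ι).map ψ).app (W.ι ⁻¹ᵁ A)) :=
    (ConcreteCategory.isIso_iff_bijective _).1 h1
  have e : W.ι ''ᵁ (W.ι ⁻¹ᵁ A) = A := by
    rw [Scheme.Hom.image_preimage_eq_opensRange_inf, Scheme.Opens.opensRange_ι]
    exact inf_eq_right.mpr hA
  have h3 : Function.Bijective (ψ.app (W.ι ''ᵁ (W.ι ⁻¹ᵁ A))) := h2
  rw [e] at h3
  exact h3

/-- bijectivity on affine opens inside `W` gives bijectivity on all opens inside `W` -/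
theorem bijective_of_forall_affine {M N : X.Modules} (ψ : M ⟶ N) (W : X.Opens)
    (h : ∀ A : X.Opens, IsAffineOpen A → A ≤ W → Function.Bijective (ψ.app A))
    (A : X.Opens) (hA : A ≤ W) : Function.Bijective (ψ.app A) := by
  have := isIso_restrict_of_bijective ψ W h
  exact bijective_of_isIso_restrict ψ W A hA

section Transfer

variable {Y : Scheme.{u}} (f : Y ⟶ X) [IsOpenImmersion f] (M : X.Modules) (A' : Y.Opens)

lemma fp_restrict_iff :
    Module.FinitePresentation Γ(Y, A') Γ(M.restrict f, A') ↔
      Module.FinitePresentation Γ(X, f ''ᵁ A') Γ(M, f ''ᵁ A') :=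
  @fp_iff_of_bijective Γ(Y, A') Γ(X, f ''ᵁ A') Γ(M, f ''ᵁ A') _ _ _
    (show Module Γ(Y, A') Γ(M.restrict f, A') from inferInstance) _
    (f.appIso A').inv.hom (fun _ _ => rfl)
    (ConcreteCategory.bijective_of_isIso (f.appIso A').inv)

lemma finite_restrict_iff :
    Module.Finite Γ(Y, A') Γ(M.restrict f, A') ↔
      Module.Finite Γ(X, f ''ᵁ A') Γ(M, f ''ᵁ A') :=
  @finite_iff_of_bijective Γ(Y, A') Γ(X, f ''ᵁ A') Γ(M, f ''ᵁ A') _ _ _
    (show Module Γ(Y, A') Γ(M.restrict f, A') from inferInstance) _
    (f.appIso A').inv.hom (fun _ _ => rfl)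
    (ConcreteCategory.bijective_of_isIso (f.appIso A').inv)

end Transfer

lemma image_ι_le (W : X.Opens) (A' : (W : Scheme.{u}).Opens) : W.ι ''ᵁ A' ≤ W := by
  have := W.ι.image_le_opensRange A'
  rwa [Scheme.Opens.opensRange_ι] at this

lemma image_ι_preimage (W A : X.Opens) (hA : A ≤ W) : W.ι ''ᵁ (W.ι ⁻¹ᵁ A) = A := by
  rw [Scheme.Hom.image_preimage_eq_opensRange_inf, Scheme.Opens.opensRange_ι]
  exact inf_eq_right.mpr hA

lemma isAffineOpen_ι_preimage (W : X.Opens) {A : X.Opens} (hA : IsAffineOpen A) (hAW : A ≤ W) :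
    IsAffineOpen (W.ι ⁻¹ᵁ A) :=
  hA.preimage_of_isOpenImmersion W.ι (by rw [Scheme.Opens.opensRange_ι]; exact hAW)

/-- finite sections over affine opens inside `W` give finite type of the restriction to `W` -/
theorem isFiniteType_restrict_of_finite (M : X.Modules) [M.IsQuasicoherent] (W : X.Opens)
    (h : ∀ A : X.Opens, IsAffineOpen A → A ≤ W → Module.Finite Γ(X, A) Γ(M, A)) :
    (M.restrict W.ι).IsFiniteType := by
  have : (M.restrict W.ι).IsQuasicoherent := isQuasicoherent_restrict W.ι M
  rw [isFiniteType_iff_forall_finite]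
  intro A'
  rw [finite_restrict_iff]
  exact h _ (A'.2.image_of_isOpenImmersion W.ι) (image_ι_le W A')

/-- finite presentation of the restriction to `W` gives finitely presented sections over affine opens
inside `W` -/
theorem fp_sections_of_isFP_restrict (M : X.Modules) (W : X.Opens)
    [hM : (M.restrict W.ι).IsFinitePresentation] {A : X.Opens} (hA : IsAffineOpen A) (hAW : A ≤ W) :
    Module.FinitePresentation Γ(X, A) Γ(M, A) := by
  have h1 := finitePresentation_Γ_of_isAffineOpen (isAffineOpen_ι_preimage W hA hAW)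
    (M.restrict W.ι)
  rw [fp_restrict_iff] at h1
  have e := image_ι_preimage W A hAW
  rw [e] at h1
  exact h1

/-- **locality**: sections over an affine open `A` are finitely presented if `A` is covered by affine
opens over which they are -/
theorem fp_sections_of_cover (M : X.Modules) [M.IsQuasicoherent] {A : X.Opens} (hA : IsAffineOpen A)
    (h : ∀ x ∈ A, ∃ D : X.Opens, IsAffineOpen D ∧ x ∈ D ∧
      Module.FinitePresentation Γ(X, D) Γ(M, D)) :
    Module.FinitePresentation Γ(X, A) Γ(M, A) := by
  have hmem : ∀ y : Spec Γ(X, A), hA.fromSpec.base y ∈ A := fun y => by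
    have : hA.fromSpec.base y ∈ hA.fromSpec.opensRange := ⟨y, rfl⟩
    rwa [hA.opensRange_fromSpec] at this
  choose D hD hxD hfp using h
  let W : Spec Γ(X, A) → X.Opens := fun y => D (hA.fromSpec.base y) (hmem y)
  have : (restrictSpec hA M).IsFinitePresentation := by
    refine isFinitePresentation_of_isOpenCover _ (fun y => hA.fromSpec ⁻¹ᵁ W y) ?_ fun y => ?_
    · rw [IsOpenCover, ← top_le_iff]
      intro y _
      exact Opens.mem_iSup.2 ⟨y, hxD _ _⟩
    · have hG : ∃ P : (M.restrict (W y).ι).Presentation, P.IsFinite :=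
        exists_presentation_restrict_of_finitePresentation (hD _ _) M (hfp _ _)
      refine exists_presentation_of_iso ?_ (exists_presentation_restrict (hA.fromSpec ∣_ W y) hG)
      exact ((restrictFunctorComp (hA.fromSpec ∣_ W y) (W y).ι).app M).symm ≪≫
        (restrictFunctorCongr (morphismRestrict_ι hA.fromSpec (W y))).app M ≪≫
        (restrictFunctorComp (hA.fromSpec ⁻¹ᵁ W y).ι hA.fromSpec).app M
  have := finitePresentation_Γ_Spec (restrictSpec hA M)
  exact Module.FinitePresentation.of_equiv (ΓrestrictSpecLinearEquiv hA M)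

end Groth.Agent.Lib.QCoh.FPExt
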