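import Groth.Agent.Lib.QCoh.Helper50_FPExtB
import Groth.Agent.Lib.QCoh.Helper66_SubExt3
import Groth.Agent.Lib.Ample.FinGen
import Groth.Agent.Lib.QCoh.Helper74_LocFree

/-!
# Finitely presented approximation on an affine scheme (helper50)

ns `Groth.Agent.Lib.QCoh.FPExt`.  `exists_fp_approx_of_isAffine`: on an affine scheme `Y`, a quasi-coherent
module `M` whose sections over the affine opens of a quasi-compact open `Ω` are finitely presented receives a
map `ν : N ⟶ M` from a finitely presented module which is bijective on sections over affine opens of `Ω`.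
-/

set_option autoImplicit false
universe u
open CategoryTheory CategoryTheory.Limits AlgebraicGeometry Opposite TopologicalSpace

namespace Groth.Agent.Lib.QCoh.FPExt

open Scheme.Modules Groth.Agent.Lib.QCoh Groth.Agent.Lib.Ample FlatMod Groth.Agent.Lib.QCoh.SubExt

/-- the free module on a finite type is finite locally free -/
lemma isFinLocFree_freeModule (Y : Scheme.{u}) (ι : Type u) [Finite ι] :
    IsFinLocFree (freeModule Y ι) := by
  obtain ⟨n, ⟨eq⟩⟩ := Finite.exists_equiv_fin ι
  have e : FlatMod.freeMod Y n ≅ freeModule Y ι :=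
    Sigma.whiskerEquiv (f := fun _ : Fin n => Coh.structureModule Y)
      (g := fun _ : ι => SheafOfModules.unit Y.ringCatSheaf)
      eq.symm (fun _ => Iso.refl _)
  exact isFinLocFree_of_iso e (isFinLocFree_freeMod Y n)

lemma genOn_top {Y : Scheme.{u}} (G : Y.Modules) : GenOn G ⊤ := by
  rw [genOn_iff]
  intro y
  refine Submodule.subset_span ⟨y, ?_⟩
  change G.presheaf.map (𝟙 _) y = y
  rw [G.presheaf.map_id]
  rfl

theorem exists_fp_approx_of_isAffine {Y : Scheme.{u}} [IsAffine Y] (M : Y.Modules)
    [M.IsQuasicoherent] (Ω : Y.Opens) (hΩ : IsCompact (Ω : Set Y))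
    (hFP : ∀ A : Y.Opens, IsAffineOpen A → A ≤ Ω → Module.FinitePresentation Γ(Y, A) Γ(M, A)) :
    ∃ (N : Y.Modules) (ν : N ⟶ M), N.IsQuasicoherent ∧ N.IsFinitePresentation ∧
      ∀ A : Y.Opens, IsAffineOpen A → A ≤ Ω → Function.Bijective (ν.app A) := by
  classical
  -- Step 1: a finite type submodule agreeing with `M` over `Ω`
  have hq : (M.restrict Ω.ι).IsQuasicoherent := isQuasicoherent_restrict Ω.ι M
  have hft : (M.restrict Ω.ι).IsFiniteType := isFiniteType_restrict_of_finite M Ω
    (fun A hA hAΩ => by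
      have := hFP A hA hAΩ
      infer_instance)
  obtain ⟨M', i', e, hmono, hM'q, hM'ft, hcompat⟩ :=
    master_qcqs Ω hΩ M (M.restrict Ω.ι) (𝟙 _)
  have hiso : IsIso ((restrictFunctor Ω.ι).map i') := by
    rw [← hcompat, Category.comp_id]; infer_instance
  have hi'bij : ∀ A : Y.Opens, A ≤ Ω → Function.Bijective (i'.app A) :=
    fun A hA => bijective_of_isIso_restrict i' Ω A hA
  have hM'fp : ∀ A : Y.Opens, IsAffineOpen A → A ≤ Ω →
      Module.FinitePresentation Γ(Y, A) Γ(M', A) := by
    intro A hA hAΩ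
    have := hFP A hA hAΩ
    exact Module.FinitePresentation.of_equiv
      (LinearEquiv.ofBijective (appLinear i' A) (hi'bij A hAΩ)).symm
  -- Step 2: a free cover
  obtain ⟨ι, hι, t, hepi⟩ := exists_finite_epi_free_of_genOn M'
    (fun x => ⟨⊤, isAffineOpen_top Y, trivial, genOn_top M'⟩)
  have hPlf : IsFinLocFree (freeModule Y ι) := isFinLocFree_freeModule Y ι
  have hPq : (freeModule Y ι).IsQuasicoherent := isQuasicoherent_of_isFinLocFree hPlf
  have hPfp : (freeModule Y ι).IsFinitePresentation := isFinitePresentation_of_isFinLocFree hPlf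
  have hPft : (freeModule Y ι).IsFiniteType := isFiniteType_of_isFinLocFree hPlf
  -- the kernel is of finite type over `Ω`
  have hKq : (kernel (homOfFamily M' t)).IsQuasicoherent := isQuasicoherent_kernel _
  have hKfin : ∀ A : Y.Opens, IsAffineOpen A → A ≤ Ω →
      Module.Finite Γ(Y, A) Γ(kernel (homOfFamily M' t), A) := fun A hA hAΩ =>
    finite_sections_kernel (homOfFamily M' t) hA (finite_Γ_of_isAffineOpen hA _) (hM'fp A hA hAΩ)
  have hKft : ((kernel (homOfFamily M' t)).restrict Ω.ι).IsFiniteType :=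
    isFiniteType_restrict_of_finite _ Ω hKfin
  have hKrq : ((kernel (homOfFamily M' t)).restrict Ω.ι).IsQuasicoherent :=
    isQuasicoherent_restrict Ω.ι _
  obtain ⟨K', k', e', hk'mono, hK'q, hK'ft, hcompat'⟩ :=
    master_qcqs Ω hΩ (kernel (homOfFamily M' t)) ((kernel (homOfFamily M' t)).restrict Ω.ι) (𝟙 _)
  have hiso' : IsIso ((restrictFunctor Ω.ι).map k') := by
    rw [← hcompat', Category.comp_id]; infer_instance
  have w : (k' ≫ kernel.ι (homOfFamily M' t)) ≫ homOfFamily M' t = 0 := by
    rw [Category.assoc, kernel.condition, comp_zero]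
  have hNq : (cokernel (k' ≫ kernel.ι (homOfFamily M' t))).IsQuasicoherent :=
    isQuasicoherent_cokernel _
  refine ⟨cokernel (k' ≫ kernel.ι (homOfFamily M' t)),
    cokernel.desc _ (homOfFamily M' t) w ≫ i', hNq, ?_, ?_⟩
  · refine isFinitePresentation_of_forall_finitePresentation _ fun A => ?_
    exact fp_sections_cokernel (k' ≫ kernel.ι (homOfFamily M' t)) A.2
      (finite_Γ_of_isAffineOpen A.2 K') (finitePresentation_Γ_of_isAffineOpen A.2 _)
  · intro A hA hAΩ
    have h1 := bijective_cokernel_desc (homOfFamily M' t) k' hA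
      (bijective_of_isIso_restrict k' Ω A hAΩ).2 w
    exact (hi'bij A hAΩ).comp h1

end Groth.Agent.Lib.QCoh.FPExt
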