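import Groth.Agent.Lib.QCoh.Helper50_FPExtD

/-!
# Extension of finitely presented modules, main theorems (helper50)

ns `Groth.Agent.Lib.QCoh.FPExt`.
* `exists_fp_approx`: `E` quasi-coherent on qcqs `X`, sections f.p. over affine opens of the quasi-compact open `U` ⇒
  a f.p. module `G'` with `ψ : G' ⟶ E` bijective on sections over affine opens of `U`
* `exists_fp_extension`: a f.p. module on `U` with a map to `F|_U` extends to a f.p. module on `X` with a map to `F`
-/

set_option autoImplicit false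
universe u
open CategoryTheory CategoryTheory.Limits AlgebraicGeometry Opposite TopologicalSpace

namespace Groth.Agent.Lib.QCoh.FPExt

open Scheme.Modules Groth.Agent.Lib.QCoh Groth.Agent.Lib.QCoh.ExtendOpen

variable {X : Scheme.{u}}

theorem exists_fp_approx [CompactSpace X] [QuasiSeparatedSpace X] (E : X.Modules)
    [E.IsQuasicoherent] (U : X.Opens) (hU : IsCompact (U : Set X))
    (hFP : ∀ A : X.Opens, IsAffineOpen A → A ≤ U → Module.FinitePresentation Γ(X, A) Γ(E, A)) :
    ∃ (G' : X.Modules) (ψ : G' ⟶ E), G'.IsQuasicoherent ∧ G'.IsFinitePresentation ∧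
      ∀ A : X.Opens, IsAffineOpen A → A ≤ U → Function.Bijective (ψ.app A) := by
  classical
  have key : ∀ S : Finset X.affineOpens, ∃ (G' : X.Modules) (ψ : G' ⟶ E), G'.IsQuasicoherent ∧
      (∀ A : X.Opens, IsAffineOpen A → A ≤ U → Function.Bijective (ψ.app A)) ∧
      (∀ A : X.Opens, IsAffineOpen A → A ≤ U ⊔ ⨆ V ∈ S, (V : X.Opens) →
        Module.FinitePresentation Γ(X, A) Γ(G', A)) := by
    intro S
    induction S using Finset.induction_on with
    | empty =>
      refine ⟨E, 𝟙 E, inferInstance, fun A _ _ => Function.bijective_id, fun A hA hAU => ?_⟩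
      refine hFP A hA (hAU.trans ?_)
      simp
    | insert V S hVS ih =>
      obtain ⟨G', ψ, hq, hbij, hfp⟩ := ih
      have hWc : IsCompact ((U ⊔ ⨆ V' ∈ S, (V' : X.Opens) : X.Opens) : Set X) := by
        rw [Opens.coe_sup]
        refine hU.union ?_
        have : ((⨆ V' ∈ S, (V' : X.Opens) : X.Opens) : Set X) =
            ⋃ V' ∈ S, ((V' : X.Opens) : Set X) := by
          simp
        rw [this]
        exact S.finite_toSet.isCompact_biUnion fun V' _ => V'.2.isCompact
      obtain ⟨G'', ψ', hq', hbij', hfp'⟩ := exists_step G' V.1 V.2 _ hWc hfp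
      refine ⟨G'', ψ' ≫ ψ, hq', fun A hA hAU => ?_, fun A hA hAle => ?_⟩
      · exact (hbij A hA hAU).comp (hbij' A hA (hAU.trans le_sup_left))
      · refine hfp' A hA (hAle.trans ?_)
        rw [Finset.iSup_insert]
        refine sup_le (le_sup_left.trans le_sup_left) (sup_le le_sup_right ?_)
        exact le_sup_right.trans le_sup_left
  obtain ⟨S, hS, e⟩ := (isCompact_and_isOpen_iff_finite_and_eq_biUnion_affineOpens
    (X := X) (U := Set.univ)).mp ⟨isCompact_univ, isOpen_univ⟩
  obtain ⟨G', ψ, hq, hbij, hfp⟩ := key hS.toFinset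
  refine ⟨G', ψ, hq, ?_, hbij⟩
  refine isFinitePresentation_of_forall_finitePresentation G' fun A => ?_
  refine hfp A A.2 ?_
  intro x _
  have hx : x ∈ ⋃ i ∈ S, ((i : X.Opens) : Set X) := e ▸ Set.mem_univ x
  obtain ⟨V, hV, hxV⟩ := Set.mem_iUnion₂.mp hx
  refine Or.inr ?_
  exact Opens.mem_iSup.mpr ⟨V, Opens.mem_iSup.mpr ⟨hS.mem_toFinset.2 hV, hxV⟩⟩

/-- **extension of finitely presented modules** (EGA I 9.4.8 / Stacks 01PI) -/
theorem exists_fp_extension [CompactSpace X] [QuasiSeparatedSpace X] (F : X.Modules)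
    [F.IsQuasicoherent] (U : X.Opens) (hU : IsCompact (U : Set X))
    (G : (U : Scheme.{u}).Modules) [hG : G.IsFinitePresentation] (φ : G ⟶ F.restrict U.ι) :
    ∃ (G' : X.Modules) (φ' : G' ⟶ F) (e : G'.restrict U.ι ≅ G), G'.IsFinitePresentation ∧
      e.hom ≫ φ = (restrictFunctor U.ι).map φ' := by
  have hqc : QuasiCompact U.ι := quasiCompact_ι_of_isCompact U hU
  have hEq : (ext U F G φ).IsQuasicoherent := isQuasicoherent_ext U F G φ
  have hEfp : ((ext U F G φ).restrict U.ι).IsFinitePresentation :=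
    isFinitePresentation_of_iso (extIso U F G φ).symm
  obtain ⟨G', ψ, hq, hfp, hbij⟩ := exists_fp_approx (ext U F G φ) U hU
    (fun A hA hAU => fp_sections_of_isFP_restrict (ext U F G φ) U hA hAU)
  have hiso : IsIso ((restrictFunctor U.ι).map ψ) := isIso_restrict_of_bijective ψ U hbij
  refine ⟨G', ψ ≫ extFst U F G φ, asIso ((restrictFunctor U.ι).map ψ) ≪≫ extIso U F G φ, hfp, ?_⟩
  rw [Iso.trans_hom, Category.assoc, extIso_hom_comp, asIso_hom, ← Functor.map_comp]

end Groth.Agent.Lib.QCoh.FPExt
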