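import Groth.Agent.Lib.QCoh.Helper50_FPExtE
import Groth.Agent.Lib.Cohomology.helper5_CohSigma

/-!
# Finite type modules as quotients of finitely presented ones (helper50)

ns `Groth.Agent.Lib.QCoh.FPExt`.
* `isFinitePresentation_sigma_fin`: finite coproducts of f.p. modules are f.p.
* `exists_epi_fp`: on a qcqs scheme every quasi-coherent module of finite type is a quotient of a f.p. one
* `exists_fp_epi_iso_on`: … by an epimorphism which is an isomorphism over a quasi-compact open where the module
  is f.p. (Stacks 01PJ-type statement)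
-/

set_option autoImplicit false
universe u
open CategoryTheory CategoryTheory.Limits AlgebraicGeometry Opposite TopologicalSpace

namespace Groth.Agent.Lib.QCoh.FPExt

open Scheme.Modules Groth.Agent.Lib.QCoh Groth.Agent.Lib.QCoh.ExtendOpen FlatMod
open Groth.Agent.Lib.Cohomology.CohSigma Groth.Agent.Lib.QCoh.SubExt

variable {X : Scheme.{u}}

/-- a finite coproduct of finitely presented modules is finitely presented -/
theorem isFinitePresentation_sigma_fin {r : ℕ} (M : Fin r → X.Modules)
    (h : ∀ j, (M j).IsFinitePresentation) : (∐ M).IsFinitePresentation := by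
  have hq : (∐ M).IsQuasicoherent := isQuasicoherent_sigma_fin M (fun j => inferInstance)
  refine isFinitePresentation_of_forall_finitePresentation _ fun U => ?_
  have hfp : ∀ j, Module.FinitePresentation Γ(X, (U : X.Opens)) Γ(M j, (U : X.Opens)) :=
    fun j => finitePresentation_Γ_of_isAffineOpen U.2 (M j)
  let Φ : (∀ j, Γ(M j, (U : X.Opens))) →ₗ[Γ(X, (U : X.Opens))] Γ(∐ M, (U : X.Opens)) :=
    LinearMap.lsum _ _ Γ(X, (U : X.Opens)) (fun j => appLinear (Sigma.ι M j) (U : X.Opens))
  have hΦ : ∀ f : (∀ j, Γ(M j, (U : X.Opens))),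
      Φ f = ∑ j, (Sigma.ι M j).app (U : X.Opens) (f j) := by
    intro f
    simp [Φ, LinearMap.lsum_apply]
  have hsurj : Function.Surjective Φ := by
    intro x
    refine ⟨fun j => (Sigma.π M j).app (U : X.Opens) x, ?_⟩
    rw [hΦ]
    have hx : x = (∑ j, Sigma.π M j ≫ Sigma.ι M j).app (U : X.Opens) x := by
      rw [sum_π_ι]; rfl
    rw [sum_app] at hx
    exact hx.symm
  have hinj : Function.Injective Φ := by
    rw [injective_iff_map_eq_zero]
    intro f hf
    funext k
    have h1 := congrArg ((Sigma.π M k).app (U : X.Opens)) hf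
    rw [hΦ, map_sum, map_zero] at h1
    rw [Finset.sum_eq_single k] at h1
    · have h2 := congrArg (fun ψ : M k ⟶ M k => (Scheme.Modules.Hom.app ψ (U : X.Opens)) (f k))
        (Sigma.ι_π_eq_id M k)
      exact h2.symm.trans h1
    · intro j _ hjk
      have h2 := congrArg (fun ψ : M j ⟶ M k => (Scheme.Modules.Hom.app ψ (U : X.Opens)) (f j))
        (Sigma.ι_π_of_ne M hjk)
      exact h2
    · intro hk
      exact absurd (Finset.mem_univ k) hk
  exact Module.FinitePresentation.of_equiv (LinearEquiv.ofBijective Φ ⟨hinj, hsurj⟩)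

/-- on a qcqs scheme, a quasi-coherent module of finite type is a quotient of a finitely presented module -/
theorem exists_epi_fp [CompactSpace X] [QuasiSeparatedSpace X] (F : X.Modules) [F.IsQuasicoherent]
    [F.IsFiniteType] :
    ∃ (P : X.Modules) (p : P ⟶ F), P.IsQuasicoherent ∧ P.IsFinitePresentation ∧ Epi p := by
  classical
  obtain ⟨S, hS, e⟩ := (isCompact_and_isOpen_iff_finite_and_eq_biUnion_affineOpens
    (X := X) (U := Set.univ)).mp ⟨isCompact_univ, isOpen_univ⟩
  have hfin : Finite S := hS.to_subtype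
  obtain ⟨n, ⟨eq⟩⟩ := Finite.exists_equiv_fin S
  let V : Fin n → X.Opens := fun j => (eq.symm j).1.1
  have hV : ∀ j, IsAffineOpen (V j) := fun j => (eq.symm j).1.2
  have hcov : ∀ x : X, ∃ j, x ∈ V j := by
    intro x
    have hx : x ∈ ⋃ i ∈ S, ((i : X.Opens) : Set X) := e ▸ Set.mem_univ x
    obtain ⟨i, hi, hxi⟩ := Set.mem_iUnion₂.mp hx
    refine ⟨eq ⟨i, hi⟩, ?_⟩
    change x ∈ ((eq.symm (eq ⟨i, hi⟩)).1.1 : X.Opens)
    rw [Equiv.symm_apply_apply]
    exact hxi
  have key : ∀ j, ∃ (P : X.Modules) (φ' : P ⟶ F), P.IsFinitePresentation ∧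
      Epi ((restrictFunctor (V j).ι).map φ') := by
    intro j
    obtain ⟨Gs, hGs⟩ := exists_generatingSections_restrict_of_finite (hV j) F
      (finite_Γ_of_isAffineOpen (hV j) F)
    have hlf : IsFinLocFree (freeModule ((V j : X.Opens) : Scheme.{u}) Gs.I) :=
      isFinLocFree_freeModule _ Gs.I
    have hfp : (freeModule ((V j : X.Opens) : Scheme.{u}) Gs.I).IsFinitePresentation :=
      isFinitePresentation_of_isFinLocFree hlf
    let π' : freeModule ((V j : X.Opens) : Scheme.{u}) Gs.I ⟶ F.restrict (V j).ι := Gs.π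
    have hπ' : Epi π' := Gs.epi
    obtain ⟨P, φ', e', hP, hcomp⟩ := exists_fp_extension F (V j) (hV j).isCompact
      (freeModule ((V j : X.Opens) : Scheme.{u}) Gs.I) π'
    refine ⟨P, φ', hP, ?_⟩
    rw [← hcomp]
    exact epi_comp e'.hom π'
  choose P φ' hP hepi using key
  have hPq : (∐ P).IsQuasicoherent := isQuasicoherent_sigma_fin P (fun j => inferInstance)
  refine ⟨∐ P, Sigma.desc φ', hPq, isFinitePresentation_sigma_fin P hP, ?_⟩
  refine epi_of_surjective_of_isBasis
    (fun A : {A : X.Opens // IsAffineOpen A ∧ ∃ j, A ≤ V j} => A.1) ?_ _ ?_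
  · rw [Opens.isBasis_iff_nbhd]
    intro O x hxO
    obtain ⟨j, hj⟩ := hcov x
    obtain ⟨A, hA, hxA, hAle⟩ := exists_isAffineOpen_mem_and_subset (x := x) (U := O ⊓ V j)
      ⟨hxO, hj⟩
    exact ⟨A, ⟨⟨A, hA, j, fun y hy => (hAle hy).2⟩, rfl⟩, hxA, fun y hy => (hAle hy).1⟩
  · rintro ⟨A, hA, j, hAj⟩ y
    have := hepi j
    have hq1 : ((restrictFunctor (V j).ι).obj (P j)).IsQuasicoherent :=
      isQuasicoherent_restrict (V j).ι (P j)
    have hq2 : ((restrictFunctor (V j).ι).obj F).IsQuasicoherent :=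
      isQuasicoherent_restrict (V j).ι F
    have hs := surjective_app_of_epi ((restrictFunctor (V j).ι).map (φ' j))
      (isAffineOpen_ι_preimage (V j) hA hAj)
    have hs' : Function.Surjective ((φ' j).app ((V j).ι ''ᵁ ((V j).ι ⁻¹ᵁ A))) := hs
    rw [image_ι_preimage (V j) A hAj] at hs'
    obtain ⟨t, ht⟩ := hs' y
    refine ⟨(Sigma.ι P j).app A t, ?_⟩
    have h1 := congrArg (fun ψ : P j ⟶ F => (Scheme.Modules.Hom.app ψ A) t) (Sigma.ι_desc φ' j)
    exact h1.trans ht

/-- **quotients of f.p. modules**: a quasi-coherent module of finite type on a qcqs scheme whose sections over the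
affine opens of the quasi-compact open `U` are finitely presented is the quotient of a finitely presented module by an
epimorphism bijective on sections over affine opens of `U` -/
theorem exists_fp_epi_iso_on [CompactSpace X] [QuasiSeparatedSpace X] (F : X.Modules)
    [F.IsQuasicoherent] [F.IsFiniteType] (U : X.Opens) (hU : IsCompact (U : Set X))
    (hFP : ∀ A : X.Opens, IsAffineOpen A → A ≤ U → Module.FinitePresentation Γ(X, A) Γ(F, A)) :
    ∃ (G : X.Modules) (φ : G ⟶ F), G.IsFinitePresentation ∧ Epi φ ∧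
      ∀ A : X.Opens, IsAffineOpen A → A ≤ U → Function.Bijective (φ.app A) := by
  obtain ⟨P, p, hPq, hPfp, hp⟩ := exists_epi_fp F
  have hKq : (kernel p).IsQuasicoherent := isQuasicoherent_kernel p
  have hKfin : ∀ A : X.Opens, IsAffineOpen A → A ≤ U →
      Module.Finite Γ(X, A) Γ(kernel p, A) := fun A hA hAU =>
    finite_sections_kernel p hA (finite_Γ_of_isAffineOpen hA P) (hFP A hA hAU)
  have hKft : ((kernel p).restrict U.ι).IsFiniteType := isFiniteType_restrict_of_finite _ U hKfin
  have hKrq : ((kernel p).restrict U.ι).IsQuasicoherent := isQuasicoherent_restrict U.ι _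
  obtain ⟨K', k', e', hk'mono, hK'q, hK'ft, hcompat'⟩ :=
    master_qcqs U hU (kernel p) ((kernel p).restrict U.ι) (𝟙 _)
  have hiso' : IsIso ((restrictFunctor U.ι).map k') := by
    rw [← hcompat', Category.comp_id]; infer_instance
  have w : (k' ≫ kernel.ι p) ≫ p = 0 := by
    rw [Category.assoc, kernel.condition, comp_zero]
  have hNq : (cokernel (k' ≫ kernel.ι p)).IsQuasicoherent := isQuasicoherent_cokernel _
  refine ⟨cokernel (k' ≫ kernel.ι p), cokernel.desc _ p w, ?_, ?_, ?_⟩
  · refine isFinitePresentation_of_forall_finitePresentation _ fun A => ?_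
    exact fp_sections_cokernel (k' ≫ kernel.ι p) A.2
      (finite_Γ_of_isAffineOpen A.2 K') (finitePresentation_Γ_of_isAffineOpen A.2 _)
  · have : Epi (cokernel.π (k' ≫ kernel.ι p) ≫ cokernel.desc _ p w) := by
      rw [cokernel.π_desc]; exact hp
    exact epi_of_epi (cokernel.π (k' ≫ kernel.ι p)) _
  · intro A hA hAU
    exact bijective_cokernel_desc p k' hA (bijective_of_isIso_restrict k' U A hAU).2 w

end Groth.Agent.Lib.QCoh.FPExt
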