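import Groth.Agent.Lib.QCoh.Helper50_FpqcDescent
import Groth.Agent.Lib.QCoh.Helper50_AffineDict

/-!
# Descent of vanishing of a section along a faithfully flat morphism (helper50)

* `eq_zero_of_forall_one_tmul_eq_zero` (algebra)
* `eq_zero_of_pullbackSectionsMap_eq_zero` : `g` flat surjective, `F` quasi-coherent, `W` affine,
  `m ∈ Γ(F, W)` whose pullbacks to all affine opens of `g⁻¹ W` vanish is zero.
-/

universe u
open CategoryTheory CategoryTheory.Limits AlgebraicGeometry Opposite TopologicalSpace TensorProduct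

namespace Groth.Agent.Lib.QCoh

section alg

variable {A : Type*} [CommRing A] {ι : Type*} {B : ι → Type*} [∀ j, CommRing (B j)]
  [∀ j, Algebra A (B j)] (hB : JointlyFaithful A B) [∀ j, Module.Flat A (B j)]

include hB in
/-- Descent of vanishing of an element. -/
theorem eq_zero_of_forall_one_tmul_eq_zero (Q : Type*) [AddCommGroup Q] [Module A Q] (x : Q)
    (h : ∀ j, (1 : B j) ⊗ₜ[A] x = 0) : x = 0 := by
  let f : A →ₗ[A] Q := LinearMap.toSpanSingleton A Q x
  let I : Ideal A := LinearMap.ker f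
  have hI : I = ⊤ := by
    apply hB
    intro j
    have hex : Function.Exact ((Submodule.subtype I).lTensor (B j)) (f.lTensor (B j)) :=
      Module.Flat.lTensor_exact (B j) (fun a => by
        simp only [Set.mem_range, Submodule.coe_subtype, Subtype.exists, exists_prop,
          exists_eq_right]
        exact Iff.rfl)
    have h0 : f.lTensor (B j) ((1 : B j) ⊗ₜ (1 : A)) = 0 := by
      rw [LinearMap.lTensor_tmul]
      simpa [f] using h j
    obtain ⟨y, hy⟩ := (hex _).1 h0
    let μ : B j ⊗[A] A →ₗ[A] B j := (TensorProduct.rid A (B j)).toLinearMap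
    have hμ : ∀ z : B j ⊗[A] I, μ ((Submodule.subtype I).lTensor (B j) z) ∈
        I.map (algebraMap A (B j)) := by
      intro z
      induction z with
      | zero => simp
      | add a b ha hb => rw [map_add, map_add]; exact Ideal.add_mem _ ha hb
      | tmul b i =>
        simp only [LinearMap.lTensor_tmul, Submodule.coe_subtype, μ, LinearEquiv.coe_coe,
          TensorProduct.rid_tmul]
        rw [Algebra.smul_def, mul_comm]
        exact Ideal.mul_mem_left _ _ (Ideal.mem_map_of_mem _ i.2)
    have h1 := hμ y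
    rw [hy] at h1
    simp only [μ, LinearEquiv.coe_coe, TensorProduct.rid_tmul, one_smul] at h1
    exact (Ideal.eq_top_iff_one _).2 h1
  have h1 : (1 : A) ∈ I := by rw [hI]; trivial
  have h2 : f 1 = 0 := h1
  simpa [f] using h2

end alg

open Scheme.Modules

variable {X' X : Scheme.{u}} (g : X' ⟶ X) [Flat g] [Surjective g]
  (F : X.Modules) [F.IsQuasicoherent]

open ChangeOfRings in
set_option backward.isDefEq.respectTransparency false in
set_option maxHeartbeats 800000 in
/-- A section over an affine open whose pullbacks to all affine opens upstairs vanish is zero. -/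
theorem eq_zero_of_pullbackSectionsMap_eq_zero {W : X.Opens} (hW : IsAffineOpen W) (m : Γ(F, W))
    (h : ∀ (W' : X'.Opens) (_ : IsAffineOpen W') (e : W' ≤ g ⁻¹ᵁ W),
      pullbackSectionsMap g e F m = 0) : m = 0 := by
  let J := {W' : X'.affineOpens // (W' : X'.Opens) ≤ g ⁻¹ᵁ W}
  let V : J → X'.Opens := fun j => (j.1 : X'.Opens)
  have hV : ∀ j, IsAffineOpen (V j) := fun j => j.1.2
  have hle : ∀ j, V j ≤ g ⁻¹ᵁ W := fun j => j.2
  have hcov : g ⁻¹ᵁ W ≤ ⨆ j, V j := by
    intro x hx
    obtain ⟨_, ⟨W', hW', rfl⟩, hxW', hW'W⟩ :=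
      X'.isBasis_affineOpens.exists_subset_of_mem_open hx (g ⁻¹ᵁ W).isOpen
    exact Opens.mem_iSup.2 ⟨⟨⟨W', hW'⟩, hW'W⟩, hxW'⟩
  let alg : ∀ j : J, Algebra Γ(X, W) Γ(X', V j) := fun j =>
    (g.appLE W (V j) (hle j)).hom.toAlgebra
  have hflat : ∀ j, Module.Flat Γ(X, W) Γ(X', V j) := fun j => g.flat_appLE hW (hV j) (hle j)
  have hjf : JointlyFaithful Γ(X, W) (fun j : J => Γ(X', V j)) :=
    jointlyFaithful_of_forall_exists_comap (exists_comap_eq_of_surjective g hW V hV hle hcov)
  refine eq_zero_of_forall_one_tmul_eq_zero hjf Γ(F, W) m fun j => ?_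
  obtain ⟨κ, hκ⟩ := exists_iso_extendScalars_pullbackSections g hW (hV j) (hle j) F
  let κ' : Γ(X', V j) ⊗[Γ(X, W)] Γ(F, W) ≃ₗ[Γ(X', V j)]
      Γ((Scheme.Modules.pullback g).obj F, V j) := κ.toLinearEquiv
  apply κ'.injective
  rw [map_zero]
  exact (hκ m).trans (h (V j) (hV j) (hle j))

end Groth.Agent.Lib.QCoh
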