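import Mathlib

/-!
# Evaluation at the generic point of an integral scheme (helper50)

ns `Groth.Agent.Lib.QCoh.GenericEval`.
* `genericPoint_mem`: the generic point lies in every nonempty open.
* `evaluation_injective`: `Γ(X, W) → κ(η)` is injective.
* `formallySmooth_evaluation`: for affine `U ∋ y = η_Y`, `Γ(Y, U) → κ(y)` is formally smooth.
* `map_genericPoint`: a dominant morphism maps the generic point to the generic point.
* `appLE_evaluation`: compatibility of `appLE`, evaluation and `residueFieldMap`.
* `formallySmooth_comp_evaluation`: `Γ(Y,U) → Γ(X,W) → κ(η_X)` is formally smooth when `φ` is dominant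
  and `κ(η_X)` is separable over `κ(φ η_X)`.
* `flat_kaehler_of_smooth`: `Ω[Γ(Y,U)/Γ(S,V)]` is flat for a smooth morphism.
-/

set_option autoImplicit false
universe u

open AlgebraicGeometry CategoryTheory TopologicalSpace

namespace Groth.Agent.Lib.QCoh.GenericEval

section

variable {X : Scheme.{u}} [IsIntegral X]

lemma genericPoint_mem (W : X.Opens) (hW : (W : Set X).Nonempty) : genericPoint X ∈ W := by
  have := ((genericPoint_spec X).mem_open_set_iff W.2).2 (by simpa using hW)
  exact this

lemma residue_bijective (y : X) (hy : y = genericPoint X) :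
    Function.Bijective (X.residue y).hom := by
  subst hy
  refine ⟨?_, X.residue_surjective _⟩
  exact RingHom.injective ((X.residue (genericPoint X)).hom : X.functionField →+* _)

lemma evaluation_injective (W : X.Opens) (hη : genericPoint X ∈ W) :
    Function.Injective (X.evaluation W (genericPoint X) hη).hom := by
  have h1 : Function.Injective (X.presheaf.germ W (genericPoint X) hη).hom :=
    germ_injective_of_isIntegral X _ hη
  have h2 := (residue_bijective (genericPoint X) rfl).1
  exact h2.comp h1

lemma formallySmooth_germ {Y : Scheme.{u}} {U : Y.Opens} (hU : IsAffineOpen U) (y : Y)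
    (hy : y ∈ U) : (Y.presheaf.germ U y hy).hom.FormallySmooth := by
  letI := TopCat.Presheaf.algebra_section_stalk Y.presheaf (⟨y, hy⟩ : U)
  have := hU.isLocalization_stalk ⟨y, hy⟩
  exact Algebra.FormallySmooth.of_isLocalization (hU.primeIdealOf ⟨y, hy⟩).asIdeal.primeCompl

lemma formallySmooth_evaluation {U : X.Opens} (hU : IsAffineOpen U) (y : X)
    (hy : y = genericPoint X) (hyU : y ∈ U) : (X.evaluation U y hyU).hom.FormallySmooth :=
  (formallySmooth_germ hU y hyU).comp (RingHom.FormallySmooth.of_bijective (residue_bijective y hy))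

end

section

variable {X Y : Scheme.{u}} [IsIntegral X] [IsIntegral Y] (φ : X ⟶ Y)

lemma map_genericPoint (hdom : DenseRange φ.base) : φ.base (genericPoint X) = genericPoint Y := by
  have h1 := (genericPoint_spec X).image φ.continuous
  have h2 : closure (φ.base '' (Set.univ : Set X)) = Set.univ := by
    rw [Set.image_univ]
    exact hdom.closure_range
  rw [h2] at h1
  exact (IsGenericPoint.eq (genericPoint_spec Y) h1).symm

omit [IsIntegral X] [IsIntegral Y] in
lemma appLE_evaluation {U : Y.Opens} {W : X.Opens} (e : W ≤ φ ⁻¹ᵁ U) (x : X) (hx : x ∈ W) :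
    φ.appLE U W e ≫ X.evaluation W x hx =
      Y.evaluation U (φ.base x) (e hx) ≫ φ.residueFieldMap x := by
  rw [Scheme.evaluation_naturality, Scheme.Hom.appLE, Category.assoc]
  congr 1
  show X.presheaf.map (homOfLE e).op ≫ X.presheaf.germ W x hx ≫ X.residue x =
    X.presheaf.germ (φ ⁻¹ᵁ U) x (e hx) ≫ X.residue x
  rw [← Category.assoc, TopCat.Presheaf.germ_res]

theorem formallySmooth_comp_evaluation (hdom : DenseRange φ.base)
    (hsep : letI := (φ.residueFieldMap (genericPoint X)).hom.toAlgebra
      Algebra.IsSeparable (Y.residueField (φ.base (genericPoint X))) (X.residueField (genericPoint X)))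
    {U : Y.Opens} (hU : IsAffineOpen U) {W : X.Opens} (e : W ≤ φ ⁻¹ᵁ U)
    (hη : genericPoint X ∈ W) :
    ((X.evaluation W (genericPoint X) hη).hom.comp (φ.appLE U W e).hom).FormallySmooth := by
  have hKL : (φ.residueFieldMap (genericPoint X)).hom.FormallySmooth := by
    letI := (φ.residueFieldMap (genericPoint X)).hom.toAlgebra
    haveI : Algebra.IsSeparable (Y.residueField (φ.base (genericPoint X)))
      (X.residueField (genericPoint X)) := hsep
    have : Algebra.FormallyEtale (Y.residueField (φ.base (genericPoint X)))
      (X.residueField (genericPoint X)) := Algebra.FormallyEtale.of_isSeparable _ _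
    show Algebra.FormallySmooth (Y.residueField (φ.base (genericPoint X)))
      (X.residueField (genericPoint X))
    infer_instance
  have hBK := formallySmooth_evaluation hU (φ.base (genericPoint X)) (map_genericPoint φ hdom) (e hη)
  have heq : (X.evaluation W (genericPoint X) hη).hom.comp (φ.appLE U W e).hom =
      (φ.residueFieldMap (genericPoint X)).hom.comp
        (Y.evaluation U (φ.base (genericPoint X)) (e hη)).hom := by
    have := appLE_evaluation φ e (genericPoint X) hη
    exact congrArg CommRingCat.Hom.hom this
  rw [heq]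
  exact hBK.comp hKL

end

theorem flat_kaehler_of_smooth {Y S : Scheme.{u}} (g : Y ⟶ S) [Smooth g] {V : S.Opens}
    (hV : IsAffineOpen V) {U : Y.Opens} (hU : IsAffineOpen U) (hUV : U ≤ g ⁻¹ᵁ V) :
    letI := (g.appLE V U hUV).hom.toAlgebra
    Module.Flat Γ(Y, U) Ω[Γ(Y, U)⁄Γ(S, V)] := by
  letI := (g.appLE V U hUV).hom.toAlgebra
  have h : RingHom.Smooth (g.appLE V U hUV).hom :=
    HasRingHomProperty.appLE (P := @Smooth) g inferInstance ⟨V, hV⟩ ⟨U, hU⟩ hUV
  have h1 : Algebra.Smooth Γ(S, V) Γ(Y, U) := h
  have h2 : Module.Projective Γ(Y, U) Ω[Γ(Y, U)⁄Γ(S, V)] :=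
    h1.formallySmooth.projective_kaehlerDifferential
  infer_instance

end Groth.Agent.Lib.QCoh.GenericEval
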