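import Groth.Agent.Lib.QCoh.Helper50_FPColim2
import Groth.Agent.Lib.QCoh.Helper50_ColimSections

/-!
# The image sub-family of a morphism of modules (helper50)

ns `Groth.Agent.Lib.QCoh.ImFam`.
* `imFam α : SubFam K`: the (sheaf) image of `α : A ⟶ K` as a family of submodules of sections
* `imFam_isLocal`, `imFam_isLFG` (for `A` quasi-coherent of finite type), `imIdx α : Idx K`, `app_mem_imFam`
* `exists_fp_through_section`: every section of a quasi-coherent module over an affine open of a qcqs scheme is hit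
  by a morphism from a finitely presented module
-/

set_option autoImplicit false
universe u
open CategoryTheory CategoryTheory.Limits AlgebraicGeometry Opposite TopologicalSpace

namespace Groth.Agent.Lib.QCoh.ImFam

open Scheme.Modules Groth.Agent.Lib.QCoh Groth.Agent.Lib.QCoh.SubExt Groth.Agent.Lib.QCoh.SubExtQ
open Groth.Agent.Lib.QCoh.Glue74 Groth.Agent.Lib.QCoh.FPExt Groth.Agent.Lib.QCoh.FPColim

variable {X : Scheme.{u}} {A K : X.Modules} (α : A ⟶ K)

/-- the image sub-family -/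
noncomputable def imFam : SubFam K := SubFam.ofPred (fun D =>
  { carrier := {k | ∀ x ∈ D, ∃ (D' : X.Opens) (h : D' ≤ D), x ∈ D' ∧
      ∃ a : Γ(A, D'), α.app D' a = Glue74.res K h k}
    add_mem' := by
      intro k k' hk hk' x hx
      obtain ⟨D₁, h₁, hx₁, a₁, e₁⟩ := hk x hx
      obtain ⟨D₂, h₂, hx₂, a₂, e₂⟩ := hk' x hx
      refine ⟨D₁ ⊓ D₂, inf_le_left.trans h₁, ⟨hx₁, hx₂⟩,
        Glue74.res A inf_le_left a₁ + Glue74.res A inf_le_right a₂, ?_⟩
      rw [map_add, app_res, app_res, e₁, e₂, res_res, res_res, res_add]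
    zero_mem' := by
      intro x hx
      exact ⟨D, le_rfl, hx, 0, by rw [map_zero, res_zero]⟩
    smul_mem' := by
      intro c k hk x hx
      obtain ⟨D₁, h₁, hx₁, a₁, e₁⟩ := hk x hx
      refine ⟨D₁, h₁, hx₁, X.presheaf.map (homOfLE h₁).op c • a₁, ?_⟩
      rw [Hom.app_smul, e₁, res_smul] })
  (by
    intro D' D h k hk x hx
    obtain ⟨D₁, h₁, hx₁, a₁, e₁⟩ := hk x (h hx)
    refine ⟨D₁ ⊓ D', inf_le_right, ⟨hx₁, hx⟩, Glue74.res A inf_le_left a₁, ?_⟩
    rw [app_res, e₁, res_res, res_res])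

lemma mem_imFam_iff {D : X.Opens} (k : Γ(K, D)) :
    k ∈ (imFam α).sec D ↔ ∀ x ∈ D, ∃ (D' : X.Opens) (h : D' ≤ D), x ∈ D' ∧
      ∃ a : Γ(A, D'), α.app D' a = Glue74.res K h k := Iff.rfl

lemma app_mem_imFam (D : X.Opens) (a : Γ(A, D)) : α.app D a ∈ (imFam α).sec D := by
  intro x hx
  exact ⟨D, le_rfl, hx, a, by rw [res_self]⟩

lemma imFam_isLocal : (imFam α).IsLocal := by
  intro D s hs x hx
  obtain ⟨D₁, h₁, hx₁, hm₁⟩ := hs x hx
  obtain ⟨D', h', hxD', a, e⟩ := hm₁ x hx₁
  refine ⟨D', h'.trans h₁, hxD', a, ?_⟩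
  rw [res_res] at e
  exact e

lemma app_mem_span (O : X.Opens) {n : ℕ} (w : Fin n → Γ(A, O)) (z : Γ(A, O))
    (hz : z ∈ Submodule.span Γ(X, O) (Set.range w)) :
    α.app O z ∈ Submodule.span Γ(X, O) (Set.range fun k => α.app O (w k)) := by
  induction hz using Submodule.span_induction with
  | mem x hx =>
    obtain ⟨k, rfl⟩ := hx
    exact Submodule.subset_span ⟨k, rfl⟩
  | zero =>
    rw [map_zero]
    exact zero_mem _
  | add x y _ _ hx hy =>
    rw [map_add]
    exact add_mem hx hy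
  | smul c x _ hx =>
    rw [Hom.app_smul]
    exact Submodule.smul_mem _ _ hx

lemma imFam_isLFG [A.IsQuasicoherent] [A.IsFiniteType] : (imFam α).IsLFG ⊤ := by
  intro x _
  obtain ⟨V, hV, hxV, -⟩ := exists_isAffineOpen_mem_and_subset (x := x) (U := ⊤) trivial
  have hfin : Module.Finite Γ(X, V) Γ(A, V) := finite_Γ_of_isAffineOpen hV A
  obtain ⟨n, y, hy⟩ := Module.Finite.exists_fin (R := Γ(X, V)) (M := Γ(A, V))
  refine ⟨V, le_top, hxV, n, fun k => α.app V (y k), ?_, ?_⟩
  · intro k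
    exact app_mem_imFam α V (y k)
  · intro V' hV' s hs x₁ hx₁
    obtain ⟨D₁, h₁, hxD₁, a, e⟩ := hs x₁ hx₁
    obtain ⟨g, hg, hxg⟩ := hV.exists_basicOpen_le (⟨x₁, hxD₁⟩ : D₁) (hV' (h₁ hxD₁))
    refine ⟨X.basicOpen g, hg.trans h₁, hxg, ?_⟩
    have h1 := mem_span_res_of_span_eq_top A hV y hy g (Glue74.res A hg a)
    have h2 := app_mem_span α _ _ _ h1
    have e1 : α.app _ (Glue74.res A hg a) = Glue74.res K (hg.trans h₁) s := by
      rw [app_res, e, res_res]
    have e2 : ∀ k, α.app _ (Glue74.res A (X.basicOpen_le g) (y k)) =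
        Glue74.res K ((hg.trans h₁).trans hV') (α.app V (y k)) := by
      intro k
      rw [app_res]
    simp only [e2] at h2
    rw [e1] at h2
    exact h2

/-- the image as an element of the index poset -/
noncomputable def imIdx [A.IsQuasicoherent] [A.IsFiniteType] : Idx K :=
  ⟨imFam α, imFam_isLocal α, imFam_isLFG α⟩

/-- every section over an affine open is hit from a finitely presented module -/
theorem exists_fp_through_section [CompactSpace X] [QuasiSeparatedSpace X] (F : X.Modules)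
    [F.IsQuasicoherent] {U : X.Opens} (hU : IsAffineOpen U) (s : Γ(F, U)) :
    ∃ (P : X.Modules) (φ : P ⟶ F) (y : Γ(P, U)), P.IsFinitePresentation ∧ φ.app U y = s := by
  obtain ⟨N, hloc, hlfg, hs⟩ := exists_subFam_through_section F U hU.isCompact s
  have hq : (N.toModules hloc).IsQuasicoherent := N.isQuasicoherent_toModules hloc hlfg
  have hft : (N.toModules hloc).IsFiniteType := N.isFiniteType_toModules hloc hlfg
  obtain ⟨P, p, hPq, hPfp, hp⟩ := exists_epi_fp (N.toModules hloc)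
  obtain ⟨y, hy⟩ := surjective_app_of_epi p hU ((N.secEquiv hloc U).symm ⟨s, hs⟩)
  refine ⟨P, p ≫ N.incl hloc, y, hPfp, ?_⟩
  change (N.incl hloc).app U (p.app U y) = s
  rw [hy]
  rfl

end Groth.Agent.Lib.QCoh.ImFam
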