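import Mathlib
import Groth.Agent.Lib.QCoh.Helper50_KaehlerAlg

/-!
# The transposed map of Kähler differentials is bijective for a pushout square (helper50)
-/

set_option autoImplicit false
universe u

open CategoryTheory CategoryTheory.Limits TensorProduct

namespace Groth.Agent.Lib.QCoh.KaehlerAlg

set_option maxHeartbeats 1600000 in
theorem transp_bijective_of_isPushout {A A' B C : CommRingCat.{u}} {ψ : A ⟶ B} {ψ' : A' ⟶ C}
    {α : A ⟶ A'} {φ : B ⟶ C} (fac : α ≫ ψ' = ψ ≫ φ) (hpo : IsPushout ψ α φ ψ') :
    Function.Bijective (transp.{u} fac) := by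
  letI iAB : Algebra A B := ψ.hom.toAlgebra
  letI iA'C : Algebra A' C := ψ'.hom.toAlgebra
  letI iBC : Algebra B C := φ.hom.toAlgebra
  letI iAA' : Algebra A A' := α.hom.toAlgebra
  letI iAC : Algebra A C := ((algebraMap B C).comp (algebraMap A B)).toAlgebra
  have t1 : IsScalarTower A B C := IsScalarTower.of_algebraMap_eq (fun _ => rfl)
  have t2 : IsScalarTower A A' C := IsScalarTower.of_algebraMap_eq (fun a => by
    have := congr($fac a)
    exact this.symm)
  have hP : Algebra.IsPushout A A' B C := CommRingCat.isPushout_iff_isPushout.1 hpo.flip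
  have hM : ∀ b : B, (KaehlerDifferential.tensorKaehlerEquiv A A' B C).toLinearMap
      ((1 : C) ⊗ₜ[B] KaehlerDifferential.D A B b) = KaehlerDifferential.D A' C (φ.hom b) := by
    intro b
    have := KaehlerDifferential.tensorKaehlerEquiv_tmul_D A A' B C (1 : C) b
    rw [one_smul] at this
    exact this
  have h1 := transp_eq fac (KaehlerDifferential.tensorKaehlerEquiv A A' B C).toLinearMap hM
  have hMb : Function.Bijective (KaehlerDifferential.tensorKaehlerEquiv A A' B C).toLinearMap :=
    (KaehlerDifferential.tensorKaehlerEquiv A A' B C).bijective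
  have hiso : Function.Bijective (extendScalarsIso B C Ω[B⁄A]).hom :=
    (ConcreteCategory.isIso_iff_bijective (extendScalarsIso B C Ω[B⁄A]).hom).1 inferInstance
  have : (transp.{u} fac : _ → _) = fun t =>
      (KaehlerDifferential.tensorKaehlerEquiv A A' B C).toLinearMap
        ((extendScalarsIso B C Ω[B⁄A]).hom t) := funext h1
  rw [this]
  exact hMb.comp hiso

end Groth.Agent.Lib.QCoh.KaehlerAlg
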