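import Mathlib
import Groth.Agent.Lib.QCoh.Helper50_KaehlerAlg2

/-!
# Differentials of a tensor product: `Ω[B ⊗_A B' / A]` is the direct sum of the base changes
(helper50)
-/

set_option autoImplicit false
universe u

open CategoryTheory CategoryTheory.Limits TensorProduct

namespace Groth.Agent.Lib.QCoh.KaehlerAlg

section Unbundled

variable (A B B' C : Type u) [CommRing A] [CommRing B] [CommRing B'] [CommRing C]
  [Algebra A B] [Algebra A B'] [Algebra B C] [Algebra B' C] [Algebra A C]
  [IsScalarTower A B C] [IsScalarTower A B' C]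

/-- linear maps out of `C ⊗_{B'} Ω[B'/A]` are determined on `1 ⊗ D b'` -/
lemma linearMap_ext_tmul_D {N : Type u} [AddCommGroup N] [Module C N]
    (L₁ L₂ : C ⊗[B'] Ω[B'⁄A] →ₗ[C] N)
    (h : ∀ b' : B', L₁ ((1 : C) ⊗ₜ[B'] KaehlerDifferential.D A B' b') =
      L₂ ((1 : C) ⊗ₜ[B'] KaehlerDifferential.D A B' b')) : L₁ = L₂ := by
  have key : ∀ ω : Ω[B'⁄A], L₁ ((1 : C) ⊗ₜ[B'] ω) = L₂ ((1 : C) ⊗ₜ[B'] ω) := by
    intro ω
    have hω : ω ∈ Submodule.span B' (Set.range (KaehlerDifferential.D A B')) := by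
      rw [KaehlerDifferential.span_range_derivation]; trivial
    induction hω using Submodule.span_induction with
    | mem y hy => obtain ⟨b', rfl⟩ := hy; exact h b'
    | zero => rw [TensorProduct.tmul_zero, map_zero, map_zero]
    | add y z _ _ hy hz => rw [TensorProduct.tmul_add, map_add, map_add, hy, hz]
    | smul b y _ hy =>
      have e : (1 : C) ⊗ₜ[B'] (b • y) = (algebraMap B' C b) • ((1 : C) ⊗ₜ[B'] y) := by
        rw [TensorProduct.smul_tmul', ← TensorProduct.smul_tmul, Algebra.smul_def, smul_eq_mul]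
      rw [e, map_smul, map_smul, hy]
  apply LinearMap.ext
  intro t
  induction t using TensorProduct.induction_on with
  | zero => rw [map_zero, map_zero]
  | tmul c ω =>
    have e : c ⊗ₜ[B'] ω = c • ((1 : C) ⊗ₜ[B'] ω) := by
      rw [TensorProduct.smul_tmul', smul_eq_mul, mul_one]
    rw [e, map_smul, map_smul, key]
  | add x y hx hy => rw [map_add, map_add, hx, hy]

lemma map_comp_mapBaseChange [Algebra.IsPushout A B B' C] :
    (KaehlerDifferential.map A B C C).comp (KaehlerDifferential.mapBaseChange A B' C) =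
      (KaehlerDifferential.tensorKaehlerEquiv A B B' C).toLinearMap := by
  apply linearMap_ext_tmul_D
  intro b'
  have h1 := KaehlerDifferential.tensorKaehlerEquiv_tmul_D A B B' C (1 : C) b'
  rw [one_smul] at h1
  show KaehlerDifferential.map A B C C (KaehlerDifferential.mapBaseChange A B' C
    ((1 : C) ⊗ₜ[B'] KaehlerDifferential.D A B' b')) =
    KaehlerDifferential.tensorKaehlerEquiv A B B' C ((1 : C) ⊗ₜ[B'] KaehlerDifferential.D A B' b')
  rw [h1, KaehlerDifferential.mapBaseChange_tmul, one_smul, KaehlerDifferential.map_D,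
    KaehlerDifferential.map_D]
  rfl

/-- `Ω[C/A] = (C ⊗_B Ω[B/A]) ⊕ (C ⊗_{B'} Ω[B'/A])` for `C = B ⊗_A B'` -/
theorem bijective_mapBaseChange_add [Algebra.IsPushout A B B' C] [Algebra.IsPushout A B' B C] :
    Function.Bijective (fun p : (C ⊗[B] Ω[B⁄A]) × (C ⊗[B'] Ω[B'⁄A]) =>
      KaehlerDifferential.mapBaseChange A B C p.1 + KaehlerDifferential.mapBaseChange A B' C p.2) := by
  have h2 := map_comp_mapBaseChange A B B' C
  have h1 := map_comp_mapBaseChange A B' B C
  have ex2 := KaehlerDifferential.exact_mapBaseChange_map A B C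
  have ex1 := KaehlerDifferential.exact_mapBaseChange_map A B' C
  have z2 : ∀ x, KaehlerDifferential.map A B C C (KaehlerDifferential.mapBaseChange A B C x) = 0 :=
    fun x => (ex2 _).2 ⟨x, rfl⟩
  have z1 : ∀ x, KaehlerDifferential.map A B' C C
      (KaehlerDifferential.mapBaseChange A B' C x) = 0 := fun x => (ex1 _).2 ⟨x, rfl⟩
  have e2 : ∀ x, KaehlerDifferential.map A B C C (KaehlerDifferential.mapBaseChange A B' C x) =
      KaehlerDifferential.tensorKaehlerEquiv A B B' C x := fun x => congr($h2 x)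
  have e1 : ∀ x, KaehlerDifferential.map A B' C C (KaehlerDifferential.mapBaseChange A B C x) =
      KaehlerDifferential.tensorKaehlerEquiv A B' B C x := fun x => congr($h1 x)
  constructor
  · rintro ⟨t, t'⟩ ⟨s, s'⟩ hts
    simp only at hts
    have a2 := congrArg (KaehlerDifferential.map A B C C) hts
    rw [map_add, map_add, z2, z2, zero_add, zero_add, e2, e2] at a2
    have a1 := congrArg (KaehlerDifferential.map A B' C C) hts
    rw [map_add, map_add, z1, z1, add_zero, add_zero, e1, e1] at a1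
    rw [(KaehlerDifferential.tensorKaehlerEquiv A B B' C).injective a2,
      (KaehlerDifferential.tensorKaehlerEquiv A B' B C).injective a1]
  · intro ω
    have hz : KaehlerDifferential.map A B C C (ω - KaehlerDifferential.mapBaseChange A B' C
        ((KaehlerDifferential.tensorKaehlerEquiv A B B' C).symm
          (KaehlerDifferential.map A B C C ω))) = 0 := by
      rw [map_sub, e2, LinearEquiv.apply_symm_apply, sub_self]
    obtain ⟨t, ht⟩ := (ex2 _).1 hz
    refine ⟨(t, (KaehlerDifferential.tensorKaehlerEquiv A B B' C).symm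
      (KaehlerDifferential.map A B C C ω)), ?_⟩
    simp only
    rw [ht, sub_add_cancel]

end Unbundled

set_option maxHeartbeats 1600000 in
/-- bundled form: the sum of the two transposed maps is bijective for a pushout square -/
theorem transp_add_bijective {A B B' C : CommRingCat.{u}} {ψ₁ : A ⟶ B} {ψ₂ : A ⟶ B'}
    {φ₁ : B ⟶ C} {φ₂ : B' ⟶ C} {ψ' : A ⟶ C}
    (fac₁ : 𝟙 A ≫ ψ' = ψ₁ ≫ φ₁) (fac₂ : 𝟙 A ≫ ψ' = ψ₂ ≫ φ₂) (hpo : IsPushout ψ₁ ψ₂ φ₁ φ₂) :
    Function.Bijective
      (fun p : ((ModuleCat.extendScalars φ₁.hom).obj (CommRingCat.KaehlerDifferential ψ₁)) ×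
          ((ModuleCat.extendScalars φ₂.hom).obj (CommRingCat.KaehlerDifferential ψ₂)) =>
        transp.{u} fac₁ p.1 + transp.{u} fac₂ p.2) := by
  letI iAB : Algebra A B := ψ₁.hom.toAlgebra
  letI iAB' : Algebra A B' := ψ₂.hom.toAlgebra
  letI iBC : Algebra B C := φ₁.hom.toAlgebra
  letI iB'C : Algebra B' C := φ₂.hom.toAlgebra
  letI iAC : Algebra A C := ψ'.hom.toAlgebra
  have t1 : IsScalarTower A B C := IsScalarTower.of_algebraMap_eq (fun a => by
    have := congr($fac₁ a)
    exact this)
  have t2 : IsScalarTower A B' C := IsScalarTower.of_algebraMap_eq (fun a => by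
    have := congr($fac₂ a)
    exact this)
  have hP : Algebra.IsPushout A B B' C := CommRingCat.isPushout_iff_isPushout.1 hpo
  have hP' : Algebra.IsPushout A B' B C := CommRingCat.isPushout_iff_isPushout.1 hpo.flip
  have hM₁ : ∀ b : B, KaehlerDifferential.mapBaseChange A B C
      ((1 : C) ⊗ₜ[B] KaehlerDifferential.D A B b) = KaehlerDifferential.D A C (φ₁.hom b) := by
    intro b
    rw [KaehlerDifferential.mapBaseChange_tmul, one_smul, KaehlerDifferential.map_D]
    rfl
  have hM₂ : ∀ b : B', KaehlerDifferential.mapBaseChange A B' C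
      ((1 : C) ⊗ₜ[B'] KaehlerDifferential.D A B' b) = KaehlerDifferential.D A C (φ₂.hom b) := by
    intro b
    rw [KaehlerDifferential.mapBaseChange_tmul, one_smul, KaehlerDifferential.map_D]
    rfl
  have h1 := transp_eq fac₁ (KaehlerDifferential.mapBaseChange A B C) hM₁
  have h2 := transp_eq fac₂ (KaehlerDifferential.mapBaseChange A B' C) hM₂
  have hiso₁ : Function.Bijective (extendScalarsIso B C Ω[B⁄A]).hom :=
    (ConcreteCategory.isIso_iff_bijective (extendScalarsIso B C Ω[B⁄A]).hom).1 inferInstance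
  have hiso₂ : Function.Bijective (extendScalarsIso B' C Ω[B'⁄A]).hom :=
    (ConcreteCategory.isIso_iff_bijective (extendScalarsIso B' C Ω[B'⁄A]).hom).1 inferInstance
  have hb := bijective_mapBaseChange_add A B B' C
  constructor
  · rintro ⟨t, t'⟩ ⟨s, s'⟩ hts
    simp only at hts
    rw [h1 t, h1 s, h2 t', h2 s'] at hts
    have := hb.1 (a₁ := ((extendScalarsIso B C Ω[B⁄A]).hom t, (extendScalarsIso B' C Ω[B'⁄A]).hom t'))
      (a₂ := ((extendScalarsIso B C Ω[B⁄A]).hom s, (extendScalarsIso B' C Ω[B'⁄A]).hom s')) hts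
    rw [Prod.mk.injEq] at this
    rw [hiso₁.1 this.1, hiso₂.1 this.2]
  · intro ω
    obtain ⟨⟨x, x'⟩, hx⟩ := hb.2 ω
    obtain ⟨t, rfl⟩ := hiso₁.2 x
    obtain ⟨t', rfl⟩ := hiso₂.2 x'
    refine ⟨(t, t'), ?_⟩
    simp only
    rw [h1 t, h2 t']
    exact hx

end Groth.Agent.Lib.QCoh.KaehlerAlg
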