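import Mathlib
import Groth.Agent.Lib.QCoh.Helper50_KaehlerAlg

/-!
# Injectivity of `C ⊗_B Ω[B/A] → Ω[C/A]` tested at a "generic" extension (helper50)

`injective_mapBaseChange_of_generic`: for `A → B → C → L` with `C → L` injective, `Ω[B/A]` flat over
`B` and `B → L` formally smooth, the map `C ⊗_B Ω[B/A] → Ω[C/A]` is injective.
`transp_injective_of_generic`: the bundled version for `KaehlerAlg.transp`.
-/

set_option autoImplicit false
universe u

open CategoryTheory TensorProduct

namespace Groth.Agent.Lib.QCoh.KaehlerAlg

section Gen

variable (A B C L : Type u) [CommRing A] [CommRing B] [CommRing C] [CommRing L]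
  [Algebra A B] [Algebra B C] [Algebra A C] [IsScalarTower A B C]
  [Algebra C L] [Algebra B L] [IsScalarTower B C L] [Algebra A L] [IsScalarTower A C L]
  [IsScalarTower A B L]

lemma map_map_generic (ω : Ω[B⁄A]) :
    KaehlerDifferential.map A A C L (KaehlerDifferential.map A A B C ω) =
      KaehlerDifferential.map A A B L ω := by
  have hω : ω ∈ Submodule.span B (Set.range (KaehlerDifferential.D A B)) := by
    rw [KaehlerDifferential.span_range_derivation]; trivial
  induction hω using Submodule.span_induction with
  | mem y hy =>
    obtain ⟨b, rfl⟩ := hy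
    rw [KaehlerDifferential.map_D, KaehlerDifferential.map_D, KaehlerDifferential.map_D,
      ← IsScalarTower.algebraMap_apply B C L b]
  | zero => rw [map_zero, map_zero, map_zero]
  | add y z _ _ hy hz => rw [map_add, map_add, map_add, hy, hz]
  | smul b y _ hy =>
    have e1 : b • KaehlerDifferential.map A A B C y =
        algebraMap B C b • KaehlerDifferential.map A A B C y := (algebraMap_smul C b _).symm
    have e2 : (algebraMap B C b) • KaehlerDifferential.map A A B L y =
        b • KaehlerDifferential.map A A B L y := by
      rw [← algebraMap_smul L (algebraMap B C b), ← algebraMap_smul L b,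
        ← IsScalarTower.algebraMap_apply B C L b]
    have s1 := (KaehlerDifferential.map A A B C).map_smul b y
    have s2 := (KaehlerDifferential.map A A B L).map_smul b y
    have s3 := (KaehlerDifferential.map A A C L).map_smul (algebraMap B C b)
      (KaehlerDifferential.map A A B C y)
    rw [s1, s2, e1, s3, hy, e2]

theorem injective_mapBaseChange_of_generic (hCL : Function.Injective (algebraMap C L))
    [Module.Flat B Ω[B⁄A]] [Algebra.FormallySmooth B L] :
    Function.Injective (KaehlerDifferential.mapBaseChange A B C) := by
  let ι : C ⊗[B] Ω[B⁄A] →ₗ[B] L ⊗[B] Ω[B⁄A] :=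
    LinearMap.rTensor Ω[B⁄A] (IsScalarTower.toAlgHom B C L).toLinearMap
  have hι : Function.Injective ι :=
    Module.Flat.rTensor_preserves_injective_linearMap _ hCL
  have hT := injective_mapBaseChange A B L
  have key : ∀ y : C ⊗[B] Ω[B⁄A], KaehlerDifferential.mapBaseChange A B L (ι y) =
      KaehlerDifferential.map A A C L (KaehlerDifferential.mapBaseChange A B C y) := by
    intro y
    induction y using TensorProduct.induction_on with
    | zero => rw [map_zero, map_zero, map_zero, map_zero]
    | add y z hy hz => rw [map_add, map_add, map_add, map_add, hy, hz]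
    | tmul c ω =>
      have h1 : ι (c ⊗ₜ[B] ω) = (algebraMap C L c) ⊗ₜ[B] ω := rfl
      rw [h1, KaehlerDifferential.mapBaseChange_tmul, KaehlerDifferential.mapBaseChange_tmul,
        map_smul, map_map_generic,
        ← algebraMap_smul L c (KaehlerDifferential.map A A B L ω)]
  rw [injective_iff_map_eq_zero]
  intro x hx
  apply hι
  rw [map_zero]
  apply hT
  rw [map_zero, key, hx, map_zero]

end Gen

/-- bundled version: the transposed map is injective when it is so "generically" -/
theorem transp_injective_of_generic {A B C : CommRingCat.{u}} {ψ : A ⟶ B} {ψ' : A ⟶ C}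
    {φ : B ⟶ C} (fac : 𝟙 A ≫ ψ' = ψ ≫ φ) (L : Type u) [CommRing L] (ev : C →+* L)
    (hev : Function.Injective ev)
    (hflat : letI := ψ.hom.toAlgebra; Module.Flat B Ω[B⁄A])
    (hsm : (ev.comp φ.hom).FormallySmooth) :
    Function.Injective (transp.{u} fac) := by
  letI := ψ.hom.toAlgebra
  letI := ψ'.hom.toAlgebra
  letI := φ.hom.toAlgebra
  letI : Algebra C L := ev.toAlgebra
  letI : Algebra B L := (ev.comp φ.hom).toAlgebra
  letI : Algebra A L := ((ev.comp φ.hom).comp ψ.hom).toAlgebra
  have : IsScalarTower A B C := IsScalarTower.of_algebraMap_eq (fun a => by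
    have := congr($fac a)
    exact this)
  have : IsScalarTower B C L := IsScalarTower.of_algebraMap_eq (fun b => rfl)
  have : IsScalarTower A B L := IsScalarTower.of_algebraMap_eq (fun a => rfl)
  have : IsScalarTower A C L := IsScalarTower.of_algebraMap_eq (fun a => by
    have := congr($fac a)
    show ev (φ.hom (ψ.hom a)) = ev (ψ'.hom a)
    exact congrArg ev this.symm)
  have : Module.Flat B Ω[B⁄A] := hflat
  have : Algebra.FormallySmooth B L := hsm
  have hM : ∀ b : B, KaehlerDifferential.mapBaseChange A B C
      ((1 : C) ⊗ₜ[B] KaehlerDifferential.D A B b) = KaehlerDifferential.D A C (φ.hom b) := by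
    intro b
    rw [KaehlerDifferential.mapBaseChange_tmul, one_smul, KaehlerDifferential.map_D]
    rfl
  have h1 := transp_eq fac (KaehlerDifferential.mapBaseChange A B C) hM
  have hinj := injective_mapBaseChange_of_generic A B C L hev
  have hiso : Function.Injective (extendScalarsIso B C Ω[B⁄A]).hom :=
    ((ConcreteCategory.isIso_iff_bijective (extendScalarsIso B C Ω[B⁄A]).hom).1 inferInstance).1
  intro t t' htt'
  rw [h1 t, h1 t'] at htt'
  exact hiso (hinj htt')

end Groth.Agent.Lib.QCoh.KaehlerAlg
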