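import Groth.Prelude.Def_RelSpec

/-!
# Morphisms of sheaves of modules from data on a basis of opens (helper50; after helper42's ModAff)

A family of additive maps `Γ(E, B i) → Γ(N, B i)` over a basis `B` of opens of a scheme, compatible
with restrictions and linear over the functions, extends uniquely to a morphism of sheaves of
modules `E ⟶ N`.
-/

set_option autoImplicit false

universe u

namespace Groth.Agent.Lib.QCoh.ModBasis

open CategoryTheory CategoryTheory.Limits AlgebraicGeometry TopologicalSpace Opposite

variable {S : Scheme.{u}} {ι : Type u} (B : ι → S.Opens) (hB : Opens.IsBasis (Set.range B))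

include hB in
/-- sections of a sheaf of modules are determined by their restrictions to the basis. -/
theorem section_ext (N : S.Modules) {W : S.Opens} (s t : Γ(N, W))
    (h : ∀ (i : ι) (hUW : B i ≤ W),
      N.presheaf.map (homOfLE hUW).op s = N.presheaf.map (homOfLE hUW).op t) : s = t := by
  let κ := {i : ι // B i ≤ W}
  refine TopCat.Sheaf.eq_of_locally_eq' (⟨N.presheaf, N.isSheaf⟩ : TopCat.Sheaf Ab S.carrier)
    (fun i : κ => B i.1) W (fun i => homOfLE i.2) ?_ s t (fun i => h i.1 i.2)
  intro x hx
  obtain ⟨_, ⟨_, ⟨i, rfl⟩, rfl⟩, hxU, hUW⟩ := hB.exists_subset_of_mem_open hx W.2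
  exact TopologicalSpace.Opens.mem_iSup.mpr ⟨⟨i, hUW⟩, hxU⟩

include hB in
/-- morphisms of sheaves of modules are determined by their values over the basis. -/
theorem hom_ext_basis {E N : S.Modules} {φ₁ φ₂ : E ⟶ N}
    (h : ∀ (i : ι) (x : Γ(E, B i)), φ₁.app (B i) x = φ₂.app (B i) x) :
    φ₁ = φ₂ := by
  refine Scheme.Modules.hom_ext _ _ (fun W => ?_)
  ext x
  refine section_ext B hB N _ _ (fun i hUW => ?_)
  have n1 := congrArg (fun f => f x) (φ₁.mapPresheaf.naturality (homOfLE hUW).op)
  have n2 := congrArg (fun f => f x) (φ₂.mapPresheaf.naturality (homOfLE hUW).op)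
  change N.presheaf.map (homOfLE hUW).op (φ₁.app W x) = N.presheaf.map (homOfLE hUW).op (φ₂.app W x)
  change φ₁.app (B i) (E.presheaf.map (homOfLE hUW).op x) =
    N.presheaf.map (homOfLE hUW).op (φ₁.app W x) at n1
  change φ₂.app (B i) (E.presheaf.map (homOfLE hUW).op x) =
    N.presheaf.map (homOfLE hUW).op (φ₂.app W x) at n2
  rw [← n1, ← n2, h i]

/-- a family of additive maps over the basis, compatible with restrictions and linear over the
functions. -/
structure BasisData (E N : S.Modules) where
  /-- the maps over the basis -/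
  f : ∀ i : ι, Γ(E, B i) →+ Γ(N, B i)
  nat : ∀ (i j : ι) (h : B j ≤ B i) (x : Γ(E, B i)),
    N.presheaf.map (homOfLE h).op (f i x) = f j (E.presheaf.map (homOfLE h).op x)
  lin : ∀ (i : ι) (r : Γ(S, B i)) (x : Γ(E, B i)), f i (r • x) = r • f i x

variable {B} {E N : S.Modules} (d : BasisData B E N)

/-- the family as a natural transformation on the basis. -/
noncomputable def BasisData.nt :
    (inducedFunctor B).op ⋙ E.presheaf ⟶ (inducedFunctor B).op ⋙ N.presheaf where
  app i := AddCommGrpCat.ofHom (d.f i.unop)
  naturality i j g := by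
    ext x
    have h : B j.unop ≤ B i.unop := leOfHom g.unop.hom
    have hg : g.unop.hom = homOfLE h := Subsingleton.elim _ _
    change d.f j.unop (E.presheaf.map (g.unop.hom).op x) =
      N.presheaf.map (g.unop.hom).op (d.f i.unop x)
    rw [hg]
    exact (d.nat _ _ h x).symm

/-- the underlying morphism of abelian presheaves. -/
noncomputable def BasisData.pre : E.presheaf ⟶ N.presheaf :=
  TopCat.Sheaf.restrictHomEquivHom E.presheaf
    (⟨N.presheaf, N.isSheaf⟩ : TopCat.Sheaf Ab S.carrier) hB d.nt

theorem BasisData.pre_app (i : ι) (x : Γ(E, B i)) :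
    (d.pre hB).app (op (B i)) x = d.f i x := by
  have h := TopCat.Sheaf.extend_hom_app E.presheaf
    (⟨N.presheaf, N.isSheaf⟩ : TopCat.Sheaf Ab S.carrier) hB d.nt i
  exact congrArg (fun f => f x) h

theorem BasisData.pre_lin (W : S.Opens) (r : Γ(S, W)) (x : Γ(E, W)) :
    (d.pre hB).app (op W) (r • x) = r • (d.pre hB).app (op W) x := by
  refine section_ext B hB N _ _ (fun i hUW => ?_)
  have n1 := congrArg (fun f => f (r • x)) ((d.pre hB).naturality (homOfLE hUW).op)
  have n2 := congrArg (fun f => f x) ((d.pre hB).naturality (homOfLE hUW).op)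
  change (d.pre hB).app (op (B i)) (E.presheaf.map (homOfLE hUW).op (r • x)) =
    N.presheaf.map (homOfLE hUW).op ((d.pre hB).app (op W) (r • x)) at n1
  change (d.pre hB).app (op (B i)) (E.presheaf.map (homOfLE hUW).op x) =
    N.presheaf.map (homOfLE hUW).op ((d.pre hB).app (op W) x) at n2
  rw [← n1, Scheme.Modules.map_smul, Scheme.Modules.map_smul, ← n2, d.pre_app hB i,
    d.pre_app hB i, d.lin]

/-- the morphism of sheaves of modules with the given values over the basis. -/
noncomputable def BasisData.hom : E ⟶ N :=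
  ⟨PresheafOfModules.homMk (d.pre hB) (fun W r x => d.pre_lin hB W.unop r x)⟩

theorem BasisData.hom_app (i : ι) (x : Γ(E, B i)) :
    (d.hom hB).app (B i) x = d.f i x :=
  d.pre_app hB i x

end Groth.Agent.Lib.QCoh.ModBasis
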