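import Groth.Agent.Lib.QCoh.OmegaAlg

/-!
# OmAff algebra (helper50): `A' ⊗_C ker(C → A') ≃ Ω[A⁄R]` sending `1 ⊗ (1⊗a − a⊗1)` to `D a`

* `exists_addEquiv_kaehler_D` : lead's `OmegaAlg.exists_addEquiv_kaehler` with the extra explicit value.
* `bijective_of_kaehler` : a semilinear map `T : Ω[A⁄R] → N` with `T (D a) = κ (1 ⊗ m_a)` is bijective.
-/

universe u
open TensorProduct

namespace Groth.Agent.Lib.QCoh.OmAffAlg

open Groth.Agent.Lib.QCoh.OmegaAlg

section main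

variable {R A : Type u} [CommRing R] [CommRing A] [Algebra R A]
  {C A' : Type u} [CommRing C] [CommRing A']
  (β : A ⊗[R] A ≃+* C) (δ : C →+* A') (γ : A →+* A')
  (h1 : ∀ a, δ (β (a ⊗ₜ 1)) = γ a)
  (h2 : ∀ x, δ (β x) = 0 ↔ Algebra.TensorProduct.lmul' (S := A) R x = 0)
  (hδ : Function.Surjective δ)

include h2 in
lemma mem_ker (a : A) : β (1 ⊗ₜ a - a ⊗ₜ 1) ∈ RingHom.ker δ := by
  rw [RingHom.mem_ker, h2]; simp

lemma tensorKerEquivCotangent_one_tmul (i : RingHom.ker δ) :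
    letI : Algebra C A' := δ.toAlgebra
    tensorKerEquivCotangent δ hδ ((1 : A') ⊗ₜ i) = (RingHom.ker δ).toCotangent i := by
  letI : Algebra C A' := δ.toAlgebra
  have hq : ((Ideal.quotientKerAlgEquivOfSurjective (f := Algebra.ofId C A') hδ).toLinearEquiv.symm
      (1 : A')) = Ideal.Quotient.mk (RingHom.ker δ) 1 := by
    apply (Ideal.quotientKerAlgEquivOfSurjective (f := Algebra.ofId C A') hδ).toLinearEquiv.injective
    rw [LinearEquiv.apply_symm_apply]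
    exact (map_one (Ideal.quotientKerAlgEquivOfSurjective (f := Algebra.ofId C A') hδ)).symm
  change (quotTensorEquivQuotSMul (↥(RingHom.ker δ)) (RingHom.ker δ))
      ((Ideal.quotientKerAlgEquivOfSurjective (f := Algebra.ofId C A') hδ).toLinearEquiv.symm 1 ⊗ₜ[C] i) = _
  rw [hq, quotTensorEquivQuotSMul_mk_tmul, one_smul]
  rfl

include h1 h2 hδ in
/-- lead's `exists_addEquiv_kaehler`, with the value on `1 ⊗ (1⊗a − a⊗1)` recorded. -/
theorem exists_addEquiv_kaehler_D :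
    letI : Algebra C A' := δ.toAlgebra
    ∃ E : A' ⊗[C] (RingHom.ker δ) ≃+ Ω[A⁄R], (∀ (a : A) z, E (γ a • z) = a • E z) ∧
      ∀ a : A, E ((1 : A') ⊗ₜ (⟨β (1 ⊗ₜ a - a ⊗ₜ 1), mem_ker β δ h2 a⟩ : RingHom.ker δ)) =
        KaehlerDifferential.D R A a := by
  letI : Algebra C A' := δ.toAlgebra
  letI : Algebra (A ⊗[R] A) C := β.toRingHom.toAlgebra
  have hKI : ∀ x, β x ∈ RingHom.ker δ ↔ x ∈ KaehlerDifferential.ideal R A := fun x => by
    rw [RingHom.mem_ker, h2 x]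
    exact Iff.rfl
  let E1 := tensorKerEquivCotangent δ hδ
  let E2 := cotangentEquivOfRingEquiv β (KaehlerDifferential.ideal R A) (RingHom.ker δ) hKI
  refine ⟨E1.toAddEquiv.trans E2.symm.toAddEquiv, fun a z => ?_, fun a => ?_⟩
  · have e1 : γ a • z = (β (a ⊗ₜ 1)) • z := by
      rw [← h1 a]
      exact (algebraMap_smul A' (β (a ⊗ₜ[R] (1 : A))) z)
    have e2 : ∀ (t : A ⊗[R] A) (w : (RingHom.ker δ).Cotangent), E2.symm (β t • w) = t • E2.symm w := by
      intro t w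
      have : β t • w = t • w := (algebraMap_smul C t w)
      rw [this, map_smul]
    change E2.symm (E1 (γ a • z)) = a • E2.symm (E1 z)
    rw [e1, map_smul, e2]
    have e3 : ∀ ω : Ω[A⁄R], (a ⊗ₜ[R] (1 : A)) • ω = a • ω := by
      intro ω
      have : (a ⊗ₜ[R] (1 : A) : A ⊗[R] A) = a • (1 : A ⊗[R] A) := by
        rw [Algebra.TensorProduct.one_def, TensorProduct.smul_tmul', smul_eq_mul, mul_one]
      rw [this, smul_assoc, one_smul]
    exact e3 _
  · change E2.symm (E1 ((1 : A') ⊗ₜ (⟨β (1 ⊗ₜ a - a ⊗ₜ 1), mem_ker β δ h2 a⟩ : RingHom.ker δ))) = _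
    rw [show E1 ((1 : A') ⊗ₜ (⟨β (1 ⊗ₜ a - a ⊗ₜ 1), mem_ker β δ h2 a⟩ : RingHom.ker δ)) =
      (RingHom.ker δ).toCotangent ⟨β (1 ⊗ₜ a - a ⊗ₜ 1), mem_ker β δ h2 a⟩ from
      tensorKerEquivCotangent_one_tmul δ hδ _]
    rw [KaehlerDifferential.D_apply]
    apply E2.injective
    rw [LinearEquiv.apply_symm_apply]
    change _ = (Ideal.mapCotangent _ _ _ _) _
    rw [Ideal.mapCotangent_toCotangent]
    rfl

include h1 h2 hδ in
/-- A `γ`-semilinear map out of `Ω[A⁄R]` whose value on `D a` is `κ (1 ⊗ m_a)`, where `κ` is an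
isomorphism out of `A' ⊗_C M`, `M ≅ ker δ` through `j`, and `j m_a = β (1⊗a − a⊗1)`, is bijective. -/
theorem bijective_of_kaehler {M N : Type u} [AddCommGroup M] [Module C M] [AddCommGroup N]
    [Module A' N] (j : M →ₗ[C] C) (hj : Function.Injective j)
    (hjk : ∀ m, δ (j m) = 0) (hjr : ∀ c, δ c = 0 → ∃ m, j m = c)
    (κ : letI : Algebra C A' := δ.toAlgebra; A' ⊗[C] M ≃ₗ[A'] N)
    (T : Ω[A⁄R] →ₛₗ[γ] N)
    (hT : letI : Algebra C A' := δ.toAlgebra; ∀ (a : A) (m : M), j m = β (1 ⊗ₜ a - a ⊗ₜ 1) →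
      T (KaehlerDifferential.D R A a) = κ ((1 : A') ⊗ₜ m)) :
    Function.Bijective T := by
  letI : Algebra C A' := δ.toAlgebra
  obtain ⟨E, hE1, hE2⟩ := exists_addEquiv_kaehler_D β δ γ h1 h2 hδ
  let g : M ≃ₗ[C] RingHom.ker δ :=
    LinearEquiv.ofBijective (j.codRestrict (RingHom.ker δ) hjk)
      ⟨fun a b hab => hj (congrArg Subtype.val hab), fun ⟨c, hc⟩ => by
        obtain ⟨m, hm⟩ := hjr c hc
        exact ⟨m, Subtype.ext hm⟩⟩
  let κ₂ : A' ⊗[C] (RingHom.ker δ) ≃ₗ[A'] N :=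
    (TensorProduct.AlgebraTensorModule.congr (LinearEquiv.refl A' A') g.symm) ≪≫ₗ κ
  let S : Ω[A⁄R] →ₗ[A] Ω[A⁄R] :=
    { toFun := fun ω => E (κ₂.symm (T ω))
      map_add' := fun x y => by rw [map_add, map_add, map_add]
      map_smul' := fun a x => by
        rw [LinearMap.map_smulₛₗ, LinearEquiv.map_smul, hE1]
        rfl }
  have hS : S = LinearMap.id := by
    apply LinearMap.ext_on_range (KaehlerDifferential.span_range_derivation R A)
    intro a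
    change E (κ₂.symm (T (KaehlerDifferential.D R A a))) = KaehlerDifferential.D R A a
    have hm : j (g.symm ⟨β (1 ⊗ₜ a - a ⊗ₜ 1), mem_ker β δ h2 a⟩) = β (1 ⊗ₜ a - a ⊗ₜ 1) := by
      have := g.apply_symm_apply ⟨β (1 ⊗ₜ a - a ⊗ₜ 1), mem_ker β δ h2 a⟩
      exact congrArg Subtype.val this
    rw [hT a _ hm]
    have : κ ((1 : A') ⊗ₜ (g.symm ⟨β (1 ⊗ₜ a - a ⊗ₜ 1), mem_ker β δ h2 a⟩)) =
        κ₂ ((1 : A') ⊗ₜ (⟨β (1 ⊗ₜ a - a ⊗ₜ 1), mem_ker β δ h2 a⟩ : RingHom.ker δ)) := rfl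
    rw [this, LinearEquiv.symm_apply_apply, hE2]
  have hTE : ∀ ω, T ω = κ₂ (E.symm ω) := by
    intro ω
    have := congrArg (fun F : Ω[A⁄R] →ₗ[A] Ω[A⁄R] => F ω) hS
    change E (κ₂.symm (T ω)) = ω at this
    apply κ₂.symm.injective
    apply E.injective
    rw [LinearEquiv.symm_apply_apply, AddEquiv.apply_symm_apply]
    exact this
  constructor
  · intro x y hxy
    rw [hTE, hTE] at hxy
    exact E.symm.injective (κ₂.injective hxy)
  · intro n
    refine ⟨E (κ₂.symm n), ?_⟩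
    rw [hTE, AddEquiv.symm_apply_apply, LinearEquiv.apply_symm_apply]

end main

end Groth.Agent.Lib.QCoh.OmAffAlg
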