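import Groth.Agent.Lib.QCoh.OmegaS3
import Groth.Agent.Lib.QCoh.Helper50_AffineDict
import Groth.Agent.Lib.QCoh.Helper50_OmAffAlg
import Groth.Prelude.Def_OmAff

/-!
# OmAff (helper50): sections of `Omega.sheaf f` over an affine open are Kähler differentials,
compatibly with `OmegaSh.dSect`

* `jLin f W` : sections of the diagonal ideal module over `W`, as functions on `W`.
* `bijective_of_beta` : given a presentation `β : A ⊗[R] A ≃+* Γ(X ×_Y X, diagNbhd f U)` compatible
  with the two projections, any semilinear `T : Ω[A⁄R] → Γ(Ω_{X/Y}, U)` with `T (D a) = dSect (γ a)`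
  is bijective.
-/

universe u
open CategoryTheory CategoryTheory.Limits AlgebraicGeometry Opposite TopologicalSpace TensorProduct

namespace Groth.Agent.Lib.QCoh.OmAffG

open Scheme.Modules Groth.Agent.Lib.QCoh

variable {X Y : Scheme.{u}} (f : X ⟶ Y)

/-- the kernel-ideal module of the diagonal -/
noncomputable abbrev IMod : (pullback f f).Modules := ClSub.idealMod (pullback.diagonal f).ker

/-- sections of the diagonal ideal over `W`, as functions on `W` -/
noncomputable def jLin (W : (pullback f f).Opens) :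
    Γ(IMod f, W) →ₗ[Γ(pullback f f, W)] Γ(pullback f f, W) :=
  (Submodule.subtype _) ∘ₗ (idealModΓEquiv (pullback.diagonal f).ker W).toLinearMap

lemma jLin_injective (W : (pullback f f).Opens) : Function.Injective (jLin f W) := by
  intro a b hab
  exact (idealModΓEquiv (pullback.diagonal f).ker W).injective (Subtype.ext hab)

lemma jLin_apply (W : (pullback f f).Opens) (m : Γ(IMod f, W)) :
    jLin f W m = OmegaSh.fnSect _ W ((ClSub.idealModι (pullback.diagonal f).ker).app W m) := rfl

variable [QuasiSeparated f]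

lemma jLin_idealLift (U : X.Opens) (s : Γ(X, U)) :
    jLin f (OmegaSh.diagNbhd f U) (OmegaSh.idealLift f U s) = OmegaSh.diagDiff f U s := by
  rw [jLin_apply, OmegaSh.ι_idealLift]
  rfl

lemma ker_subschemeι_eq {W : (pullback f f).Opens} (hW : IsAffineOpen W) :
    RingHom.ker ((pullback.diagonal f).ker.subschemeι.app W).hom =
      RingHom.ker ((pullback.diagonal f).app W).hom := by
  have h1 := Scheme.IdealSheafData.ker_subschemeι_app (pullback.diagonal f).ker ⟨W, hW⟩
  have h2 := Scheme.Hom.ker_apply (pullback.diagonal f) ⟨W, hW⟩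
  exact h1.trans h2

lemma app_jLin {W : (pullback f f).Opens} (hW : IsAffineOpen W) (m : Γ(IMod f, W)) :
    (pullback.diagonal f).app W (jLin f W m) = 0 := by
  have h : jLin f W m ∈ RingHom.ker ((pullback.diagonal f).ker.subschemeι.app W).hom :=
    (idealModΓEquiv (pullback.diagonal f).ker W m).2
  rw [ker_subschemeι_eq f hW] at h
  exact h

lemma exists_jLin {W : (pullback f f).Opens} (hW : IsAffineOpen W) (c : Γ(pullback f f, W))
    (hc : (pullback.diagonal f).app W c = 0) : ∃ m, jLin f W m = c := by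
  have h : c ∈ RingHom.ker ((pullback.diagonal f).ker.subschemeι.app W).hom := by
    rw [ker_subschemeι_eq f hW]
    exact hc
  refine ⟨(idealModΓEquiv (pullback.diagonal f).ker W).symm ⟨c, h⟩, ?_⟩
  change ((idealModΓEquiv (pullback.diagonal f).ker W)
    ((idealModΓEquiv (pullback.diagonal f).ker W).symm ⟨c, h⟩)).1 = c
  rw [LinearEquiv.apply_symm_apply]

section main

variable (U : X.Opens)

/-- the diagonal on sections: `Γ(X ×_Y X, diagNbhd U) → Γ(X, U)` -/
noncomputable abbrev deltaHom : Γ(pullback f f, OmegaSh.diagNbhd f U) →+* Γ(X, U) :=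
  ((pullback.diagonal f).appLE (OmegaSh.diagNbhd f U) U (OmegaSh.le_preimage_diagNbhd f U)).hom

omit [QuasiSeparated f] in
lemma deltaHom_fst (a : Γ(X, U)) :
    deltaHom f U ((pullback.fst f f).appLE U (OmegaSh.diagNbhd f U) inf_le_left a) = a :=
  OmegaSh.res_diagonal_app_appLE f _ (pullback.diagonal_fst f) U inf_le_left a

omit [QuasiSeparated f] in
lemma deltaHom_snd (a : Γ(X, U)) :
    deltaHom f U ((pullback.snd f f).appLE U (OmegaSh.diagNbhd f U) inf_le_right a) = a :=
  OmegaSh.res_diagonal_app_appLE f _ (pullback.diagonal_snd f) U inf_le_right a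

omit [QuasiSeparated f] in
lemma deltaHom_eq_zero_iff (c : Γ(pullback f f, OmegaSh.diagNbhd f U)) :
    deltaHom f U c = 0 ↔ (pullback.diagonal f).app (OmegaSh.diagNbhd f U) c = 0 := by
  constructor
  · intro h
    have h' : X.presheaf.map (homOfLE (OmegaSh.le_preimage_diagNbhd f U)).op
        ((pullback.diagonal f).app (OmegaSh.diagNbhd f U) c) = 0 := h
    have h2 := congrArg (X.presheaf.map
      (homOfLE (OmegaSh.diagonal_preimage_le f (le_refl (OmegaSh.diagNbhd f U)))).op) h'
    rw [OmegaSh.res_res, OmegaSh.res_refl, map_zero] at h2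
    exact h2
  · intro h
    change X.presheaf.map (homOfLE (OmegaSh.le_preimage_diagNbhd f U)).op
        ((pullback.diagonal f).app (OmegaSh.diagNbhd f U) c) = 0
    rw [h, map_zero]

omit [QuasiSeparated f] in
lemma dSect_eq_pullbackSectionsMap [QuasiSeparated f] (s : Γ(X, U)) :
    OmegaSh.dSect f U s =
      pullbackSectionsMap (pullback.diagonal f) (OmegaSh.le_preimage_diagNbhd f U) (IMod f)
        (OmegaSh.idealLift f U s) := rfl

set_option maxHeartbeats 800000 in
/-- **Main comparison.** Given a presentation `β` of the functions on `diagNbhd f U` as `A ⊗[R] A`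
compatible with the two projections (through `γ : A ≃ Γ(X, U)`), a `γ`-semilinear map
`T : Ω[A⁄R] → Γ(Ω_{X/Y}, U)` with `T (D a) = d_{X/Y} (γ a)` is bijective. -/
theorem bijective_of_beta (hU : IsAffineOpen U) (hW : IsAffineOpen (OmegaSh.diagNbhd f U))
    {R A : Type u} [CommRing R] [CommRing A] [Algebra R A]
    (β : A ⊗[R] A ≃+* Γ(pullback f f, OmegaSh.diagNbhd f U)) (γ : A →+* Γ(X, U))
    (hγ : Function.Bijective γ)
    (hβ1 : ∀ a, β (a ⊗ₜ 1) =
      (pullback.fst f f).appLE U (OmegaSh.diagNbhd f U) inf_le_left (γ a))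
    (hβ2 : ∀ a, β (1 ⊗ₜ a) =
      (pullback.snd f f).appLE U (OmegaSh.diagNbhd f U) inf_le_right (γ a))
    (T : Ω[A⁄R] →ₛₗ[γ] Γ(Omega.sheaf f, U))
    (hT : ∀ a, T (KaehlerDifferential.D R A a) = OmegaSh.dSect f U (γ a)) :
    Function.Bijective T := by
  have hδβ : ∀ x, deltaHom f U (β x) = γ (Algebra.TensorProduct.lmul' (S := A) R x) := by
    intro x
    induction x using TensorProduct.induction_on with
    | zero => simp
    | tmul a b =>
      have h : a ⊗ₜ[R] b = (a ⊗ₜ[R] (1 : A)) * ((1 : A) ⊗ₜ[R] b) := by simp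
      rw [h, map_mul, map_mul, hβ1, hβ2, deltaHom_fst, deltaHom_snd, map_mul]
      simp
    | add x y hx hy => rw [map_add, map_add, hx, hy, map_add, map_add]
  obtain ⟨κ, -, hκ, -, -⟩ := exists_linearEquiv_pullback_map (pullback.diagonal f)
    (OmegaSh.le_preimage_diagNbhd f U) hW hU (𝟙 (IMod f))
  refine OmAffAlg.bijective_of_kaehler β (deltaHom f U) γ ?_ ?_ ?_ (jLin f _) (jLin_injective f _)
    ?_ ?_ κ T ?_
  · intro a
    rw [hδβ]; simp
  · intro x
    rw [hδβ]
    constructor
    · intro h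
      exact hγ.1 (h.trans (map_zero γ).symm)
    · intro h
      rw [h, map_zero]
  · intro y
    obtain ⟨a, rfl⟩ := hγ.2 y
    exact ⟨β (a ⊗ₜ 1), by rw [hδβ]; simp⟩
  · intro m
    rw [deltaHom_eq_zero_iff]
    exact app_jLin f hW m
  · intro c hc
    rw [deltaHom_eq_zero_iff] at hc
    exact exists_jLin f hW c hc
  · intro a m hm
    have hm' : m = OmegaSh.idealLift f U (γ a) := by
      apply jLin_injective f
      rw [hm, jLin_idealLift, map_sub, hβ1, hβ2]
      rfl
    subst hm'
    exact (hT a).trans ((dSect_eq_pullbackSectionsMap f U (γ a)).trans (hκ _).symm)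

end main

end Groth.Agent.Lib.QCoh.OmAffG

namespace Groth.Agent.Lib.QCoh.OmAffSpec

open Scheme.Modules Groth.Agent.Lib.QCoh

variable (A B : Type u) [CommRing A] [CommRing B] [Algebra A B]

lemma diagNbhd_top : OmegaSh.diagNbhd (fSpec A B) ⊤ = ⊤ := by
  simp [OmegaSh.diagNbhd]

lemma isAffineOpen_diagNbhd_top : IsAffineOpen (OmegaSh.diagNbhd (fSpec A B) ⊤) := by
  rw [diagNbhd_top]
  exact isAffineOpen_top _

lemma res_bijective {P : Scheme.{u}} (W : P.Opens) (h : W = ⊤) :
    Function.Bijective (P.presheaf.map (homOfLE (le_top : W ≤ ⊤)).op) := by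
  subst h
  have : (homOfLE (le_top : (⊤ : P.Opens) ≤ ⊤)) = 𝟙 _ := rfl
  rw [this, op_id, P.presheaf.map_id]
  exact Function.bijective_id

lemma betaIso_left :
    CommRingCat.ofHom (Algebra.TensorProduct.includeLeftRingHom : B →+* B ⊗[A] B) ≫
      (betaIso A B).hom =
    (Scheme.ΓSpecIso (CommRingCat.of B)).inv ≫
      (pullback.fst (fSpec A B) (fSpec A B)).appTop := by
  change _ ≫ ((Scheme.ΓSpecIso (CommRingCat.of (B ⊗[A] B))).inv ≫
    (pullbackSpecIso A B B).hom.appTop) = _
  rw [← Category.assoc, Scheme.ΓSpecIso_inv_naturality, Category.assoc, ← Scheme.Hom.comp_appTop,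
    pullbackSpecIso_hom_fst]

lemma betaIso_right :
    CommRingCat.ofHom (R := CommRingCat.of B) (S := CommRingCat.of (B ⊗[A] B))
        (RingHomClass.toRingHom (Algebra.TensorProduct.includeRight : B →ₐ[A] B ⊗[A] B)) ≫
      (betaIso A B).hom =
    (Scheme.ΓSpecIso (CommRingCat.of B)).inv ≫
      (pullback.snd (fSpec A B) (fSpec A B)).appTop := by
  change _ ≫ ((Scheme.ΓSpecIso (CommRingCat.of (B ⊗[A] B))).inv ≫
    (pullbackSpecIso A B B).hom.appTop) = _
  rw [← Category.assoc, Scheme.ΓSpecIso_inv_naturality, Category.assoc, ← Scheme.Hom.comp_appTop,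
    pullbackSpecIso_hom_snd]

lemma beta_left (b : B) :
    beta A B (b ⊗ₜ 1) = (pullback.fst (fSpec A B) (fSpec A B)).appTop (OmAff.toΓ B b) :=
  congr($(betaIso_left A B) b)

lemma beta_right (b : B) :
    beta A B (1 ⊗ₜ b) = (pullback.snd (fSpec A B) (fSpec A B)).appTop (OmAff.toΓ B b) :=
  congr($(betaIso_right A B) b)

/-- `B ⊗[A] B ≃ Γ(Spec B ×_{Spec A} Spec B, diagNbhd ⊤)` -/
noncomputable def betaW :
    B ⊗[A] B ≃+* Γ(PP A B, OmegaSh.diagNbhd (fSpec A B) ⊤) :=
  (beta A B).trans (RingEquiv.ofBijective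
    ((PP A B).presheaf.map (homOfLE (le_top : OmegaSh.diagNbhd (fSpec A B) ⊤ ≤ ⊤)).op).hom
    (res_bijective _ (diagNbhd_top A B)))

lemma toΓ_bijective : Function.Bijective (OmAff.toΓ B) :=
  ConcreteCategory.bijective_of_isIso (Scheme.ΓSpecIso (CommRingCat.of B)).inv

/-- **S15742**: the comparison map `Ω[B⁄A] → Γ(Spec B, Ω_{Spec B/Spec A})` is bijective. -/
theorem bijective_toSpec : Function.Bijective (OmAff.toSpec A B) := by
  refine OmAffG.bijective_of_beta (fSpec A B) ⊤ (isAffineOpen_top _) (isAffineOpen_diagNbhd_top A B)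
    (betaW A B) (OmAff.toΓ B) (toΓ_bijective B) ?_ ?_ (OmAff.toSpec A B) (OmAff.toSpec_D A B)
  · intro b
    change (PP A B).presheaf.map _ (beta A B (b ⊗ₜ 1)) = _
    rw [beta_left]
    rfl
  · intro b
    change (PP A B).presheaf.map _ (beta A B (1 ⊗ₜ b)) = _
    rw [beta_right]
    rfl

end Groth.Agent.Lib.QCoh.OmAffSpec
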