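import Groth.Agent.Lib.QCoh.Helper50_OmegaFT
import Groth.Agent.Lib.Helper61.QCohPullbackSections
import Mathlib.AlgebraicGeometry.Morphisms.Flat
import Mathlib.RingTheory.Kaehler.TensorProduct

/-!
# Base change of `Omega.sheaf` on affine charts (helper50)

For `f : X ⟶ S` quasi-separated, `g : S' ⟶ S`, affine opens `U ≤ f⁻¹ V`, `V' ≤ g⁻¹ V`, and
`W = pr₁⁻¹ U ⊓ pr₂⁻¹ V'` in `X ×_S S'`: `W` is affine and
`Γ(pr₁^* Ω_{X/S}, W) ≃ₗ Γ(Ω_{X'/S'}, W)`.
-/

universe u
open CategoryTheory CategoryTheory.Limits AlgebraicGeometry Opposite TopologicalSpace TensorProduct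

namespace Groth.Agent.Lib.QCoh.OmegaBC

open Scheme.Modules Groth.Agent.Lib.QCoh Groth.Agent.Lib.Helper61.QCohPullback

variable {X S S' : Scheme.{u}} (f : X ⟶ S) (g : S' ⟶ S)
  {U : X.Opens} {V : S.Opens} {V' : S'.Opens}
  (hU : IsAffineOpen U) (hV : IsAffineOpen V) (hV' : IsAffineOpen V')
  (hUV : U ≤ f ⁻¹ᵁ V) (hV'V : V' ≤ g ⁻¹ᵁ V)

/-- the chart `pr₁⁻¹ U ⊓ pr₂⁻¹ V'` -/
noncomputable abbrev chart (U : X.Opens) (V' : S'.Opens) : (pullback f g).Opens :=
  pullback.fst f g ⁻¹ᵁ U ⊓ pullback.snd f g ⁻¹ᵁ V'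

include hU hV hV' hUV hV'V in
lemma isAffineOpen_chart : IsAffineOpen (chart f g U V') := by
  have : IsAffine V := hV
  have : IsAffine V' := hV'
  have : IsAffine U := hU
  exact .of_isIso (Scheme.Hom.isPullback_resLE (IsPullback.of_hasPullback f g) hV'V hUV
    rfl).isoPullback.hom

include hU hV hV' in
lemma isPushout_chart :
    IsPushout (f.appLE V U hUV) (g.appLE V V' hV'V)
      ((pullback.fst f g).appLE U (chart f g U V') inf_le_left)
      ((pullback.snd f g).appLE V' (chart f g U V') inf_le_right) := by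
  have h := isIso_pushoutSection_of_isAffineOpen (IsPullback.of_hasPullback f g) hV'V hUV
    (UY := chart f g U V') rfl hV hV' hU
  exact (isIso_pushoutSection_iff (IsPullback.of_hasPullback f g) hV'V hUV rfl).1 h

variable [QuasiSeparated f]

set_option maxHeartbeats 1600000 in
include hU hV hV' hUV hV'V in
/-- On the chart `W = pr₁⁻¹ U ⊓ pr₂⁻¹ V'`: `Γ(pr₁^* Ω_{X/S}, W) ≃ₗ Γ(Ω_{X'/S'}, W)`. -/
theorem nonempty_linearEquiv_chart :
    Nonempty (Γ((Scheme.Modules.pullback (pullback.fst f g)).obj (Omega.sheaf f), chart f g U V')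
      ≃ₗ[Γ(pullback f g, chart f g U V')]
      Γ(Omega.sheaf (pullback.snd f g), chart f g U V')) := by
  have hW := isAffineOpen_chart f g hU hV hV' hUV hV'V
  letI iAB : Algebra Γ(S, V) Γ(X, U) := (f.appLE V U hUV).hom.toAlgebra
  letI iAA' : Algebra Γ(S, V) Γ(S', V') := (g.appLE V V' hV'V).hom.toAlgebra
  letI iBC : Algebra Γ(X, U) Γ(pullback f g, chart f g U V') :=
    ((pullback.fst f g).appLE U (chart f g U V') inf_le_left).hom.toAlgebra
  letI iA'C : Algebra Γ(S', V') Γ(pullback f g, chart f g U V') :=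
    ((pullback.snd f g).appLE V' (chart f g U V') inf_le_right).hom.toAlgebra
  letI iAC : Algebra Γ(S, V) Γ(pullback f g, chart f g U V') :=
    ((algebraMap Γ(X, U) Γ(pullback f g, chart f g U V')).comp
      (algebraMap Γ(S, V) Γ(X, U))).toAlgebra
  haveI t1 : IsScalarTower Γ(S, V) Γ(X, U) Γ(pullback f g, chart f g U V') :=
    IsScalarTower.of_algebraMap_eq (fun _ => rfl)
  have hpo := isPushout_chart f g hU hV hV' hUV hV'V
  have hw := hpo.w
  haveI t2 : IsScalarTower Γ(S, V) Γ(S', V') Γ(pullback f g, chart f g U V') :=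
    IsScalarTower.of_algebraMap_eq (fun a => congr($hw a))
  haveI hP : Algebra.IsPushout Γ(S, V) Γ(S', V') Γ(X, U) Γ(pullback f g, chart f g U V') :=
    CommRingCat.isPushout_iff_isPushout.1 hpo.flip
  let e1 := sectionsPullbackEquiv (pullback.fst f g) (Omega.sheaf f) hW hU inf_le_left
  let ef : Ω[Γ(X, U)⁄Γ(S, V)] ≃ₗ[Γ(X, U)] Γ(Omega.sheaf f, U) :=
    LinearEquiv.ofBijective (OmAff.toSect f V U hUV).hom (OmAffGen.bijective_toSect f hU hV hUV)
  let e2 : Γ(pullback f g, chart f g U V') ⊗[Γ(X, U)] Γ(Omega.sheaf f, U)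
      ≃ₗ[Γ(pullback f g, chart f g U V')]
      Γ(pullback f g, chart f g U V') ⊗[Γ(X, U)] Ω[Γ(X, U)⁄Γ(S, V)] :=
    TensorProduct.AlgebraTensorModule.congr
      (LinearEquiv.refl Γ(pullback f g, chart f g U V') Γ(pullback f g, chart f g U V')) ef.symm
  let e3 : Γ(pullback f g, chart f g U V') ⊗[Γ(X, U)] Ω[Γ(X, U)⁄Γ(S, V)]
      ≃ₗ[Γ(pullback f g, chart f g U V')] Ω[Γ(pullback f g, chart f g U V')⁄Γ(S', V')] :=
    KaehlerDifferential.tensorKaehlerEquiv Γ(S, V) Γ(S', V') Γ(X, U)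
      Γ(pullback f g, chart f g U V')
  let ef' : Ω[Γ(pullback f g, chart f g U V')⁄Γ(S', V')] ≃ₗ[Γ(pullback f g, chart f g U V')]
      Γ(Omega.sheaf (pullback.snd f g), chart f g U V') :=
    LinearEquiv.ofBijective (OmAff.toSect (pullback.snd f g) V' (chart f g U V') inf_le_right).hom
      (OmAffGen.bijective_toSect (pullback.snd f g) hW hV' inf_le_right)
  exact ⟨e1 ≪≫ₗ e2 ≪≫ₗ e3 ≪≫ₗ ef'⟩

end Groth.Agent.Lib.QCoh.OmegaBC
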