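import Groth.Agent.Lib.QCoh.Helper50_PinchAlg
import Groth.Agent.Lib.Helper61.QCohPullbackSections
import Groth.Agent.Lib.QCoh.Helper74_FittComap
import Groth.Agent.Lib.QCoh.Helper50_AffineDict

/-!
# Quasi-coherent modules over a pinching square (helper50)

ns `Groth.Agent.Lib.QCoh.Pinch`.  `f : X ⟶ Y` affine, `u : Y' ⟶ Y` a closed immersion, with the pinching condition on
affine opens.  `isZero_of_pinch`, `isFiniteType_of_pinch`.
-/

set_option autoImplicit false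
universe u
open CategoryTheory CategoryTheory.Limits AlgebraicGeometry Opposite TopologicalSpace TensorProduct

namespace Groth.Agent.Lib.QCoh.Pinch

open Scheme.Modules Groth.Agent.Lib.QCoh Groth.Agent.Lib.Helper61.QCohPullback

lemma subsingleton_sections_of_isZero {Z : Scheme.{u}} (N : Z.Modules) (h : IsZero N)
    (W : Z.Opens) : Subsingleton Γ(N, W) := by
  have h0 : 𝟙 N = 0 := h.eq_of_src _ _
  have key : ∀ s : Γ(N, W), s = 0 := fun s =>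
    congrArg (fun ψ : N ⟶ N => (Scheme.Modules.Hom.app ψ W) s) h0
  exact ⟨fun a b => by rw [key a, key b]⟩

variable {X Y Y' : Scheme.{u}} (f : X ⟶ Y) (u : Y' ⟶ Y) [IsAffineHom f] [IsClosedImmersion u]
  (hM : ∀ V ∈ Y.affineOpens,
      RingHom.ker (f.app V).hom ⊓ RingHom.ker (u.app V).hom = ⊥ ∧
      ∀ a ∈ Ideal.map (f.app V).hom (RingHom.ker (u.app V).hom),
        ∃ i ∈ RingHom.ker (u.app V).hom, (f.app V).hom i = a)
  (G : Y.Modules) [G.IsQuasicoherent]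

include hM in
theorem isZero_of_pinch (h1 : IsZero ((Scheme.Modules.pullback u).obj G))
    (h2 : IsZero ((Scheme.Modules.pullback f).obj G)) : IsZero G := by
  rw [IsZero.iff_id_eq_zero]
  apply hom_ext_of_affine
  intro V
  have hV : IsAffineOpen (V : Y.Opens) := V.2
  letI algB : Algebra Γ(Y, (V : Y.Opens)) Γ(X, f ⁻¹ᵁ (V : Y.Opens)) :=
    (f.appLE (V : Y.Opens) (f ⁻¹ᵁ (V : Y.Opens)) le_rfl).hom.toAlgebra
  letI algA' : Algebra Γ(Y, (V : Y.Opens)) Γ(Y', u ⁻¹ᵁ (V : Y.Opens)) :=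
    (u.appLE (V : Y.Opens) (u ⁻¹ᵁ (V : Y.Opens)) le_rfl).hom.toAlgebra
  have eB : algebraMap Γ(Y, (V : Y.Opens)) Γ(X, f ⁻¹ᵁ (V : Y.Opens)) = (f.app (V : Y.Opens)).hom := by
    rw [RingHom.algebraMap_toAlgebra, Scheme.Hom.appLE_eq_app]
  have eA' : algebraMap Γ(Y, (V : Y.Opens)) Γ(Y', u ⁻¹ᵁ (V : Y.Opens)) =
      (u.app (V : Y.Opens)).hom := by
    rw [RingHom.algebraMap_toAlgebra, Scheme.Hom.appLE_eq_app]
  have hsB : Subsingleton Γ((Scheme.Modules.pullback f).obj G, f ⁻¹ᵁ (V : Y.Opens)) :=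
    subsingleton_sections_of_isZero _ h2 _
  have hsA' : Subsingleton Γ((Scheme.Modules.pullback u).obj G, u ⁻¹ᵁ (V : Y.Opens)) :=
    subsingleton_sections_of_isZero _ h1 _
  have hB : Subsingleton (Γ(X, f ⁻¹ᵁ (V : Y.Opens)) ⊗[Γ(Y, (V : Y.Opens))] Γ(G, (V : Y.Opens))) :=
    (sectionsPullbackEquiv f G (hV.preimage f) hV le_rfl).symm.toEquiv.subsingleton
  have hA' : Subsingleton (Γ(Y', u ⁻¹ᵁ (V : Y.Opens)) ⊗[Γ(Y, (V : Y.Opens))]
      Γ(G, (V : Y.Opens))) :=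
    (sectionsPullbackEquiv u G (hV.preimage u) hV le_rfl).symm.toEquiv.subsingleton
  have hsurj : Function.Surjective (algebraMap Γ(Y, (V : Y.Opens)) Γ(Y', u ⁻¹ᵁ (V : Y.Opens))) := by
    rw [eA']
    exact u.app_surjective (V : Y.Opens) hV
  obtain ⟨c1, c2⟩ := hM (V : Y.Opens) hV
  rw [← eB, ← eA'] at c1 c2
  have hsub : Subsingleton Γ(G, (V : Y.Opens)) :=
    PinchAlg.subsingleton_of_pinch c1 c2 Γ(G, (V : Y.Opens)) hsurj hA' hB
  ext s
  exact Subsingleton.elim _ _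

include hM in
theorem isFiniteType_of_pinch (h1 : ((Scheme.Modules.pullback u).obj G).IsFiniteType)
    (h2 : ((Scheme.Modules.pullback f).obj G).IsFiniteType) : G.IsFiniteType := by
  rw [isFiniteType_iff_forall_finite]
  intro V
  have hV : IsAffineOpen (V : Y.Opens) := V.2
  letI algB : Algebra Γ(Y, (V : Y.Opens)) Γ(X, f ⁻¹ᵁ (V : Y.Opens)) :=
    (f.appLE (V : Y.Opens) (f ⁻¹ᵁ (V : Y.Opens)) le_rfl).hom.toAlgebra
  letI algA' : Algebra Γ(Y, (V : Y.Opens)) Γ(Y', u ⁻¹ᵁ (V : Y.Opens)) :=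
    (u.appLE (V : Y.Opens) (u ⁻¹ᵁ (V : Y.Opens)) le_rfl).hom.toAlgebra
  have eB : algebraMap Γ(Y, (V : Y.Opens)) Γ(X, f ⁻¹ᵁ (V : Y.Opens)) = (f.app (V : Y.Opens)).hom := by
    rw [RingHom.algebraMap_toAlgebra, Scheme.Hom.appLE_eq_app]
  have eA' : algebraMap Γ(Y, (V : Y.Opens)) Γ(Y', u ⁻¹ᵁ (V : Y.Opens)) =
      (u.app (V : Y.Opens)).hom := by
    rw [RingHom.algebraMap_toAlgebra, Scheme.Hom.appLE_eq_app]
  have hqB : ((Scheme.Modules.pullback f).obj G).IsQuasicoherent := isQuasicoherent_pullback f G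
  have hqA' : ((Scheme.Modules.pullback u).obj G).IsQuasicoherent := isQuasicoherent_pullback u G
  have hfB : Module.Finite Γ(X, f ⁻¹ᵁ (V : Y.Opens))
      Γ((Scheme.Modules.pullback f).obj G, f ⁻¹ᵁ (V : Y.Opens)) :=
    finite_Γ_of_isAffineOpen (hV.preimage f) _
  have hfA' : Module.Finite Γ(Y', u ⁻¹ᵁ (V : Y.Opens))
      Γ((Scheme.Modules.pullback u).obj G, u ⁻¹ᵁ (V : Y.Opens)) :=
    finite_Γ_of_isAffineOpen (hV.preimage u) _
  have hB : Module.Finite Γ(X, f ⁻¹ᵁ (V : Y.Opens))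
      (Γ(X, f ⁻¹ᵁ (V : Y.Opens)) ⊗[Γ(Y, (V : Y.Opens))] Γ(G, (V : Y.Opens))) :=
    Module.Finite.equiv (sectionsPullbackEquiv f G (hV.preimage f) hV le_rfl)
  have hA' : Module.Finite Γ(Y', u ⁻¹ᵁ (V : Y.Opens))
      (Γ(Y', u ⁻¹ᵁ (V : Y.Opens)) ⊗[Γ(Y, (V : Y.Opens))] Γ(G, (V : Y.Opens))) :=
    Module.Finite.equiv (sectionsPullbackEquiv u G (hV.preimage u) hV le_rfl)
  have hsurj : Function.Surjective (algebraMap Γ(Y, (V : Y.Opens)) Γ(Y', u ⁻¹ᵁ (V : Y.Opens))) := by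
    rw [eA']
    exact u.app_surjective (V : Y.Opens) hV
  obtain ⟨c1, c2⟩ := hM (V : Y.Opens) hV
  rw [← eB, ← eA'] at c1 c2
  exact PinchAlg.finite_of_pinch c1 c2 Γ(G, (V : Y.Opens)) hsurj hA' hB

end Groth.Agent.Lib.QCoh.Pinch
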