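import Groth.Agent.Lib.QCoh.Helper50_Nakayama
import Mathlib.LinearAlgebra.TensorProduct.Finiteness
import Mathlib.LinearAlgebra.TensorProduct.RightExactness

/-!
# Modules over a pinching (Milnor) square: vanishing and finiteness (helper50)

ns `Groth.Agent.Lib.QCoh.PinchAlg`.  `A → A'` surjective with kernel `I`, `A → B` such that `ker (A → B) ∩ I = 0` and
`I B` is the image of `I` (so that `A = A' ×_{B/IB} B`).
* `smul_eq_zero_of_subsingleton`: if `B ⊗ M = 0` then `I M = 0`
* `subsingleton_of_pinch`: if `A' ⊗ M = 0` and `B ⊗ M = 0` then `M = 0`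
* `finite_of_pinch`: if `A' ⊗ M` and `B ⊗ M` are finite then `M` is finite
-/

set_option autoImplicit false
universe u

open TensorProduct

namespace Groth.Agent.Lib.QCoh.PinchAlg

variable {A B A' : Type*} [CommRing A] [CommRing B] [CommRing A'] [Algebra A B] [Algebra A A']
  (h1 : RingHom.ker (algebraMap A B) ⊓ RingHom.ker (algebraMap A A') = ⊥)
  (h2 : ∀ a ∈ Ideal.map (algebraMap A B) (RingHom.ker (algebraMap A A')),
    ∃ i ∈ RingHom.ker (algebraMap A A'), algebraMap A B i = a)
  (M : Type*) [AddCommGroup M] [Module A M]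

include h1 h2 in
/-- if `B ⊗ M = 0` then `I` kills `M` -/
theorem smul_eq_zero_of_subsingleton (hB : Subsingleton (B ⊗[A] M)) (i : A)
    (hi : i ∈ RingHom.ker (algebraMap A A')) (m : M) : i • m = 0 := by
  classical
  let I : Ideal A := RingHom.ker (algebraMap A A')
  let J : Submodule A B := (Ideal.map (algebraMap A B) I).restrictScalars A
  have hmem : ∀ x ∈ (I : Submodule A A), (Algebra.linearMap A B) x ∈ J := fun x hx =>
    Ideal.mem_map_of_mem _ hx
  let e₀ : (I : Submodule A A) →ₗ[A] J := (Algebra.linearMap A B).restrict hmem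
  have hinj : Function.Injective e₀ := by
    rw [injective_iff_map_eq_zero]
    rintro ⟨x, hx⟩ h0
    have h0' : algebraMap A B x = 0 := congrArg Subtype.val h0
    have hx' : x ∈ RingHom.ker (algebraMap A B) ⊓ RingHom.ker (algebraMap A A') :=
      ⟨h0', hx⟩
    rw [h1] at hx'
    exact Subtype.ext hx'
  have hsurj : Function.Surjective e₀ := by
    rintro ⟨b, hb⟩
    obtain ⟨x, hx, rfl⟩ := h2 b hb
    exact ⟨⟨x, hx⟩, rfl⟩
  let e : (I : Submodule A A) ≃ₗ[A] J := LinearEquiv.ofBijective e₀ ⟨hinj, hsurj⟩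
  have hmul : ∀ b : B, (LinearMap.mulLeft A (algebraMap A B i)) b ∈ J := fun b =>
    Ideal.mul_mem_right _ _ (Ideal.mem_map_of_mem _ hi)
  let μ : B →ₗ[A] J := (LinearMap.mulLeft A (algebraMap A B i)).codRestrict J hmul
  let L : B →ₗ[A] A := (Submodule.subtype (I : Submodule A A)) ∘ₗ e.symm.toLinearMap ∘ₗ μ
  let T : B ⊗[A] M →ₗ[A] M := TensorProduct.lift ((LinearMap.lsmul A M) ∘ₗ L)
  have hT : T ((1 : B) ⊗ₜ[A] m) = i • m := by
    have hL : L 1 = i := by
      have h3 : μ 1 = e ⟨i, hi⟩ := by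
        apply Subtype.ext
        change algebraMap A B i * 1 = algebraMap A B i
        rw [mul_one]
      change ((e.symm (μ 1) : (I : Submodule A A)) : A) = i
      rw [h3, LinearEquiv.symm_apply_apply]
    change (L 1) • m = i • m
    rw [hL]
  rw [← hT, Subsingleton.elim ((1 : B) ⊗ₜ[A] m) 0, map_zero]

include h1 h2 in
/-- vanishing is detected on `A'` and `B` -/
theorem subsingleton_of_pinch (hsurj : Function.Surjective (algebraMap A A'))
    (hA' : Subsingleton (A' ⊗[A] M)) (hB : Subsingleton (B ⊗[A] M)) : Subsingleton M := by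
  refine ⟨fun x y => ?_⟩
  have key : ∀ z : M, z = 0 := by
    intro z
    have hz : z ∈ RingHom.ker (algebraMap A A') • (⊤ : Submodule A M) :=
      Groth.Agent.Lib.QCoh.mem_smul_top_of_one_tmul_eq_zero hsurj z (Subsingleton.elim _ _)
    refine Submodule.smul_induction_on hz (fun i hi m _ => ?_) (fun a b ha hb => ?_)
    · exact smul_eq_zero_of_subsingleton h1 h2 M hB i hi m
    · rw [ha, hb, add_zero]
  rw [key x, key y]

/-- a finite base change is generated by a finitely generated submodule -/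
theorem exists_fg_lTensor_surjective {C : Type*} [CommRing C] [Algebra A C]
    (hC : Module.Finite C (C ⊗[A] M)) :
    ∃ N : Submodule A M, N.FG ∧ Function.Surjective (N.subtype.lTensor C) := by
  classical
  obtain ⟨s, hs⟩ := (Module.Finite.fg_top : (⊤ : Submodule C (C ⊗[A] M)).FG)
  obtain ⟨N, hN, hsub⟩ := TensorProduct.exists_finite_submodule_right_of_setFinite
    (s : Set (C ⊗[A] M)) s.finite_toSet
  refine ⟨N, Module.Finite.iff_fg.1 hN, ?_⟩
  have hle : Submodule.span C (s : Set (C ⊗[A] M)) ≤ LinearMap.range (N.subtype.baseChange C) := by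
    rw [Submodule.span_le]
    intro x hx
    obtain ⟨y, hy⟩ := hsub hx
    exact ⟨y, hy⟩
  rw [hs] at hle
  intro x
  obtain ⟨y, hy⟩ := hle (Submodule.mem_top : x ∈ (⊤ : Submodule C (C ⊗[A] M)))
  exact ⟨y, hy⟩

/-- the base change of the quotient by a submodule containing generators of the base change vanishes -/
theorem subsingleton_lTensor_quotient {C : Type*} [CommRing C] [Algebra A C] (N N' : Submodule A M)
    (hle : N' ≤ N) (hs : Function.Surjective (N'.subtype.lTensor C)) :
    Subsingleton (C ⊗[A] (M ⧸ N)) := by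
  have hz : ∀ y : C ⊗[A] (M ⧸ N), y = 0 := by
    intro y
    obtain ⟨x, rfl⟩ := LinearMap.lTensor_surjective C N.mkQ_surjective y
    obtain ⟨z, rfl⟩ := hs x
    have hcomp : N.mkQ ∘ₗ N'.subtype = 0 := by
      ext n
      exact (Submodule.Quotient.mk_eq_zero _).2 (hle n.2)
    have := LinearMap.lTensor_comp_apply C N.mkQ N'.subtype z
    rw [← this, hcomp, LinearMap.lTensor_zero, LinearMap.zero_apply]
  exact ⟨fun a b => by rw [hz a, hz b]⟩

include h1 h2 in
/-- finiteness is detected on `A'` and `B` -/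
theorem finite_of_pinch (hsurj : Function.Surjective (algebraMap A A'))
    (hA' : Module.Finite A' (A' ⊗[A] M)) (hB : Module.Finite B (B ⊗[A] M)) : Module.Finite A M := by
  obtain ⟨N₁, hN₁, hs₁⟩ := exists_fg_lTensor_surjective M hB
  obtain ⟨N₂, hN₂, hs₂⟩ := exists_fg_lTensor_surjective M hA'
  have hsub : Subsingleton (M ⧸ (N₁ ⊔ N₂)) :=
    subsingleton_of_pinch h1 h2 (M ⧸ (N₁ ⊔ N₂)) hsurj
      (subsingleton_lTensor_quotient M (N₁ ⊔ N₂) N₂ le_sup_right hs₂)
      (subsingleton_lTensor_quotient M (N₁ ⊔ N₂) N₁ le_sup_left hs₁)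
  have htop : N₁ ⊔ N₂ = ⊤ := Submodule.Quotient.subsingleton_iff.1 hsub
  refine ⟨?_⟩
  rw [← htop]
  exact hN₁.sup hN₂

end Groth.Agent.Lib.QCoh.PinchAlg
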