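import Groth.Agent.Lib.QCoh.Helper50_PinchAlg
import Mathlib.RingTheory.Flat.Tensor
import Mathlib.RingTheory.Flat.Stability
import Mathlib.RingTheory.Flat.Equalizer
import Mathlib.RingTheory.Flat.EquationalCriterion
import Mathlib.LinearAlgebra.TensorProduct.Tower

/-!
# Flatness over a pinching (Milnor) square (helper50)

ns `Groth.Agent.Lib.QCoh.PinchFlat`.  `A → A'` surjective with kernel `I`, `A → B` such that `ker (A → B) ∩ I = 0` and
`I B` is the image of `I`.
* `flat_of_pinch`: if `A' ⊗ M` is `A'`-flat and `B ⊗ M` is `B`-flat then `M` is `A`-flat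
* `finite_projective_of_pinch`: the same for finite projective
-/

set_option autoImplicit false
universe u

open TensorProduct

namespace Groth.Agent.Lib.QCoh.PinchFlat

section Torsion

variable {A A' : Type*} [CommRing A] [CommRing A'] [Algebra A A']
  (hsurj : Function.Surjective (algebraMap A A'))

/-- modules killed by the kernel of a surjection `A → A'` are `A'`-modules -/
noncomputable def torsionModule (P : Type*) [AddCommGroup P] [Module A P]
    (hP : ∀ i ∈ RingHom.ker (algebraMap A A'), ∀ p : P, i • p = 0) : Module A' P :=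
  letI : SMul A' P := ⟨fun a' p => Function.surjInv hsurj a' • p⟩
  Function.Surjective.moduleLeft (algebraMap A A') hsurj (fun c x => by
    change Function.surjInv hsurj (algebraMap A A' c) • x = c • x
    have hmem : Function.surjInv hsurj (algebraMap A A' c) - c ∈ RingHom.ker (algebraMap A A') := by
      rw [RingHom.mem_ker, map_sub, Function.surjInv_eq hsurj, sub_self]
    have h := hP _ hmem x
    rw [sub_smul, sub_eq_zero] at h
    exact h)

lemma torsionModule_algebraMap_smul (P : Type*) [AddCommGroup P] [Module A P]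
    (hP : ∀ i ∈ RingHom.ker (algebraMap A A'), ∀ p : P, i • p = 0) (c : A) (x : P) :
    letI := torsionModule hsurj P hP
    (algebraMap A A' c) • x = c • x := by
  letI := torsionModule hsurj P hP
  change Function.surjInv hsurj (algebraMap A A' c) • x = c • x
  have hmem : Function.surjInv hsurj (algebraMap A A' c) - c ∈ RingHom.ker (algebraMap A A') := by
    rw [RingHom.mem_ker, map_sub, Function.surjInv_eq hsurj, sub_self]
  have h := hP _ hmem x
  rw [sub_smul, sub_eq_zero] at h
  exact h

include hsurj in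
/-- tensoring with `M` preserves injections of modules killed by `I` when `A' ⊗ M` is `A'`-flat -/
theorem rTensor_injective_of_torsion (M : Type*) [AddCommGroup M] [Module A M]
    (hflat : Module.Flat A' (A' ⊗[A] M))
    {P₁ P₂ : Type*} [AddCommGroup P₁] [Module A P₁] [AddCommGroup P₂] [Module A P₂]
    (h₁ : ∀ i ∈ RingHom.ker (algebraMap A A'), ∀ p : P₁, i • p = 0)
    (h₂ : ∀ i ∈ RingHom.ker (algebraMap A A'), ∀ p : P₂, i • p = 0)
    (f : P₁ →ₗ[A] P₂) (hf : Function.Injective f) : Function.Injective (f.rTensor M) := by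
  letI m₁ := torsionModule hsurj P₁ h₁
  letI m₂ := torsionModule hsurj P₂ h₂
  haveI t₁ : IsScalarTower A A' P₁ :=
    IsScalarTower.of_algebraMap_smul (torsionModule_algebraMap_smul hsurj P₁ h₁)
  haveI t₂ : IsScalarTower A A' P₂ :=
    IsScalarTower.of_algebraMap_smul (torsionModule_algebraMap_smul hsurj P₂ h₂)
  let f' : P₁ →ₗ[A'] P₂ :=
    { toFun := f
      map_add' := f.map_add
      map_smul' := fun a' p => by
        obtain ⟨a, rfl⟩ := hsurj a'
        rw [algebraMap_smul, RingHom.id_apply, algebraMap_smul]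
        exact f.map_smul a p }
  have hf' : Function.Injective f' := hf
  have h1 : Function.Injective (f'.rTensor (A' ⊗[A] M)) :=
    Module.Flat.rTensor_preserves_injective_linearMap f' hf'
  let e₁ := AlgebraTensorModule.cancelBaseChange A A' A' P₁ M
  let e₂ := AlgebraTensorModule.cancelBaseChange A A' A' P₂ M
  have hsq : ∀ z, e₂ (f'.rTensor (A' ⊗[A] M) z) = f.rTensor M (e₁ z) := by
    intro z
    induction z using TensorProduct.induction_on with
    | zero => simp
    | tmul p y =>
      induction y using TensorProduct.induction_on with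
      | zero => simp
      | tmul a m =>
        change e₂ (f' p ⊗ₜ[A'] (a ⊗ₜ[A] m)) = f.rTensor M (e₁ (p ⊗ₜ[A'] (a ⊗ₜ[A] m)))
        rw [AlgebraTensorModule.cancelBaseChange_tmul, AlgebraTensorModule.cancelBaseChange_tmul,
          LinearMap.rTensor_tmul, ← f'.map_smul]
        rfl
      | add y₁ y₂ hy₁ hy₂ =>
        rw [TensorProduct.tmul_add, map_add, map_add, hy₁, hy₂, map_add, map_add]
    | add z₁ z₂ hz₁ hz₂ => rw [map_add, map_add, hz₁, hz₂, map_add, map_add]
  intro x y hxy
  have hx : x = e₁ (e₁.symm x) := (e₁.apply_symm_apply x).symm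
  have hy : y = e₁ (e₁.symm y) := (e₁.apply_symm_apply y).symm
  rw [hx, hy, ← hsq, ← hsq] at hxy
  have := h1 (e₂.injective hxy)
  rw [hx, hy, this]

end Torsion

section Devissage

variable {A A' : Type*} [CommRing A] [CommRing A'] [Algebra A A']
  (hsurj : Function.Surjective (algebraMap A A'))
  (M : Type*) [AddCommGroup M] [Module A M]

include hsurj in
/-- two-step dévissage: `P₁ → P₂ → T` with `τ ⊗ M` injective, `π : P₂ → C` with `C` killed by `I`,
and `ker (π ∘ ι) ⊗ M → T ⊗ M` injective; then `P₁ ⊗ M → T ⊗ M` is injective. -/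
theorem rTensor_injective_of_devissage (hflat : Module.Flat A' (A' ⊗[A] M))
    {P₁ P₂ T C : Type*} [AddCommGroup P₁] [Module A P₁] [AddCommGroup P₂] [Module A P₂]
    [AddCommGroup T] [Module A T] [AddCommGroup C] [Module A C]
    (ι : P₁ →ₗ[A] P₂) (τ : P₂ →ₗ[A] T) (π : P₂ →ₗ[A] C)
    (hC : ∀ i ∈ RingHom.ker (algebraMap A A'), ∀ c : C, i • c = 0)
    (hτ : Function.Injective (τ.rTensor M))
    (hker : Function.Injective
      ((τ ∘ₗ ι ∘ₗ (LinearMap.ker (π ∘ₗ ι)).subtype).rTensor M)) :
    Function.Injective ((τ ∘ₗ ι).rTensor M) := by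
  set f : P₁ →ₗ[A] C := π ∘ₗ ι with hf
  set K := LinearMap.ker f with hK
  let fbar : (P₁ ⧸ K) →ₗ[A] C := K.liftQ f le_rfl
  have hfbar : Function.Injective fbar := by
    rw [← LinearMap.ker_eq_bot]
    exact Submodule.ker_liftQ_eq_bot' K f rfl
  have htors : ∀ i ∈ RingHom.ker (algebraMap A A'), ∀ c : P₁ ⧸ K, i • c = 0 := by
    intro i hi c
    obtain ⟨p, rfl⟩ := Submodule.Quotient.mk_surjective K c
    rw [← Submodule.Quotient.mk_smul, Submodule.Quotient.mk_eq_zero]
    change f (i • p) = 0
    rw [map_smul, hC i hi]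
  have hinj : Function.Injective (fbar.rTensor M) :=
    rTensor_injective_of_torsion hsurj M hflat htors hC fbar hfbar
  have hex : Function.Exact (K.subtype.rTensor M) (K.mkQ.rTensor M) :=
    rTensor_exact M (LinearMap.exact_subtype_mkQ K) (Submodule.mkQ_surjective K)
  have hcomp : fbar ∘ₗ K.mkQ = f := Submodule.liftQ_mkQ K f le_rfl
  rw [injective_iff_map_eq_zero]
  intro x hx
  rw [LinearMap.rTensor_comp_apply] at hx
  have h1 : ι.rTensor M x = 0 := (injective_iff_map_eq_zero _).1 hτ _ hx
  have h2 : f.rTensor M x = 0 := by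
    rw [hf, LinearMap.rTensor_comp_apply, h1, map_zero]
  have h3 : K.mkQ.rTensor M x = 0 := by
    apply (injective_iff_map_eq_zero _).1 hinj
    rw [← LinearMap.rTensor_comp_apply, hcomp]
    exact h2
  obtain ⟨x', rfl⟩ := (hex x).1 h3
  have h4 : (τ ∘ₗ ι ∘ₗ K.subtype).rTensor M x' = 0 := by
    have : τ ∘ₗ ι ∘ₗ K.subtype = (τ ∘ₗ ι) ∘ₗ K.subtype := rfl
    rw [this, LinearMap.rTensor_comp_apply, LinearMap.rTensor_comp_apply, h1, map_zero]
  rw [(injective_iff_map_eq_zero _).1 hker _ h4, map_zero]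

/-- an injective map `j : P → A` with image an ideal `L` such that `L ⊗ M → A ⊗ M` is injective -/
theorem rTensor_injective_of_range_eq {P : Type*} [AddCommGroup P] [Module A P]
    (j : P →ₗ[A] A) (hj : Function.Injective j) (L : Ideal A)
    (hL : ∀ a, a ∈ L ↔ ∃ p, j p = a)
    (hInj : Function.Injective (L.subtype.rTensor M)) : Function.Injective (j.rTensor M) := by
  let j' : P →ₗ[A] L := j.codRestrict L (fun p => (hL _).2 ⟨p, rfl⟩)
  have hbij : Function.Bijective j' := by
    refine ⟨fun a b hab => hj (congrArg Subtype.val hab), ?_⟩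
    rintro ⟨a, ha⟩
    obtain ⟨p, rfl⟩ := (hL a).1 ha
    exact ⟨p, rfl⟩
  let e : P ≃ₗ[A] L := LinearEquiv.ofBijective j' hbij
  have hje : j = L.subtype ∘ₗ e.toLinearMap := rfl
  rw [hje, LinearMap.rTensor_comp]
  exact hInj.comp (LinearEquiv.rTensor M e).injective

end Devissage

section Pinch

variable {A B A' : Type*} [CommRing A] [CommRing B] [CommRing A'] [Algebra A B] [Algebra A A']
  (h1 : RingHom.ker (algebraMap A B) ⊓ RingHom.ker (algebraMap A A') = ⊥)
  (h2 : ∀ a ∈ Ideal.map (algebraMap A B) (RingHom.ker (algebraMap A A')),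
    ∃ i ∈ RingHom.ker (algebraMap A A'), algebraMap A B i = a)
  (M : Type*) [AddCommGroup M] [Module A M]

variable (A A') in
/-- the ideal of `A` (inside `I`) corresponding to an ideal of `B` -/
def liftIdeal (J' : Ideal B) : Ideal A :=
  RingHom.ker (algebraMap A A') ⊓ Ideal.comap (algebraMap A B) J'

include h1 h2 in
/-- for a `B`-ideal `J' ⊆ I B`, the corresponding ideal `L` of `A` has `L ⊗ M → M` injective -/
theorem rTensor_liftIdeal_injective (hB : Module.Flat B (B ⊗[A] M)) (J' : Ideal B)
    (hJ' : J' ≤ Ideal.map (algebraMap A B) (RingHom.ker (algebraMap A A'))) :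
    Function.Injective ((liftIdeal A A' J').subtype.rTensor M) := by
  set L : Ideal A := liftIdeal A A' J' with hL
  let e₀ : L →ₗ[A] J' :=
    { toFun := fun x => ⟨algebraMap A B x.1, x.2.2⟩
      map_add' := fun x y => Subtype.ext (map_add (algebraMap A B) x.1 y.1)
      map_smul' := fun a x => Subtype.ext (by
        change algebraMap A B (a * x.1) = a • algebraMap A B x.1
        rw [map_mul, Algebra.smul_def]) }
  have hbij : Function.Bijective e₀ := by
    constructor
    · rw [injective_iff_map_eq_zero]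
      rintro ⟨x, hx⟩ h0
      have h0' : algebraMap A B x = 0 := congrArg Subtype.val h0
      have hx' : x ∈ RingHom.ker (algebraMap A B) ⊓ RingHom.ker (algebraMap A A') :=
        ⟨h0', hx.1⟩
      rw [h1] at hx'
      exact Subtype.ext hx'
    · rintro ⟨b, hb⟩
      obtain ⟨x, hx, rfl⟩ := h2 b (hJ' hb)
      exact ⟨⟨x, ⟨hx, hb⟩⟩, rfl⟩
  let e : L ≃ₗ[A] J' := LinearEquiv.ofBijective e₀ hbij
  let c := AlgebraTensorModule.cancelBaseChange A B B J' M
  let Θ : J' ⊗[B] (B ⊗[A] M) →ₗ[B] B ⊗[A] M :=
    (TensorProduct.lid B (B ⊗[A] M)).toLinearMap ∘ₗ (J'.subtype.rTensor (B ⊗[A] M))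
  have hΘ : Function.Injective Θ :=
    (TensorProduct.lid B (B ⊗[A] M)).injective.comp
      (Module.Flat.rTensor_preserves_injective_linearMap J'.subtype J'.subtype_injective)
  have hsq : ∀ z : L ⊗[A] M, Θ (c.symm (e.toLinearMap.rTensor M z)) =
      (Algebra.linearMap A B).rTensor M (L.subtype.rTensor M z) := by
    intro z
    induction z using TensorProduct.induction_on with
    | zero => simp
    | tmul x m =>
      change Θ (c.symm ((e x) ⊗ₜ[A] m)) = (algebraMap A B x.1) ⊗ₜ[A] m
      rw [AlgebraTensorModule.cancelBaseChange_symm_tmul]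
      change (TensorProduct.lid B (B ⊗[A] M)) ((algebraMap A B x.1) ⊗ₜ[B] ((1 : B) ⊗ₜ[A] m)) = _
      rw [TensorProduct.lid_tmul, TensorProduct.smul_tmul', smul_eq_mul, mul_one]
    | add z₁ z₂ hz₁ hz₂ => rw [map_add, map_add, map_add, hz₁, hz₂, map_add, map_add]
  rw [injective_iff_map_eq_zero]
  intro z hz
  have h3 := hsq z
  rw [hz, map_zero] at h3
  have h4 : c.symm (e.toLinearMap.rTensor M z) = 0 := (injective_iff_map_eq_zero _).1 hΘ _ h3
  have h5 : e.toLinearMap.rTensor M z = 0 := by
    have := congrArg c h4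
    rwa [LinearEquiv.apply_symm_apply, map_zero] at this
  exact (injective_iff_map_eq_zero _).1 (LinearEquiv.rTensor M e).injective z h5

lemma le_liftIdeal_map (K₀ : Ideal A) (hK₀ : K₀ ≤ RingHom.ker (algebraMap A A')) :
    K₀ ≤ liftIdeal A A' (Ideal.map (algebraMap A B) K₀) :=
  fun _ hx => ⟨hK₀ hx, Ideal.mem_map_of_mem _ hx⟩

lemma mul_mem_liftIdeal (J₀ : Ideal B) (i : A) (hi : i ∈ RingHom.ker (algebraMap A A')) (x : A)
    (hx : x ∈ liftIdeal A A' J₀) :
    i * x ∈ liftIdeal A A'
      (Ideal.map (algebraMap A B) (RingHom.ker (algebraMap A A')) * J₀) := by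
  refine ⟨Ideal.mul_mem_right x _ hi, Ideal.mem_comap.2 ?_⟩
  rw [map_mul]
  exact Ideal.mul_mem_mul (Ideal.mem_map_of_mem _ hi) hx.2

include h2 in
lemma exists_mem_map_eq_of_mem_mul (K₀ : Ideal A) (y : B)
    (hy : y ∈ Ideal.map (algebraMap A B) (RingHom.ker (algebraMap A A')) *
      Ideal.map (algebraMap A B) K₀) : ∃ k ∈ K₀, algebraMap A B k = y := by
  have step1 : ∀ y₀ ∈ Ideal.map (algebraMap A B) K₀,
      ∀ j ∈ Ideal.map (algebraMap A B) (RingHom.ker (algebraMap A A')),
        ∃ k ∈ K₀, algebraMap A B k = j * y₀ := by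
    intro y₀ hy₀
    refine Submodule.span_induction (p := fun y₀ _ =>
      ∀ j ∈ Ideal.map (algebraMap A B) (RingHom.ker (algebraMap A A')),
        ∃ k ∈ K₀, algebraMap A B k = j * y₀) ?_ ?_ ?_ ?_ hy₀
    · rintro _ ⟨k₀, hk₀, rfl⟩ j hj
      obtain ⟨i, -, rfl⟩ := h2 j hj
      exact ⟨i * k₀, Ideal.mul_mem_left _ _ hk₀, map_mul _ _ _⟩
    · intro j _
      exact ⟨0, K₀.zero_mem, by rw [map_zero, mul_zero]⟩
    · intro a b _ _ ha hb j hj
      obtain ⟨ka, hka, ea⟩ := ha j hj
      obtain ⟨kb, hkb, eb⟩ := hb j hj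
      exact ⟨ka + kb, K₀.add_mem hka hkb, by rw [map_add, ea, eb, mul_add]⟩
    · intro b a _ ha j hj
      obtain ⟨k, hk, ek⟩ := ha (j * b) (Ideal.mul_mem_right _ _ hj)
      exact ⟨k, hk, by rw [ek, smul_eq_mul, mul_assoc]⟩
  refine Submodule.mul_induction_on hy (fun j hj y₀ hy₀ => step1 y₀ hy₀ j hj) ?_
  rintro a b ⟨ka, hka, rfl⟩ ⟨kb, hkb, rfl⟩
  exact ⟨ka + kb, K₀.add_mem hka hkb, map_add _ _ _⟩

include h1 h2 in
lemma liftIdeal_mul_le (K₀ : Ideal A) (hK₀ : K₀ ≤ RingHom.ker (algebraMap A A')) :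
    liftIdeal A A' (Ideal.map (algebraMap A B) (RingHom.ker (algebraMap A A')) *
      Ideal.map (algebraMap A B) K₀) ≤ K₀ := by
  rintro x ⟨hxI, hx⟩
  obtain ⟨k, hk, ek⟩ := exists_mem_map_eq_of_mem_mul h2 K₀ _ hx
  have hmem : x - k ∈ RingHom.ker (algebraMap A B) ⊓ RingHom.ker (algebraMap A A') := by
    refine ⟨?_, Ideal.sub_mem _ hxI (hK₀ hk)⟩
    change algebraMap A B (x - k) = 0
    rw [map_sub, ek]
    exact sub_self _
  rw [h1] at hmem
  have : x = k := sub_eq_zero.1 hmem
  rw [this]
  exact hk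

include h1 h2 in
/-- ideals inside `I` -/
theorem rTensor_injective_of_le (hsurj : Function.Surjective (algebraMap A A'))
    (hA' : Module.Flat A' (A' ⊗[A] M)) (hB : Module.Flat B (B ⊗[A] M))
    (K₀ : Ideal A) (hK₀ : K₀ ≤ RingHom.ker (algebraMap A A')) :
    Function.Injective (K₀.subtype.rTensor M) := by
  set J₀ : Ideal B := Ideal.map (algebraMap A B) K₀ with hJ₀
  set J : Ideal B := Ideal.map (algebraMap A B) (RingHom.ker (algebraMap A A')) with hJ
  set K₁ : Ideal A := liftIdeal A A' J₀ with hK₁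
  set K₂ : Ideal A := liftIdeal A A' (J * J₀) with hK₂
  have hle01 : K₀ ≤ K₁ := le_liftIdeal_map K₀ hK₀
  have hle20 : K₂ ≤ K₀ := liftIdeal_mul_le h1 h2 K₀ hK₀
  let ι : K₀ →ₗ[A] K₁ := Submodule.inclusion hle01
  let τ : K₁ →ₗ[A] A := K₁.subtype
  let Csub : Submodule A K₁ := Submodule.comap K₁.subtype K₂
  let π : K₁ →ₗ[A] (K₁ ⧸ Csub) := Csub.mkQ
  have hτι : τ ∘ₗ ι = K₀.subtype := rfl
  rw [← hτι]
  refine rTensor_injective_of_devissage hsurj M hA' ι τ π ?_ ?_ ?_
  · intro i hi c
    obtain ⟨x, rfl⟩ := Submodule.Quotient.mk_surjective Csub c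
    rw [← Submodule.Quotient.mk_smul, Submodule.Quotient.mk_eq_zero]
    exact mul_mem_liftIdeal J₀ i hi x.1 x.2
  · exact rTensor_liftIdeal_injective h1 h2 M hB J₀ (Ideal.map_mono hK₀)
  · refine rTensor_injective_of_range_eq M _ ?_ K₂ ?_
      (rTensor_liftIdeal_injective h1 h2 M hB (J * J₀) Ideal.mul_le_left)
    · intro a b hab
      exact Subtype.ext (Subtype.ext hab)
    · intro a
      constructor
      · intro ha
        refine ⟨⟨⟨a, hle20 ha⟩, ?_⟩, rfl⟩
        rw [LinearMap.mem_ker]
        change Csub.mkQ (ι ⟨a, hle20 ha⟩) = 0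
        rw [Submodule.mkQ_apply, Submodule.Quotient.mk_eq_zero]
        exact ha
      · rintro ⟨p, rfl⟩
        have hp := p.2
        rw [LinearMap.mem_ker] at hp
        change Csub.mkQ (ι p.1) = 0 at hp
        rw [Submodule.mkQ_apply, Submodule.Quotient.mk_eq_zero] at hp
        exact hp

include h1 h2 in
/-- **flatness is detected on `A'` and `B`** over a pinching square -/
theorem flat_of_pinch (hsurj : Function.Surjective (algebraMap A A'))
    (hA' : Module.Flat A' (A' ⊗[A] M)) (hB : Module.Flat B (B ⊗[A] M)) : Module.Flat A M := by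
  rw [Module.Flat.iff_rTensor_injective']
  intro K
  have hτι : (LinearMap.id : A →ₗ[A] A) ∘ₗ K.subtype = K.subtype := rfl
  rw [← hτι]
  refine rTensor_injective_of_devissage hsurj M hA' K.subtype LinearMap.id
    (Algebra.linearMap A A') ?_ ?_ ?_
  · intro i hi c
    rw [Algebra.smul_def, RingHom.mem_ker.1 hi, zero_mul]
  · rw [LinearMap.rTensor_id]
    exact Function.injective_id
  · refine rTensor_injective_of_range_eq M _ ?_ (K ⊓ RingHom.ker (algebraMap A A')) ?_
      (rTensor_injective_of_le h1 h2 M hsurj hA' hB _ inf_le_right)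
    · intro a b hab
      exact Subtype.ext (Subtype.ext hab)
    · intro a
      constructor
      · rintro ⟨haK, haI⟩
        refine ⟨⟨⟨a, haK⟩, ?_⟩, rfl⟩
        rw [LinearMap.mem_ker]
        exact haI
      · rintro ⟨p, rfl⟩
        have hp := p.2
        rw [LinearMap.mem_ker] at hp
        exact ⟨p.1.2, hp⟩

/-- base change of the kernel of a surjection onto a flat module whose base change is finitely
presented is finite -/
theorem finite_baseChange_ker {C F : Type*} [CommRing C] [Algebra A C] [AddCommGroup F] [Module A F]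
    [Module.Finite A F] (f : F →ₗ[A] M) (hf : Function.Surjective f) [Module.Flat A M]
    [Module.FinitePresentation C (C ⊗[A] M)] :
    Module.Finite C (C ⊗[A] LinearMap.ker f) := by
  let g : C ⊗[A] F →ₗ[C] C ⊗[A] M := f.baseChange C
  have hg : Function.Surjective g := by
    have : (g : C ⊗[A] F → C ⊗[A] M) = f.lTensor C := LinearMap.baseChange_eq_ltensor f
    rw [this]
    exact LinearMap.lTensor_surjective C hf
  have hker : (LinearMap.ker g).FG := Module.FinitePresentation.fg_ker g hg
  let k : C ⊗[A] LinearMap.ker f →ₗ[C] C ⊗[A] F := (LinearMap.ker f).subtype.baseChange C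
  have hkinj : Function.Injective k := by
    have : (k : C ⊗[A] LinearMap.ker f → C ⊗[A] F) = (LinearMap.ker f).subtype.lTensor C :=
      LinearMap.baseChange_eq_ltensor _
    rw [this]
    exact LinearMap.lTensor_injective_of_exact_of_flat f hf (LinearMap.ker f).subtype
      (LinearMap.ker f).subtype_injective (LinearMap.exact_subtype_ker_map f) C
  have hex : Function.Exact ((LinearMap.ker f).subtype.lTensor C) (f.lTensor C) :=
    lTensor_exact C (LinearMap.exact_subtype_ker_map f) hf
  have hmem : ∀ z, k z ∈ LinearMap.ker g := by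
    intro z
    rw [LinearMap.mem_ker]
    exact (hex _).2 ⟨z, rfl⟩
  let k' : C ⊗[A] LinearMap.ker f →ₗ[C] LinearMap.ker g := k.codRestrict _ hmem
  have hbij : Function.Bijective k' := by
    refine ⟨fun a b hab => hkinj (congrArg Subtype.val hab), ?_⟩
    rintro ⟨y, hy⟩
    obtain ⟨z, hz⟩ := (hex y).1 (LinearMap.mem_ker.1 hy)
    exact ⟨z, Subtype.ext hz⟩
  have : Module.Finite C (LinearMap.ker g) := Module.Finite.iff_fg.2 hker
  exact Module.Finite.equiv (LinearEquiv.ofBijective k' hbij).symm

include h1 h2 in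
/-- **finite projectivity is detected on `A'` and `B`** over a pinching square -/
theorem finite_projective_of_pinch (hsurj : Function.Surjective (algebraMap A A'))
    (hA'f : Module.Finite A' (A' ⊗[A] M)) (hA'p : Module.Projective A' (A' ⊗[A] M))
    (hBf : Module.Finite B (B ⊗[A] M)) (hBp : Module.Projective B (B ⊗[A] M)) :
    Module.Finite A M ∧ Module.Projective A M := by
  have hfin : Module.Finite A M := PinchAlg.finite_of_pinch h1 h2 M hsurj hA'f hBf
  have hflat : Module.Flat A M := flat_of_pinch h1 h2 M hsurj inferInstance inferInstance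
  obtain ⟨n, f, hf⟩ := Module.Finite.exists_fin' A M
  have : Module.FinitePresentation A' (A' ⊗[A] M) := Module.finitePresentation_of_projective _ _
  have : Module.FinitePresentation B (B ⊗[A] M) := Module.finitePresentation_of_projective _ _
  have hk1 : Module.Finite A' (A' ⊗[A] LinearMap.ker f) := finite_baseChange_ker M f hf
  have hk2 : Module.Finite B (B ⊗[A] LinearMap.ker f) := finite_baseChange_ker M f hf
  have hker : Module.Finite A (LinearMap.ker f) :=
    PinchAlg.finite_of_pinch h1 h2 (LinearMap.ker f) hsurj hk1 hk2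
  have hfp : Module.FinitePresentation A M :=
    Module.finitePresentation_of_surjective f hf (Module.Finite.iff_fg.1 hker)
  exact ⟨hfin, Module.Flat.projective_of_finitePresentation⟩

end Pinch

end Groth.Agent.Lib.QCoh.PinchFlat
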