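import Groth.Agent.Lib.QCoh.Helper50_Pinch
import Groth.Agent.Lib.QCoh.Helper50_PinchFlat
import Groth.Agent.Lib.QCoh.Helper74_LocFreeStalk
import Groth.Agent.Lib.QCoh.Helper50_Pullback

/-!
# Flat and finite locally free modules over a pinching square (helper50)

ns `Groth.Agent.Lib.QCoh.Pinch`.  `isFlat_pullback`, `isFlat_of_pinch`, `isFinLocFree_of_pinch`.
-/

set_option autoImplicit false
universe u
open CategoryTheory CategoryTheory.Limits AlgebraicGeometry Opposite TopologicalSpace TensorProduct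

namespace Groth.Agent.Lib.QCoh.Pinch

open Scheme.Modules Groth.Agent.Lib.QCoh Groth.Agent.Lib.Helper61.QCohPullback

/-- pullbacks of flat quasi-coherent modules are flat -/
theorem isFlat_pullback {X Y : Scheme.{u}} (f : X ⟶ Y) (G : Y.Modules) [G.IsQuasicoherent]
    (h : FlatMod.IsFlat G) : FlatMod.IsFlat ((Scheme.Modules.pullback f).obj G) := by
  have hq : ((Scheme.Modules.pullback f).obj G).IsQuasicoherent := isQuasicoherent_pullback f G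
  intro x
  obtain ⟨_, ⟨W, hW : IsAffineOpen W, rfl⟩, hxW, -⟩ :=
    (Y.isBasis_affineOpens).exists_subset_of_mem_open (Set.mem_univ (f.base x)) isOpen_univ
  obtain ⟨_, ⟨W', hW' : IsAffineOpen W', rfl⟩, hxW', hle⟩ :=
    (X.isBasis_affineOpens).exists_subset_of_mem_open (show x ∈ (f ⁻¹ᵁ W : X.Opens) from hxW)
      (f ⁻¹ᵁ W).isOpen
  have e : W' ≤ f ⁻¹ᵁ W := hle
  letI alg : Algebra Γ(Y, W) Γ(X, W') := (f.appLE W W' e).hom.toAlgebra
  have hflat : Module.Flat Γ(Y, W) Γ(G, W) := (isFlat_iff_forall_affineOpens G).1 h ⟨W, hW⟩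
  have hbc : Module.Flat Γ(X, W') (Γ(X, W') ⊗[Γ(Y, W)] Γ(G, W)) := inferInstance
  have hsec : Module.Flat Γ(X, W') Γ((Scheme.Modules.pullback f).obj G, W') :=
    Module.Flat.of_linearEquiv (sectionsPullbackEquiv f G hW' hW e)
  exact isFlatAt_of_flat_Γ _ hW' x hxW' hsec

variable {X Y Y' : Scheme.{u}} (f : X ⟶ Y) (u : Y' ⟶ Y) [IsAffineHom f] [IsClosedImmersion u]
  (hM : ∀ V ∈ Y.affineOpens,
      RingHom.ker (f.app V).hom ⊓ RingHom.ker (u.app V).hom = ⊥ ∧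
      ∀ a ∈ Ideal.map (f.app V).hom (RingHom.ker (u.app V).hom),
        ∃ i ∈ RingHom.ker (u.app V).hom, (f.app V).hom i = a)
  (G : Y.Modules) [G.IsQuasicoherent]

include hM in
theorem isFlat_of_pinch (h1 : FlatMod.IsFlat ((Scheme.Modules.pullback u).obj G))
    (h2 : FlatMod.IsFlat ((Scheme.Modules.pullback f).obj G)) : FlatMod.IsFlat G := by
  rw [isFlat_iff_forall_affineOpens]
  intro V
  have hV : IsAffineOpen (V : Y.Opens) := V.2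
  letI algB : Algebra Γ(Y, (V : Y.Opens)) Γ(X, f ⁻¹ᵁ (V : Y.Opens)) :=
    (f.appLE (V : Y.Opens) (f ⁻¹ᵁ (V : Y.Opens)) le_rfl).hom.toAlgebra
  letI algA' : Algebra Γ(Y, (V : Y.Opens)) Γ(Y', u ⁻¹ᵁ (V : Y.Opens)) :=
    (u.appLE (V : Y.Opens) (u ⁻¹ᵁ (V : Y.Opens)) le_rfl).hom.toAlgebra
  have eB : algebraMap Γ(Y, (V : Y.Opens)) Γ(X, f ⁻¹ᵁ (V : Y.Opens)) = (f.app (V : Y.Opens)).hom := by
    rw [RingHom.algebraMap_toAlgebra, Scheme.Hom.appLE_eq_app]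
  have eA' : algebraMap Γ(Y, (V : Y.Opens)) Γ(Y', u ⁻¹ᵁ (V : Y.Opens)) =
      (u.app (V : Y.Opens)).hom := by
    rw [RingHom.algebraMap_toAlgebra, Scheme.Hom.appLE_eq_app]
  have hqB : ((Scheme.Modules.pullback f).obj G).IsQuasicoherent := isQuasicoherent_pullback f G
  have hqA' : ((Scheme.Modules.pullback u).obj G).IsQuasicoherent := isQuasicoherent_pullback u G
  have hfB : Module.Flat Γ(X, f ⁻¹ᵁ (V : Y.Opens))
      Γ((Scheme.Modules.pullback f).obj G, f ⁻¹ᵁ (V : Y.Opens)) :=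
    (isFlat_iff_forall_affineOpens _).1 h2 ⟨_, hV.preimage f⟩
  have hfA' : Module.Flat Γ(Y', u ⁻¹ᵁ (V : Y.Opens))
      Γ((Scheme.Modules.pullback u).obj G, u ⁻¹ᵁ (V : Y.Opens)) :=
    (isFlat_iff_forall_affineOpens _).1 h1 ⟨_, hV.preimage u⟩
  have hB : Module.Flat Γ(X, f ⁻¹ᵁ (V : Y.Opens))
      (Γ(X, f ⁻¹ᵁ (V : Y.Opens)) ⊗[Γ(Y, (V : Y.Opens))] Γ(G, (V : Y.Opens))) :=
    Module.Flat.of_linearEquiv (sectionsPullbackEquiv f G (hV.preimage f) hV le_rfl).symm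
  have hA' : Module.Flat Γ(Y', u ⁻¹ᵁ (V : Y.Opens))
      (Γ(Y', u ⁻¹ᵁ (V : Y.Opens)) ⊗[Γ(Y, (V : Y.Opens))] Γ(G, (V : Y.Opens))) :=
    Module.Flat.of_linearEquiv (sectionsPullbackEquiv u G (hV.preimage u) hV le_rfl).symm
  have hsurj : Function.Surjective (algebraMap Γ(Y, (V : Y.Opens)) Γ(Y', u ⁻¹ᵁ (V : Y.Opens))) := by
    rw [eA']
    exact u.app_surjective (V : Y.Opens) hV
  obtain ⟨c1, c2⟩ := hM (V : Y.Opens) hV
  rw [← eB, ← eA'] at c1 c2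
  exact PinchFlat.flat_of_pinch c1 c2 Γ(G, (V : Y.Opens)) hsurj hA' hB

include hM in
theorem isFinLocFree_of_pinch (h1 : FlatMod.IsFinLocFree ((Scheme.Modules.pullback u).obj G))
    (h2 : FlatMod.IsFinLocFree ((Scheme.Modules.pullback f).obj G)) : FlatMod.IsFinLocFree G := by
  rw [isFinLocFree_iff_forall_affineOpens]
  intro V
  have hV : IsAffineOpen (V : Y.Opens) := V.2
  letI algB : Algebra Γ(Y, (V : Y.Opens)) Γ(X, f ⁻¹ᵁ (V : Y.Opens)) :=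
    (f.appLE (V : Y.Opens) (f ⁻¹ᵁ (V : Y.Opens)) le_rfl).hom.toAlgebra
  letI algA' : Algebra Γ(Y, (V : Y.Opens)) Γ(Y', u ⁻¹ᵁ (V : Y.Opens)) :=
    (u.appLE (V : Y.Opens) (u ⁻¹ᵁ (V : Y.Opens)) le_rfl).hom.toAlgebra
  have eB : algebraMap Γ(Y, (V : Y.Opens)) Γ(X, f ⁻¹ᵁ (V : Y.Opens)) = (f.app (V : Y.Opens)).hom := by
    rw [RingHom.algebraMap_toAlgebra, Scheme.Hom.appLE_eq_app]
  have eA' : algebraMap Γ(Y, (V : Y.Opens)) Γ(Y', u ⁻¹ᵁ (V : Y.Opens)) =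
      (u.app (V : Y.Opens)).hom := by
    rw [RingHom.algebraMap_toAlgebra, Scheme.Hom.appLE_eq_app]
  have hqB : ((Scheme.Modules.pullback f).obj G).IsQuasicoherent := isQuasicoherent_pullback f G
  have hqA' : ((Scheme.Modules.pullback u).obj G).IsQuasicoherent := isQuasicoherent_pullback u G
  obtain ⟨hfB1, hfB2⟩ := (isFinLocFree_iff_forall_affineOpens _).1 h2 ⟨_, hV.preimage f⟩
  obtain ⟨hfA'1, hfA'2⟩ := (isFinLocFree_iff_forall_affineOpens _).1 h1 ⟨_, hV.preimage u⟩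
  have hB1 : Module.Finite Γ(X, f ⁻¹ᵁ (V : Y.Opens))
      (Γ(X, f ⁻¹ᵁ (V : Y.Opens)) ⊗[Γ(Y, (V : Y.Opens))] Γ(G, (V : Y.Opens))) :=
    Module.Finite.equiv (sectionsPullbackEquiv f G (hV.preimage f) hV le_rfl)
  have hB2 : Module.Projective Γ(X, f ⁻¹ᵁ (V : Y.Opens))
      (Γ(X, f ⁻¹ᵁ (V : Y.Opens)) ⊗[Γ(Y, (V : Y.Opens))] Γ(G, (V : Y.Opens))) :=
    Module.Projective.of_equiv (sectionsPullbackEquiv f G (hV.preimage f) hV le_rfl)
  have hA'1 : Module.Finite Γ(Y', u ⁻¹ᵁ (V : Y.Opens))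
      (Γ(Y', u ⁻¹ᵁ (V : Y.Opens)) ⊗[Γ(Y, (V : Y.Opens))] Γ(G, (V : Y.Opens))) :=
    Module.Finite.equiv (sectionsPullbackEquiv u G (hV.preimage u) hV le_rfl)
  have hA'2 : Module.Projective Γ(Y', u ⁻¹ᵁ (V : Y.Opens))
      (Γ(Y', u ⁻¹ᵁ (V : Y.Opens)) ⊗[Γ(Y, (V : Y.Opens))] Γ(G, (V : Y.Opens))) :=
    Module.Projective.of_equiv (sectionsPullbackEquiv u G (hV.preimage u) hV le_rfl)
  have hsurj : Function.Surjective (algebraMap Γ(Y, (V : Y.Opens)) Γ(Y', u ⁻¹ᵁ (V : Y.Opens))) := by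
    rw [eA']
    exact u.app_surjective (V : Y.Opens) hV
  obtain ⟨c1, c2⟩ := hM (V : Y.Opens) hV
  rw [← eB, ← eA'] at c1 c2
  exact PinchFlat.finite_projective_of_pinch c1 c2 Γ(G, (V : Y.Opens)) hsurj hA'1 hA'2 hB1 hB2

end Groth.Agent.Lib.QCoh.Pinch
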