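import Groth.Agent.Lib.QCoh.Helper18_Stalk
import Groth.Agent.Lib.QCoh.Helper50_PrinPartQC

/-!
# Pushforward of modules along a morphism that is a homeomorphism preserves colimits (helper50)

ns `Groth.Agent.Lib.QCoh.PushHomeo`.  `h : Y ⟶ X` with a section `g : X ⟶ Y` (`g ≫ h = 𝟙`) that is also inverse on
points.  `opensAdj`, `preservesColimits_pushforward`; application to `pr1` of the infinitesimal neighbourhoods of the
diagonal: `preservesColimits_principalParts`.
-/

set_option autoImplicit false
universe u
open CategoryTheory CategoryTheory.Limits AlgebraicGeometry Opposite TopologicalSpace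

namespace Groth.Agent.Lib.QCoh.PushHomeo

variable {X Y : Scheme.{u}} (h : Y ⟶ X) (g : X ⟶ Y) (hg1 : ∀ x : X, h (g x) = x)
  (hg2 : ∀ y : Y, g (h y) = y)

include hg1 hg2 in
/-- for mutually inverse (on points) morphisms, `Opens.map h ⊣ Opens.map g` -/
noncomputable def opensAdj : Opens.map h.base ⊣ Opens.map g.base :=
  Adjunction.mkOfHomEquiv
    { homEquiv := fun U V =>
        { toFun := fun a => homOfLE (fun x hx => a.le (show h (g x) ∈ U by rw [hg1]; exact hx))
          invFun := fun b => homOfLE (fun y hy => by
            have := b.le (show h y ∈ U from hy)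
            change g (h y) ∈ V at this
            rwa [hg2] at this)
          left_inv := fun _ => Subsingleton.elim _ _
          right_inv := fun _ => Subsingleton.elim _ _ }
      homEquiv_naturality_left_symm := fun _ _ => Subsingleton.elim _ _
      homEquiv_naturality_right := fun _ _ => Subsingleton.elim _ _ }

include hg1 hg2 in
theorem preservesColimits_sheafPushforward :
    PreservesColimitsOfSize.{u, u}
      ((Opens.map h.base).sheafPushforwardContinuous AddCommGrpCat.{u}
        (Opens.grothendieckTopology X) (Opens.grothendieckTopology Y)) :=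
  ((opensAdj h g hg1 hg2).sheafPushforwardContinuous (E := AddCommGrpCat.{u})
    (Opens.grothendieckTopology X) (Opens.grothendieckTopology Y)).leftAdjoint_preservesColimits

include hg1 hg2 in
/-- pushforward of modules along a homeomorphism preserves colimits -/
theorem preservesColimits_pushforward :
    PreservesColimitsOfSize.{u, u} (Scheme.Modules.pushforward h) := by
  let T : X.Modules ⥤ Sheaf (Opens.grothendieckTopology X) AddCommGrpCat.{u} :=
    SheafOfModules.toSheaf.{u} X.ringCatSheaf
  let T' : Y.Modules ⥤ Sheaf (Opens.grothendieckTopology Y) AddCommGrpCat.{u} :=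
    SheafOfModules.toSheaf.{u} Y.ringCatSheaf
  let P : Sheaf (Opens.grothendieckTopology Y) AddCommGrpCat.{u} ⥤
      Sheaf (Opens.grothendieckTopology X) AddCommGrpCat.{u} :=
    (Opens.map h.base).sheafPushforwardContinuous AddCommGrpCat.{u}
      (Opens.grothendieckTopology X) (Opens.grothendieckTopology Y)
  have hP : PreservesColimitsOfSize.{u, u} P := preservesColimits_sheafPushforward h g hg1 hg2
  have hT : PreservesColimitsOfSize.{u, u} T := toSheaf_preservesColimitsOfSize _
  have hT' : PreservesColimitsOfSize.{u, u} T' := toSheaf_preservesColimitsOfSize _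
  have hTr : T.ReflectsIsomorphisms :=
    inferInstanceAs (SheafOfModules.toSheaf.{u} X.ringCatSheaf).ReflectsIsomorphisms
  have hcol : HasColimitsOfSize.{u, u} X.Modules := inferInstance
  have hTP : PreservesColimitsOfSize.{u, u} (T' ⋙ P) := comp_preservesColimits T' P
  let iso : Scheme.Modules.pushforward h ⋙ T ≅ T' ⋙ P :=
    NatIso.ofComponents (fun M => Iso.refl _) (fun f => by
      dsimp only [Iso.refl_hom]
      exact (Category.comp_id _).trans (Eq.trans rfl (Category.id_comp _).symm))
  have h1 : PreservesColimitsOfSize.{u, u} (Scheme.Modules.pushforward h ⋙ T) :=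
    preservesColimits_of_natIso iso.symm
  have h2 : ReflectsColimitsOfSize.{u, u} T := reflectsColimits_of_reflectsIsomorphisms
  exact preservesColimits_of_reflects_of_preserves (Scheme.Modules.pushforward h) T

/-- the functor `F ↦ P^n_{X/S}(F)` preserves colimits -/
theorem preservesColimits_principalParts {X S : Scheme.{u}} (f : X ⟶ S) (n : ℕ) :
    PreservesColimitsOfSize.{u, u}
      ((Scheme.Modules.pullback (PrinPart.pr2 f n)) ⋙
        (Scheme.Modules.pushforward (PrinPart.pr1 f n))) := by
  have h1 : PreservesColimitsOfSize.{u, u} (Scheme.Modules.pullback (PrinPart.pr2 f n)) :=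
    (Scheme.Modules.pullbackPushforwardAdjunction _).leftAdjoint_preservesColimits
  have h2 : PreservesColimitsOfSize.{u, u} (Scheme.Modules.pushforward (PrinPart.pr1 f n)) :=
    preservesColimits_pushforward (PrinPart.pr1 f n) (PrinPart.toNbhd f n)
      (PrinPartQC.pr1Homeo f n).right_inv (PrinPartQC.pr1Homeo f n).left_inv
  exact comp_preservesColimits _ _

end Groth.Agent.Lib.QCoh.PushHomeo
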