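import Groth.Agent.Lib.Ample.Helper50_CounitGG
import Groth.Agent.Lib.Helper22.QCohExt
import Groth.Statements.S4409

/-!
# Quasi-affine morphisms: separatedness and epimorphic counits (helper50)

ns `Groth.Agent.Lib.QCoh.QAffMor`.  EGA II 5.1.2 (a) ⟹ (d).
-/

set_option autoImplicit false
universe u
open CategoryTheory CategoryTheory.Limits AlgebraicGeometry Opposite TopologicalSpace

namespace Groth.Agent.Lib.QCoh.QAffMor

open Groth.Agent.Lib.QCoh Scheme.Modules Groth.Agent.Lib.Ample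

variable {X Y : Scheme.{u}}

/-- a quasi-affine morphism is separated -/
theorem isSeparated_of_isQuasiAffine (f : X ⟶ Y) (hf : Mor2.IsQuasiAffine f) : IsSeparated f := by
  rw [HasAffineProperty.eq_targetAffineLocally (P := @IsSeparated)]
  intro V
  have : (f ⁻¹ᵁ V.1 : Scheme.{u}).IsQuasiAffine := hf.2 V.1 V.2
  change (f ⁻¹ᵁ V.1 : Scheme.{u}).IsSeparated
  infer_instance

/-- for a quasi-affine morphism the counit `f^* f_* F ⟶ F` is an epimorphism on quasi-coherent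
modules -/
theorem epi_counit_of_isQuasiAffine (f : X ⟶ Y) (hf : Mor2.IsQuasiAffine f) (F : X.Modules)
    [F.IsQuasicoherent] : Epi ((pullbackPushforwardAdjunction f).counit.app F) := by
  refine Counit.epi_counit_of_isBasis f F (ι := Σ V : Y.affineOpens, Γ(X, f ⁻¹ᵁ V.1))
    (fun i => X.basicOpen i.2) ?_ (fun i => i.1.1) (fun i => X.basicOpen_le i.2) ?_
  · rw [Opens.isBasis_iff_nbhd]
    intro O x hxO
    obtain ⟨V, hV, hxV, -⟩ := exists_isAffineOpen_mem_and_subset (x := f.base x) (U := ⊤) trivial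
    have hqa : (f ⁻¹ᵁ V : Scheme.{u}).IsQuasiAffine := hf.2 V hV
    have hx' : (⟨x, hxV⟩ : (f ⁻¹ᵁ V : Scheme.{u})) ∈ (f ⁻¹ᵁ V).ι ⁻¹ᵁ O := hxO
    obtain ⟨_, ⟨r, hraff, rfl⟩, hxr, hrO⟩ := Opens.isBasis_iff_nbhd.1
      (Scheme.IsQuasiAffine.isBasis_basicOpen (f ⁻¹ᵁ V : Scheme.{u})) hx'
    have key := Scheme.Opens.ι_image_basicOpen_topIso_inv (f ⁻¹ᵁ V) ((f ⁻¹ᵁ V).topIso.hom r)
    have hr' : (f ⁻¹ᵁ V).topIso.inv ((f ⁻¹ᵁ V).topIso.hom r) = r := by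
      rw [← CommRingCat.comp_apply, Iso.hom_inv_id]; rfl
    rw [hr'] at key
    refine ⟨_, ⟨⟨⟨V, hV⟩, (f ⁻¹ᵁ V).topIso.hom r⟩, rfl⟩, ?_, ?_⟩
    · change x ∈ X.basicOpen ((f ⁻¹ᵁ V).topIso.hom r)
      rw [← key]
      exact ⟨⟨x, hxV⟩, hxr, rfl⟩
    · change X.basicOpen ((f ⁻¹ᵁ V).topIso.hom r) ≤ O
      rw [← key]
      rintro _ ⟨y, hy, rfl⟩
      exact hrO hy
  · rintro ⟨V, g⟩
    have hqa : (f ⁻¹ᵁ V.1 : Scheme.{u}).IsQuasiAffine := hf.2 V.1 V.2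
    have hUc : IsCompact ((f ⁻¹ᵁ V.1 : X.Opens) : Set X) :=
      isCompact_iff_compactSpace.mpr (inferInstance : CompactSpace (f ⁻¹ᵁ V.1 : Scheme.{u}))
    have hUqs : IsQuasiSeparated ((f ⁻¹ᵁ V.1 : X.Opens) : Set X) := by
      have : QuasiSeparatedSpace (f ⁻¹ᵁ V.1 : Scheme.{u}) := inferInstance
      exact (isQuasiSeparated_iff_quasiSeparatedSpace _ (f ⁻¹ᵁ V.1 : X.Opens).2).mpr this
    rw [eq_top_iff]
    intro t _
    obtain ⟨n, s, hs⟩ := Groth.Agent.Lib.Helper22.exists_pow_smul_eq_map_of_isCompact_of_isQuasiSeparated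
      F hUc hUqs g t
    have hu : IsUnit (X.presheaf.map (homOfLE (X.basicOpen_le g)).op g) :=
      RingedSpace.isUnit_res_basicOpen _ g
    have h1 : t = ((hu.unit⁻¹ : (Γ(X, X.basicOpen g))ˣ) : Γ(X, X.basicOpen g)) ^ n •
        F.presheaf.map (homOfLE (X.basicOpen_le g)).op s := by
      rw [hs, ← mul_smul, ← mul_pow, IsUnit.val_inv_mul, one_pow, one_smul]
    rw [h1]
    exact Submodule.smul_mem _ _ (Submodule.subset_span ⟨s, rfl⟩)

end Groth.Agent.Lib.QCoh.QAffMor
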