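import Groth.Agent.Lib.QCoh.Helper50_QAffIdeal
import Groth.Agent.Lib.QCoh.Helper50_QAffMorA

/-!
# Quasi-affine morphisms from epimorphic counits (helper50)

ns `Groth.Agent.Lib.QCoh.QAffMor`.  EGA II 5.1.2 (d) ⟹ (a).
-/

set_option autoImplicit false
universe u
open CategoryTheory CategoryTheory.Limits AlgebraicGeometry Opposite TopologicalSpace

namespace Groth.Agent.Lib.QCoh.QAffMor

open Groth.Agent.Lib.QCoh Groth.Agent.Lib.QCoh.FTIdeal Scheme.Modules Groth.Agent.Lib.Ample
open Groth.Agent.Lib.Ample.SpanGen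

variable {X : Scheme.{u}}

/-- the stalk map of `i : J ⟶ O_X` is surjective at points near which `1` is in the image -/
lemma stalkMap_surjective_of_app_eq_one {J : X.Modules} (i : J ⟶ Coh.structureModule X)
    {W : X.Opens} (x : X) (hx : x ∈ W) (a : Γ(J, W)) (ha : i.app W a = oneSec W) :
    Function.Surjective (stalkMap i x) := by
  intro m
  obtain ⟨r, rfl⟩ := exists_smul_germOne x m
  have h3 : (Coh.structureModule X).presheaf.germ W x hx (oneSec W) = germOne x := by
    have := TopCat.Presheaf.germ_res_apply (Coh.structureModule X).presheaf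
      (homOfLE (le_top : W ≤ ⊤)) x hx (oneSec ⊤)
    refine Eq.trans ?_ this
    congr 1
    exact (map_one (X.presheaf.map (homOfLE (le_top : W ≤ ⊤)).op).hom).symm
  refine ⟨r • J.presheaf.germ W x hx a, ?_⟩
  rw [stalkMap_smul, stalkMap_germ, ha, h3]

/-- **key (general form)**: `J` globally generated with a map `i : J ⟶ O_X` surjective on the stalk at
`x ∈ V` (`V` affine) and such that all `X_{i(s)}`, `s` a global section, lie in `V`: then `x` lies in an
affine basic open of a global function -/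
theorem exists_isAffineOpen_basicOpen_of_hom {J : X.Modules} (i : J ⟶ Coh.structureModule X)
    (hgg : Curv2.IsGloballyGenerated J) {V : X.Opens} (hV : IsAffineOpen V) (x : X)
    (hsurj : Function.Surjective (stalkMap i x))
    (hle : ∀ s : Γ(J, ⊤), X.basicOpen (show Γ(X, ⊤) from i.app ⊤ s) ≤ V) :
    ∃ r : Γ(X, ⊤), IsAffineOpen (X.basicOpen r) ∧ x ∈ X.basicOpen r := by
  obtain ⟨ι, p, hp⟩ := hgg
  let t : ι → (Coh.structureModule X ⟶ Coh.structureModule X) :=
    fun k => (SheafOfModules.ιFree (R := X.ringCatSheaf) k ≫ p) ≫ i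
  have hspanJ := @span_germ_eq_top_of_epi_free X J ι p hp x
  have hspan : Submodule.span (X.presheaf.stalk x) (Set.range fun k : ι =>
      stalkMap (t k) x (germOne x)) = ⊤ := by
    have h1 : Submodule.map (stalkMapₗ i x)
        (Submodule.span (X.presheaf.stalk x) (Set.range fun k : ι =>
          stalkMap (SheafOfModules.ιFree k ≫ p) x (germOne x))) = ⊤ := by
      rw [hspanJ, Submodule.map_top, LinearMap.range_eq_top]
      exact hsurj
    rw [Submodule.map_span, ← Set.range_comp] at h1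
    rw [← h1]
    congr 2
    funext k
    have e3 : (stalkFunctor X x).map (t k) =
        (stalkFunctor X x).map (SheafOfModules.ιFree k ≫ p) ≫
          (stalkFunctor X x).map i :=
      (stalkFunctor X x).map_comp _ _
    exact (ConcreteCategory.congr_hom e3 (germOne x)).trans (ConcreteCategory.comp_apply _ _ _)
  obtain ⟨k, hk⟩ := exists_mem_genLocus_of_span_eq_top (isInvertible_structureModule X) t x hspan
  rw [genLocus_unit] at hk
  refine ⟨fnOf (t k), ?_, hk⟩
  have hle' : X.basicOpen (fnOf (t k)) ≤ V := by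
    have := hle (secOf (SheafOfModules.ιFree (R := X.ringCatSheaf) k ≫ p :
        Coh.structureModule X ⟶ J))
    exact this
  have h2 := X.basicOpen_res (fnOf (t k)) (homOfLE (le_top : V ≤ ⊤)).op
  rw [inf_eq_right.mpr hle'] at h2
  rw [← h2]
  exact hV.basicOpen _

/-- functions in the image of `Γ(I, W) → Γ(X, W)` have basic opens disjoint from the support -/
lemma not_mem_support_of_mem_basicOpen (I : X.IdealSheafData) {W : X.Opens}
    (s : Γ(ClSub.idealMod I, W)) {y : X}
    (hy : y ∈ X.basicOpen (show Γ(X, W) from (ClSub.idealModι I).app W s)) : y ∉ I.support := by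
  intro hys
  have hyW : y ∈ W := X.basicOpen_le _ hy
  obtain ⟨W', hW', hyW', hW'W⟩ := exists_isAffineOpen_mem_and_subset (x := y) (U := W) hyW
  rw [Scheme.IdealSheafData.mem_support_iff_of_mem (U := ⟨W', hW'⟩) hyW',
    Scheme.mem_zeroLocus_iff] at hys
  set r : Γ(X, W) := (ClSub.idealModι I).app W s with hr
  have h1 : X.presheaf.map (homOfLE hW'W).op r ∈ I.ideal ⟨W', hW'⟩ := by
    have h2 := SubExt.app_res (ClSub.idealModι I) hW'W s
    have h3 := idealModι_app_eq I ⟨W', hW'⟩ (Glue74.res (ClSub.idealMod I) hW'W s)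
    have h4 : X.presheaf.map (homOfLE hW'W).op r =
        (show Γ(X, W') from (ClSub.idealModι I).app W'
          (Glue74.res (ClSub.idealMod I) hW'W s)) := h2.symm
    rw [h4, h3]
    exact Subtype.property _
  apply hys _ h1
  rw [Scheme.basicOpen_res]
  exact ⟨hyW', hy⟩

end Groth.Agent.Lib.QCoh.QAffMor

namespace Groth.Agent.Lib.QCoh.QAffMor

open Groth.Agent.Lib.QCoh Groth.Agent.Lib.QCoh.FTIdeal Scheme.Modules Groth.Agent.Lib.Ample
open Groth.Agent.Lib.Ample.SpanGen

variable {X : Scheme.{u}}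

lemma restrictUnitIso_hom_app_apply (U : X.Opens) (W : (U : Scheme.{u}).Opens)
    (a : Γ(X, U.ι ''ᵁ W)) :
    (restrictUnitIso U.ι).hom.app W a = (U.ι.appIso W).hom a := rfl

/-- **restricted key**: `U` an open of `X`, `I` an ideal sheaf on `X` whose restriction to `U` is
globally generated, `A` an affine open of `U` on which `I` is the unit ideal and such that `U ∖ A`
lies in the support of `I`: every point of `A` lies in an affine basic open of a function on `U` -/
theorem exists_isAffineOpen_basicOpen_restrict (U : X.Opens) (I : X.IdealSheafData)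
    (hgg : Curv2.IsGloballyGenerated ((ClSub.idealMod I).restrict U.ι))
    {A : (U : Scheme.{u}).Opens} (hA : IsAffineOpen A) (x : (U : Scheme.{u})) (hx : x ∈ A)
    (htop : I.ideal ⟨U.ι ''ᵁ A, hA.image_of_isOpenImmersion U.ι⟩ = ⊤)
    (hcov : ∀ y : (U : Scheme.{u}), y ∉ A → U.ι.base y ∈ I.support) :
    ∃ r : Γ((U : Scheme.{u}), ⊤), IsAffineOpen ((U : Scheme.{u}).basicOpen r) ∧
      x ∈ (U : Scheme.{u}).basicOpen r := by
  let i' : (ClSub.idealMod I).restrict U.ι ⟶ Coh.structureModule (U : Scheme.{u}) :=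
    (restrictFunctor U.ι).map (ClSub.idealModι I) ≫ (restrictUnitIso U.ι).hom
  refine exists_isAffineOpen_basicOpen_of_hom i' hgg hA x ?_ ?_
  · have hA' : IsAffineOpen (U.ι ''ᵁ A) := hA.image_of_isOpenImmersion U.ι
    have h1 : (1 : Γ(X, U.ι ''ᵁ A)) ∈ I.ideal ⟨U.ι ''ᵁ A, hA'⟩ := by rw [htop]; trivial
    set a := (EffCartier74.idealModΓEquivIdeal I ⟨U.ι ''ᵁ A, hA'⟩).symm ⟨1, h1⟩ with ha
    have h2 : (show Γ(X, U.ι ''ᵁ A) from (ClSub.idealModι I).app (U.ι ''ᵁ A) a) = 1 := by
      have := idealModι_app_eq I ⟨U.ι ''ᵁ A, hA'⟩ a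
      rw [ha, LinearEquiv.apply_symm_apply] at this
      exact this
    refine stalkMap_surjective_of_app_eq_one i' x hx
      (show Γ((ClSub.idealMod I).restrict U.ι, A) from a) ?_
    change (U.ι.appIso A).hom
      (show Γ(X, U.ι ''ᵁ A) from (ClSub.idealModι I).app (U.ι ''ᵁ A) a) = 1
    rw [h2]
    exact map_one _
  · intro s y hy
    by_contra hyA
    have hsupp := hcov y hyA
    refine not_mem_support_of_mem_basicOpen I (W := U.ι ''ᵁ ⊤)
      (show Γ(ClSub.idealMod I, U.ι ''ᵁ ⊤) from s) ?_ hsupp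
    have key := Scheme.image_basicOpen U.ι (show Γ((U : Scheme.{u}), ⊤) from i'.app ⊤ s)
    have h3 : (U.ι.appIso ⊤).inv (show Γ((U : Scheme.{u}), ⊤) from i'.app ⊤ s) =
        (show Γ(X, U.ι ''ᵁ ⊤) from (ClSub.idealModι I).app (U.ι ''ᵁ ⊤)
          (show Γ(ClSub.idealMod I, U.ι ''ᵁ ⊤) from s)) := by
      change (U.ι.appIso ⊤).inv ((U.ι.appIso ⊤).hom _) = _
      rw [← CommRingCat.comp_apply, Iso.hom_inv_id]
      rfl
    rw [h3] at key
    rw [← key]
    exact ⟨y, hy, rfl⟩

end Groth.Agent.Lib.QCoh.QAffMor
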