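import Groth.Agent.Lib.QCoh.Helper50_QAffMorB

/-!
# Quasi-affine morphisms from epimorphic counits: conclusion (helper50)

ns `Groth.Agent.Lib.QCoh.QAffMor`.  EGA II 5.1.2 (d) ⟹ (a).
-/

set_option autoImplicit false
universe u
open CategoryTheory CategoryTheory.Limits AlgebraicGeometry Opposite TopologicalSpace

namespace Groth.Agent.Lib.QCoh.QAffMor

open Groth.Agent.Lib.QCoh Groth.Agent.Lib.QCoh.FTIdeal Scheme.Modules Groth.Agent.Lib.Ample

variable {X Y : Scheme.{u}}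

/-- **EGA II 5.1.2 (d) ⟹ (a)**: a quasi-compact separated morphism all of whose counits
`f^* f_* F ⟶ F` (`F` quasi-coherent) are epimorphisms is quasi-affine -/
theorem isQuasiAffine_of_epi_counit (f : X ⟶ Y) [QuasiCompact f] [IsSeparated f]
    (h : ∀ F : X.Modules, F.IsQuasicoherent →
      Epi ((pullbackPushforwardAdjunction f).counit.app F)) : Mor2.IsQuasiAffine f := by
  refine ⟨inferInstance, fun V hV => ?_⟩
  have hUc : CompactSpace (f ⁻¹ᵁ V : Scheme.{u}) :=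
    isCompact_iff_compactSpace.mp (f.isCompact_preimage hV.isCompact)
  refine Scheme.IsQuasiAffine.of_forall_exists_mem_basicOpen _ fun x => ?_
  obtain ⟨A, hA, hxA, -⟩ := exists_isAffineOpen_mem_and_subset (x := x) (U := ⊤) trivial
  let U' : X.Opens := ⟨(closure (((f ⁻¹ᵁ V : X.Opens) : Set X) \ ((f ⁻¹ᵁ V).ι ''ᵁ A : Set X)))ᶜ,
    isClosed_closure.isOpen_compl⟩
  have hAU' : (f ⁻¹ᵁ V).ι ''ᵁ A ≤ U' := by
    intro y hy hy2
    have hd : Disjoint (((f ⁻¹ᵁ V).ι ''ᵁ A : X.Opens) : Set X)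
        (((f ⁻¹ᵁ V : X.Opens) : Set X) \ ((f ⁻¹ᵁ V).ι ''ᵁ A : Set X)) :=
      Set.disjoint_sdiff_right
    have hd2 := hd.closure_right ((f ⁻¹ᵁ V).ι ''ᵁ A).2
    exact Set.disjoint_left.1 hd2 hy hy2
  have hgg := Counit.isGloballyGenerated_restrict_of_epi_counit f
    (ClSub.idealMod (Scheme.IdealSheafData.vanishingIdeal (complCloseds U')))
    (h _ inferInstance) V hV
  refine exists_isAffineOpen_basicOpen_restrict (f ⁻¹ᵁ V) _ hgg hA x hxA
    (vanishingIdeal_ideal_eq_top U' _ hAU') ?_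
  intro y hyA
  change (f ⁻¹ᵁ V).ι.base y ∈
    ((Scheme.IdealSheafData.vanishingIdeal (complCloseds U')).support : Set X)
  rw [Scheme.IdealSheafData.coe_support_vanishingIdeal]
  change (f ⁻¹ᵁ V).ι.base y ∈ ((U' : Set X))ᶜ
  change (f ⁻¹ᵁ V).ι.base y ∈
    ((closure (((f ⁻¹ᵁ V : X.Opens) : Set X) \ ((f ⁻¹ᵁ V).ι ''ᵁ A : Set X)))ᶜ)ᶜ
  rw [compl_compl]
  apply subset_closure
  refine ⟨y.2, ?_⟩
  rintro ⟨z, hz, hzy⟩
  have : z = y := (f ⁻¹ᵁ V).ι.isOpenEmbedding.injective hzy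
  exact hyA (this ▸ hz)

end Groth.Agent.Lib.QCoh.QAffMor
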