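import Mathlib
import Groth.Agent.Lib.QCoh.Helper50_ReceptacleLocal
import Groth.Agent.Lib.QCoh.FinitePresentation
import Groth.Agent.Lib.QCoh.Helper49_FP
import Groth.Agent.Lib.QCoh.Helper50_FPExtD

/-!
# Finite presentation of `Omega.sheaf f` and of receptacles of universal derivations (helper50)

* `isFinitePresentation_of_openImmersion_cover` : f.p. is local for covers by open immersions
* `isFinitePresentation_omega` : `Omega.sheaf f` is f.p. for `f` quasi-separated, l.f.p.
* `isFinitePresentation_of_isUniversal` : any universal receptacle is f.p. for `f` l.f.p.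
-/

set_option autoImplicit false
universe u

open CategoryTheory CategoryTheory.Limits AlgebraicGeometry TopologicalSpace Opposite

namespace Groth.Agent.Lib.QCoh.ReceptacleFP

open Scheme.Modules Groth.Agent.Lib.QCoh

theorem exists_presentation_restrict_image {X Z : Scheme.{u}} (M : X.Modules) (f : Z ⟶ X)
    [IsOpenImmersion f] (V' : Z.Opens)
    (h : ∃ P : ((M.restrict f).restrict V'.ι).Presentation, P.IsFinite) :
    ∃ P : (M.restrict (f ''ᵁ V').ι).Presentation, P.IsFinite := by
  have h1 := exists_presentation_of_iso (restrictImageIso M f V').symm h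
  have h2 := exists_presentation_restrict (inv (imageIso f V').hom) h1
  exact exists_presentation_of_iso
    (restrictInvRestrictIso (imageIso f V').hom (M.restrict (f ''ᵁ V').ι)) h2

/-- finite presentation is local for covers by open immersions -/
theorem isFinitePresentation_of_openImmersion_cover {X : Scheme.{u}} (M : X.Modules)
    (h : ∀ x : X, ∃ (Z : Scheme.{u}) (f : Z ⟶ X) (_ : IsOpenImmersion f),
      x ∈ Set.range f ∧ (M.restrict f).IsFinitePresentation) : M.IsFinitePresentation := by
  have h' : ∀ x : X, ∃ W : X.Opens, x ∈ W ∧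
      ∃ P : (M.restrict W.ι).Presentation, P.IsFinite := by
    intro x
    obtain ⟨Z, f, hf, ⟨z, rfl⟩, hfp⟩ := h x
    obtain ⟨ι, U, hU, hG⟩ := (isFinitePresentation_iff_exists_isOpenCover (M.restrict f)).1 hfp
    have hz : z ∈ (⊤ : Z.Opens) := trivial
    rw [← hU.iSup_eq_top] at hz
    obtain ⟨i, hi⟩ := Opens.mem_iSup.1 hz
    exact ⟨f ''ᵁ U i, ⟨z, hi, rfl⟩, exists_presentation_restrict_image M f (U i) (hG i)⟩
  choose W hxW hG using h'
  refine isFinitePresentation_of_isOpenCover M W ?_ hG
  rw [IsOpenCover, ← top_le_iff]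
  intro x _
  exact Opens.mem_iSup.2 ⟨x, hxW x⟩

/-- for `f` quasi-separated and locally of finite presentation, `Ω_{X/Y}` is finitely presented -/
theorem isFinitePresentation_omega {X Y : Scheme.{u}} (f : X ⟶ Y) [QuasiSeparated f]
    [LocallyOfFinitePresentation f] : (Omega.sheaf f).IsFinitePresentation := by
  let ι : Type u := {p : X.affineOpens × Y.affineOpens // (p.1 : X.Opens) ≤ f ⁻¹ᵁ (p.2 : Y.Opens)}
  refine isFinitePresentation_of_isOpenCover (Omega.sheaf f) (fun i : ι => (i.1.1 : X.Opens)) ?_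
    fun i => ?_
  · rw [IsOpenCover, ← top_le_iff]
    intro x _
    obtain ⟨_, ⟨V, hV, rfl⟩, hxV, -⟩ :=
      Y.isBasis_affineOpens.exists_subset_of_mem_open (Set.mem_univ (f x)) isOpen_univ
    obtain ⟨_, ⟨U, hU, rfl⟩, hxU, hUV⟩ :=
      X.isBasis_affineOpens.exists_subset_of_mem_open
        (show x ∈ ((f ⁻¹ᵁ V : X.Opens) : Set X) from hxV) (f ⁻¹ᵁ V).isOpen
    exact Opens.mem_iSup.2 ⟨⟨(⟨U, hU⟩, ⟨V, hV⟩), hUV⟩, hxU⟩
  · obtain ⟨⟨⟨U, hU⟩, ⟨V, hV⟩⟩, h⟩ := i
    refine exists_presentation_restrict_of_finitePresentation hU (Omega.sheaf f) ?_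
    have hb := OmAffGen.bijective_toSect f hU hV h
    have hfp : (f.appLE V U h).hom.FinitePresentation := f.finitePresentation_appLE hV hU h
    letI : Algebra Γ(Y, V) Γ(X, U) := (f.appLE V U h).hom.toAlgebra
    have : Algebra.FinitePresentation Γ(Y, V) Γ(X, U) := hfp
    have hfin : Module.FinitePresentation Γ(X, U) (Ω[Γ(X, U)⁄Γ(Y, V)]) := inferInstance
    let T : Ω[Γ(X, U)⁄Γ(Y, V)] →ₗ[Γ(X, U)] Γ(Omega.sheaf f, U) := (OmAff.toSect f V U h).hom
    exact Module.FinitePresentation.of_equiv (LinearEquiv.ofBijective T hb)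

/-- any receptacle of a universal derivation of a l.f.p. morphism is finitely presented -/
theorem isFinitePresentation_of_isUniversal {X S : Scheme.{u}} {f : X ⟶ S} {Ω : X.Modules}
    (d : OmegaSh.Der f Ω) [LocallyOfFinitePresentation f] (hd : OmegaSh.IsUniversal d) :
    Ω.IsFinitePresentation := by
  refine isFinitePresentation_of_openImmersion_cover Ω fun x => ?_
  obtain ⟨W, hW, hxW⟩ := ReceptacleLocal.exists_affine_nbhd x
  have : IsAffine W.toScheme := hW
  refine ⟨W.toScheme, W.ι, inferInstance, by simpa using hxW, ?_⟩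
  obtain ⟨θ, -⟩ := ReceptacleLocal.exists_iso_restrict d hd W.ι
  have := isFinitePresentation_omega (W.ι ≫ f)
  exact FPExt.isFinitePresentation_of_iso θ

end Groth.Agent.Lib.QCoh.ReceptacleFP
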