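import Groth.Agent.Lib.QCoh.Helper50_AffineDict
import Mathlib.RingTheory.Artinian.Module
import Mathlib.LinearAlgebra.TensorProduct.Finiteness
import Mathlib.LinearAlgebra.TensorProduct.Pi
import Mathlib.RingTheory.Flat.Basic

/-!
# Jointly injective families and flat base change over an Artinian ring (helper50)
-/

universe u
open TensorProduct

namespace Groth.Agent.Lib.QCoh.SepArtin

variable {A : Type u} [CommRing A] [IsArtinianRing A] (B : Type u) [CommRing B] [Algebra A B]
  [Module.Flat A B] {M : Type u} [AddCommGroup M] [Module A M] {ι : Type u} {N : ι → Type u}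
  [∀ i, AddCommGroup (N i)] [∀ i, Module A (N i)] (u : ∀ i, M →ₗ[A] N i)

/-- the finite partial product maps on a submodule -/
noncomputable def phi (M₀ : Submodule A M) (J : Finset ι) : M₀ →ₗ[A] (∀ i : J, N i) :=
  LinearMap.pi (fun i : J => (u i).comp M₀.subtype)

omit [IsArtinianRing A] in
lemma mem_ker_phi (M₀ : Submodule A M) (J : Finset ι) (m : M₀) :
    m ∈ LinearMap.ker (phi u M₀ J) ↔ ∀ i ∈ J, u i m = 0 := by
  rw [LinearMap.mem_ker]
  constructor
  · intro h i hi
    exact congrFun h ⟨i, hi⟩
  · intro h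
    funext i
    exact h i.1 i.2

include u in
lemma exists_finset_ker_eq_bot (hu : ∀ m, (∀ i, u i m = 0) → m = 0) (M₀ : Submodule A M)
    [Module.Finite A M₀] : ∃ J : Finset ι, LinearMap.ker (phi u M₀ J) = ⊥ := by
  classical
  obtain ⟨K, ⟨J₀, rfl⟩, hmin⟩ := IsArtinian.set_has_minimal
    (Set.range fun J : Finset ι => LinearMap.ker (phi u M₀ J)) ⟨_, ⟨∅, rfl⟩⟩
  refine ⟨J₀, ?_⟩
  rw [eq_bot_iff]
  intro m hm
  rw [Submodule.mem_bot]
  apply Subtype.ext
  apply hu
  intro i
  have hle : LinearMap.ker (phi u M₀ (insert i J₀)) ≤ LinearMap.ker (phi u M₀ J₀) := by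
    intro m' hm'
    rw [mem_ker_phi] at hm' ⊢
    exact fun j hj => hm' j (Finset.mem_insert_of_mem hj)
  have heq : LinearMap.ker (phi u M₀ (insert i J₀)) = LinearMap.ker (phi u M₀ J₀) := by
    by_contra hne
    exact hmin _ ⟨insert i J₀, rfl⟩ (lt_of_le_of_ne hle hne)
  rw [← heq, mem_ker_phi] at hm
  exact hm i (Finset.mem_insert_self i J₀)

include u in
/-- **Jointly injective families stay jointly injective after flat base change over an Artinian
ring.** -/
theorem eq_zero_of_forall_lTensor_eq_zero (hu : ∀ m, (∀ i, u i m = 0) → m = 0)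
    (x : B ⊗[A] M) (hx : ∀ i, (u i).lTensor B x = 0) : x = 0 := by
  classical
  obtain ⟨M₀, hfin, hM₀⟩ := TensorProduct.exists_finite_submodule_right_of_setFinite
    ({x} : Set (B ⊗[A] M)) (Set.finite_singleton x)
  obtain ⟨y, rfl⟩ := hM₀ (Set.mem_singleton x)
  obtain ⟨J, hJ⟩ := exists_finset_ker_eq_bot u hu M₀
  have hinj : Function.Injective (phi u M₀ J) := LinearMap.ker_eq_bot.1 hJ
  have hinjB : Function.Injective ((phi u M₀ J).lTensor B) :=
    Module.Flat.lTensor_preserves_injective_linearMap _ hinj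
  have hy : y = 0 := by
    apply hinjB
    rw [map_zero]
    apply (TensorProduct.piRight A A B (fun i : J => N i)).injective
    rw [map_zero]
    funext i
    have key : ∀ z : B ⊗[A] M₀, (TensorProduct.piRight A A B (fun i : J => N i))
        ((phi u M₀ J).lTensor B z) i = (u i).lTensor B (M₀.subtype.lTensor B z) := by
      intro z
      induction z with
      | zero => simp
      | add a b ha hb =>
        simp only [map_add, Pi.add_apply] at ha hb ⊢
        rw [ha, hb]
      | tmul b m => rfl
    rw [key]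
    exact hx i
  rw [hy, map_zero]

end Groth.Agent.Lib.QCoh.SepArtin
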