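import Groth.Agent.Lib.QCoh.Helper50_QAffMorB
import Groth.Agent.Lib.Cohomology.helper5_CohSigma
import Groth.Agent.Lib.QCoh.Helper43_PushQcqs

/-!
# Serre's affineness criterion via exactness of sections on quasi-coherent modules (helper50)

ns `Groth.Agent.Lib.QCoh.SerreRel`.  EGA II 5.2.2 (b) ⟹ (a), without cohomology: a quasi-compact open
`U` of `X` such that `Γ(U, -)` sends epimorphisms of quasi-coherent `O_X`-modules to surjections is affine.
-/

set_option autoImplicit false
universe u
open CategoryTheory CategoryTheory.Limits AlgebraicGeometry Opposite TopologicalSpace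

namespace Groth.Agent.Lib.QCoh.SerreRel

open Groth.Agent.Lib.QCoh Groth.Agent.Lib.QCoh.FTIdeal Scheme.Modules Groth.Agent.Lib.Ample
open Groth.Agent.Lib.QCoh.QAffMor Groth.Agent.Lib.Cohomology.CohSigma

variable {X : Scheme.{u}}

/-- the open complement of the closure of `U ∖ A` -/
def offOpen (U A : X.Opens) : X.Opens :=
  ⟨(closure ((U : Set X) \ (A : Set X)))ᶜ, isClosed_closure.isOpen_compl⟩

lemma le_offOpen (U A : X.Opens) : A ≤ offOpen U A := by
  intro y hy hy2
  have hd : Disjoint (A : Set X) ((U : Set X) \ (A : Set X)) := Set.disjoint_sdiff_right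
  exact Set.disjoint_left.1 (hd.closure_right A.2) hy hy2

/-- the ideal of functions vanishing on the closure of `U ∖ A` -/
noncomputable def offIdeal (U A : X.Opens) : X.IdealSheafData :=
  Scheme.IdealSheafData.vanishingIdeal (complCloseds (offOpen U A))

lemma mem_support_offIdeal {U A : X.Opens} {y : X} (hyU : y ∈ U) (hyA : y ∉ A) :
    y ∈ (offIdeal U A).support := by
  change y ∈ ((Scheme.IdealSheafData.vanishingIdeal (complCloseds (offOpen U A))).support : Set X)
  rw [Scheme.IdealSheafData.coe_support_vanishingIdeal]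
  change y ∈ ((closure ((U : Set X) \ (A : Set X)))ᶜ)ᶜ
  rw [compl_compl]
  exact subset_closure ⟨hyU, hyA⟩

lemma offIdeal_ideal_eq_top {U A : X.Opens} (hA : IsAffineOpen A) :
    (offIdeal U A).ideal ⟨A, hA⟩ = ⊤ :=
  vanishingIdeal_ideal_eq_top (offOpen U A) hA (le_offOpen U A)

/-- sections of the ideal over `U` have basic opens inside `A` -/
lemma basicOpen_le_of_offIdeal {U A : X.Opens} (t : Γ(ClSub.idealMod (offIdeal U A), U)) :
    X.basicOpen (show Γ(X, U) from (ClSub.idealModι (offIdeal U A)).app U t) ≤ A := by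
  intro y hy
  by_contra hyA
  exact not_mem_support_of_mem_basicOpen (offIdeal U A) t hy
    (mem_support_offIdeal (X.basicOpen_le _ hy) hyA)


/-- **Serre's criterion, exactness form**: a quasi-compact open `U` such that sections over `U` send
epimorphisms of quasi-coherent modules on `X` to surjections is affine -/
theorem isAffineOpen_of_forall_epi_surjective (U : X.Opens) (hUc : IsCompact (U : Set X))
    (H : ∀ (F F'' : X.Modules) (p : F ⟶ F''), F.IsQuasicoherent → F''.IsQuasicoherent → Epi p →
      Function.Surjective (p.app U)) : IsAffineOpen U := by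
  classical
  obtain ⟨S, hS, e⟩ := isCompact_and_isOpen_iff_finite_and_eq_biUnion_affineOpens.mp ⟨hUc, U.2⟩
  have hfin : Finite S := hS.to_subtype
  obtain ⟨n, ⟨eq⟩⟩ := Finite.exists_equiv_fin S
  let A : Fin n → X.Opens := fun j => (eq.symm j).1.1
  have hA : ∀ j, IsAffineOpen (A j) := fun j => (eq.symm j).1.2
  have hAU : ∀ j, A j ≤ U := by
    intro j y hy
    change y ∈ (U : Set X)
    rw [e]
    exact Set.mem_iUnion₂.2 ⟨(eq.symm j).1, (eq.symm j).2, hy⟩
  have hcov : U ≤ iSup A := by
    intro y hy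
    have hy' : y ∈ (U : Set X) := hy
    rw [e] at hy'
    obtain ⟨i, hi, hyi⟩ := Set.mem_iUnion₂.1 hy'
    refine Opens.mem_iSup.2 ⟨eq ⟨i, hi⟩, ?_⟩
    change y ∈ ((eq.symm (eq ⟨i, hi⟩)).1.1 : X.Opens)
    rw [Equiv.symm_apply_apply]
    exact hyi
  let J : Fin n → X.Modules := fun j => ClSub.idealMod (offIdeal U (A j))
  let ιJ : ∀ j, J j ⟶ Coh.structureModule X := fun j => ClSub.idealModι (offIdeal U (A j))
  let φ : ∐ J ⟶ Coh.structureModule X := Sigma.desc ιJ
  have hPq : (∐ J).IsQuasicoherent := isQuasicoherent_sigma_fin J (fun j => inferInstance)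
  have hCq : (cokernel φ).IsQuasicoherent := isQuasicoherent_cokernel φ
  have hKq : (Abelian.image φ).IsQuasicoherent := isQuasicoherent_kernel (cokernel.π φ)
  have hsurj := H _ _ (Abelian.factorThruImage φ) hPq hKq inferInstance
  have hminj : ∀ W : X.Opens, Function.Injective ((Abelian.image.ι φ).app W) :=
    fun W => app_injective_of_mono (Abelian.image.ι φ) W
  have hfac : ∀ (W : X.Opens) (t : Γ(∐ J, W)),
      (Abelian.image.ι φ).app W ((Abelian.factorThruImage φ).app W t) = φ.app W t := by
    intro W t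
    have := congrArg (fun ψ => (Scheme.Modules.Hom.app ψ W) t) (Abelian.image.fac φ)
    exact this
  have hιφ : ∀ (j : Fin n) (W : X.Opens) (a : Γ(J j, W)),
      φ.app W ((Sigma.ι J j).app W a) = (ιJ j).app W a := by
    intro j W a
    have := congrArg (fun ψ => (Scheme.Modules.Hom.app ψ W) a) (Sigma.ι_desc ιJ j)
    exact this
  -- local preimages of `1`
  have hloc : ∀ j, ∃ k : Γ(Abelian.image φ, A j),
      (Abelian.image.ι φ).app (A j) k = (1 : Γ(X, A j)) := by
    intro j
    have h1 : (1 : Γ(X, A j)) ∈ (offIdeal U (A j)).ideal ⟨A j, hA j⟩ := by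
      rw [offIdeal_ideal_eq_top (hA j)]; trivial
    set a := (EffCartier74.idealModΓEquivIdeal (offIdeal U (A j)) ⟨A j, hA j⟩).symm ⟨1, h1⟩
      with ha
    have h2 : (show Γ(X, A j) from (ιJ j).app (A j) a) = 1 := by
      have := idealModι_app_eq (offIdeal U (A j)) ⟨A j, hA j⟩ a
      rw [ha, LinearEquiv.apply_symm_apply] at this
      exact this
    refine ⟨(Abelian.factorThruImage φ).app (A j) ((Sigma.ι J j).app (A j) a), ?_⟩
    rw [hfac, hιφ]
    exact h2
  choose k hk using hloc
  have hcompat : ∀ i j, (Abelian.image φ).presheaf.map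
      (homOfLE (inf_le_left : A i ⊓ A j ≤ A i)).op (k i) =
      (Abelian.image φ).presheaf.map (homOfLE (inf_le_right : A i ⊓ A j ≤ A j)).op (k j) := by
    intro i j
    apply hminj
    rw [Lift74.app_naturality_apply', Lift74.app_naturality_apply', hk, hk]
    exact (map_one (X.presheaf.map (homOfLE (inf_le_left : A i ⊓ A j ≤ A i)).op).hom).trans
      (map_one (X.presheaf.map (homOfLE (inf_le_right : A i ⊓ A j ≤ A j)).op).hom).symm
  obtain ⟨k₀, hk₀⟩ := exists_gluing_of_cover (Abelian.image φ) A U hAU hcov k hcompat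
  have hk₀1 : (Abelian.image.ι φ).app U k₀ = (1 : Γ(X, U)) := by
    refine sections_ext_of_cover (Coh.structureModule X) A U hAU hcov _ _ fun j => ?_
    rw [← Lift74.app_naturality_apply', hk₀ j, hk j]
    exact (map_one (X.presheaf.map (homOfLE (hAU j)).op).hom).symm
  obtain ⟨t, ht⟩ := hsurj k₀
  have hφt : φ.app U t = (1 : Γ(X, U)) := by rw [← hfac, ht, hk₀1]
  -- decompose `t`
  let b : Fin n → Γ(X, U) := fun j => (ιJ j).app U ((Sigma.π J j).app U t)
  have hsum : ∑ j, b j = 1 := by
    have hx : t = (∑ j, Sigma.π J j ≫ Sigma.ι J j).app U t := by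
      rw [sum_π_ι]; rfl
    rw [sum_app] at hx
    have h3 := congrArg (φ.app U) hx
    rw [hφt, map_sum] at h3
    rw [h3]
    refine Finset.sum_congr rfl fun j _ => ?_
    exact (hιφ j U _).symm
  refine isAffineOpen_of_isAffineOpen_basicOpen U (Set.range b) ?_ ?_
  · rw [Ideal.eq_top_iff_one, ← hsum]
    exact Ideal.sum_mem _ fun j _ => Ideal.subset_span ⟨j, rfl⟩
  · rintro _ ⟨j, rfl⟩
    have hle : X.basicOpen (b j) ≤ A j := basicOpen_le_of_offIdeal _
    have h2 := X.basicOpen_res (b j) (homOfLE (hAU j)).op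
    rw [inf_eq_right.mpr hle] at h2
    rw [← h2]
    exact (hA j).basicOpen _

end Groth.Agent.Lib.QCoh.SerreRel
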