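import Groth.Agent.Lib.QCoh.Helper50_SerreRel
import Groth.Agent.Lib.QCoh.Helper50_Products

/-!
# Serre's affineness criterion, ideal form (helper50)

ns `Groth.Agent.Lib.QCoh.SerreRel2`.  A quasi-compact open `U` of `X` is affine as soon as, for any two
quasi-coherent ideals `I₁, I₂ ⊆ O_X`, sections over `U` of `I₁ ⊕ I₂ → I₁ + I₂` are surjective
(`isAffineOpen_of_sumSurj`).  The kernel of `I₁ ⊕ I₂ → O_X` embeds in `O_X`
(`mono_kernel_desc_fst`), so this follows from vanishing of `H¹` on ideals only.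
-/

set_option autoImplicit false
universe u
open CategoryTheory CategoryTheory.Limits AlgebraicGeometry Opposite TopologicalSpace

namespace Groth.Agent.Lib.QCoh.SerreRel2

open Groth.Agent.Lib.QCoh Groth.Agent.Lib.QCoh.FTIdeal Scheme.Modules Groth.Agent.Lib.Ample
open Groth.Agent.Lib.QCoh.QAffMor Groth.Agent.Lib.QCoh.SerreRel

variable {X : Scheme.{u}}

/-- sections over `U` of `I₁ ⊞ I₂ → I₁ + I₂` are surjective, for quasi-coherent ideals -/
def SumSurj (U : X.Opens) : Prop :=
  ∀ (I₁ I₂ : X.Modules) (ι₁ : I₁ ⟶ Coh.structureModule X) (ι₂ : I₂ ⟶ Coh.structureModule X),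
    Mono ι₁ → Mono ι₂ → I₁.IsQuasicoherent → I₂.IsQuasicoherent →
    Function.Surjective ((Abelian.factorThruImage (biprod.desc ι₁ ι₂)).app U)

/-- the kernel of `I₁ ⊞ I₂ → O` embeds into `I₁` (hence into `O`) when `I₂ → O` is mono -/
lemma mono_kernel_desc_fst {A B C : X.Modules} (a : A ⟶ C) (b : B ⟶ C) [Mono b] :
    Mono (kernel.ι (biprod.desc a b) ≫ biprod.fst) := by
  apply Preadditive.mono_of_cancel_zero
  intro T g hg
  have h0 : (g ≫ kernel.ι (biprod.desc a b)) ≫ biprod.desc a b = 0 := by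
    rw [Category.assoc, kernel.condition, comp_zero]
  have h1 : (g ≫ kernel.ι (biprod.desc a b)) ≫ biprod.fst = 0 := by
    rw [Category.assoc]; exact hg
  have h2 : (g ≫ kernel.ι (biprod.desc a b)) ≫ biprod.snd = 0 := by
    rw [← cancel_mono b, zero_comp]
    have h3 : (g ≫ kernel.ι (biprod.desc a b)) ≫ (biprod.fst ≫ biprod.inl + biprod.snd ≫ biprod.inr)
        ≫ biprod.desc a b = 0 := by
      rw [biprod.total, Category.id_comp, h0]
    rw [Preadditive.add_comp, Preadditive.comp_add] at h3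
    simp only [Category.assoc, biprod.inl_desc, biprod.inr_desc] at h3
    rw [← Category.assoc, ← Category.assoc, h1, zero_comp, zero_add] at h3
    simpa [Category.assoc] using h3
  have h4 : g ≫ kernel.ι (biprod.desc a b) = 0 := by
    apply biprod.hom_ext
    · rw [h1, zero_comp]
    · rw [h2, zero_comp]
  rw [← cancel_mono (kernel.ι (biprod.desc a b)), h4, zero_comp]

lemma biprod_decomp {A B : X.Modules} (W : X.Opens) (t : Γ(A ⊞ B, W)) :
    t = (biprod.inl : A ⟶ A ⊞ B).app W ((biprod.fst : A ⊞ B ⟶ A).app W t) +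
      (biprod.inr : B ⟶ A ⊞ B).app W ((biprod.snd : A ⊞ B ⟶ B).app W t) := by
  have h := congrArg (fun ψ : A ⊞ B ⟶ A ⊞ B => (Scheme.Modules.Hom.app ψ W) t)
    (biprod.total (X := A) (Y := B))
  exact h.symm

lemma desc_app {A B C : X.Modules} (a : A ⟶ C) (b : B ⟶ C) (W : X.Opens) (t : Γ(A ⊞ B, W)) :
    (biprod.desc a b).app W t = a.app W ((biprod.fst : A ⊞ B ⟶ A).app W t) +
      b.app W ((biprod.snd : A ⊞ B ⟶ B).app W t) := by
  conv_lhs => rw [biprod_decomp W t]
  rw [map_add]
  congr 1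
  · exact congrArg (fun ψ : A ⟶ C => (Scheme.Modules.Hom.app ψ W) _) (biprod.inl_desc a b)
  · exact congrArg (fun ψ : B ⟶ C => (Scheme.Modules.Hom.app ψ W) _) (biprod.inr_desc a b)

/-- iterated sums of ideals: the sum `K` of `J 0, …, J (m-1)` with decomposition of its sections over `U` -/
theorem exists_sum (U : X.Opens) (H2 : SumSurj U)
    (J : ℕ → X.Modules) (ιJ : ∀ j, J j ⟶ Coh.structureModule X) (hm : ∀ j, Mono (ιJ j))
    (hq : ∀ j, (J j).IsQuasicoherent) (m : ℕ) :
    ∃ (K : X.Modules) (ι : K ⟶ Coh.structureModule X), Mono ι ∧ K.IsQuasicoherent ∧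
      (∀ j < m, ∀ (W : X.Opens) (a : Γ(J j, W)), ∃ k : Γ(K, W), ι.app W k = (ιJ j).app W a) ∧
      (∀ k : Γ(K, U), ∃ b : ℕ → Γ(Coh.structureModule X, U),
        (∀ j, b j ∈ Set.range ((ιJ j).app U)) ∧ ι.app U k = ∑ j ∈ Finset.range m, b j) := by
  induction m with
  | zero =>
    refine ⟨kernel (𝟙 (Coh.structureModule X)), kernel.ι _, inferInstance,
      isQuasicoherent_kernel _, ?_, ?_⟩
    · intro j hj; exact absurd hj (Nat.not_lt_zero j)
    · intro k
      have h0 : kernel.ι (𝟙 (Coh.structureModule X)) = 0 := by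
        have := kernel.condition (𝟙 (Coh.structureModule X))
        rwa [Category.comp_id] at this
      refine ⟨fun j => (ιJ j).app U 0, fun j => ⟨0, rfl⟩, ?_⟩
      rw [Finset.range_zero, Finset.sum_empty, h0]
      rfl
  | succ m ih =>
    obtain ⟨K, ι, hKm, hKq, ha, hb⟩ := ih
    have := hq m
    have := hm m
    have hPq : (J m ⊞ K).IsQuasicoherent := isQuasicoherent_biprod (J m) K
    let φ : J m ⊞ K ⟶ Coh.structureModule X := biprod.desc (ιJ m) ι
    have hCq : (cokernel φ).IsQuasicoherent := isQuasicoherent_cokernel φ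
    have hfac : ∀ (W : X.Opens) (t : Γ(J m ⊞ K, W)),
        (Abelian.image.ι φ).app W ((Abelian.factorThruImage φ).app W t) = φ.app W t := by
      intro W t
      have := congrArg (fun ψ => (Scheme.Modules.Hom.app ψ W) t) (Abelian.image.fac φ)
      exact this
    refine ⟨Abelian.image φ, Abelian.image.ι φ, inferInstance,
      isQuasicoherent_kernel (cokernel.π φ), ?_, ?_⟩
    · intro j hj W a
      rcases Nat.lt_succ_iff_lt_or_eq.1 hj with hj' | rfl
      · obtain ⟨k, hk⟩ := ha j hj' W a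
        refine ⟨(Abelian.factorThruImage φ).app W ((biprod.inr : K ⟶ J m ⊞ K).app W k), ?_⟩
        rw [hfac, ← hk]
        exact congrArg (fun ψ : K ⟶ Coh.structureModule X => (Scheme.Modules.Hom.app ψ W) k)
          (biprod.inr_desc (ιJ m) ι)
      · refine ⟨(Abelian.factorThruImage φ).app W ((biprod.inl : J j ⟶ J j ⊞ K).app W a), ?_⟩
        rw [hfac]
        exact congrArg (fun ψ : J j ⟶ Coh.structureModule X => (Scheme.Modules.Hom.app ψ W) a)
          (biprod.inl_desc (ιJ j) ι)
    · intro k'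
      obtain ⟨t, ht⟩ := H2 (J m) K (ιJ m) ι (hm m) hKm (hq m) hKq k'
      obtain ⟨b, hbr, hbs⟩ := hb ((biprod.snd : J m ⊞ K ⟶ K).app U t)
      refine ⟨fun j => if j = m then (ιJ m).app U ((biprod.fst : J m ⊞ K ⟶ J m).app U t) else b j,
        ?_, ?_⟩
      · intro j
        by_cases hj : j = m
        · subst hj
          simp only [if_true]
          exact ⟨_, rfl⟩
        · simp only [if_neg hj]
          exact hbr j
      · rw [← ht, hfac, desc_app, hbs, Finset.sum_range_succ, if_pos rfl, add_comm]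
        congr 1
        refine Finset.sum_congr rfl fun j hj => ?_
        rw [if_neg (Finset.mem_range.1 hj).ne]

/-- **Serre's criterion, ideal form**: a quasi-compact open `U` with `SumSurj U` is affine -/
theorem isAffineOpen_of_sumSurj (U : X.Opens) (hUc : IsCompact (U : Set X)) (H2 : SumSurj U) :
    IsAffineOpen U := by
  classical
  obtain ⟨S, hS, e⟩ := isCompact_and_isOpen_iff_finite_and_eq_biUnion_affineOpens.mp ⟨hUc, U.2⟩
  have hfin : Finite S := hS.to_subtype
  obtain ⟨n, ⟨eq⟩⟩ := Finite.exists_equiv_fin S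
  let A : ℕ → X.Opens := fun j => if h : j < n then (eq.symm ⟨j, h⟩).1.1 else ⊥
  have hA : ∀ j, IsAffineOpen (A j) := by
    intro j
    by_cases h : j < n
    · simp only [A, dif_pos h]; exact (eq.symm ⟨j, h⟩).1.2
    · simp only [A, dif_neg h]; exact isAffineOpen_bot X
  have hAU : ∀ j, A j ≤ U := by
    intro j
    by_cases h : j < n
    · simp only [A, dif_pos h]
      intro y hy
      change y ∈ (U : Set X)
      rw [e]
      exact Set.mem_iUnion₂.2 ⟨(eq.symm ⟨j, h⟩).1, (eq.symm ⟨j, h⟩).2, hy⟩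
    · simp only [A, dif_neg h]; exact bot_le
  have hcov : U ≤ ⨆ i : Fin n, A i := by
    intro y hy
    have hy' : y ∈ (U : Set X) := hy
    rw [e] at hy'
    obtain ⟨i, hi, hyi⟩ := Set.mem_iUnion₂.1 hy'
    refine Opens.mem_iSup.2 ⟨eq ⟨i, hi⟩, ?_⟩
    have hlt : ((eq ⟨i, hi⟩ : Fin n) : ℕ) < n := (eq ⟨i, hi⟩).2
    simp only [A, dif_pos hlt, Fin.eta, Equiv.symm_apply_apply]
    exact hyi
  let J : ℕ → X.Modules := fun j => ClSub.idealMod (offIdeal U (A j))
  let ιJ : ∀ j, J j ⟶ Coh.structureModule X := fun j => ClSub.idealModι (offIdeal U (A j))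
  obtain ⟨K, ι, hKm, hKq, ha, hb⟩ :=
    exists_sum U H2 J ιJ (fun j => by
      change Mono (ClSub.idealModι (offIdeal U (A j)))
      unfold ClSub.idealModι
      exact equalizer.ι_mono) (fun j => inferInstance) n
  have hminj : ∀ W : X.Opens, Function.Injective (ι.app W) := fun W => app_injective_of_mono ι W
  have hloc : ∀ j : Fin n, ∃ k : Γ(K, A j), ι.app (A j) k = (1 : Γ(X, A j)) := by
    intro j
    have h1 : (1 : Γ(X, A j)) ∈ (offIdeal U (A j)).ideal ⟨A j, hA j⟩ := by
      rw [offIdeal_ideal_eq_top (hA j)]; trivial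
    set a := (EffCartier74.idealModΓEquivIdeal (offIdeal U (A j)) ⟨A j, hA j⟩).symm ⟨1, h1⟩
      with ha'
    have h2 : (show Γ(X, A j) from (ιJ j).app (A j) a) = 1 := by
      have := idealModι_app_eq (offIdeal U (A j)) ⟨A j, hA j⟩ a
      rw [ha', LinearEquiv.apply_symm_apply] at this
      exact this
    obtain ⟨k, hk⟩ := ha j j.2 (A j) a
    exact ⟨k, hk.trans h2⟩
  choose k hk using hloc
  have hcompat : ∀ i j : Fin n, K.presheaf.map
      (homOfLE (inf_le_left : A i ⊓ A j ≤ A i)).op (k i) =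
      K.presheaf.map (homOfLE (inf_le_right : A i ⊓ A j ≤ A j)).op (k j) := by
    intro i j
    apply hminj
    rw [Lift74.app_naturality_apply', Lift74.app_naturality_apply', hk, hk]
    exact (map_one (X.presheaf.map (homOfLE (inf_le_left : A i ⊓ A j ≤ A i)).op).hom).trans
      (map_one (X.presheaf.map (homOfLE (inf_le_right : A i ⊓ A j ≤ A j)).op).hom).symm
  obtain ⟨k₀, hk₀⟩ := exists_gluing_of_cover K (fun i : Fin n => A i) U (fun i => hAU i) hcov k
    hcompat
  have hk₀1 : ι.app U k₀ = (1 : Γ(X, U)) := by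
    refine sections_ext_of_cover (Coh.structureModule X) (fun i : Fin n => A i) U (fun i => hAU i)
      hcov _ _ fun j => ?_
    rw [← Lift74.app_naturality_apply', hk₀ j, hk j]
    exact (map_one (X.presheaf.map (homOfLE (hAU j)).op).hom).symm
  obtain ⟨b, hbr, hbs⟩ := hb k₀
  let b' : ℕ → Γ(X, U) := fun j => b j
  have hsum : ∑ j ∈ Finset.range n, b' j = 1 := hbs.symm.trans hk₀1
  refine isAffineOpen_of_isAffineOpen_basicOpen U (Set.range b') ?_ ?_
  · rw [Ideal.eq_top_iff_one, ← hsum]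
    exact Ideal.sum_mem _ fun j _ => Ideal.subset_span ⟨j, rfl⟩
  · rintro _ ⟨j, rfl⟩
    obtain ⟨t, ht⟩ := hbr j
    have hle : X.basicOpen (b' j) ≤ A j := by
      have := basicOpen_le_of_offIdeal (U := U) (A := A j) t
      have hbj : b' j = (ClSub.idealModι (offIdeal U (A j))).app U t := ht.symm
      rw [hbj]
      exact this
    have h2 := X.basicOpen_res (b' j) (homOfLE (hAU j)).op
    rw [inf_eq_right.mpr hle] at h2
    rw [← h2]
    exact (hA j).basicOpen _

end Groth.Agent.Lib.QCoh.SerreRel2
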