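import Mathlib
import Groth.Prelude.Def_RelSpec
import Groth.Agent.Lib.QCoh.Helper66_SubSum

/-!
# Quasi-coherent algebras: submodules of finite type generating the algebra (helper66)

ns `Groth.Agent.Lib.QCoh.QCAlgSub`.
-/

set_option autoImplicit false
universe u v
open CategoryTheory AlgebraicGeometry Opposite TopologicalSpace

namespace Groth.Agent.Lib.QCoh.QCAlgSub

open Groth.Agent.Lib.QCoh.Glue74 Groth.Agent.Lib.QCoh Groth.Agent.Lib.QCoh.SubExt

variable {X : Scheme.{u}} (B : RelSpec.QCAlg X)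

/-- the ring of sections -/
abbrev BS (V : X.Opens) : Type u := B.presheaf.obj (op V)

/-- restriction of sections of the algebra -/
noncomputable abbrev resB {V' V : X.Opens} (h : V' ≤ V) : BS B V →+* BS B V' :=
  (B.presheaf.map (homOfLE h).op).hom

/-- the structure map -/
noncomputable abbrev strB (V : X.Opens) : Γ(X, V) →+* BS B V := (B.str.app (op V)).hom

lemma strB_res {V' V : X.Opens} (h : V' ≤ V) (r : Γ(X, V)) :
    strB B V' (X.presheaf.map (homOfLE h).op r) = resB B h (strB B V r) :=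
  congr($(B.str.naturality (homOfLE h).op) r)

lemma resB_resB {V'' V' V : X.Opens} (h' : V'' ≤ V') (h : V' ≤ V) (b : BS B V) :
    resB B h' (resB B h b) = resB B (h'.trans h) b := by
  change (B.presheaf.map (homOfLE h).op ≫ B.presheaf.map (homOfLE h').op).hom b = _
  rw [← Functor.map_comp]
  rfl

/-- sections of the module are sections of the algebra -/
def toBS (V : X.Opens) : Γ(B.toModule, V) ≃ BS B V := Equiv.refl _

lemma toBS_smul {V : X.Opens} (r : Γ(X, V)) (m : Γ(B.toModule, V)) :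
    toBS B V (r • m) = strB B V r * toBS B V m := rfl

lemma toBS_res {V' V : X.Opens} (h : V' ≤ V) (m : Γ(B.toModule, V)) :
    toBS B V' (res B.toModule h m) = resB B h (toBS B V m) := rfl

lemma toBS_add {V : X.Opens} (m m' : Γ(B.toModule, V)) :
    toBS B V (m + m') = toBS B V m + toBS B V m' := rfl

lemma toBS_zero {V : X.Opens} : toBS B V 0 = 0 := rfl

lemma exists_pow_mul_eq_res {V : X.Opens} (hV : IsAffineOpen V) (g : Γ(X, V))
    (y : BS B (X.basicOpen g)) :
    ∃ (n : ℕ) (x : BS B V), resB B (X.basicOpen_le g) x =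
      strB B _ (X.presheaf.map (homOfLE (X.basicOpen_le g)).op g) ^ n * y := by
  let _ := (B.presheaf.map (homOfLE (X.basicOpen_le g)).op).hom.toAlgebra
  have hloc : IsLocalization.Away ((B.str.app (op V)).hom g) (B.presheaf.obj (op (X.basicOpen g))) :=
    B.isQC V hV g
  obtain ⟨⟨x, ⟨_, n, rfl⟩⟩, hx⟩ := IsLocalization.surj (Submonoid.powers ((B.str.app (op V)).hom g)) y
  refine ⟨n, x, ?_⟩
  have hx' : y * resB B (X.basicOpen_le g) (strB B V g ^ n) = resB B (X.basicOpen_le g) x := hx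
  rw [← hx', map_pow, ← strB_res, mul_comm]

lemma exists_pow_mul_eq_zero {V : X.Opens} (hV : IsAffineOpen V) (g : Γ(X, V)) (x : BS B V)
    (hx : resB B (X.basicOpen_le g) x = 0) : ∃ n : ℕ, strB B V g ^ n * x = 0 := by
  let _ := (B.presheaf.map (homOfLE (X.basicOpen_le g)).op).hom.toAlgebra
  have hloc : IsLocalization.Away ((B.str.app (op V)).hom g) (B.presheaf.obj (op (X.basicOpen g))) :=
    B.isQC V hV g
  have h0 : algebraMap (BS B V) (BS B (X.basicOpen g)) x = algebraMap (BS B V) (BS B (X.basicOpen g)) 0 := by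
    rw [map_zero]; exact hx
  obtain ⟨⟨_, n, rfl⟩, hc⟩ := (IsLocalization.eq_iff_exists (Submonoid.powers ((B.str.app (op V)).hom g)) _).mp h0
  exact ⟨n, by simpa using hc⟩

instance isQuasicoherent_toModule : B.toModule.IsQuasicoherent := by
  refine LocCrit.isQuasicoherent_of_elementwise B.toModule
    (fun V : X.affineOpens => (V : X.Opens)) (isOpenCover_affineOpens X) (fun V => V.2) ?_ ?_
  · intro V g y
    obtain ⟨n, x, hx⟩ := exists_pow_mul_eq_res B V.2 g (toBS B _ y)
    refine ⟨n, (toBS B _).symm x, ?_⟩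
    apply (toBS B _).injective
    rw [toBS_smul, map_pow]
    exact hx
  · intro V g x hx
    obtain ⟨n, hn⟩ := exists_pow_mul_eq_zero B V.2 g (toBS B _ x) hx
    refine ⟨n, ?_⟩
    have : toBS B _ (g ^ n • x) = strB B _ g ^ n * toBS B _ x := by
      rw [toBS_smul, map_pow]
    exact this.trans hn

section Through

variable {F : X.Modules}

/-- family version of EGA I 9.4.9: a section over `U` lies in a local, locally finitely generated
family, given a well-ordered affine cover adapted to `U` -/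
theorem exists_subFam_through_section {L : Type v} [LinearOrder L] [WellFoundedLT L]
    (V : L → X.Opens) (hV : ∀ l, IsAffineOpen (V l)) (hcov : ∀ x : X, ∃ l, x ∈ V l) (U : X.Opens)
    (hcomp : ∀ l, IsCompact ((V l ⊓ Wof V U (Set.Iio l) : X.Opens) : Set X))
    [F.IsQuasicoherent] (s : Γ(F, U)) :
    ∃ N : SubFam F, N.IsLocal ∧ N.IsLFG ⊤ ∧ s ∈ N.sec U := by
  let T : Fin 1 → Γ(F, U) := fun _ => s
  let N₀ : SubFam F := (⊤ : SubFam F).extend ⊥ U T
  have htop : ∀ (D : X.Opens) (m : Γ(F, D)), m ∈ (⊤ : SubFam F).sec D :=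
    fun D m => (Submodule.mem_top : m ∈ (⊤ : Submodule Γ(X, D) Γ(F, D)))
  have hT2 : ∀ (V' : X.Opens) (h : V' ≤ U ⊓ ⊥) (m : Γ(F, V')), m ∈ (⊤ : SubFam F).sec V' →
      LocSpan F T V' (h.trans inf_le_left) m := by
    intro V' h m _ x hx
    exact (h hx).2.elim
  have hloc₀ : N₀.IsLocal := SubFam.extend_isLocal (fun D m _ => htop D m)
  have hsat₀ : N₀.IsSat U := SubFam.extend_isSat.mono (sup_le bot_le le_rfl)
  have hlfg₀ : N₀.IsLFG U :=
    (SubFam.extend_isLFG (N := (⊤ : SubFam F)) (W := ⊥) (fun x hx => hx.elim) (fun i => htop _ _)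
      hT2).anti le_sup_right
  obtain ⟨N, hloc, hlfg, hbase⟩ := exists_extension V U N₀ hV hcomp hloc₀ hsat₀ hlfg₀
  refine ⟨N, hloc, ?_, ?_⟩
  · intro x _
    obtain ⟨l, hl⟩ := hcov x
    obtain ⟨V₀, -, hxV₀, n, t, hg⟩ := hlfg x ((mem_Wof V U).mpr (Or.inr ⟨l, trivial, hl⟩))
    exact ⟨V₀, le_top, hxV₀, n, t, hg⟩
  · rw [hbase U le_rfl]
    exact (SubFam.mem_extend_iff _ _ _ _ _).mpr ⟨htop _ _, LocSpan.gen _ 0⟩

theorem exists_subFam_through_section_of_locallyNoetherian
    (hX : ∀ x : X, ∃ U : X.Opens, x ∈ U ∧ NoetherianSpace (U : Set X))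
    [F.IsQuasicoherent] (U : X.Opens) (s : Γ(F, U)) :
    ∃ N : SubFam F, N.IsLocal ∧ N.IsLFG ⊤ ∧ s ∈ N.sec U := by
  obtain ⟨_, _⟩ := exists_wellFoundedLT X.affineOpens
  refine exists_subFam_through_section (fun V : X.affineOpens => (V : X.Opens)) (fun V => V.2) ?_ U
    (fun V => isCompact_of_subset_isCompact hX V.2.isCompact Set.inter_subset_left) s
  intro x
  obtain ⟨V, hV, hxV, -⟩ := exists_isAffineOpen_mem_and_subset (x := x) (U := ⊤) trivial
  exact ⟨⟨V, hV⟩, hxV⟩

lemma isCompact_inf_Wof_of_qcqs {L : Type v} [LinearOrder L] [Finite L] (V : L → X.Opens)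
    (hV : ∀ l, IsAffineOpen (V l)) [QuasiSeparatedSpace X] (U : X.Opens)
    (hU : IsCompact (U : Set X)) (l : L) :
    IsCompact ((V l ⊓ Wof V U (Set.Iio l) : X.Opens) : Set X) := by
  have : ((V l ⊓ Wof V U (Set.Iio l) : X.Opens) : Set X) =
      ((V l : Set X) ∩ U) ∪ ⋃ m ∈ Set.Iio l, ((V l : Set X) ∩ (V m : Set X)) := by
    ext x
    constructor
    · rintro ⟨hxV, hxW⟩
      rcases (mem_Wof _ U).mp hxW with h | ⟨m, hm, h⟩
      · exact Or.inl ⟨hxV, h⟩
      · exact Or.inr (Set.mem_iUnion₂.mpr ⟨m, hm, hxV, h⟩)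
    · rintro (⟨hxV, h⟩ | h)
      · exact ⟨hxV, (mem_Wof _ U).mpr (Or.inl h)⟩
      · obtain ⟨m, hm, hxV, h⟩ := Set.mem_iUnion₂.mp h
        exact ⟨hxV, (mem_Wof _ U).mpr (Or.inr ⟨m, hm, h⟩)⟩
  rw [this]
  refine (QuasiSeparatedSpace.inter_isCompact _ _ (V l).2 (hV l).isCompact U.2 hU).union ?_
  exact (Set.toFinite _).isCompact_biUnion fun m _ =>
    QuasiSeparatedSpace.inter_isCompact _ _ (V l).2 (hV l).isCompact (V m).2 (hV m).isCompact

theorem exists_subFam_through_section_of_qcqs [CompactSpace X] [QuasiSeparatedSpace X]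
    [F.IsQuasicoherent] (U : X.Opens) (hU : IsCompact (U : Set X)) (s : Γ(F, U)) :
    ∃ N : SubFam F, N.IsLocal ∧ N.IsLFG ⊤ ∧ s ∈ N.sec U := by
  obtain ⟨c, hc, hcov⟩ := (isCompact_and_isOpen_iff_finite_and_eq_biUnion_affineOpens
    (X := X) (U := Set.univ)).mp ⟨isCompact_univ, isOpen_univ⟩
  have : Finite c := hc
  obtain ⟨_, _⟩ := exists_wellFoundedLT c
  refine exists_subFam_through_section (fun V : c => (V.1 : X.Opens)) (fun V => V.1.2) ?_ U ?_ s
  · intro x
    have hx : x ∈ ⋃ i ∈ c, ((i : X.Opens) : Set X) := hcov ▸ Set.mem_univ x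
    obtain ⟨V, hV, hxV⟩ := Set.mem_iUnion₂.mp hx
    exact ⟨⟨V, hV⟩, hxV⟩
  · intro l
    exact isCompact_inf_Wof_of_qcqs (fun V : c => (V.1 : X.Opens)) (fun V => V.1.2) U hU l

end Through

section Gen

/-- sections of a local, locally finitely generated family over a basic open extend after
multiplication by a power -/
lemma exists_pow_smul_eq_res {F : X.Modules} [F.IsQuasicoherent] (N : SubFam F) (hloc : N.IsLocal)
    (hlfg : N.IsLFG ⊤) {V : X.Opens} (hV : IsAffineOpen V) (g : Γ(X, V))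
    (t : Γ(F, X.basicOpen g)) (ht : t ∈ N.sec (X.basicOpen g)) :
    ∃ (n : ℕ) (m : Γ(F, V)), m ∈ N.sec V ∧
      res F (X.basicOpen_le g) m = (resO (X.basicOpen_le g) g) ^ n • t := by
  obtain ⟨k, T, hg⟩ := exists_locGen_of_isAffineOpen N hloc hlfg hV
  obtain ⟨a, m₀, hm₀⟩ := Groth.Agent.Lib.Helper22.exists_pow_smul_eq_map_of_isAffineOpen F hV g t
  have hm₀' : res F (X.basicOpen_le g) m₀ = (resO (X.basicOpen_le g) g) ^ a • t := hm₀
  have hmem : res F (X.basicOpen_le g) m₀ ∈ N.sec (X.basicOpen g) := by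
    rw [hm₀']
    exact Submodule.smul_mem _ _ ht
  obtain ⟨b, hb⟩ := hg.exists_pow_smul_mem hV g m₀ hmem
  refine ⟨b + a, g ^ b • m₀, hb, ?_⟩
  rw [res_smul, hm₀', map_pow, smul_smul, ← pow_add]

variable (N : SubFam B.toModule)

/-- the subring generated by the functions and the sections of `N` -/
noncomputable def gen (V : X.Opens) : Subring (BS B V) :=
  Subring.closure (Set.range (strB B V) ∪ {b | (toBS B V).symm b ∈ N.sec V})

lemma strB_mem_gen {V : X.Opens} (r : Γ(X, V)) : strB B V r ∈ gen B N V :=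
  Subring.subset_closure (Or.inl ⟨r, rfl⟩)

lemma mem_gen_of_mem {V : X.Opens} {b : BS B V} (hb : (toBS B V).symm b ∈ N.sec V) :
    b ∈ gen B N V :=
  Subring.subset_closure (Or.inr hb)

lemma resB_mem_gen {V' V : X.Opens} (h : V' ≤ V) {b : BS B V} (hb : b ∈ gen B N V) :
    resB B h b ∈ gen B N V' := by
  have hle : gen B N V ≤ (gen B N V').comap (resB B h) := by
    refine Subring.closure_le.mpr ?_
    rintro _ (⟨r, rfl⟩ | hb)
    · show resB B h (strB B V r) ∈ gen B N V'
      rw [← strB_res]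
      exact strB_mem_gen B N _
    · exact mem_gen_of_mem B N (N.res_mem h hb)
  exact hle hb

variable (hloc : N.IsLocal) (hlfg : N.IsLFG ⊤)

include hloc hlfg in
lemma exists_pow_mul_eq_res_of_mem_gen {V : X.Opens} (hV : IsAffineOpen V) (f : Γ(X, V))
    (y : BS B (X.basicOpen f)) (hy : y ∈ gen B N (X.basicOpen f)) :
    ∃ (n : ℕ) (a : BS B V), a ∈ gen B N V ∧ resB B (X.basicOpen_le f) a =
      strB B (X.basicOpen f) (resO (X.basicOpen_le f) f) ^ n * y := by
  set W := X.basicOpen f with hW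
  set φ : BS B W := strB B W (resO (X.basicOpen_le f) f) with hφ
  have hφ' : resB B (X.basicOpen_le f) (strB B V f) = φ := (strB_res B _ f).symm
  let P : Subring (BS B W) :=
    { carrier := {y | ∃ (n : ℕ) (a : BS B V), a ∈ gen B N V ∧ resB B (X.basicOpen_le f) a = φ ^ n * y}
      mul_mem' := by
        rintro y₁ y₂ ⟨n₁, a₁, ha₁, e₁⟩ ⟨n₂, a₂, ha₂, e₂⟩
        refine ⟨n₁ + n₂, a₁ * a₂, mul_mem ha₁ ha₂, ?_⟩
        rw [map_mul, e₁, e₂]; ring
      one_mem' := ⟨0, 1, one_mem _, by simp⟩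
      add_mem' := by
        rintro y₁ y₂ ⟨n₁, a₁, ha₁, e₁⟩ ⟨n₂, a₂, ha₂, e₂⟩
        refine ⟨n₁ + n₂, strB B V f ^ n₂ * a₁ + strB B V f ^ n₁ * a₂,
          add_mem (mul_mem (pow_mem (strB_mem_gen B N f) _) ha₁)
            (mul_mem (pow_mem (strB_mem_gen B N f) _) ha₂), ?_⟩
        rw [map_add, map_mul, map_mul, map_pow, map_pow, hφ', e₁, e₂]; ring
      zero_mem' := ⟨0, 0, zero_mem _, by simp⟩
      neg_mem' := by
        rintro y ⟨n, a, ha, e⟩
        exact ⟨n, -a, neg_mem ha, by rw [map_neg, e]; ring⟩ }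
  have hle : gen B N W ≤ P := by
    refine Subring.closure_le.mpr ?_
    rintro y (⟨u, rfl⟩ | ht)
    · -- functions on `D(f)`
      have hloc' := hV.isLocalization_basicOpen f
      obtain ⟨⟨r, ⟨_, n, rfl⟩⟩, hr⟩ := IsLocalization.surj (Submonoid.powers f) u
      have hr' : u * (resO (X.basicOpen_le f) f) ^ n = resO (X.basicOpen_le f) r := by
        have : u * algebraMap Γ(X, V) Γ(X, X.basicOpen f) (f ^ n) =
            algebraMap Γ(X, V) Γ(X, X.basicOpen f) r := hr
        rw [map_pow] at this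
        exact this
      refine ⟨n, strB B V r, strB_mem_gen B N r, ?_⟩
      have e1 : resB B (X.basicOpen_le f) (strB B V r) = strB B W (resO (X.basicOpen_le f) r) :=
        (strB_res B _ r).symm
      rw [e1, ← hr', map_mul, map_pow, mul_comm]
    · -- sections of `N`
      obtain ⟨n, m, hm, e⟩ := exists_pow_smul_eq_res N hloc hlfg hV f ((toBS B W).symm y) ht
      refine ⟨n, toBS B V m, mem_gen_of_mem B N hm, ?_⟩
      have h1 : resB B (X.basicOpen_le f) (toBS B V m) =
          toBS B W (res B.toModule (X.basicOpen_le f) m) := rfl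
      rw [h1, e, toBS_smul, map_pow, Equiv.apply_symm_apply]
  exact hle hy

include hloc hlfg in
lemma exists_pow_mul_mem_gen {V : X.Opens} (hV : IsAffineOpen V) (f : Γ(X, V)) (b : BS B V)
    (hb : resB B (X.basicOpen_le f) b ∈ gen B N (X.basicOpen f)) :
    ∃ n : ℕ, strB B V f ^ n * b ∈ gen B N V := by
  obtain ⟨n, a, ha, e⟩ := exists_pow_mul_eq_res_of_mem_gen B N hloc hlfg hV f _ hb
  have hφ' : resB B (X.basicOpen_le f) (strB B V f) =
      strB B (X.basicOpen f) (resO (X.basicOpen_le f) f) := (strB_res B _ f).symm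
  have h0 : resB B (X.basicOpen_le f) (a - strB B V f ^ n * b) = 0 := by
    rw [map_sub, map_mul, map_pow, hφ', e, sub_self]
  obtain ⟨k, hk⟩ := exists_pow_mul_eq_zero B hV f _ h0
  refine ⟨k + n, ?_⟩
  have : strB B V f ^ (k + n) * b = strB B V f ^ k * a := by
    rw [mul_sub, sub_eq_zero] at hk
    rw [hk, pow_add, mul_assoc]
  rw [this]
  exact mul_mem (pow_mem (strB_mem_gen B N f) _) ha

include hloc hlfg in
/-- on an affine open, a section which is locally in the generated subring is in the generated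
subring -/
lemma mem_gen_of_locally {V : X.Opens} (hV : IsAffineOpen V) (b : BS B V)
    (h : ∀ x ∈ V, ∃ (D' : X.Opens) (h' : D' ≤ V), x ∈ D' ∧ resB B h' b ∈ gen B N D') :
    b ∈ gen B N V := by
  let I : Ideal Γ(X, V) :=
    { carrier := {r | strB B V r * b ∈ gen B N V}
      add_mem' := fun {r r'} hr hr' => by
        show strB B V (r + r') * b ∈ gen B N V
        rw [map_add, add_mul]; exact add_mem hr hr'
      zero_mem' := by
        show strB B V 0 * b ∈ gen B N V
        rw [map_zero, zero_mul]; exact zero_mem _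
      smul_mem' := fun c {r} hr => by
        show strB B V (c * r) * b ∈ gen B N V
        rw [map_mul, mul_assoc]; exact mul_mem (strB_mem_gen B N c) hr }
  have hcov : V ≤ ⨆ f : (I : Set Γ(X, V)), X.basicOpen f.1 := by
    intro x hx
    obtain ⟨D', h', hxD', hm⟩ := h x hx
    obtain ⟨f, hf, hxf⟩ := hV.exists_basicOpen_le (⟨x, hxD'⟩ : D') hx
    have h1 := resB_mem_gen B N hf hm
    rw [resB_resB] at h1
    obtain ⟨n, hn⟩ := exists_pow_mul_mem_gen B N hloc hlfg hV f b h1
    have hn' : strB B V f ^ (n + 1) * b ∈ gen B N V := by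
      rw [pow_succ', mul_assoc]
      exact mul_mem (strB_mem_gen B N f) hn
    refine Opens.mem_iSup.mpr ⟨⟨f ^ (n + 1), ?_⟩, ?_⟩
    · show strB B V (f ^ (n + 1)) * b ∈ gen B N V
      rw [map_pow]; exact hn'
    · rw [Scheme.basicOpen_pow _ _ (Nat.succ_pos n)]
      exact hxf
  have := hV.self_le_iSup_basicOpen_iff.mp hcov
  rw [Ideal.span_eq] at this
  have h1 : (1 : Γ(X, V)) ∈ I := this ▸ Submodule.mem_top
  have h2 : strB B V 1 * b ∈ gen B N V := h1
  rwa [map_one, one_mul] at h2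

include hloc hlfg in
/-- generation is a local property -/
theorem gen_eq_top (hgen : ∀ x : X, ∃ U' : X.Opens, IsAffineOpen U' ∧ x ∈ U' ∧ gen B N U' = ⊤)
    {V : X.Opens} (hV : IsAffineOpen V) : gen B N V = ⊤ := by
  rw [eq_top_iff]
  rintro b -
  let I : Ideal Γ(X, V) :=
    { carrier := {r | strB B V r * b ∈ gen B N V}
      add_mem' := fun {r r'} hr hr' => by
        show strB B V (r + r') * b ∈ gen B N V
        rw [map_add, add_mul]; exact add_mem hr hr'
      zero_mem' := by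
        show strB B V 0 * b ∈ gen B N V
        rw [map_zero, zero_mul]; exact zero_mem _
      smul_mem' := fun c {r} hr => by
        show strB B V (c * r) * b ∈ gen B N V
        rw [map_mul, mul_assoc]; exact mul_mem (strB_mem_gen B N c) hr }
  have hcov : V ≤ ⨆ f : (I : Set Γ(X, V)), X.basicOpen f.1 := by
    intro x hx
    obtain ⟨U', hU', hxU', hU'top⟩ := hgen x
    obtain ⟨f, g, hfg, hxf⟩ := exists_basicOpen_le_affine_inter hV hU' x ⟨hx, hxU'⟩
    -- generation over `D(g)`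
    have hg : gen B N (X.basicOpen g) = ⊤ := by
      rw [eq_top_iff]
      rintro y -
      obtain ⟨n, x₀, hx₀⟩ := exists_pow_mul_eq_res B hU' g y
      have h1 : resB B (X.basicOpen_le g) x₀ ∈ gen B N (X.basicOpen g) :=
        resB_mem_gen B N _ (hU'top ▸ Subring.mem_top x₀)
      have hu : IsUnit (resO (X.basicOpen_le g) g) := RingedSpace.isUnit_res_basicOpen _ g
      obtain ⟨w, hw⟩ := (hu.pow n).exists_left_inv
      have : y = strB B _ w * resB B (X.basicOpen_le g) x₀ := by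
        rw [hx₀, ← mul_assoc, ← map_pow, ← map_mul, hw, map_one, one_mul]
      rw [this]
      exact mul_mem (strB_mem_gen B N w) h1
    have hf : gen B N (X.basicOpen f) = ⊤ := by rw [hfg]; exact hg
    obtain ⟨n, hn⟩ := exists_pow_mul_mem_gen B N hloc hlfg hV f b (hf ▸ Subring.mem_top _)
    have hn' : strB B V f ^ (n + 1) * b ∈ gen B N V := by
      rw [pow_succ', mul_assoc]
      exact mul_mem (strB_mem_gen B N f) hn
    refine Opens.mem_iSup.mpr ⟨⟨f ^ (n + 1), ?_⟩, ?_⟩
    · show strB B V (f ^ (n + 1)) * b ∈ gen B N V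
      rw [map_pow]; exact hn'
    · rw [Scheme.basicOpen_pow _ _ (Nat.succ_pos n)]
      exact hxf
  have := hV.self_le_iSup_basicOpen_iff.mp hcov
  rw [Ideal.span_eq] at this
  have h1 : (1 : Γ(X, V)) ∈ I := this ▸ Submodule.mem_top
  have h2 : strB B V 1 * b ∈ gen B N V := h1
  rwa [map_one, one_mul] at h2

end Gen

section Main

/-- **existence of a quasi-coherent submodule of finite type generating a quasi-coherent algebra
of finite type** (quasi-compact base) -/
theorem exists_generating_submodule [CompactSpace X]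
    (H : ∀ (U : X.Opens), IsAffineOpen U → ∀ s : Γ(B.toModule, U),
      ∃ N : SubFam B.toModule, N.IsLocal ∧ N.IsLFG ⊤ ∧ s ∈ N.sec U)
    (hB : ∀ U : X.affineOpens, (B.str.app (op (U : X.Opens))).hom.FiniteType) :
    ∃ (E : X.Modules) (j : E ⟶ B.toModule), Mono j ∧ E.IsQuasicoherent ∧ E.IsFiniteType ∧
      ∀ U : X.affineOpens, Subring.closure (Set.range (B.str.app (op (U : X.Opens))).hom ∪
          Set.range (fun e : E.val.obj (op (U : X.Opens)) ↦
            (show B.presheaf.obj (op (U : X.Opens)) from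
              (j.val.app (op (U : X.Opens))).hom e))) = ⊤ := by
  obtain ⟨c, hc, hcov⟩ := (isCompact_and_isOpen_iff_finite_and_eq_biUnion_affineOpens
    (X := X) (U := Set.univ)).mp ⟨isCompact_univ, isOpen_univ⟩
  have : Finite c := hc
  -- finite generating sets
  have hfg : ∀ U : c, ∃ S : Finset (BS B (U.1 : X.Opens)),
      Subring.closure (Set.range (strB B (U.1 : X.Opens)) ∪ (S : Set (BS B (U.1 : X.Opens)))) = ⊤ := by
    intro U
    let _ := (B.str.app (op (U.1 : X.Opens))).hom.toAlgebra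
    have h1 : Algebra.FiniteType Γ(X, (U.1 : X.Opens)) (BS B (U.1 : X.Opens)) := hB U.1
    obtain ⟨S, hS⟩ := h1.out
    refine ⟨S, ?_⟩
    have h2 := Algebra.adjoin_eq_ring_closure (R := Γ(X, (U.1 : X.Opens))) (S : Set (BS B (U.1 : X.Opens)))
    rw [hS] at h2
    exact h2.symm.trans Algebra.top_toSubring
  choose S hS using hfg
  -- the families through the generators
  have hN : ∀ k : (Σ U : c, (S U : Set (BS B (U.1 : X.Opens)))),
      ∃ N : SubFam B.toModule, N.IsLocal ∧ N.IsLFG ⊤ ∧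
        (toBS B (k.1.1 : X.Opens)).symm k.2.1 ∈ N.sec (k.1.1 : X.Opens) :=
    fun k => H _ k.1.1.2 _
  choose N hNloc hNlfg hNmem using hN
  have hloc := SubFam.lsum_isLocal N
  have hlfg := SubFam.lsum_isLFG N hNloc hNlfg
  refine ⟨(SubFam.lsum N).toModules hloc, (SubFam.lsum N).incl hloc, inferInstance,
    (SubFam.lsum N).isQuasicoherent_toModules hloc hlfg,
    (SubFam.lsum N).isFiniteType_toModules hloc hlfg, ?_⟩
  intro V
  have hgen : ∀ x : X, ∃ U' : X.Opens, IsAffineOpen U' ∧ x ∈ U' ∧ gen B (SubFam.lsum N) U' = ⊤ := by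
    intro x
    have hx : x ∈ ⋃ i ∈ c, ((i : X.Opens) : Set X) := hcov ▸ Set.mem_univ x
    obtain ⟨U, hU, hxU⟩ := Set.mem_iUnion₂.mp hx
    refine ⟨U, U.2, hxU, ?_⟩
    rw [eq_top_iff, ← hS ⟨U, hU⟩]
    refine Subring.closure_mono (Set.union_subset_union_right _ ?_)
    intro t ht
    exact SubFam.le_lsum N ⟨⟨U, hU⟩, ⟨t, ht⟩⟩ _ (hNmem ⟨⟨U, hU⟩, ⟨t, ht⟩⟩)
  have h := gen_eq_top B (SubFam.lsum N) hloc hlfg hgen V.2
  rw [eq_top_iff, ← h]
  refine Subring.closure_mono (Set.union_subset_union_right _ ?_)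
  intro b hb
  obtain ⟨y, hy⟩ := ((SubFam.lsum N).mem_sec_iff hloc _).mp hb
  exact ⟨y, hy⟩

end Main

end Groth.Agent.Lib.QCoh.QCAlgSub
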