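import Mathlib
import Groth.Agent.Lib.QCoh.Helper66_QCAlgSub

/-!
# Quasi-coherent algebras: the subalgebra generated by a submodule of finite type (helper66)

ns `Groth.Agent.Lib.QCoh.QCAlgSub`.
-/

set_option autoImplicit false
universe u v
open CategoryTheory AlgebraicGeometry Opposite TopologicalSpace

namespace Groth.Agent.Lib.QCoh.QCAlgSub

open Groth.Agent.Lib.QCoh.Glue74 Groth.Agent.Lib.QCoh Groth.Agent.Lib.QCoh.SubExt

variable {X : Scheme.{u}} (B : RelSpec.QCAlg X) (N : SubFam B.toModule)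

lemma resB_self {V : X.Opens} (b : BS B V) : resB B le_rfl b = b := by
  change (B.presheaf.map (𝟙 _)).hom b = b
  rw [B.presheaf.map_id]
  rfl

/-- the local subalgebra generated by `N` -/
def alg (D : X.Opens) : Subring (BS B D) where
  carrier := {m | ∀ x ∈ D, ∃ (D' : X.Opens) (h : D' ≤ D), x ∈ D' ∧ resB B h m ∈ gen B N D'}
  mul_mem' := by
    intro a b ha hb x hx
    obtain ⟨D₁, h₁, hx₁, hm₁⟩ := ha x hx
    obtain ⟨D₂, h₂, hx₂, hm₂⟩ := hb x hx
    refine ⟨D₁ ⊓ D₂, inf_le_left.trans h₁, ⟨hx₁, hx₂⟩, ?_⟩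
    have e₁ := resB_mem_gen B N (inf_le_left : D₁ ⊓ D₂ ≤ D₁) hm₁
    have e₂ := resB_mem_gen B N (inf_le_right : D₁ ⊓ D₂ ≤ D₂) hm₂
    rw [resB_resB] at e₁ e₂
    rw [map_mul]
    exact mul_mem e₁ e₂
  one_mem' := fun x hx => ⟨D, le_rfl, hx, by rw [map_one]; exact one_mem _⟩
  add_mem' := by
    intro a b ha hb x hx
    obtain ⟨D₁, h₁, hx₁, hm₁⟩ := ha x hx
    obtain ⟨D₂, h₂, hx₂, hm₂⟩ := hb x hx
    refine ⟨D₁ ⊓ D₂, inf_le_left.trans h₁, ⟨hx₁, hx₂⟩, ?_⟩
    have e₁ := resB_mem_gen B N (inf_le_left : D₁ ⊓ D₂ ≤ D₁) hm₁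
    have e₂ := resB_mem_gen B N (inf_le_right : D₁ ⊓ D₂ ≤ D₂) hm₂
    rw [resB_resB] at e₁ e₂
    rw [map_add]
    exact add_mem e₁ e₂
  zero_mem' := fun x hx => ⟨D, le_rfl, hx, by rw [map_zero]; exact zero_mem _⟩
  neg_mem' := by
    intro a ha x hx
    obtain ⟨D₁, h₁, hx₁, hm₁⟩ := ha x hx
    exact ⟨D₁, h₁, hx₁, by rw [map_neg]; exact neg_mem hm₁⟩

lemma mem_alg_iff {D : X.Opens} (m : BS B D) : m ∈ alg B N D ↔
    ∀ x ∈ D, ∃ (D' : X.Opens) (h : D' ≤ D), x ∈ D' ∧ resB B h m ∈ gen B N D' := Iff.rfl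

lemma gen_le_alg (D : X.Opens) : gen B N D ≤ alg B N D := by
  intro m hm x hx
  exact ⟨D, le_rfl, hx, by rw [resB_self]; exact hm⟩

lemma strB_mem_alg {D : X.Opens} (r : Γ(X, D)) : strB B D r ∈ alg B N D :=
  gen_le_alg B N D (strB_mem_gen B N r)

lemma resB_mem_alg {D' D : X.Opens} (h : D' ≤ D) {m : BS B D} (hm : m ∈ alg B N D) :
    resB B h m ∈ alg B N D' := by
  intro x hx
  obtain ⟨D₁, h₁, hx₁, hm₁⟩ := hm x (h hx)
  refine ⟨D₁ ⊓ D', inf_le_right, ⟨hx₁, hx⟩, ?_⟩
  have e₁ := resB_mem_gen B N (inf_le_left : D₁ ⊓ D' ≤ D₁) hm₁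
  rw [resB_resB] at e₁ ⊢
  exact e₁

lemma mem_alg_of_locally {D : X.Opens} (m : BS B D)
    (h : ∀ x ∈ D, ∃ (D' : X.Opens) (h' : D' ≤ D), x ∈ D' ∧ resB B h' m ∈ alg B N D') :
    m ∈ alg B N D := by
  intro x hx
  obtain ⟨D₁, h₁, hx₁, hm₁⟩ := h x hx
  obtain ⟨D', h', hxD', hm⟩ := hm₁ x hx₁
  refine ⟨D', h'.trans h₁, hxD', ?_⟩
  rw [resB_resB] at hm
  exact hm

lemma alg_eq_gen (hloc : N.IsLocal) (hlfg : N.IsLFG ⊤) {V : X.Opens} (hV : IsAffineOpen V) :
    alg B N V = gen B N V :=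
  le_antisymm (fun m hm => mem_gen_of_locally B N hloc hlfg hV m hm) (gen_le_alg B N V)

/-- restriction maps of the subalgebra -/
noncomputable def algMap {D D' : (Opens X.carrier)ᵒᵖ} (i : D ⟶ D') :
    alg B N D.unop →+* alg B N D'.unop :=
  RingHom.restrict (B.presheaf.map i).hom (alg B N D.unop) (alg B N D'.unop)
    (fun _ hm => resB_mem_alg B N (leOfHom i.unop) hm)

/-- the presheaf of rings -/
noncomputable def algPresheaf : TopCat.Presheaf CommRingCat.{u} X.carrier where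
  obj D := CommRingCat.of (alg B N D.unop)
  map i := CommRingCat.ofHom (algMap B N i)
  map_id D := by
    ext ⟨m, hm⟩
    show (B.presheaf.map (𝟙 D)).hom m = m
    rw [B.presheaf.map_id]
    rfl
  map_comp i i' := by
    ext ⟨m, hm⟩
    show (B.presheaf.map (i ≫ i')).hom m = (B.presheaf.map i').hom ((B.presheaf.map i).hom m)
    rw [B.presheaf.map_comp]
    rfl

/-- the inclusion into `B` -/
noncomputable def algIncl : algPresheaf B N ⟶ B.presheaf where
  app D := CommRingCat.ofHom (alg B N D.unop).subtype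
  naturality _ _ _ := rfl

/-- the structure map -/
noncomputable def algStr : X.presheaf ⟶ algPresheaf B N where
  app D := CommRingCat.ofHom ((strB B D.unop).codRestrict (alg B N D.unop)
    (fun r => strB_mem_alg B N r))
  naturality D D' i := by
    ext r
    apply Subtype.ext
    exact congr($(B.str.naturality i) r)

lemma algStr_incl : algStr B N ≫ algIncl B N = B.str := rfl

theorem algPresheaf_isSheaf : (algPresheaf B N).IsSheaf := by
  rw [TopCat.Presheaf.isSheaf_iff_isSheafUniqueGluing]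
  intro ι U sf hsf
  have hF : TopCat.Presheaf.IsSheafUniqueGluing B.presheaf :=
    (TopCat.Presheaf.isSheaf_iff_isSheafUniqueGluing _).mp B.isSheaf
  obtain ⟨s, hs, huniq⟩ := hF U (fun i => (sf i).1) (fun i j => congrArg Subtype.val (hsf i j))
  have hsN : s ∈ alg B N (iSup U) := by
    apply mem_alg_of_locally
    intro x hx
    obtain ⟨i, hi⟩ := Opens.mem_iSup.mp hx
    refine ⟨U i, le_iSup U i, hi, ?_⟩
    have := hs i
    show (B.presheaf.map (Opens.leSupr U i).op).hom s ∈ _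
    rw [this]
    exact (sf i).2
  refine ⟨⟨s, hsN⟩, fun i => Subtype.ext (hs i), fun s' hs' =>
    Subtype.ext (huniq s'.1 (fun i => congrArg Subtype.val (hs' i)))⟩

section IsQC

variable (hloc : N.IsLocal) (hlfg : N.IsLFG ⊤)

/-- the function `r` as an element of the subalgebra -/
noncomputable abbrev sig {U : X.Opens} (r : Γ(X, U)) : alg B N U := ⟨strB B U r, strB_mem_alg B N r⟩

/-- restriction of the subalgebra to a basic open -/
noncomputable abbrev rho {U : X.Opens} (r : Γ(X, U)) : alg B N U →+* alg B N (X.basicOpen r) :=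
  algMap B N (homOfLE (X.basicOpen_le r)).op

lemma rho_val {U : X.Opens} (r : Γ(X, U)) (x : alg B N U) :
    (rho B N r x).1 = resB B (X.basicOpen_le r) x.1 := rfl

include hloc hlfg in
theorem isLocalization_alg {U : X.Opens} (hU : IsAffineOpen U) (r : Γ(X, U)) :
    letI := (rho B N r).toAlgebra
    IsLocalization.Away (sig B N r) (alg B N (X.basicOpen r)) := by
  let _ := (rho B N r).toAlgebra
  have halg : ∀ x, algebraMap (alg B N U) (alg B N (X.basicOpen r)) x = rho B N r x := fun _ => rfl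
  have hσ : (rho B N r (sig B N r)).1 = strB B (X.basicOpen r) (resO (X.basicOpen_le r) r) := by
    rw [rho_val]
    exact (strB_res B _ r).symm
  rw [IsLocalization.Away, isLocalization_iff]
  refine ⟨?_, ?_, ?_⟩
  · rintro ⟨_, n, rfl⟩
    rw [halg]
    have hu : IsUnit (resO (X.basicOpen_le r) r) := RingedSpace.isUnit_res_basicOpen _ r
    obtain ⟨w, hw⟩ := hu.exists_left_inv
    have h1 : IsUnit (rho B N r (sig B N r)) := by
      refine IsUnit.of_mul_eq_one (sig B N w) ?_
      apply Subtype.ext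
      show (rho B N r (sig B N r)).1 * strB B _ w = 1
      rw [hσ, ← map_mul, mul_comm, hw, map_one]
    show IsUnit (rho B N r (sig B N r ^ n))
    rw [map_pow]
    exact h1.pow n
  · intro z
    have hz : z.1 ∈ gen B N (X.basicOpen r) := by
      rw [← alg_eq_gen B N hloc hlfg (hU.basicOpen r)]
      exact z.2
    obtain ⟨n, a, ha, e⟩ := exists_pow_mul_eq_res_of_mem_gen B N hloc hlfg hU r z.1 hz
    refine ⟨(⟨a, gen_le_alg B N U ha⟩, ⟨sig B N r ^ n, n, rfl⟩), ?_⟩
    rw [halg, halg]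
    apply Subtype.ext
    show z.1 * (rho B N r (sig B N r ^ n)).1 = resB B (X.basicOpen_le r) a
    rw [map_pow]
    show z.1 * (rho B N r (sig B N r)).1 ^ n = _
    rw [hσ, e, mul_comm]
  · intro x y hxy
    rw [halg, halg] at hxy
    have h0 : resB B (X.basicOpen_le r) (x.1 - y.1) = 0 := by
      rw [map_sub, sub_eq_zero]
      exact congrArg Subtype.val hxy
    obtain ⟨n, hn⟩ := exists_pow_mul_eq_zero B hU r _ h0
    refine ⟨⟨sig B N r ^ n, n, rfl⟩, ?_⟩
    apply Subtype.ext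
    show strB B U r ^ n * x.1 = strB B U r ^ n * y.1
    rw [mul_sub, sub_eq_zero] at hn
    exact hn

include hloc hlfg in
theorem algPresheaf_isQC : RelSpec.IsQC (algPresheaf B N) (algStr B N) := by
  intro U hU r
  exact isLocalization_alg B N hloc hlfg hU r

/-- the subalgebra generated by `N`, as a quasi-coherent algebra -/
noncomputable def subAlg : RelSpec.QCAlg X where
  presheaf := algPresheaf B N
  isSheaf := algPresheaf_isSheaf B N
  str := algStr B N
  isQC := algPresheaf_isQC B N hloc hlfg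

/-- the inclusion of the subalgebra -/
noncomputable def subAlgHom : subAlg B N hloc hlfg ⟶ B := ⟨algIncl B N, algStr_incl B N⟩

include hloc hlfg in
theorem subAlg_finiteType (V : X.affineOpens) :
    ((subAlg B N hloc hlfg).str.app (op (V : X.Opens))).hom.FiniteType := by
  classical
  obtain ⟨n, T, hg⟩ := exists_locGen_of_isAffineOpen N hloc hlfg V.2
  let f : Γ(X, (V : X.Opens)) →+* alg B N (V : X.Opens) :=
    ((subAlg B N hloc hlfg).str.app (op (V : X.Opens))).hom
  let _ : Algebra Γ(X, (V : X.Opens)) (alg B N (V : X.Opens)) := f.toAlgebra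
  have hf : ∀ r, (algebraMap Γ(X, (V : X.Opens)) (alg B N (V : X.Opens)) r).1 = strB B _ r :=
    fun _ => rfl
  have hT : ∀ i, toBS B _ (T i) ∈ alg B N (V : X.Opens) :=
    fun i => gen_le_alg B N _ (mem_gen_of_mem B N (hg.mem i))
  let s : Finset (alg B N (V : X.Opens)) := Finset.univ.image fun i => ⟨toBS B _ (T i), hT i⟩
  show Algebra.FiniteType Γ(X, (V : X.Opens)) (alg B N (V : X.Opens))
  refine ⟨⟨s, ?_⟩⟩
  rw [eq_top_iff]
  rintro ⟨b, hb⟩ -
  let A' : Subring (BS B (V : X.Opens)) :=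
    ((Algebra.adjoin Γ(X, (V : X.Opens)) (s : Set (alg B N (V : X.Opens)))).toSubring).map
      (alg B N (V : X.Opens)).subtype
  have hle : gen B N (V : X.Opens) ≤ A' := by
    refine Subring.closure_le.mpr ?_
    rintro t (⟨r, rfl⟩ | ht)
    · exact ⟨algebraMap _ _ r, Subalgebra.algebraMap_mem _ r, rfl⟩
    · have ht' : (toBS B (V : X.Opens)).symm t ∈
          Submodule.span Γ(X, (V : X.Opens)) (Set.range T) := by
        rw [← hg.sec_eq_span V.2]; exact ht
      have key : ∀ m ∈ Submodule.span Γ(X, (V : X.Opens)) (Set.range T), toBS B _ m ∈ A' := by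
        intro m hm
        induction hm using Submodule.span_induction with
        | mem x hx =>
          obtain ⟨i, rfl⟩ := hx
          refine ⟨⟨toBS B _ (T i), hT i⟩, Algebra.subset_adjoin ?_, rfl⟩
          exact Finset.mem_coe.mpr (Finset.mem_image.mpr ⟨i, Finset.mem_univ _, rfl⟩)
        | zero => exact zero_mem _
        | add x y _ _ hx hy => exact add_mem hx hy
        | smul c x _ hx =>
          rw [toBS_smul]
          exact mul_mem ⟨algebraMap _ _ c, Subalgebra.algebraMap_mem _ c, rfl⟩ hx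
      exact key _ ht'
  have hb' : b ∈ gen B N (V : X.Opens) := by
    rw [← alg_eq_gen B N hloc hlfg V.2]; exact hb
  obtain ⟨y, hy, hyb⟩ := hle hb'
  have : y = ⟨b, hb⟩ := Subtype.ext hyb
  rw [← this]
  exact hy

end IsQC

/-- **every section over an affine open lies in a quasi-coherent subalgebra of finite type** -/
theorem exists_subalgebra_through_section
    (H : ∀ (U : X.Opens), IsAffineOpen U → ∀ s : Γ(B.toModule, U),
      ∃ N : SubFam B.toModule, N.IsLocal ∧ N.IsLFG ⊤ ∧ s ∈ N.sec U)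
    (U : X.affineOpens) (b : B.presheaf.obj (op (U : X.Opens))) :
    ∃ (B' : RelSpec.QCAlg X) (φ : B' ⟶ B),
      (∀ V : X.Opens, Function.Injective (φ.hom.app (op V)).hom) ∧
      (∀ V : X.affineOpens, (B'.str.app (op (V : X.Opens))).hom.FiniteType) ∧
      b ∈ Set.range (φ.hom.app (op (U : X.Opens))).hom := by
  obtain ⟨N, hloc, hlfg, hb⟩ := H U U.2 ((toBS B _).symm b)
  refine ⟨subAlg B N hloc hlfg, subAlgHom B N hloc hlfg, fun V => Subtype.val_injective,
    fun V => subAlg_finiteType B N hloc hlfg V, ?_⟩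
  exact ⟨⟨b, gen_le_alg B N _ (mem_gen_of_mem B N hb)⟩, rfl⟩

end Groth.Agent.Lib.QCoh.QCAlgSub
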