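import Groth.Agent.S15512
import Groth.Agent.S0558
import Groth.Agent.Lib.Helper33.AuslanderBuchsbaum
import Groth.Agent.Lib.Helper93.Reflexive4
import Groth.Agent.Lib.Helper93.ReflexiveDepth
import Groth.Agent.Lib.Helper29.Depth

/-!
# Reflexive modules over regular local rings of dimension ≤ 2 are free (helper74)

Namespace `Groth.Agent.Lib.QCoh.ReflReg74`.

* `min_two_depth_le` : a nonzero finite module `M` which is the kernel of a map of finite free
  modules satisfies `min 2 (depth R) ≤ depth M`.
* `free_of_isReflexive` : a finite reflexive module over a regular local ring of dimension ≤ 2 is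
  free (Auslander–Buchsbaum).
-/

set_option linter.style.haveILetI false
universe u
open CategoryTheory IsLocalRing RingTheory.Sequence

namespace Groth.Agent.Lib.QCoh.ReflReg74

section Kernel

variable {R : Type u} [CommRing R] {M : Type u} [AddCommGroup M] [Module R M]
  {n m : ℕ} (f : M →ₗ[R] (Fin n → R)) (g : (Fin n → R) →ₗ[R] (Fin m → R))

include f in
lemma isSMulRegular_of_injective (hf : Function.Injective f) {a : R} (ha : IsSMulRegular R a) :
    IsSMulRegular M a := by
  rw [isSMulRegular_iff_right_eq_zero_of_smul]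
  intro x hx
  apply hf
  rw [map_zero]
  funext i
  apply ha
  have h1 := congrFun (congrArg f hx) i
  rw [map_smul, map_zero] at h1
  simpa using h1

include f g in
lemma isWeaklyRegular_pair (hf : Function.Injective f) (hfg : Function.Exact f g) {a b : R}
    (ha : IsSMulRegular R a) (hab : ∀ u v : R, b • u = a • v → ∃ w : R, u = a • w) :
    IsWeaklyRegular M [a, b] := by
  have haM : IsSMulRegular M a := isSMulRegular_of_injective f hf ha
  rw [isWeaklyRegular_cons_iff]
  refine ⟨haM, ?_⟩
  rw [isWeaklyRegular_cons_iff]
  refine ⟨?_, IsWeaklyRegular.nil R _⟩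
  rw [isSMulRegular_iff_right_eq_zero_of_smul]
  intro x hx
  obtain ⟨x, rfl⟩ := Submodule.Quotient.mk_surjective _ x
  rw [← Submodule.Quotient.mk_smul, Submodule.Quotient.mk_eq_zero] at hx
  obtain ⟨x', -, hx'⟩ := (Submodule.mem_smul_pointwise_iff_exists _ _ _).mp hx
  -- `b • x = a • x'`
  have h1 : ∀ i, ∃ w : R, f x i = a • w := by
    intro i
    apply hab (f x i) (f x' i)
    have h2 := congrFun (congrArg f hx') i
    rw [map_smul, map_smul] at h2
    simpa using h2.symm
  choose w hw using h1
  have h3 : g w = 0 := by
    have h4 : a • g w = 0 := by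
      rw [← map_smul]
      have : a • w = f x := by funext i; simpa using (hw i).symm
      rw [this]
      exact (hfg (f x)).2 ⟨x, rfl⟩
    funext j
    apply ha
    have := congrFun h4 j
    simpa using this
  obtain ⟨x'', hx''⟩ := (hfg w).1 h3
  have h5 : x = a • x'' := by
    apply hf
    rw [map_smul, hx'']
    funext i
    simpa using hw i
  rw [Submodule.Quotient.mk_eq_zero, h5]
  exact Submodule.smul_mem_pointwise_smul x'' a ⊤ Submodule.mem_top

variable [IsLocalRing R]

include f g in
theorem min_two_depth_le [Module.Finite R M] [Nontrivial M] (hf : Function.Injective f)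
    (hfg : Function.Exact f g) : min 2 (LocCoh.depth R R) ≤ LocCoh.depth R M := by
  have hIR : maximalIdeal R • (⊤ : Submodule R R) ≠ ⊤ :=
    Groth.Agent.Lib.Helper29.maximalIdeal_smul_top_ne_top R R
  by_cases h2 : 2 ≤ LocCoh.depth R R
  · obtain ⟨a, ha, b, hb, hareg, hab⟩ :=
      Groth.Agent.Lib.Helper93.ReflexiveDepth.exists_regular_two (maximalIdeal R) R h2 hIR
    have hreg := isWeaklyRegular_pair f g hf hfg hareg hab
    have h3 : (([a, b] : List R).length : ℕ∞) ≤ LocCoh.idealDepth (maximalIdeal R) M :=
      Groth.Agent.Lib.Helper29.DepthLib.length_le_idealDepth (maximalIdeal R) M hreg (by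
        intro r hr
        simp only [List.mem_cons, List.not_mem_nil, or_false] at hr
        rcases hr with rfl | rfl
        · exact ha
        · exact hb)
    exact (min_le_left _ _).trans h3
  · by_cases h1 : 1 ≤ LocCoh.depth R R
    · obtain ⟨a, ha, hareg⟩ :=
        Groth.Agent.Lib.Helper93.ReflexiveDepth.exists_regular_one (maximalIdeal R) R h1 hIR
      have haM : IsSMulRegular M a := isSMulRegular_of_injective f hf hareg
      have hreg : IsWeaklyRegular M [a] := by
        rw [isWeaklyRegular_cons_iff]
        exact ⟨haM, IsWeaklyRegular.nil R _⟩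
      have h3 : (([a] : List R).length : ℕ∞) ≤ LocCoh.idealDepth (maximalIdeal R) M :=
        Groth.Agent.Lib.Helper29.DepthLib.length_le_idealDepth (maximalIdeal R) M hreg (by
          intro r hr
          simp only [List.mem_cons, List.not_mem_nil, or_false] at hr
          rw [hr]; exact ha)
      have h4 : LocCoh.depth R R ≤ 1 := by
        rw [not_le] at h2
        have h5 : LocCoh.depth R R < 1 + 1 := by rwa [one_add_one_eq_two]
        exact Order.le_of_lt_add_one h5
      exact (min_le_right _ _).trans (h4.trans h3)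
    · have h4 : LocCoh.depth R R = 0 := by
        rw [not_le] at h1
        exact Order.lt_one_iff.1 h1
      rw [h4]
      simp

end Kernel

section Main

variable (R : Type u) [CommRing R] [IsRegularLocalRing R]

lemma isRegularLocalRing_localization_maximal (p : MaximalSpectrum R) :
    IsRegularLocalRing (Localization.AtPrime p.asIdeal) := by
  have hu : ∀ x ∈ p.asIdeal.primeCompl, IsUnit x := by
    intro x hx
    have h1 : p.asIdeal = maximalIdeal R := IsLocalRing.eq_maximalIdeal p.isMaximal
    by_contra hcon
    apply hx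
    rw [h1]
    exact (IsLocalRing.mem_maximalIdeal x).2 hcon
  exact IsRegularLocalRing.of_ringEquiv
    (IsLocalization.atUnits R p.asIdeal.primeCompl (S := Localization.AtPrime p.asIdeal)
      hu).toRingEquiv

lemma depth_le_two (hdim : ringKrullDim R ≤ 2) : LocCoh.depth R R ≤ 2 := by
  have : IsDomain R := Groth.Agent.S0558.isDomain_aux _ R rfl
  obtain ⟨p, hp⟩ := associatedPrimes.nonempty R R
  have h1 := Groth.Agent.Lib.Helper29.DepthLib.depth_le_ringKrullDim_quotient R R hp
  have h2 : ringKrullDim (R ⧸ p) ≤ ringKrullDim R := ringKrullDim_quotient_le p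
  have h3 : ((LocCoh.depth R R : ℕ∞) : WithBot ℕ∞) ≤ ((2 : ℕ∞) : WithBot ℕ∞) :=
    (h1.trans h2).trans hdim
  exact_mod_cast h3

/-- **A finite reflexive module over a regular local ring of dimension at most two is free.** -/
theorem free_of_isReflexive (hdim : ringKrullDim R ≤ 2) (M : Type u) [AddCommGroup M]
    [Module R M] [Module.Finite R M] [Module.IsReflexive R M] : Module.Free R M := by
  rcases subsingleton_or_nontrivial M with hM | hM
  · exact Module.Free.of_subsingleton R M
  have : IsDomain R := Groth.Agent.S0558.isDomain_aux _ R rfl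
  obtain ⟨n, m, f, g, hf, hfg⟩ :=
    Groth.Agent.Lib.Helper93.Reflexive.exists_exact_free_of_isReflexive (R := R) M
  have hdM : min 2 (LocCoh.depth R R) ≤ LocCoh.depth R M := min_two_depth_le f g hf hfg
  have hdR : LocCoh.depth R R ≤ 2 := depth_le_two R hdim
  rw [min_eq_right hdR] at hdM
  have hdim' : ringKrullDim R < ⊤ := lt_of_le_of_lt hdim (by
    exact WithBot.coe_lt_coe.2 (ENat.natCast_lt_top 2))
  obtain ⟨N, hN⟩ := Groth.Agent.S15512.exists_bound R
    (isRegularLocalRing_localization_maximal R) hdim' M
  classical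
  have hex : ∃ k : ℕ, HasProjectiveDimensionLT (ModuleCat.of R M) k := ⟨N + 1, hN⟩
  have hmin : ∀ {j : ℕ}, j < Nat.find hex → ¬ HasProjectiveDimensionLT (ModuleCat.of R M) j :=
    fun {j} hj => Nat.find_min hex hj
  have hspec := Nat.find_spec hex
  set k₀ := Nat.find hex with hk₀
  have hk0 : k₀ ≠ 0 := by
    intro h0
    rw [h0] at hspec
    have hz : Limits.IsZero (ModuleCat.of R M) :=
      (hasProjectiveDimensionLT_zero_iff_isZero _).1 hspec
    have : Subsingleton M := ModuleCat.subsingleton_of_isZero hz
    exact not_subsingleton M this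
  obtain ⟨e, he⟩ := Nat.exists_eq_succ_of_ne_zero hk0
  rw [he] at hspec
  have hnot : ¬ HasProjectiveDimensionLT (ModuleCat.of R M) e :=
    hmin (by rw [he]; exact Nat.lt_succ_self e)
  have hAB := Groth.Agent.Lib.Helper33.AB.depth_eq_add_of_hasProjectiveDimensionLT M e hspec hnot
  -- arithmetic: `e = 0`
  have hRtop : LocCoh.depth R R ≠ ⊤ := ne_top_of_le_ne_top (ENat.natCast_ne_top 2) hdR
  have hMtop : LocCoh.depth R M ≠ ⊤ := by
    intro h
    rw [h, add_top] at hAB
    exact hRtop hAB
  lift LocCoh.depth R R to ℕ using hRtop with a ha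
  lift LocCoh.depth R M to ℕ using hMtop with b hb
  have h1 : a = e + b := by exact_mod_cast hAB
  have h2 : a ≤ b := by exact_mod_cast hdM
  have he0 : e = 0 := by omega
  rw [he0] at hspec
  exact Groth.Agent.Lib.Helper33.AB.free_of_hasProjectiveDimensionLT_one M hspec

end Main

end Groth.Agent.Lib.QCoh.ReflReg74
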