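import Groth.Agent.S5671
import Groth.Agent.Lib.QCoh.Helper74_ReflexiveRegular

/-!
# Cohen–Macaulay modules of full support over a regular local ring are free (helper74)

Namespace `Groth.Agent.Lib.QCoh.CMReg74`.

* `free_of_depth_le` : a finite module `M` over a regular local ring with `depth R ≤ depth M` is
  free (Auslander–Buchsbaum).
* `free_of_isCM_of_support` : finite CM module with `Supp M = Spec R` over regular local `R` is free.
* `isCM_of_free` : a nonzero finite free module over a regular local ring is Cohen–Macaulay.
-/

set_option linter.style.haveILetI false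
universe u
open CategoryTheory IsLocalRing RingTheory.Sequence

namespace Groth.Agent.Lib.QCoh.CMReg74

variable (R : Type u) [CommRing R] [IsRegularLocalRing R]

open Groth.Agent.Lib.Helper29 in
/-- A finite module over a regular local ring with `depth R ≤ depth M` is free. -/
theorem free_of_depth_le (M : Type u) [AddCommGroup M] [Module R M] [Module.Finite R M]
    (hdM : LocCoh.depth R R ≤ LocCoh.depth R M) : Module.Free R M := by
  rcases subsingleton_or_nontrivial M with hM | hM
  · exact Module.Free.of_subsingleton R M
  have hdim' : ringKrullDim R < ⊤ := ringKrullDim_lt_top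
  obtain ⟨N, hN⟩ := Groth.Agent.S15512.exists_bound R
    (ReflReg74.isRegularLocalRing_localization_maximal R) hdim' M
  classical
  have hex : ∃ k : ℕ, HasProjectiveDimensionLT (ModuleCat.of R M) k := ⟨N + 1, hN⟩
  have hmin : ∀ {j : ℕ}, j < Nat.find hex → ¬ HasProjectiveDimensionLT (ModuleCat.of R M) j :=
    fun {j} hj => Nat.find_min hex hj
  have hspec := Nat.find_spec hex
  set k₀ := Nat.find hex with hk₀
  have hk0 : k₀ ≠ 0 := by
    intro h0
    rw [h0] at hspec
    have hz : Limits.IsZero (ModuleCat.of R M) :=
      (hasProjectiveDimensionLT_zero_iff_isZero _).1 hspec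
    have : Subsingleton M := ModuleCat.subsingleton_of_isZero hz
    exact not_subsingleton M this
  obtain ⟨e, he⟩ := Nat.exists_eq_succ_of_ne_zero hk0
  rw [he] at hspec
  have hnot : ¬ HasProjectiveDimensionLT (ModuleCat.of R M) e :=
    hmin (by rw [he]; exact Nat.lt_succ_self e)
  have hAB := Groth.Agent.Lib.Helper33.AB.depth_eq_add_of_hasProjectiveDimensionLT M e hspec hnot
  have hRtop : LocCoh.depth R R ≠ ⊤ := DepthLib.depth_ne_top (A := R) (M := R)
  have hMtop : LocCoh.depth R M ≠ ⊤ := by
    intro h
    rw [h, add_top] at hAB
    exact hRtop hAB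
  lift LocCoh.depth R R to ℕ using hRtop with a ha
  lift LocCoh.depth R M to ℕ using hMtop with b hb
  have h1 : a = e + b := by exact_mod_cast hAB
  have h2 : a ≤ b := by exact_mod_cast hdM
  have he0 : e = 0 := by omega
  rw [he0] at hspec
  exact Groth.Agent.Lib.Helper33.AB.free_of_hasProjectiveDimensionLT_one M hspec

/-- The depth of a regular local ring is its dimension. -/
theorem coe_depth_self : ((LocCoh.depth R R : ℕ∞) : WithBot ℕ∞) = ringKrullDim R := by
  have h1 : Module.supportDim R R = ((LocCoh.depth R R : ℕ∞) : WithBot ℕ∞) :=
    Groth.Agent.S5671.isCM_of_regular R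
  rw [← h1, Module.supportDim_self_eq_ringKrullDim]

omit [IsRegularLocalRing R] in
theorem supportDim_eq_of_support_eq_univ (M : Type u) [AddCommGroup M] [Module R M]
    (hsupp : Module.support R M = Set.univ) : Module.supportDim R M = ringKrullDim R := by
  unfold Module.supportDim ringKrullDim
  rw [hsupp]
  exact Order.krullDim_eq_of_orderIso OrderIso.Set.univ

/-- A finite Cohen–Macaulay module with full support over a regular local ring is free. -/
theorem free_of_isCM_of_support (M : Type u) [AddCommGroup M] [Module R M] [Module.Finite R M]
    (hCM : LocCoh.IsCohenMacaulayModule R M) (hsupp : Module.support R M = Set.univ) :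
    Module.Free R M := by
  apply free_of_depth_le
  have h1 : Module.supportDim R M = ((LocCoh.depth R M : ℕ∞) : WithBot ℕ∞) := hCM
  rw [supportDim_eq_of_support_eq_univ R M hsupp, ← coe_depth_self] at h1
  have h2 : LocCoh.depth R R = LocCoh.depth R M := WithBot.coe_injective h1
  exact h2.le

/-- A nonzero finite free module over a regular local ring is Cohen–Macaulay. -/
theorem isCM_of_free (M : Type u) [AddCommGroup M] [Module R M] [Module.Finite R M]
    [Module.Free R M] [Nontrivial M] : LocCoh.IsCohenMacaulayModule R M := by
  have hAB := Groth.Agent.Lib.Helper33.AB.depth_eq_add_of_hasProjectiveDimensionLT M 0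
    (by
      have : Projective (ModuleCat.of R M) := by
        rw [← IsProjective.iff_projective]
        infer_instance
      exact projective_iff_hasProjectiveDimensionLT_one.mp this)
    (by
      intro h
      have hz : Limits.IsZero (ModuleCat.of R M) :=
        (hasProjectiveDimensionLT_zero_iff_isZero _).1 h
      have : Subsingleton M := ModuleCat.subsingleton_of_isZero hz
      exact not_subsingleton M this)
  have hAB' : LocCoh.depth R R = LocCoh.depth R M := by simpa using hAB
  change Module.supportDim R M = ((LocCoh.depth R M : ℕ∞) : WithBot ℕ∞)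
  rw [← hAB', coe_depth_self]
  apply le_antisymm (Module.supportDim_le_ringKrullDim R M)
  rw [← Module.supportDim_self_eq_ringKrullDim]
  -- an injective map `R → M`
  let b := Module.Free.chooseBasis R M
  have hne : Nonempty (Module.Free.ChooseBasisIndex R M) := by
    by_contra hcon
    rw [not_nonempty_iff] at hcon
    have : Subsingleton M := (Module.Basis.repr b).toEquiv.subsingleton
    exact not_subsingleton M this
  obtain ⟨i⟩ := hne
  refine Module.supportDim_le_of_injective (LinearMap.toSpanSingleton R M (b i)) ?_
  intro r s hrs
  have h1 : r • b i = s • b i := hrs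
  have h2 := congrArg (fun m => b.repr m i) h1
  simpa using h2

end Groth.Agent.Lib.QCoh.CMReg74
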