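import Mathlib

/-!
# Fibre ranks (helper74)
-/

universe u

namespace Groth.Agent.Lib.QCoh.FibreRank74

open TensorProduct

section General

variable {A : Type*} [CommRing A] (N : Type*) [AddCommGroup N] [Module A N]

/-- Fibre rank is insensitive to base change of the module. -/
theorem finrank_tensor_of_isBaseChange {R' M' : Type*} [CommRing R'] [Algebra A R']
    [AddCommGroup M'] [Module A M'] [Module R' M'] [IsScalarTower A R' M'] {f : N →ₗ[A] M'}
    (hf : IsBaseChange R' f) (K : Type*) [Field K] [Algebra R' K] [Algebra A K]
    [IsScalarTower A R' K] :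
    Module.finrank K (K ⊗[R'] M') = Module.finrank K (K ⊗[A] N) := by
  let e : K ⊗[R'] M' ≃ₗ[K] K ⊗[A] N :=
    (AlgebraTensorModule.congr (LinearEquiv.refl K K) hf.equiv.symm) ≪≫ₗ
      AlgebraTensorModule.cancelBaseChange A R' K K N
  exact e.finrank_eq

/-- Fibre rank is insensitive to field extensions. -/
theorem finrank_tensor_field_ext (K K' : Type*) [Field K] [Field K'] [Algebra A K] [Algebra A K']
    [Algebra K K'] [IsScalarTower A K K'] :
    Module.finrank K' (K' ⊗[A] N) = Module.finrank K (K ⊗[A] N) := by
  let e : K' ⊗[K] (K ⊗[A] N) ≃ₗ[K'] K' ⊗[A] N := AlgebraTensorModule.cancelBaseChange A K K' K' N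
  rw [← e.finrank_eq]
  exact Module.finrank_baseChange

/-- Variant with a ring homomorphism of fields over `A`. -/
theorem finrank_tensor_field_hom (K K' : Type*) [Field K] [Field K'] [Algebra A K] [Algebra A K']
    (φ : K →ₐ[A] K') :
    Module.finrank K' (K' ⊗[A] N) = Module.finrank K (K ⊗[A] N) := by
  let _ : Algebra K K' := φ.toRingHom.toAlgebra
  have : IsScalarTower A K K' := IsScalarTower.of_algebraMap_eq fun a => (φ.commutes a).symm
  exact finrank_tensor_field_ext N K K'

end General

section Reduced

variable {R : Type*} [CommRing R] [IsLocalRing R] [IsReduced R]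
  (M : Type*) [AddCommGroup M] [Module R M] [Module.Finite R M]

/-- A finite module over a reduced local ring whose fibre rank is the same at all primes is free. -/
theorem free_of_isReduced_of_finrank_fiber_eq
    (h : ∀ q : PrimeSpectrum R, Module.finrank q.asIdeal.ResidueField
      (q.asIdeal.ResidueField ⊗[R] M) =
        Module.finrank (IsLocalRing.ResidueField R) (IsLocalRing.ResidueField R ⊗[R] M)) :
    Module.Free R M := by
  classical
  let k := IsLocalRing.ResidueField R
  let I := Module.Free.ChooseBasisIndex k (k ⊗[R] M)
  let b : Module.Basis I k (k ⊗[R] M) := Module.Free.chooseBasis k _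
  choose v hv using TensorProduct.mk_surjective R M k Ideal.Quotient.mk_surjective
  let w : I → M := fun i => v (b i)
  have hw : ∀ i, (1 : k) ⊗ₜ[R] w i = b i := fun i => hv (b i)
  have hspan : Submodule.span R (Set.range w) = ⊤ :=
    IsLocalRing.span_eq_top_of_tmul_eq_basis w b hw
  let φ : (I →₀ R) →ₗ[R] M := Finsupp.linearCombination R w
  have hφs : Function.Surjective φ := by
    rw [← LinearMap.range_eq_top, Finsupp.range_linearCombination, hspan]
  have hφi : Function.Injective φ := by
    rw [← LinearMap.ker_eq_bot, LinearMap.ker_eq_bot']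
    intro a ha
    ext i
    have hnil : a i ∈ nilradical R := by
      rw [nilradical_eq_sInf, Ideal.mem_sInf]
      intro q hq
      have : q.IsPrime := hq
      let K := q.ResidueField
      -- the base-changed map
      let ψ : K ⊗[R] (I →₀ R) →ₗ[K] K ⊗[R] M := φ.baseChange K
      have hψs : Function.Surjective ψ := by
        exact LinearMap.lTensor_surjective _ hφs
      have hfr : Module.finrank K (K ⊗[R] (I →₀ R)) = Module.finrank K (K ⊗[R] M) := by
        rw [h ⟨q, hq⟩, Module.finrank_baseChange, Module.finrank_finsupp_self,
          Module.finrank_eq_card_chooseBasisIndex]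
      have hψi : Function.Injective ψ :=
        (LinearMap.injective_iff_surjective_of_finrank_eq_finrank hfr).2 hψs
      have h0 : ψ ((1 : K) ⊗ₜ[R] a) = 0 := by
        simp [ψ, ha]
      have h1 : (1 : K) ⊗ₜ[R] a = 0 := hψi (by rw [h0, map_zero])
      have h2 := congrArg (TensorProduct.finsuppScalarRight R K K I) h1
      rw [map_zero] at h2
      have h3 := DFunLike.congr_fun h2 i
      rw [TensorProduct.finsuppScalarRight_apply_tmul_apply] at h3
      simp only [Finsupp.coe_zero, Pi.zero_apply] at h3
      rw [Algebra.smul_def, mul_one] at h3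
      exact Ideal.algebraMap_residueField_eq_zero.1 h3
    rw [nilradical_eq_zero] at hnil
    exact hnil
  exact Module.Free.of_equiv (LinearEquiv.ofBijective φ ⟨hφi, hφs⟩)

end Reduced

end Groth.Agent.Lib.QCoh.FibreRank74
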