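import Groth.Agent.Lib.QCoh.Helper74_LocFreeStalk
import Groth.Agent.Lib.QCoh.Helper74_FibreRank
import Groth.Agent.Lib.QCoh.AffineOpen

/-!
# Fibre rank of a module on a scheme (helper74)

Namespace `Groth.Agent.Lib.QCoh.FibreRank74`.

* `fibreRank F x` : `dim_{κ(x)} κ(x) ⊗ F_x`.
* `fibreRank_eq_finrank_residueField` : on an affine open `U ∋ x`, the fibre rank is
  `dim κ(p) ⊗_{Γ(X,U)} Γ(F,U)`.
* `fibreRank_eq_rankAtStalk` : for `Γ(F,U)` finite flat this is Mathlib's `Module.rankAtStalk`.
* `finrank_residueField_stalk_eq_fibreRank` : the fibre rank of the `O_{X,x}`-module `F_x` at a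
  prime `q` of `O_{X,x}` is the fibre rank of `F` at the corresponding generisation of `x`.
* `isLocallyConstant_fibreRank_of_isFinLocFree`, `isFinLocFree_of_isLocallyConstant_fibreRank`,
  `free_stalk_of_isReduced_of_isLocallyConstant_fibreRank`.
-/

universe u

open CategoryTheory CategoryTheory.Limits AlgebraicGeometry Opposite TopologicalSpace

namespace Groth.Agent.Lib.QCoh.FibreRank74

open Scheme.Modules FlatMod TensorProduct Groth.Agent.Lib.QCoh

variable {X : Scheme.{u}}

/-- The fibre rank of `F` at `x`: the dimension of `κ(x) ⊗ F_x`. -/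
noncomputable def fibreRank (F : X.Modules) (x : X) : ℕ :=
  Module.finrank (IsLocalRing.ResidueField (X.presheaf.stalk x))
    (TensorProduct (X.presheaf.stalk x) (IsLocalRing.ResidueField (X.presheaf.stalk x))
      (F.presheaf.stalk x))

section Stalk

variable (F : X.Modules) {U : X.Opens} (hU : IsAffineOpen U) (x : X) (hx : x ∈ U)

private theorem isScalarTower_stalk' :
    letI := stalkModuleOfOpen F U x hx
    letI := X.presheaf.algebra_section_stalk ⟨x, hx⟩
    IsScalarTower Γ(X, U) (X.presheaf.stalk x) (F.presheaf.stalk x) :=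
  letI := stalkModuleOfOpen F U x hx
  letI := X.presheaf.algebra_section_stalk ⟨x, hx⟩
  .of_algebraMap_smul fun _ _ => rfl

include hU in
/-- On an affine open, the fibre rank at `x` is the dimension of `κ(p) ⊗ Γ(F, U)`. -/
theorem fibreRank_eq_finrank_residueField [F.IsQuasicoherent] :
    fibreRank F x = Module.finrank (hU.primeIdealOf ⟨x, hx⟩).asIdeal.ResidueField
      ((hU.primeIdealOf ⟨x, hx⟩).asIdeal.ResidueField ⊗[Γ(X, U)] Γ(F, U)) := by
  let _ := stalkModuleOfOpen F U x hx
  let _ := X.presheaf.algebra_section_stalk ⟨x, hx⟩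
  have := isScalarTower_stalk' F x hx
  have := hU.isLocalization_stalk ⟨x, hx⟩
  have := isLocalizedModule_germ F hU x hx
  set p := (hU.primeIdealOf ⟨x, hx⟩).asIdeal with hp
  have hBC : IsBaseChange (X.presheaf.stalk x) (germₗ F U x hx) :=
    IsLocalizedModule.isBaseChange p.primeCompl _ _
  have : IsScalarTower Γ(X, U) (X.presheaf.stalk x)
      (IsLocalRing.ResidueField (X.presheaf.stalk x)) := .of_algebraMap_eq fun _ => rfl
  have h1 : fibreRank F x = Module.finrank (IsLocalRing.ResidueField (X.presheaf.stalk x))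
      ((IsLocalRing.ResidueField (X.presheaf.stalk x)) ⊗[Γ(X, U)] Γ(F, U)) :=
    finrank_tensor_of_isBaseChange Γ(F, U) hBC (IsLocalRing.ResidueField (X.presheaf.stalk x))
  rw [h1]
  have hf₁ : p ≤ RingHom.ker (Algebra.ofId Γ(X, U)
      (IsLocalRing.ResidueField (X.presheaf.stalk x))) := by
    intro a ha
    rw [RingHom.mem_ker]
    change IsLocalRing.residue _ (algebraMap Γ(X, U) (X.presheaf.stalk x) a) = 0
    rw [IsLocalRing.residue_eq_zero_iff]
    exact (IsLocalization.AtPrime.to_map_mem_maximal_iff (X.presheaf.stalk x) p a).2 ha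
  have hf₂ : p.primeCompl ≤ (IsUnit.submonoid (IsLocalRing.ResidueField
      (X.presheaf.stalk x))).comap (Algebra.ofId Γ(X, U)
        (IsLocalRing.ResidueField (X.presheaf.stalk x))) := by
    intro a ha
    change IsUnit (IsLocalRing.residue _ (algebraMap Γ(X, U) (X.presheaf.stalk x) a))
    exact (IsLocalization.map_units (X.presheaf.stalk x) (⟨a, ha⟩ : p.primeCompl)).map _
  exact finrank_tensor_field_hom Γ(F, U) p.ResidueField
    (IsLocalRing.ResidueField (X.presheaf.stalk x))
    (Ideal.ResidueField.liftₐ p (Algebra.ofId Γ(X, U)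
      (IsLocalRing.ResidueField (X.presheaf.stalk x))) hf₁ hf₂)

include hU in
/-- If `Γ(F, U)` is finite flat, the fibre rank is `Module.rankAtStalk`. -/
theorem fibreRank_eq_rankAtStalk [F.IsQuasicoherent] [Module.Finite Γ(X, U) Γ(F, U)]
    [Module.Flat Γ(X, U) Γ(F, U)] :
    fibreRank F x = Module.rankAtStalk Γ(F, U) (hU.primeIdealOf ⟨x, hx⟩) := by
  rw [fibreRank_eq_finrank_residueField F hU x hx, Module.rankAtStalk_eq]

include hU hx in
/-- The fibre rank of the stalk `F_x` at a prime `q` of `O_{X,x}` is the fibre rank of `F` at the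
generisation of `x` corresponding to `q`. -/
theorem finrank_residueField_stalk_eq_fibreRank [F.IsQuasicoherent]
    (q : Ideal (X.presheaf.stalk x)) [q.IsPrime] :
    ∃ y : X, y ⤳ x ∧ Module.finrank q.ResidueField (q.ResidueField ⊗[X.presheaf.stalk x]
      F.presheaf.stalk x) = fibreRank F y := by
  let _ := stalkModuleOfOpen F U x hx
  let _ := X.presheaf.algebra_section_stalk ⟨x, hx⟩
  have := isScalarTower_stalk' F x hx
  have := hU.isLocalization_stalk ⟨x, hx⟩
  have := isLocalizedModule_germ F hU x hx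
  set p := (hU.primeIdealOf ⟨x, hx⟩).asIdeal with hp
  have hBC : IsBaseChange (X.presheaf.stalk x) (germₗ F U x hx) :=
    IsLocalizedModule.isBaseChange p.primeCompl _ _
  let p' : PrimeSpectrum Γ(X, U) :=
    ⟨q.comap (algebraMap Γ(X, U) (X.presheaf.stalk x)), inferInstance⟩
  let y : X := hU.fromSpec p'
  have hy : y ∈ U := by
    have : y ∈ Set.range hU.fromSpec := ⟨p', rfl⟩
    rwa [hU.range_fromSpec] at this
  have hq : hU.primeIdealOf ⟨y, hy⟩ = p' :=
    hU.fromSpec.isOpenEmbedding.injective (hU.fromSpec_primeIdealOf ⟨y, hy⟩)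
  have hle : p' ≤ hU.primeIdealOf ⟨x, hx⟩ := by
    change p'.asIdeal ≤ p
    rw [← IsLocalization.AtPrime.under_maximalIdeal (X.presheaf.stalk x) p]
    exact Ideal.comap_mono (IsLocalRing.le_maximalIdeal (Ideal.IsPrime.ne_top inferInstance))
  have hspec : y ⤳ x := by
    have h1 : p' ⤳ hU.primeIdealOf ⟨x, hx⟩ := (PrimeSpectrum.le_iff_specializes _ _).1 hle
    have h2 := h1.map hU.fromSpec.continuous
    rwa [hU.fromSpec_primeIdealOf ⟨x, hx⟩] at h2
  refine ⟨y, hspec, ?_⟩
  rw [fibreRank_eq_finrank_residueField F hU y hy]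
  have : IsScalarTower Γ(X, U) (X.presheaf.stalk x) q.ResidueField :=
    .of_algebraMap_eq fun _ => rfl
  have h1 : Module.finrank q.ResidueField (q.ResidueField ⊗[X.presheaf.stalk x]
      F.presheaf.stalk x) = Module.finrank q.ResidueField (q.ResidueField ⊗[Γ(X, U)] Γ(F, U)) :=
    finrank_tensor_of_isBaseChange Γ(F, U) hBC q.ResidueField
  rw [h1, hq]
  exact finrank_tensor_field_hom Γ(F, U) p'.asIdeal.ResidueField q.ResidueField
    (Ideal.ResidueField.mapₐ p'.asIdeal q (Algebra.ofId Γ(X, U) (X.presheaf.stalk x)) rfl)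

end Stalk

/-- The fibre rank of a finite locally free module is locally constant. -/
theorem isLocallyConstant_fibreRank_of_isFinLocFree {F : X.Modules} (h : IsFinLocFree F) :
    IsLocallyConstant (fibreRank F) := by
  have := isQuasicoherent_of_isFinLocFree h
  rw [IsLocallyConstant.iff_exists_open]
  intro x
  obtain ⟨_, ⟨U, hU : IsAffineOpen U, rfl⟩, hxU, -⟩ :=
    (X.isBasis_affineOpens).exists_subset_of_mem_open (Set.mem_univ x) isOpen_univ
  obtain ⟨h1, h2⟩ := finite_projective_Γ_of_isAffineOpen h hU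
  have : Module.FinitePresentation Γ(X, U) Γ(F, U) := Module.finitePresentation_of_projective _ _
  have hlc := Module.isLocallyConstant_rankAtStalk (R := Γ(X, U)) (M := Γ(F, U))
  have hW := hlc.isOpen_fiber (Module.rankAtStalk Γ(F, U) (hU.primeIdealOf ⟨x, hxU⟩))
  refine ⟨hU.fromSpec '' _, hU.fromSpec.isOpenEmbedding.isOpenMap _ hW,
    ⟨_, rfl, hU.fromSpec_primeIdealOf ⟨x, hxU⟩⟩, ?_⟩
  rintro _ ⟨p, hp, rfl⟩
  have hy : hU.fromSpec p ∈ U := by
    have : hU.fromSpec p ∈ Set.range hU.fromSpec := ⟨p, rfl⟩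
    rwa [hU.range_fromSpec] at this
  have hq : hU.primeIdealOf ⟨hU.fromSpec p, hy⟩ = p :=
    hU.fromSpec.isOpenEmbedding.injective (hU.fromSpec_primeIdealOf ⟨_, hy⟩)
  rw [fibreRank_eq_rankAtStalk F hU _ hy, fibreRank_eq_rankAtStalk F hU x hxU, hq]
  exact hp

/-- A quasi-coherent module of finite type with free stalks and locally constant fibre rank is
finite locally free. -/
theorem isFinLocFree_of_isLocallyConstant_fibreRank (F : X.Modules) [F.IsQuasicoherent]
    [F.IsFiniteType] (hfree : ∀ x : X, Module.Free (X.presheaf.stalk x) (F.presheaf.stalk x))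
    (hlc : IsLocallyConstant (fibreRank F)) : IsFinLocFree F := by
  apply isFinLocFree_of_exists_affineOpen
  intro x
  have hW : IsOpen {z | fibreRank F z = fibreRank F x} := hlc.isOpen_fiber _
  obtain ⟨_, ⟨U, hU : IsAffineOpen U, rfl⟩, hxU, hUW⟩ :=
    (X.isBasis_affineOpens).exists_subset_of_mem_open
      (show x ∈ {z | fibreRank F z = fibreRank F x} from rfl) hW
  have hfin : Module.Finite Γ(X, U) Γ(F, U) := finite_Γ_of_isAffineOpen hU F
  have hflat : Module.Flat Γ(X, U) Γ(F, U) := flat_Γ_of_forall_isFlatAt F hU fun y _ =>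
    have := hfree y
    inferInstanceAs (Module.Flat (X.presheaf.stalk y) (F.presheaf.stalk y))
  have hrk : ∀ p : PrimeSpectrum Γ(X, U), Module.rankAtStalk Γ(F, U) p = fibreRank F x := by
    intro p
    have hy : hU.fromSpec p ∈ U := by
      have : hU.fromSpec p ∈ Set.range hU.fromSpec := ⟨p, rfl⟩
      rwa [hU.range_fromSpec] at this
    have hq : hU.primeIdealOf ⟨hU.fromSpec p, hy⟩ = p :=
      hU.fromSpec.isOpenEmbedding.injective (hU.fromSpec_primeIdealOf ⟨_, hy⟩)
    rw [← hq, ← fibreRank_eq_rankAtStalk F hU _ hy]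
    exact hUW hy
  obtain ⟨h1, h2⟩ := finite_projective_of_forall_exists_away (R := Γ(X, U)) (M := Γ(F, U))
    (fun p hp => by
      obtain ⟨a, ha, hfr⟩ := Module.Free.away_of_finite_of_flat_of_rankAtStalk_constant Γ(F, U) p
        (fun m _ => by rw [hrk, hrk])
      exact ⟨a, ha, inferInstance, inferInstance⟩)
  exact ⟨U, hU, hxU, h1, h2⟩

/-- On a reduced scheme, a quasi-coherent module of finite type with locally constant fibre rank
has free stalks. -/
theorem free_stalk_of_isReduced_of_isLocallyConstant_fibreRank [IsReduced X] (F : X.Modules)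
    [F.IsQuasicoherent] [F.IsFiniteType] (hlc : IsLocallyConstant (fibreRank F)) (x : X) :
    Module.Free (X.presheaf.stalk x) (F.presheaf.stalk x) := by
  obtain ⟨_, ⟨U, hU : IsAffineOpen U, rfl⟩, hxU, -⟩ :=
    (X.isBasis_affineOpens).exists_subset_of_mem_open (Set.mem_univ x) isOpen_univ
  have hfin : Module.Finite (X.presheaf.stalk x) (F.presheaf.stalk x) := by
    let _ := stalkModuleOfOpen F U x hxU
    let _ := X.presheaf.algebra_section_stalk ⟨x, hxU⟩
    have := isScalarTower_stalk' F x hxU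
    have := hU.isLocalization_stalk ⟨x, hxU⟩
    have := isLocalizedModule_germ F hU x hxU
    have : Module.Finite Γ(X, U) Γ(F, U) := finite_Γ_of_isAffineOpen hU F
    exact Module.Finite.of_isLocalizedModule (hU.primeIdealOf ⟨x, hxU⟩).asIdeal.primeCompl
      (germₗ F U x hxU)
  apply free_of_isReduced_of_finrank_fiber_eq
  intro q
  obtain ⟨y, hy, h⟩ := finrank_residueField_stalk_eq_fibreRank F hU x hxU q.asIdeal
  rw [h]
  exact hy.mem_open (hlc.isOpen_fiber (fibreRank F x)) rfl

end Groth.Agent.Lib.QCoh.FibreRank74
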