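import Groth.Agent.Lib.QCoh.Helper74_ReflexiveRegular
import Groth.Agent.Lib.QCoh.Helper74_TorsionFreeDimOne

/-!
# QCoh API (helper74): reflexive coherent modules on regular schemes of dimension ≤ 2

Namespace `Groth.Agent.Lib.QCoh.ReflReg74`.
-/

set_option linter.style.haveILetI false
universe u
open CategoryTheory CategoryTheory.Limits AlgebraicGeometry Opposite TopologicalSpace

namespace Groth.Agent.Lib.QCoh.ReflReg74
open Groth.Agent.Lib.QCoh

/-- On a locally Noetherian regular scheme of dimension ≤ 2, a coherent module is reflexive
(stalkwise) iff it is finite locally free. -/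
theorem isReflexive_iff_isFinLocFree (X : Scheme.{u}) [IsLocallyNoetherian X]
    (hreg : ∀ x : X, IsRegularLocalRing (X.presheaf.stalk x))
    (hdim : topologicalKrullDim X ≤ 2) (F : X.Modules) [F.IsQuasicoherent] [F.IsFiniteType] :
    (∀ x : X, Module.IsReflexive (X.presheaf.stalk x) (F.presheaf.stalk x)) ↔
      FlatMod.IsFinLocFree F := by
  constructor
  · intro hrefl
    have := isFinitePresentation_of_isLocallyNoetherian F
    apply isFinLocFree_of_isFlat_of_isFinitePresentation F
    intro x
    have := hreg x
    have := hrefl x
    have hfin : Module.Finite (X.presheaf.stalk x) (F.presheaf.stalk x) := finite_stalk F x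
    have hfree : Module.Free (X.presheaf.stalk x) (F.presheaf.stalk x) :=
      free_of_isReflexive _ ((TFDimOne74.ringKrullDim_stalk_le X x).trans hdim) _
    exact inferInstanceAs (Module.Flat (X.presheaf.stalk x) (F.presheaf.stalk x))
  · intro h x
    obtain ⟨h1, h2⟩ := free_finite_stalk_of_isFinLocFree h x
    infer_instance

end Groth.Agent.Lib.QCoh.ReflReg74
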