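import Groth.Agent.Lib.QCoh.Helper74_CMRegular
import Groth.Agent.Lib.QCoh.Helper74_ReflexiveDimTwo
import Groth.Agent.Lib.QCoh.Helper74_FibreRankScheme
import Groth.Agent.Lib.QCoh.Helper74_LocFreeRank
import Groth.Prelude.Def_CohB1

/-!
# QCoh API (helper74): Cohen–Macaulay coherent modules of full support on regular schemes

Namespace `Groth.Agent.Lib.QCoh.CMReg74`.
-/

set_option linter.style.haveILetI false
universe u
open CategoryTheory CategoryTheory.Limits AlgebraicGeometry Opposite TopologicalSpace

namespace Groth.Agent.Lib.QCoh.CMReg74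
open Groth.Agent.Lib.QCoh FlatMod

variable {X : Scheme.{u}}

/-- `O^0` is a zero object. -/
theorem isZero_freeMod_zero (Y : Scheme.{u}) : IsZero (freeMod Y 0) := by
  rw [IsZero.iff_id_eq_zero]
  exact Sigma.hom_ext _ _ (fun i => i.elim0)

/-- A module isomorphic to `O^n` with `n > 0` has nontrivial stalks. -/
theorem nontrivial_stalk_of_iso_freeMod {Y : Scheme.{u}} {E : Y.Modules} {n : ℕ} (hn : 0 < n)
    (e : E ≅ freeMod Y n) (y : Y) : Nontrivial (E.presheaf.stalk y) := by
  have hE : IsFinLocFreeOfRank n E := isFinLocFreeOfRank_of_iso e.symm (isFinLocFreeOfRank_freeMod Y n)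
  have hE' : IsFinLocFree E := isFinLocFree_of_isFinLocFreeOfRank hE
  have := isQuasicoherent_of_isFinLocFree hE'
  obtain ⟨_, ⟨V, hV : IsAffineOpen V, rfl⟩, hyV, -⟩ :=
    (Y.isBasis_affineOpens).exists_subset_of_mem_open (Set.mem_univ y) isOpen_univ
  obtain ⟨h1, h2⟩ := finite_projective_Γ_of_isAffineOpen hE' hV
  have h3 := FibreRank74.fibreRank_eq_rankAtStalk E hV y hyV
  rw [rankAtStalk_Γ_of_isFinLocFreeOfRank hE hV] at h3
  by_contra hcon
  rw [not_nontrivial_iff_subsingleton] at hcon
  have h4 : FibreRank74.fibreRank E y = 0 := by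
    unfold FibreRank74.fibreRank
    exact Module.finrank_zero_of_subsingleton
  omega

/-- The support of the stalk `F_x` is all of `Spec O_{X,x}` if all stalks of `F` are nonzero. -/
theorem support_stalk_eq_univ (F : X.Modules) [F.IsQuasicoherent] [F.IsFiniteType]
    (hsupp : ∀ y : X, Nontrivial (F.presheaf.stalk y)) (x : X) :
    Module.support (X.presheaf.stalk x) (F.presheaf.stalk x) = Set.univ := by
  rw [Set.eq_univ_iff_forall]
  intro q
  obtain ⟨_, ⟨U, hU : IsAffineOpen U, rfl⟩, hxU, -⟩ :=
    (X.isBasis_affineOpens).exists_subset_of_mem_open (Set.mem_univ x) isOpen_univ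
  obtain ⟨y, -, hy⟩ := FibreRank74.finrank_residueField_stalk_eq_fibreRank F hU x hxU q.asIdeal
  have hfin : Module.Finite (X.presheaf.stalk x) (F.presheaf.stalk x) := finite_stalk F x
  have hfiny : Module.Finite (X.presheaf.stalk y) (F.presheaf.stalk y) := finite_stalk F y
  have hnty := hsupp y
  -- the fibre at `y` is nonzero by Nakayama
  have h1 : FibreRank74.fibreRank F y ≠ 0 := by
    unfold FibreRank74.fibreRank
    intro h0
    have h2 : Subsingleton (TensorProduct (X.presheaf.stalk y)
        (IsLocalRing.ResidueField (X.presheaf.stalk y)) (F.presheaf.stalk y)) :=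
      Module.finrank_zero_iff.mp h0
    rw [IsLocalRing.subsingleton_tensorProduct] at h2
    exact not_subsingleton _ h2
  rw [Module.mem_support_iff_nontrivial_residueField_tensorProduct]
  by_contra hcon
  rw [not_nontrivial_iff_subsingleton] at hcon
  apply h1
  rw [← hy]
  exact Module.finrank_zero_of_subsingleton

/-- **Cohen–Macaulay with full support iff locally free of positive rank**, on a regular scheme. -/
theorem isCM_iff_locally_free (X : Scheme.{u}) [IsLocallyNoetherian X]
    (hreg : ∀ x : X, IsRegularLocalRing (X.presheaf.stalk x)) (F : X.Modules)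
    [F.IsQuasicoherent] [F.IsFiniteType] :
    (CohB1.support F = Set.univ ∧
        ∀ x : X, LocCoh.IsCohenMacaulayModule (X.presheaf.stalk x) ↑(F.presheaf.stalk x)) ↔
      ∀ x : X, ∃ (U : X.Opens) (n : ℕ), x ∈ U ∧ 0 < n ∧
        Nonempty (F.restrict U.ι ≅ FlatMod.freeMod (↑U) n) := by
  constructor
  · rintro ⟨hsupp, hCM⟩
    have hnt : ∀ y : X, Nontrivial (F.presheaf.stalk y) := by
      intro y
      have : y ∈ CohB1.support F := by rw [hsupp]; trivial
      exact not_subsingleton_iff_nontrivial.mp this
    have hlf : IsFinLocFree F := by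
      have := isFinitePresentation_of_isLocallyNoetherian F
      apply isFinLocFree_of_isFlat_of_isFinitePresentation F
      intro x
      have := hreg x
      have hfin : Module.Finite (X.presheaf.stalk x) (F.presheaf.stalk x) := finite_stalk F x
      have hfree : Module.Free (X.presheaf.stalk x) (F.presheaf.stalk x) :=
        free_of_isCM_of_support _ _ (hCM x) (support_stalk_eq_univ F hnt x)
      exact inferInstanceAs (Module.Flat (X.presheaf.stalk x) (F.presheaf.stalk x))
    intro x
    obtain ⟨U, n, hxU, ⟨e⟩⟩ := hlf x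
    refine ⟨U, n, hxU, ?_, ⟨e⟩⟩
    rcases Nat.eq_zero_or_pos n with h0 | h0
    · exfalso
      subst h0
      have hz : IsZero (F.restrict U.ι) := (isZero_freeMod_zero _).of_iso e
      have := stalk_subsingleton_of_isZero_restrict U hz x hxU
      exact not_subsingleton _ this
    · exact h0
  · intro h
    have hlf : IsFinLocFree F := fun x => by
      obtain ⟨U, n, hxU, -, he⟩ := h x
      exact ⟨U, n, hxU, he⟩
    have hnt : ∀ y : X, Nontrivial (F.presheaf.stalk y) := by
      intro y
      obtain ⟨U, n, hyU, hn, ⟨e⟩⟩ := h y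
      have h1 := nontrivial_stalk_of_iso_freeMod hn e ⟨y, hyU⟩
      exact (restrictStalkIso F U ⟨y, hyU⟩).symm.addCommGroupIsoToAddEquiv.toEquiv.nontrivial
    refine ⟨?_, ?_⟩
    · rw [Set.eq_univ_iff_forall]
      intro y
      exact not_subsingleton_iff_nontrivial.mpr (hnt y)
    · intro x
      have := hreg x
      have := hnt x
      obtain ⟨h1, h2⟩ := free_finite_stalk_of_isFinLocFree hlf x
      exact isCM_of_free _ _

end Groth.Agent.Lib.QCoh.CMReg74
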