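import Groth.Agent.Lib.QCoh.Helper74_DepthIso
import Groth.Agent.Lib.Helper39.CurveVal

/-!
# QCoh API (helper74): isomorphism criterion via depth ≥ 2, torsion-free target on integral schemes

Namespace `Groth.Agent.Lib.QCoh.DepthIso74`.
-/

set_option linter.style.haveILetI false
universe u
open CategoryTheory CategoryTheory.Limits AlgebraicGeometry Opposite TopologicalSpace

namespace Groth.Agent.Lib.QCoh.DepthIso74
open Groth.Agent.Lib.QCoh IsLocalRing

/-- Over a local domain with nonzero maximal ideal, the maximal ideal is not an associated prime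
of a torsion-free module. -/
lemma not_isAssociatedPrime_of_noZeroSMulDivisors {R : Type u} [CommRing R] [IsLocalRing R]
    [IsDomain R] {N : Type u} [AddCommGroup N] [Module R N] [NoZeroSMulDivisors R N]
    (hm : maximalIdeal R ≠ ⊥) : ¬ IsAssociatedPrime (maximalIdeal R) N := by
  rintro ⟨hp, w, hw⟩
  apply hm
  by_cases hw0 : w = 0
  · exfalso
    have h1 : Submodule.colon (⊥ : Submodule R N) {w} = ⊤ := by
      rw [Ideal.eq_top_iff_one, Submodule.mem_colon_singleton, Submodule.mem_bot, hw0, smul_zero]
    rw [h1, Ideal.radical_top] at hw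
    exact hp.ne_top hw
  · have h1 : Submodule.colon (⊥ : Submodule R N) {w} = ⊥ := by
      rw [eq_bot_iff]
      intro a ha
      rw [Submodule.mem_colon_singleton, Submodule.mem_bot] at ha
      rcases smul_eq_zero.1 ha with h | h
      · exact h
      · exact absurd h hw0
    rw [hw, h1]
    exact Ideal.radical_bot_of_isReduced

/-- On an integral scheme, a point other than the generic point is not associated to a module with
torsion-free stalk there. -/
theorem not_isAssPoint_of_ne_genericPoint {X : Scheme.{u}} [IsIntegral X] (G : X.Modules) (x : X)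
    [NoZeroSMulDivisors (X.presheaf.stalk x) (G.presheaf.stalk x)] (hx : x ≠ genericPoint X) :
    ¬ Curv2.IsAssPoint G x := by
  refine not_isAssociatedPrime_of_noZeroSMulDivisors fun hbot => hx ?_
  exact Groth.Agent.Lib.Helper39.CurveVal.eq_genericPoint_of_isField_stalk X x
    (IsLocalRing.isField_iff_maximalIdeal_eq.2 hbot)

/-- Isomorphism criterion on an integral locally Noetherian scheme with torsion-free target. -/
theorem isIso_of_depth_of_torsionFree {X : Scheme.{u}} [IsIntegral X] [IsLocallyNoetherian X]
    {F G : X.Modules} (φ : F ⟶ G) [F.IsQuasicoherent] [F.IsFiniteType] [G.IsQuasicoherent]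
    (htf : ∀ x : X, NoZeroSMulDivisors (X.presheaf.stalk x) (G.presheaf.stalk x))
    (h : ∀ x : X, Function.Bijective (stalkMap φ x) ∨
      ((2 : ℕ∞) ≤ LocCoh.depth (X.presheaf.stalk x) (F.presheaf.stalk x) ∧
        x ≠ genericPoint X)) : IsIso φ := by
  refine isIso_of_depth φ fun x => ?_
  rcases h x with hb | ⟨hd, hx⟩
  · exact Or.inl hb
  · have := htf x
    exact Or.inr ⟨hd, not_isAssPoint_of_ne_genericPoint G x hx⟩

end Groth.Agent.Lib.QCoh.DepthIso74
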