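import Groth.Agent.Lib.QCoh.Helper74_ParaFact3
import Groth.Agent.S2824

/-!
# Locally principal ideals on a parafactorial local ring are principal (helper74; S5112)

* `Div21h74.isPrincipal_of_locPrincipal` : on an integral affine scheme, an ideal which is locally generated by a
  nonzero element on an open `U` with `Pic U = 0` and Hartogs extension, and which is saturated with respect to an
  element `f` with `D(f) ⊆ U`, is principal.
* `Div21h74.isPrincipal_of_parafactorial` : the same for a parafactorial Noetherian local domain and its punctured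
  spectrum.
-/

set_option linter.style.haveILetI false
set_option linter.deprecated false
universe u
open CategoryTheory CategoryTheory.Limits AlgebraicGeometry Opposite TopologicalSpace

namespace Groth.Agent.Lib.QCoh.Div21h74

open Groth.Agent.Lib.QCoh Groth.Agent.Lib.QCoh.PuncUFD74 Groth.Agent.Lib.QCoh.ParaFact74

variable {X : Scheme.{u}}

theorem isPrincipal_of_locPrincipal [IsAffine X] [IsDomain Γ(X, ⊤)]
    (U : X.Opens) (I : Ideal Γ(X, ⊤)) (f : Γ(X, ⊤)) (hfU : X.basicOpen f ≤ U)
    (hfsat : ∀ a : Γ(X, ⊤), f * a ∈ I → a ∈ I)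
    (hhart : Function.Bijective (X.presheaf.map (homOfLE (le_top : U ≤ ⊤)).op))
    (hpic : ParaF.PicTrivial ↑U)
    (hloc : ∀ y ∈ U, ∃ a s : Γ(X, ⊤), a ≠ 0 ∧ y ∈ X.basicOpen s ∧ s * a ∈ I ∧
      ∀ b ∈ I, ∃ c : Γ(X, ⊤), s * b = c * a) :
    I.IsPrincipal := by
  classical
  have hA := isAffineOpen_top X
  let 𝓘 := Scheme.IdealSheafData.ofIdealTop I
  let G := ClSub.idealMod 𝓘
  have hinv : PicF.IsInvertible (G.restrict U.ι) := by
    apply Groth.Agent.Lib.Proj.isInvertible_restrict_of_forall G U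
    intro y hy
    obtain ⟨a, s, ha0, hyV, hsa, hb⟩ := hloc y hy
    have hV : IsAffineOpen (X.basicOpen s) := hA.basicOpen s
    have hs0 : s ≠ 0 := by
      rintro rfl
      rw [Scheme.basicOpen_zero] at hyV
      exact hyV
    haveI : IsDomain Γ(X, X.basicOpen s) :=
      IsLocalization.isDomain_of_le_nonZeroDivisors (M := Submonoid.powers s) _
        (powers_le_nonZeroDivisors_of_noZeroDivisors hs0)
    have hinj : Function.Injective (algebraMap Γ(X, ⊤) Γ(X, X.basicOpen s)) :=
      IsLocalization.injective _ (M := Submonoid.powers s)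
        (powers_le_nonZeroDivisors_of_noZeroDivisors hs0)
    have hsu : IsUnit (algebraMap Γ(X, ⊤) Γ(X, X.basicOpen s) s) :=
      IsLocalization.map_units (M := Submonoid.powers s) _ ⟨s, Submonoid.mem_powers s⟩
    refine ⟨X.basicOpen s, hyV, nonempty_restrict_iso_of_span _ ⟨X.basicOpen s, hV⟩
      (algebraMap Γ(X, ⊤) Γ(X, X.basicOpen s) a) ?_ ?_⟩
    · exact mem_nonZeroDivisors_of_ne_zero (fun h => ha0 (hinj (h.trans (map_zero _).symm)))
    · rw [Scheme.IdealSheafData.ofIdealTop_ideal]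
      show I.map (algebraMap Γ(X, ⊤) Γ(X, X.basicOpen s)) = _
      apply le_antisymm
      · rw [Ideal.map_le_iff_le_comap]
        intro b hbP
        obtain ⟨c, hc⟩ := hb b hbP
        rw [Ideal.mem_comap, Ideal.mem_span_singleton']
        obtain ⟨u, hu⟩ := hsu
        refine ⟨↑u⁻¹ * algebraMap _ _ c, ?_⟩
        have := congrArg (algebraMap Γ(X, ⊤) Γ(X, X.basicOpen s)) hc
        rw [map_mul, map_mul, ← hu] at this
        rw [mul_assoc, ← this, ← mul_assoc, Units.inv_mul, one_mul]
      · rw [Ideal.span_singleton_le_iff_mem]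
        obtain ⟨u, hu⟩ := hsu
        have h1 : algebraMap Γ(X, ⊤) Γ(X, X.basicOpen s) (s * a) ∈
            I.map (algebraMap Γ(X, ⊤) Γ(X, X.basicOpen s)) := Ideal.mem_map_of_mem _ hsa
        have h2 : algebraMap Γ(X, ⊤) Γ(X, X.basicOpen s) a =
            ↑u⁻¹ * algebraMap Γ(X, ⊤) Γ(X, X.basicOpen s) (s * a) := by
          rw [map_mul, ← hu, ← mul_assoc, Units.inv_mul, one_mul]
        rw [h2]
        exact Ideal.mul_mem_left _ _ h1
  obtain ⟨e⟩ := hpic _ hinv
  have h := isPrincipal_ideal_of_iso 𝓘 ⟨⊤, hA⟩ U le_top hhart e f hfU ?_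
  · have hI : 𝓘.ideal ⟨⊤, hA⟩ = I := by simp [𝓘]
    rw [hI] at h
    exact h
  · intro a ha
    have hI : 𝓘.ideal ⟨⊤, hA⟩ = I := by simp [𝓘]
    rw [hI]
    have hI2 : 𝓘.ideal (X.affineBasicOpen (U := ⟨⊤, hA⟩) f) =
        I.map (algebraMap Γ(X, ⊤) Γ(X, X.basicOpen f)) :=
      Scheme.IdealSheafData.ofIdealTop_ideal I _
    rw [hI2] at ha
    have ha' : algebraMap Γ(X, ⊤) Γ(X, X.basicOpen f) a ∈
        I.map (algebraMap Γ(X, ⊤) Γ(X, X.basicOpen f)) := ha
    rw [IsLocalization.algebraMap_mem_map_algebraMap_iff (Submonoid.powers f)] at ha'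
    obtain ⟨m, ⟨n, rfl⟩, hm⟩ := ha'
    induction n with
    | zero => simpa using hm
    | succ n ih =>
      apply ih
      apply hfsat
      rw [← mul_assoc, ← pow_succ']
      exact hm

/-- **Locally principal ideals of a parafactorial local domain are principal**, provided they are saturated with
respect to a nonunit. -/
theorem isPrincipal_of_parafactorial (A : Type u) [CommRing A] [IsLocalRing A] [IsDomain A]
    (hpara : ParaF.IsParafactorialLocalRing A)
    (I : Ideal A) (f : A) (hf : f ∈ IsLocalRing.maximalIdeal A)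
    (hfsat : ∀ a : A, f * a ∈ I → a ∈ I)
    (hloc : ∀ p : Ideal A, p.IsPrime → p ≠ IsLocalRing.maximalIdeal A →
      ∃ a s : A, a ≠ 0 ∧ s ∉ p ∧ s * a ∈ I ∧ ∀ b ∈ I, ∃ c : A, s * b = c * a) :
    I.IsPrincipal := by
  obtain ⟨hhart, hpic⟩ := (Groth.Agent.S2824.result A).1 hpara
  let ψ : Γ(Spec (CommRingCat.of A), ⊤) ≃+* A :=
    (Scheme.ΓSpecIso (CommRingCat.of A)).commRingCatIsoToRingEquiv
  haveI : IsDomain Γ(Spec (CommRingCat.of A), ⊤) := ψ.toMulEquiv.isDomain A
  have hψ : ∀ a : A, (Scheme.ΓSpecIso (CommRingCat.of A)).hom (ψ.symm a) = a :=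
    fun a => ψ.apply_symm_apply a
  have hmemB : ∀ (s : A) (y : Spec (CommRingCat.of A)),
      y ∈ (Spec (CommRingCat.of A)).basicOpen (ψ.symm s) ↔ s ∉ y.asIdeal := by
    intro s y
    rw [basicOpen_eq_of_affine']
    show (Scheme.ΓSpecIso (CommRingCat.of A)).hom (ψ.symm s) ∉ y.asIdeal ↔ _
    rw [hψ]
  have key : (I.comap (ψ : Γ(Spec (CommRingCat.of A), ⊤) →+* A)).IsPrincipal := by
    refine isPrincipal_of_locPrincipal (X := Spec (CommRingCat.of A)) (FEt.puncturedSpec A)
      (I.comap (ψ : Γ(Spec (CommRingCat.of A), ⊤) →+* A)) (ψ.symm f) ?_ ?_ hhart hpic ?_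
    · intro y hy hyc
      rw [hmemB] at hy
      apply hy
      have : y = IsLocalRing.closedPoint A := hyc
      rw [this]
      exact hf
    · intro a ha
      rw [Ideal.mem_comap] at ha ⊢
      apply hfsat
      have : (ψ : Γ(Spec (CommRingCat.of A), ⊤) →+* A) (ψ.symm f * a) =
          f * (ψ : Γ(Spec (CommRingCat.of A), ⊤) →+* A) a := by
        rw [map_mul]
        congr 1
        exact ψ.apply_symm_apply f
      rw [← this]
      exact ha
    · intro y hy
      have hyne : y.asIdeal ≠ IsLocalRing.maximalIdeal A := by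
        intro h
        apply hy
        show y = IsLocalRing.closedPoint A
        exact PrimeSpectrum.ext h
      obtain ⟨a, s, ha0, hsp, hsa, hb⟩ := hloc y.asIdeal y.isPrime hyne
      refine ⟨ψ.symm a, ψ.symm s, ?_, (hmemB s y).2 hsp, ?_, ?_⟩
      · intro h
        apply ha0
        have := congrArg ψ h
        rwa [RingEquiv.apply_symm_apply, map_zero] at this
      · rw [Ideal.mem_comap]
        show ψ (ψ.symm s * ψ.symm a) ∈ I
        rw [map_mul, RingEquiv.apply_symm_apply, RingEquiv.apply_symm_apply]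
        exact hsa
      · intro b hbI
        rw [Ideal.mem_comap] at hbI
        obtain ⟨c, hc⟩ := hb (ψ b) hbI
        refine ⟨ψ.symm c, ?_⟩
        apply ψ.injective
        rw [map_mul, map_mul, RingEquiv.apply_symm_apply, RingEquiv.apply_symm_apply,
          RingEquiv.apply_symm_apply]
        exact hc
  obtain ⟨g, hg⟩ := key
  refine ⟨ψ g, ?_⟩
  ext b
  have h1 : ψ.symm b ∈ I.comap (ψ : Γ(Spec (CommRingCat.of A), ⊤) →+* A) ↔ b ∈ I := by
    rw [Ideal.mem_comap]
    show ψ (ψ.symm b) ∈ I ↔ _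
    rw [RingEquiv.apply_symm_apply]
  rw [← h1, hg]
  simp only [Submodule.mem_span_singleton, smul_eq_mul]
  constructor
  · rintro ⟨c, hc⟩
    refine ⟨ψ c, ?_⟩
    have := congrArg ψ hc
    rwa [map_mul, RingEquiv.apply_symm_apply] at this
  · rintro ⟨c, hc⟩
    refine ⟨ψ.symm c, ?_⟩
    apply ψ.injective
    rw [map_mul, RingEquiv.apply_symm_apply, RingEquiv.apply_symm_apply]
    exact hc

end Groth.Agent.Lib.QCoh.Div21h74
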