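import Mathlib
import Groth.Prelude.Def_Pi1
import Groth.Agent.Lib.Helper91.CDivFact6
import Groth.Agent.Lib.Helper91.GenPrime5

/-!
# Orders of vanishing of elements of a local ring at codimension one generizations (helper74; S5112)
-/

set_option linter.style.haveILetI false
set_option linter.deprecated false
set_option autoImplicit false
universe u
open CategoryTheory AlgebraicGeometry TopologicalSpace

namespace Groth.Agent.Lib.QCoh.Div21h74

open Groth.Agent.Lib.Helper91.CDivSupp Groth.Agent.Lib.Helper91.GenPrime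

variable {X : Scheme.{u}} [IsIntegral X] [IsLocallyNoetherian X]

omit [IsLocallyNoetherian X] in
theorem algebraMap_ne_zero {x : X} {a : X.presheaf.stalk x} (ha : a ≠ 0) :
    algebraMap (X.presheaf.stalk x) X.functionField a ≠ 0 := by
  intro h
  exact ha (IsFractionRing.injective (X.presheaf.stalk x) X.functionField
    (h.trans (map_zero _).symm))

/-- (F2) elements of `O_x` have nonnegative order at codimension one generizations -/
theorem ord_nonneg_of_specializes {x z : X} (hzx : z ⤳ x) (hz : Order.coheight z = 1)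
    {a : X.presheaf.stalk x} (ha : a ≠ 0) :
    0 ≤ Scheme.ord (algebraMap (X.presheaf.stalk x) X.functionField a) z :=
  ord_nonneg_of_mem_range hz (algebraMap_ne_zero ha) (range_subset_of_specializes hzx ⟨a, rfl⟩)

/-- (F3) elements outside the prime of `z` have order zero at `z` -/
theorem ord_eq_zero_of_notMem {x z : X} (hzx : z ⤳ x) {a : X.presheaf.stalk x}
    (ha : a ∉ primeOf hzx) :
    Scheme.ord (algebraMap (X.presheaf.stalk x) X.functionField a) z = 0 := by
  rw [← algebraMap_stalkSpecializes hzx a]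
  apply ord_algebraMap_of_isUnit
  by_contra hu
  exact ha ((IsLocalRing.mem_maximalIdeal _).2 hu)

/-- (F4) nonzero elements of the prime of `z` have positive order at `z` -/
theorem one_le_ord_of_mem (hX : Pi1.IsNormalScheme X) {x z : X} (hzx : z ⤳ x)
    (hz : Order.coheight z = 1) {a : X.presheaf.stalk x} (ha0 : a ≠ 0) (ha : a ∈ primeOf hzx) :
    1 ≤ Scheme.ord (algebraMap (X.presheaf.stalk x) X.functionField a) z := by
  haveI := isDiscreteValuationRing_of_coheight_eq_one hX hz
  have h0 := ord_nonneg_of_specializes hzx hz ha0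
  have hb0 : (X.presheaf.stalkSpecializes hzx).hom a ≠ 0 := by
    intro h
    apply algebraMap_ne_zero ha0
    rw [← algebraMap_stalkSpecializes hzx a, h, map_zero]
  have h1 := ord_eq_zero_iff_isUnit hz hb0
  rw [algebraMap_stalkSpecializes hzx a] at h1
  have hnu : ¬ IsUnit ((X.presheaf.stalkSpecializes hzx).hom a) :=
    (IsLocalRing.mem_maximalIdeal _).1 ha
  have h2 : Scheme.ord (algebraMap (X.presheaf.stalk x) X.functionField a) z ≠ 0 :=
    fun h => hnu (h1.1 h)
  omega

/-- (F5) the valuation ideals -/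
noncomputable def valIdeal (hX : Pi1.IsNormalScheme X) {x z : X} (hzx : z ⤳ x)
    (hz : Order.coheight z = 1) (n : ℤ) : Ideal (X.presheaf.stalk x) where
  carrier := {a | a = 0 ∨ n ≤ Scheme.ord (algebraMap (X.presheaf.stalk x) X.functionField a) z}
  zero_mem' := Or.inl rfl
  add_mem' := by
    intro a b ha hb
    haveI := isDiscreteValuationRing_of_coheight_eq_one hX hz
    by_cases ha0 : a = 0
    · subst ha0; rw [zero_add]; exact hb
    by_cases hb0 : b = 0
    · subst hb0; rw [add_zero]; exact ha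
    by_cases hab : a + b = 0
    · exact Or.inl hab
    right
    have ha' := ha.resolve_left ha0
    have hb' := hb.resolve_left hb0
    have h1 : algebraMap (X.presheaf.stalk x) X.functionField a +
        algebraMap (X.presheaf.stalk x) X.functionField b ≠ 0 := by
      rw [← map_add]; exact algebraMap_ne_zero hab
    have h2 := Scheme.ord_add (x := z) h1
    rw [map_add]
    exact (le_min ha' hb').trans h2
  smul_mem' := by
    intro r a ha
    by_cases hr0 : r = 0
    · left; rw [hr0, zero_smul]
    by_cases ha0 : a = 0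
    · left; rw [ha0, smul_zero]
    right
    have ha' := ha.resolve_left ha0
    rw [smul_eq_mul, map_mul, Scheme.ord_mul (algebraMap_ne_zero hr0) (algebraMap_ne_zero ha0)]
    have := ord_nonneg_of_specializes hzx hz hr0
    omega

theorem mem_valIdeal_iff (hX : Pi1.IsNormalScheme X) {x z : X} (hzx : z ⤳ x)
    (hz : Order.coheight z = 1) (n : ℤ) (a : X.presheaf.stalk x) :
    a ∈ valIdeal hX hzx hz n ↔
      (a = 0 ∨ n ≤ Scheme.ord (algebraMap (X.presheaf.stalk x) X.functionField a) z) :=
  Iff.rfl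

/-- (F6) powers of the prime of `z` lie in the valuation ideals -/
theorem primeOf_pow_le_valIdeal (hX : Pi1.IsNormalScheme X) {x z : X} (hzx : z ⤳ x)
    (hz : Order.coheight z = 1) (k : ℕ) :
    (primeOf hzx) ^ k ≤ valIdeal hX hzx hz (k : ℤ) := by
  induction k with
  | zero =>
    intro a _
    by_cases ha0 : a = 0
    · exact Or.inl ha0
    · exact Or.inr (by simpa using ord_nonneg_of_specializes hzx hz ha0)
  | succ k ih =>
    rw [pow_succ, Ideal.mul_le]
    intro r hr s hs
    by_cases hr0 : r = 0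
    · left; rw [hr0, zero_mul]
    by_cases hs0 : s = 0
    · left; rw [hs0, mul_zero]
    right
    have h1 := (ih hr).resolve_left hr0
    have h2 := one_le_ord_of_mem hX hzx hz hs0 hs
    rw [map_mul, Scheme.ord_mul (algebraMap_ne_zero hr0) (algebraMap_ne_zero hs0)]
    push_cast
    omega

/-- (F7) simultaneous approximation: an element outside `p` with prescribed minimal orders at finitely many
codimension one points whose primes are not contained in `p`. -/
theorem exists_notMem_forall_le_ord (hX : Pi1.IsNormalScheme X) (x : X) (F : Finset X) (n : X → ℕ)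
    (p : Ideal (X.presheaf.stalk x)) [hp : p.IsPrime]
    (hF : ∀ z ∈ F, ∀ hzx : z ⤳ x, ¬ primeOf hzx ≤ p) :
    ∃ t : X.presheaf.stalk x, t ∉ p ∧ ∀ z ∈ F, ∀ (hzx : z ⤳ x) (_ : Order.coheight z = 1),
      (n z : ℤ) ≤ Scheme.ord (algebraMap (X.presheaf.stalk x) X.functionField t) z := by
  classical
  let pr : X → Ideal (X.presheaf.stalk x) := fun z => if h : z ⤳ x then primeOf h else ⊤
  let J : Ideal (X.presheaf.stalk x) := ∏ z ∈ F, pr z ^ n z
  have hJ : ¬ J ≤ p := by
    intro hle
    obtain ⟨z, hzF, hz⟩ := (Ideal.IsPrime.prod_le hp).1 hle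
    have h1 : pr z ≤ p := Ideal.IsPrime.le_of_pow_le hz
    by_cases hzx : z ⤳ x
    · have : pr z = primeOf hzx := dif_pos hzx
      rw [this] at h1
      exact hF z hzF hzx h1
    · have : pr z = ⊤ := dif_neg hzx
      rw [this] at h1
      exact hp.ne_top (top_le_iff.1 h1)
  obtain ⟨t, htJ, htp⟩ := SetLike.not_le_iff_exists.1 hJ
  refine ⟨t, htp, ?_⟩
  intro z hzF hzx hz
  have h1 : J ≤ pr z ^ n z := Ideal.prod_le_inf.trans (Finset.inf_le hzF)
  have h2 : pr z = primeOf hzx := dif_pos hzx
  rw [h2] at h1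
  have h3 := primeOf_pow_le_valIdeal hX hzx hz (n z) (h1 htJ)
  have ht0 : t ≠ 0 := fun h => htp (h ▸ p.zero_mem)
  exact h3.resolve_left ht0

/-- (F8) a rational function with nonnegative order at all codimension one generizations of `x` lies in `O_x` -/
theorem mem_range_of_forall_ord_nonneg (hX : Pi1.IsNormalScheme X) (x : X) {g : X.functionField}
    (hg : g ≠ 0) (h : ∀ z : X, z ⤳ x → Order.coheight z = 1 → 0 ≤ Scheme.ord g z) :
    g ∈ Set.range (algebraMap (X.presheaf.stalk x) X.functionField) := by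
  obtain ⟨_, ⟨W, hW, rfl⟩, hxW, -⟩ := (X.isBasis_affineOpens).exists_subset_of_mem_open
    (Set.mem_univ x) isOpen_univ
  exact mem_range_of_ord_nonneg hX hW hxW hg (fun z _ hzx hz => h z hzx hz)

omit [IsIntegral X] [IsLocallyNoetherian X] in
theorem germ_mem_primeOf_iff {W : X.Opens} (hW : IsAffineOpen W) {x ζ : X} (hxW : x ∈ W)
    (hζx : ζ ⤳ x) (hζW : ζ ∈ W) (a : Γ(X, W)) :
    (X.presheaf.germ W x hxW).hom a ∈ primeOf hζx ↔ a ∈ (hW.primeIdealOf ⟨ζ, hζW⟩).asIdeal := by
  letI az : Algebra Γ(X, W) (X.presheaf.stalk ζ) :=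
    TopCat.Presheaf.algebra_section_stalk X.presheaf ⟨ζ, hζW⟩
  haveI lz : IsLocalization.AtPrime (X.presheaf.stalk ζ) (hW.primeIdealOf ⟨ζ, hζW⟩).asIdeal :=
    hW.isLocalization_stalk ⟨ζ, hζW⟩
  unfold primeOf
  rw [Ideal.mem_comap]
  have : (X.presheaf.stalkSpecializes hζx).hom ((X.presheaf.germ W x hxW).hom a) =
      algebraMap Γ(X, W) (X.presheaf.stalk ζ) a := by
    rw [← CommRingCat.comp_apply, X.presheaf.germ_stalkSpecializes]
    rfl
  rw [this, IsLocalization.AtPrime.to_map_mem_maximal_iff (X.presheaf.stalk ζ)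
    (hW.primeIdealOf ⟨ζ, hζW⟩).asIdeal a]

omit [IsIntegral X] [IsLocallyNoetherian X] in
/-- inclusion of primes of generizations means specialization -/
theorem specializes_of_primeOf_le {x z z' : X} (hzx : z ⤳ x) (hzx' : z' ⤳ x)
    (h : primeOf hzx ≤ primeOf hzx') : z ⤳ z' := by
  obtain ⟨_, ⟨W, hW, rfl⟩, hxW, -⟩ := (X.isBasis_affineOpens).exists_subset_of_mem_open
    (Set.mem_univ x) isOpen_univ
  have hzW : z ∈ W := hzx.mem_open W.isOpen hxW
  have hzW' : z' ∈ W := hzx'.mem_open W.isOpen hxW
  rw [specializes_iff_primeIdealOf_le hW hzW hzW']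
  intro a ha
  rw [← germ_mem_primeOf_iff hW hxW hzx' hzW' a]
  exact h ((germ_mem_primeOf_iff hW hxW hzx hzW a).2 ha)

omit [IsIntegral X] [IsLocallyNoetherian X] in
/-- the prime of a generization determines it -/
theorem primeOf_injective {x z z' : X} (hzx : z ⤳ x) (hzx' : z' ⤳ x)
    (h : primeOf hzx = primeOf hzx') : z = z' :=
  ((specializes_of_primeOf_le hzx hzx' h.le).antisymm
    (specializes_of_primeOf_le hzx' hzx h.ge)).eq

omit [IsIntegral X] [IsLocallyNoetherian X] in
theorem primeOf_trans_le {x y z : X} (hzy : z ⤳ y) (hyx : y ⤳ x) :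
    primeOf (hzy.trans hyx) ≤ primeOf hyx := by
  intro a ha
  by_contra hna
  have hu : IsUnit ((X.presheaf.stalkSpecializes hyx).hom a) := by
    by_contra h
    exact hna ((IsLocalRing.mem_maximalIdeal _).2 h)
  have hu2 := hu.map (X.presheaf.stalkSpecializes hzy).hom
  have h3 : (X.presheaf.stalkSpecializes hzy).hom ((X.presheaf.stalkSpecializes hyx).hom a) =
      (X.presheaf.stalkSpecializes (hzy.trans hyx)).hom a := by
    rw [← CommRingCat.comp_apply, TopCat.Presheaf.stalkSpecializes_comp]
  rw [h3] at hu2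
  exact ((IsLocalRing.mem_maximalIdeal _).1 ha) hu2

omit [IsIntegral X] [IsLocallyNoetherian X] in
/-- height of the prime of a codimension one generization -/
theorem height_primeOf_eq_one {x z : X} (hzx : z ⤳ x) (hz : Order.coheight z = 1) :
    (primeOf hzx).height = 1 := by
  have h1 := ringKrullDim_stalk_eq_height hzx
  have h2 := ringKrullDim_stalk_eq_coheight (X := X) z
  rw [h2, hz] at h1
  exact (WithBot.coe_inj.1 h1).symm

/-- (F9) a nonzero element of `O_x` has nonzero order at only finitely many codimension one generizations -/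
theorem finite_ord_ne_zero (x : X) {a : X.presheaf.stalk x} (ha : a ≠ 0) :
    {z : X | Order.coheight z = 1 ∧ z ⤳ x ∧
      Scheme.ord (algebraMap (X.presheaf.stalk x) X.functionField a) z ≠ 0}.Finite := by
  classical
  let pr : X → Ideal (X.presheaf.stalk x) := fun z => if h : z ⤳ x then primeOf h else ⊤
  have hfin := Ideal.finite_minimalPrimes_of_isNoetherianRing (X.presheaf.stalk x) (Ideal.span {a})
  refine Set.Finite.of_finite_image (f := pr) (hfin.subset ?_) ?_
  · rintro _ ⟨z, ⟨hz, hzx, hne⟩, rfl⟩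
    have hpr : pr z = primeOf hzx := dif_pos hzx
    rw [hpr]
    have haP : a ∈ primeOf hzx := by
      by_contra h
      exact hne (ord_eq_zero_of_notMem hzx h)
    refine ⟨⟨inferInstance, (Ideal.span_singleton_le_iff_mem _).2 haP⟩, ?_⟩
    rintro q ⟨hq, haq⟩ hqle
    by_contra hnle
    have hlt : q < primeOf hzx := lt_of_le_of_ne hqle (fun h => hnle h.ge)
    haveI := hq
    have h1 := Ideal.height_strict_mono_of_isPrime hlt
    rw [height_primeOf_eq_one hzx hz, ENat.lt_one_iff_eq_zero, Ideal.height_eq_zero_iff,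
      IsDomain.minimalPrimes_eq_singleton_bot] at h1
    have h2 : q = ⊥ := h1
    rw [h2, Ideal.span_singleton_le_iff_mem] at haq
    exact ha haq
  · rintro z ⟨hz, hzx, -⟩ z' ⟨hz', hzx', -⟩ h
    have h1 : pr z = primeOf hzx := dif_pos hzx
    have h2 : pr z' = primeOf hzx' := dif_pos hzx'
    exact primeOf_injective hzx hzx' (h1.symm.trans (h.trans h2))

/-- (Lemma G) common denominators for finitely generated ideals -/
theorem exists_common_denominator {A : Type*} [CommRing A] [IsNoetherianRing A]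
    (p : Ideal A) [hp : p.IsPrime] (I : Ideal A) (a : A)
    (h : ∀ b ∈ I, ∃ s : A, s ∉ p ∧ ∃ c : A, s * b = c * a) :
    ∃ s : A, s ∉ p ∧ ∀ b ∈ I, ∃ c : A, s * b = c * a := by
  classical
  obtain ⟨S, hS⟩ := (IsNoetherian.noetherian I : I.FG)
  have h' : ∀ b ∈ S, ∃ s : A, s ∉ p ∧ ∃ c : A, s * b = c * a := fun b hb =>
    h b (hS ▸ Submodule.subset_span hb)
  choose! sf hsf using h'
  refine ⟨∏ b ∈ S, sf b, ?_, ?_⟩
  · rw [Ideal.IsPrime.prod_mem_iff]
    rintro ⟨b, hb, h⟩
    exact (hsf b hb).1 h
  · have hle : I ≤ Submodule.comap (LinearMap.mulLeft A (∏ b ∈ S, sf b)) (Ideal.span {a}) := by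
      rw [← hS]
      apply Submodule.span_le.mpr
      intro b hb
      rw [SetLike.mem_coe, Submodule.mem_comap, LinearMap.mulLeft_apply]
      obtain ⟨c, hc⟩ := (hsf b hb).2
      obtain ⟨t, ht⟩ := Finset.dvd_prod_of_mem sf hb
      refine Ideal.mem_span_singleton'.mpr ⟨t * c, ?_⟩
      rw [ht, mul_assoc, ← hc]
      ring
    intro b hb
    have := hle hb
    rw [Submodule.mem_comap, LinearMap.mulLeft_apply] at this
    obtain ⟨c, hc⟩ := Ideal.mem_span_singleton'.mp this
    exact ⟨c, hc.symm⟩

end Groth.Agent.Lib.QCoh.Div21h74
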