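import Groth.Agent.Lib.QCoh.Helper74_Div21a
import Groth.Agent.Lib.QCoh.Helper74_Div21b

/-!
# Locally principal codimension one cycles at a parafactorial point are principal (helper74; S5112)
-/

set_option linter.style.haveILetI false
set_option linter.deprecated false
set_option autoImplicit false
universe u
open CategoryTheory AlgebraicGeometry TopologicalSpace

namespace Groth.Agent.Lib.QCoh.Div21h74

open Groth.Agent.Lib.Helper91.CDivSupp Groth.Agent.Lib.Helper91.GenPrime

variable {X : Scheme.{u}} [IsIntegral X] [IsLocallyNoetherian X]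

omit [IsIntegral X] [IsLocallyNoetherian X] in
theorem primeOf_ne_maximalIdeal {x z : X} (hzx : z ⤳ x) (hz : Order.coheight z = 1)
    (hdim : (2 : WithBot ℕ∞) ≤ ringKrullDim (X.presheaf.stalk x)) :
    primeOf hzx ≠ IsLocalRing.maximalIdeal (X.presheaf.stalk x) := by
  intro h
  have h1 := height_primeOf_eq_one hzx hz
  rw [h] at h1
  have h2 := IsLocalRing.maximalIdeal_height_eq_ringKrullDim (R := X.presheaf.stalk x)
  rw [h1] at h2
  rw [← h2] at hdim
  have : (2 : ℕ∞) ≤ 1 := WithBot.coe_le_coe.1 hdim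
  exact absurd this (by decide)

/-- **Effective case.** -/
theorem exists_generator_of_effective (hX : Pi1.IsNormalScheme X) (x : X)
    (hdim : (2 : WithBot ℕ∞) ≤ ringKrullDim (X.presheaf.stalk x))
    (hpara : ParaF.IsParafactorialLocalRing (X.presheaf.stalk x))
    (D : X → ℤ)
    (hD0 : ∀ z : X, Order.coheight z = 1 → z ⤳ x → 0 ≤ D z)
    (hDfin : {z : X | Order.coheight z = 1 ∧ z ⤳ x ∧ D z ≠ 0}.Finite)
    (IH : ∀ (y : X) (hyx : y ⤳ x), primeOf hyx ≠ IsLocalRing.maximalIdeal (X.presheaf.stalk x) →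
      ∃ f : X.functionField, f ≠ 0 ∧
        ∀ z : X, Order.coheight z = 1 → z ⤳ y → D z = Scheme.ord f z) :
    ∃ g : X.presheaf.stalk x, g ≠ 0 ∧ ∀ z : X, Order.coheight z = 1 → z ⤳ x →
      D z = Scheme.ord (algebraMap (X.presheaf.stalk x) X.functionField g) z := by
  classical
  let A := X.presheaf.stalk x
  let K := X.functionField
  let ι : A →+* K := algebraMap A K
  have hιinj : Function.Injective ι := IsFractionRing.injective A K
  let T := {z : X // Order.coheight z = 1 ∧ z ⤳ x}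
  let I : Ideal A := ⨅ t : T, valIdeal hX t.2.2 t.2.1 (D t.1)
  have hmemI : ∀ a : A, a ∈ I ↔ ∀ (z : X) (hz : Order.coheight z = 1) (hzx : z ⤳ x),
      a = 0 ∨ D z ≤ Scheme.ord (ι a) z := by
    intro a
    simp only [I, Ideal.mem_iInf]
    constructor
    · intro h z hz hzx
      exact h ⟨z, hz, hzx⟩
    · intro h t
      exact h t.1 t.2.1 t.2.2
  -- local generators
  have hloc' : ∀ (y : X) (hyx : y ⤳ x), primeOf hyx ≠ IsLocalRing.maximalIdeal A →
      ∃ a s : A, a ≠ 0 ∧ s ∉ primeOf hyx ∧ s * a ∈ I ∧ (∀ b ∈ I, ∃ c : A, s * b = c * a) ∧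
        ∀ z : X, Order.coheight z = 1 → z ⤳ y → Scheme.ord (ι a) z = D z := by
    intro y hyx hne
    obtain ⟨fy, hfy0, hfy⟩ := IH y hyx hne
    letI algy := (X.presheaf.stalkSpecializes hyx).hom.toAlgebra
    haveI locy : IsLocalization.AtPrime (X.presheaf.stalk y) (primeOf hyx) :=
      isLocalization_stalkSpecializes hyx
    have hsp : ∀ w : A, algebraMap (X.presheaf.stalk y) K (algebraMap A (X.presheaf.stalk y) w) =
        ι w := fun w => algebraMap_stalkSpecializes hyx w
    -- fractions in `O_y`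
    have hfrac : ∀ q : K, q ≠ 0 → (∀ z : X, z ⤳ y → Order.coheight z = 1 → 0 ≤ Scheme.ord q z) →
        ∃ c s : A, s ∉ primeOf hyx ∧ q * ι s = ι c := by
      intro q hq0 hq
      obtain ⟨β, hβ⟩ := mem_range_of_forall_ord_nonneg hX y hq0 hq
      obtain ⟨⟨c, s⟩, hcs⟩ := IsLocalization.surj (primeOf hyx).primeCompl β
      refine ⟨c, s, s.2, ?_⟩
      have := congrArg (algebraMap (X.presheaf.stalk y) K) hcs
      rw [map_mul, hβ, hsp, hsp] at this
      exact this
    obtain ⟨a₀, s₀, hs₀, has₀⟩ := hfrac fy hfy0 (fun z hzy hz => by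
      rw [← hfy z hz hzy]; exact hD0 z hz (hzy.trans hyx))
    have hs₀0 : s₀ ≠ 0 := fun h => hs₀ (h ▸ (primeOf hyx).zero_mem)
    have ha₀0 : a₀ ≠ 0 := by
      rintro rfl
      rw [map_zero] at has₀
      rcases mul_eq_zero.1 has₀ with h | h
      · exact hfy0 h
      · exact hs₀0 (hιinj (h.trans (map_zero _).symm))
    have hord_s : ∀ (s : A), s ∉ primeOf hyx → ∀ z : X, z ⤳ y → Scheme.ord (ι s) z = 0 := by
      intro s hs z hzy
      exact ord_eq_zero_of_notMem (hzy.trans hyx) (fun h => hs (primeOf_trans_le hzy hyx h))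
    have hord_a₀ : ∀ z : X, Order.coheight z = 1 → z ⤳ y → Scheme.ord (ι a₀) z = D z := by
      intro z hz hzy
      rw [← has₀, Scheme.ord_mul hfy0 (algebraMap_ne_zero hs₀0), hord_s s₀ hs₀ z hzy, add_zero,
        ← hfy z hz hzy]
    -- every element of `I` is a multiple of `a₀` up to a denominator
    have hkey : ∀ b ∈ I, ∃ s : A, s ∉ primeOf hyx ∧ ∃ c : A, s * b = c * a₀ := by
      intro b hb
      by_cases hb0 : b = 0
      · exact ⟨1, (Ideal.ne_top_iff_one _).1 (Ideal.IsPrime.ne_top inferInstance), 0, by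
          rw [hb0, mul_zero, zero_mul]⟩
      have hιb : ι b ≠ 0 := algebraMap_ne_zero hb0
      have hιa : ι a₀ ≠ 0 := algebraMap_ne_zero ha₀0
      obtain ⟨c, s, hs, hcs⟩ := hfrac (ι b * (ι a₀)⁻¹) (mul_ne_zero hιb (inv_ne_zero hιa))
        (fun z hzy hz => by
          rw [Scheme.ord_mul hιb (inv_ne_zero hιa), ord_inv z hιa, hord_a₀ z hz hzy]
          have := ((hmemI b).1 hb z hz (hzy.trans hyx)).resolve_left hb0
          omega)
      refine ⟨s, hs, c, ?_⟩
      apply hιinj
      rw [map_mul, map_mul, ← hcs]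
      have h := inv_mul_cancel₀ hιa
      calc ι s * ι b = ι s * ι b * ((ι a₀)⁻¹ * ι a₀) := by rw [h, mul_one]
        _ = ι b * (ι a₀)⁻¹ * ι s * ι a₀ := by ring
    obtain ⟨s₂, hs₂, hs₂b⟩ := exists_common_denominator (primeOf hyx) I a₀ hkey
    -- an element making `a₀` lie in `I`
    obtain ⟨s₁, hs₁, hs₁F⟩ := exists_notMem_forall_le_ord hX x
      (hDfin.toFinset.filter (fun z => ¬ z ⤳ y)) (fun z => (D z).toNat) (primeOf hyx)
      (fun z hzF hzx hle => by
        rw [Finset.mem_filter] at hzF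
        exact hzF.2 (specializes_of_primeOf_le hzx hyx hle))
    have hs₁0 : s₁ ≠ 0 := fun h => hs₁ (h ▸ (primeOf hyx).zero_mem)
    have hs₁a : s₁ * a₀ ∈ I := by
      rw [hmemI]
      intro z hz hzx
      right
      rw [map_mul, Scheme.ord_mul (algebraMap_ne_zero hs₁0) (algebraMap_ne_zero ha₀0)]
      have h1 := ord_nonneg_of_specializes hzx hz hs₁0
      have h2 := ord_nonneg_of_specializes hzx hz ha₀0
      by_cases hzy : z ⤳ y
      · rw [hord_a₀ z hz hzy]
        show D z ≤ Scheme.ord (ι s₁) z + D z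
        have h1' : 0 ≤ Scheme.ord (ι s₁) z := h1
        omega
      · by_cases hDz : D z = 0
        · rw [hDz]
          exact add_nonneg h1 h2
        · have hzF : z ∈ hDfin.toFinset.filter (fun z => ¬ z ⤳ y) := by
            rw [Finset.mem_filter, Set.Finite.mem_toFinset]
            exact ⟨⟨hz, hzx, hDz⟩, hzy⟩
          have h3 := hs₁F z hzF hzx hz
          have h4 := hD0 z hz hzx
          rw [Int.toNat_of_nonneg h4] at h3
          have h2' : 0 ≤ Scheme.ord (ι a₀) z := h2
          have h3' : D z ≤ Scheme.ord (ι s₁) z := h3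
          omega
    refine ⟨a₀, s₁ * s₂, ha₀0, ?_, ?_, ?_, hord_a₀⟩
    · intro h
      rcases (inferInstance : (primeOf hyx).IsPrime).mem_or_mem h with h | h
      · exact hs₁ h
      · exact hs₂ h
    · rw [mul_assoc, mul_comm s₂ a₀, ← mul_assoc]
      exact I.mul_mem_right _ hs₁a
    · intro b hb
      obtain ⟨c, hc⟩ := hs₂b b hb
      exact ⟨s₁ * c, by rw [mul_assoc, hc, mul_assoc]⟩
  -- the saturating element
  let pr : X → Ideal A := fun z => if h : z ⤳ x then primeOf h else ⊤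
  have hmne : IsLocalRing.maximalIdeal A ≠ ⊥ := by
    intro h
    have h2 := IsLocalRing.maximalIdeal_height_eq_ringKrullDim (R := A)
    rw [h, Ideal.height_bot] at h2
    rw [← h2] at hdim
    have : (2 : ℕ∞) ≤ 0 := WithBot.coe_le_coe.1 hdim
    exact absurd this (by decide)
  obtain ⟨f, hfm, hf0, hfF⟩ : ∃ f : A, f ∈ IsLocalRing.maximalIdeal A ∧ f ≠ 0 ∧
      ∀ z ∈ hDfin.toFinset, ∀ hzx : z ⤳ x, f ∉ primeOf hzx := by
    let s : Finset (Ideal A) := insert ⊥ (hDfin.toFinset.image pr)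
    have hprime : ∀ q ∈ s, q.IsPrime := by
      intro q hq
      rw [Finset.mem_insert, Finset.mem_image] at hq
      rcases hq with rfl | ⟨z, hz, rfl⟩
      · exact Ideal.isPrime_bot
      · rw [Set.Finite.mem_toFinset] at hz
        have : pr z = primeOf hz.2.1 := dif_pos hz.2.1
        rw [this]; infer_instance
    have hnot : ¬ ((IsLocalRing.maximalIdeal A : Set A) ⊆
        ⋃ q ∈ (↑s : Set (Ideal A)), ((id q : Ideal A) : Set A)) := by
      rw [Ideal.subset_union_prime (f := id) ⊥ ⊥ (fun q hq _ _ => hprime q hq)]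
      rintro ⟨q, hq, hle⟩
      rw [Finset.mem_insert, Finset.mem_image] at hq
      rcases hq with rfl | ⟨z, hz, rfl⟩
      · exact hmne (le_bot_iff.1 hle)
      · rw [Set.Finite.mem_toFinset] at hz
        have hpr : pr z = primeOf hz.2.1 := dif_pos hz.2.1
        have hle' : IsLocalRing.maximalIdeal A ≤ primeOf hz.2.1 := hpr ▸ hle
        have : primeOf hz.2.1 = IsLocalRing.maximalIdeal A :=
          le_antisymm (IsLocalRing.le_maximalIdeal (Ideal.IsPrime.ne_top inferInstance)) hle'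
        exact primeOf_ne_maximalIdeal hz.2.1 hz.1 hdim this
    obtain ⟨f, hfm, hf⟩ := Set.not_subset.1 hnot
    refine ⟨f, hfm, ?_, ?_⟩
    · rintro rfl
      apply hf
      refine Set.mem_iUnion₂.2 ⟨⊥, ?_, (⊥ : Ideal A).zero_mem⟩
      exact Finset.mem_coe.2 (Finset.mem_insert_self _ _)
    · intro z hz hzx hmem
      apply hf
      have hpr : pr z = primeOf hzx := dif_pos hzx
      refine Set.mem_iUnion₂.2 ⟨pr z, ?_, ?_⟩
      · exact Finset.mem_coe.2 (Finset.mem_insert_of_mem (Finset.mem_image_of_mem pr hz))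
      · show f ∈ pr z
        rw [hpr]; exact hmem
  have hfsat : ∀ a : A, f * a ∈ I → a ∈ I := by
    intro a ha
    rw [hmemI] at ha ⊢
    intro z hz hzx
    by_cases ha0 : a = 0
    · exact Or.inl ha0
    right
    have hfa := (ha z hz hzx).resolve_left (mul_ne_zero hf0 ha0)
    rw [map_mul, Scheme.ord_mul (algebraMap_ne_zero hf0) (algebraMap_ne_zero ha0)] at hfa
    by_cases hDz : D z = 0
    · rw [hDz]; exact ord_nonneg_of_specializes hzx hz ha0
    · have hzF : z ∈ hDfin.toFinset := by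
        rw [Set.Finite.mem_toFinset]; exact ⟨hz, hzx, hDz⟩
      rw [ord_eq_zero_of_notMem hzx (hfF z hzF hzx), zero_add] at hfa
      exact hfa
  have hprinc : I.IsPrincipal := isPrincipal_of_parafactorial A hpara I f hfm hfsat (by
    intro p hp hne
    haveI := hp
    obtain ⟨y, hyx, rfl⟩ := exists_specializes_primeOf_eq x p
    obtain ⟨a, s, ha0, hs, hsa, hb, -⟩ := hloc' y hyx hne
    exact ⟨a, s, ha0, hs, hsa, hb⟩)
  obtain ⟨g, hg⟩ := hprinc
  haveI : (⊥ : Ideal A).IsPrime := Ideal.isPrime_bot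
  have hg0 : g ≠ 0 := by
    obtain ⟨η, hηx, hη⟩ := exists_specializes_primeOf_eq x (⊥ : Ideal A)
    obtain ⟨a, s, ha0, hs, hsa, -, -⟩ := hloc' η hηx (hη ▸ hmne.symm)
    rintro rfl
    rw [hg] at hsa
    have h0 : s * a = 0 := by simpa using hsa
    rcases mul_eq_zero.1 h0 with h | h
    · exact hs (h ▸ zero_mem _)
    · exact ha0 h
  refine ⟨g, hg0, ?_⟩
  intro z hz hzx
  have hgI : g ∈ I := hg ▸ Submodule.mem_span_singleton_self g
  have h1 := ((hmemI g).1 hgI z hz hzx).resolve_left hg0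
  obtain ⟨a, s, ha0, hs, hsa, -, hord⟩ := hloc' z hzx (primeOf_ne_maximalIdeal hzx hz hdim)
  rw [hg] at hsa
  obtain ⟨r, hr⟩ := Submodule.mem_span_singleton.1 hsa
  have hs0 : s ≠ 0 := fun h => hs (h ▸ zero_mem _)
  have hr0 : r ≠ 0 := by
    rintro rfl
    rw [zero_smul] at hr
    exact mul_ne_zero hs0 ha0 hr.symm
  have h2 := congrArg (fun w => Scheme.ord (ι w) z) hr
  simp only [smul_eq_mul, map_mul] at h2
  rw [Scheme.ord_mul (algebraMap_ne_zero hr0) (algebraMap_ne_zero hg0),
    Scheme.ord_mul (algebraMap_ne_zero hs0) (algebraMap_ne_zero ha0),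
    ord_eq_zero_of_notMem hzx hs, hord z hz specializes_rfl] at h2
  have h3 := ord_nonneg_of_specializes hzx hz hr0
  have h3' : 0 ≤ Scheme.ord (ι r) z := h3
  have h1' : D z ≤ Scheme.ord (ι g) z := h1
  have h2' : Scheme.ord (ι r) z + Scheme.ord (ι g) z = 0 + D z := h2
  show D z = Scheme.ord (ι g) z
  omega

/-- **Key step.** A codimension one cycle which is principal at all proper generizations of a parafactorial point of
dimension at least two is principal at that point. -/
theorem principal_at_of_parafactorial (hX : Pi1.IsNormalScheme X) (x : X)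
    (hdim : (2 : WithBot ℕ∞) ≤ ringKrullDim (X.presheaf.stalk x))
    (hpara : ParaF.IsParafactorialLocalRing (X.presheaf.stalk x))
    (Z : X → ℤ)
    (hZfin : {z : X | Order.coheight z = 1 ∧ z ⤳ x ∧ Z z ≠ 0}.Finite)
    (IH : ∀ (y : X) (hyx : y ⤳ x), primeOf hyx ≠ IsLocalRing.maximalIdeal (X.presheaf.stalk x) →
      ∃ f : X.functionField, f ≠ 0 ∧
        ∀ z : X, Order.coheight z = 1 → z ⤳ y → Z z = Scheme.ord f z) :
    ∃ f : X.functionField, f ≠ 0 ∧
      ∀ z : X, Order.coheight z = 1 → z ⤳ x → Z z = Scheme.ord f z := by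
  classical
  let A := X.presheaf.stalk x
  let K := X.functionField
  let ι : A →+* K := algebraMap A K
  haveI : (⊥ : Ideal A).IsPrime := Ideal.isPrime_bot
  obtain ⟨c, hc, hcF⟩ := exists_notMem_forall_le_ord hX x hZfin.toFinset
    (fun z => (Z z).natAbs) (⊥ : Ideal A)
    (fun z hzF hzx hle => by
      rw [Set.Finite.mem_toFinset] at hzF
      have h1 := height_primeOf_eq_one hzx hzF.1
      rw [le_bot_iff.1 hle, Ideal.height_bot] at h1
      exact zero_ne_one h1)
  have hc0 : c ≠ 0 := fun h => hc (h ▸ zero_mem _)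
  have hιc : ι c ≠ 0 := algebraMap_ne_zero hc0
  let D : X → ℤ := fun z => Z z + Scheme.ord (ι c) z
  have hD0 : ∀ z : X, Order.coheight z = 1 → z ⤳ x → 0 ≤ D z := by
    intro z hz hzx
    have h1 : 0 ≤ Scheme.ord (ι c) z := ord_nonneg_of_specializes hzx hz hc0
    show 0 ≤ Z z + Scheme.ord (ι c) z
    by_cases hZz : Z z = 0
    · rw [hZz, zero_add]; exact h1
    · have hzF : z ∈ hZfin.toFinset := by
        rw [Set.Finite.mem_toFinset]; exact ⟨hz, hzx, hZz⟩
      have h2 : ((Z z).natAbs : ℤ) ≤ Scheme.ord (ι c) z := hcF z hzF hzx hz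
      omega
  have hDfin : {z : X | Order.coheight z = 1 ∧ z ⤳ x ∧ D z ≠ 0}.Finite := by
    refine (hZfin.union (finite_ord_ne_zero x hc0)).subset ?_
    rintro z ⟨hz, hzx, hDz⟩
    by_cases hZz : Z z = 0
    · right
      refine ⟨hz, hzx, ?_⟩
      intro h
      apply hDz
      show Z z + Scheme.ord (ι c) z = 0
      rw [hZz, zero_add]
      exact h
    · left
      exact ⟨hz, hzx, hZz⟩
  obtain ⟨g, hg0, hg⟩ := exists_generator_of_effective hX x hdim hpara D hD0 hDfin (by
    intro y hyx hne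
    obtain ⟨f, hf0, hf⟩ := IH y hyx hne
    refine ⟨f * ι c, mul_ne_zero hf0 hιc, ?_⟩
    intro z hz hzy
    rw [Scheme.ord_mul hf0 hιc, ← hf z hz hzy])
  have hιg : ι g ≠ 0 := algebraMap_ne_zero hg0
  refine ⟨ι g * (ι c)⁻¹, mul_ne_zero hιg (inv_ne_zero hιc), ?_⟩
  intro z hz hzx
  have h1 := hg z hz hzx
  have h1' : Z z + Scheme.ord (ι c) z = Scheme.ord (ι g) z := h1
  rw [Scheme.ord_mul hιg (inv_ne_zero hιc), ord_inv z hιc]
  omega

end Groth.Agent.Lib.QCoh.Div21h74
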