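import Groth.Agent.Lib.Helper22.ClosedC1
import Groth.Agent.Lib.Helper22.FlatDiv

/-!
# Orders along the generic point versus `Scheme.ord` (helper74; S5103)
-/

set_option linter.style.haveILetI false
set_option linter.deprecated false
set_option autoImplicit false
universe u
open CategoryTheory AlgebraicGeometry TopologicalSpace

namespace Groth.Agent.Lib.QCoh.Div21h74

variable {X : Scheme.{u}} [IsIntegral X] [IsLocallyNoetherian X]

theorem ordFrac_stalk_eq_ord (x : X) (hx : Order.coheight x = 1) (ψ : X.functionField) :
    CycAlg.ordFrac (X.presheaf.stalk x) X.functionField ψ = Scheme.ord ψ x := by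
  have hK : Ring.KrullDimLE 1 (X.presheaf.stalk x) := krullDimLE_of_coheight_le hx.le
  have hA : IsNoetherianRing (X.presheaf.stalk x) ∧ Ring.KrullDimLE 1 (X.presheaf.stalk x) ∧
      Nontrivial (X.presheaf.stalk x) ∧ IsFractionRing (X.presheaf.stalk x) X.functionField :=
    ⟨inferInstance, hK, inferInstance, inferInstance⟩
  rw [Groth.Agent.Lib.Helper22.OrdFlat.ordFrac_eq_log hA,
    Scheme.ord_eq_ordHom_of_coheight_eq_one hx]
  show WithZero.log (Ring.ordFrac (X.presheaf.stalk x) ψ) =
    Multiplicative.toAdd ((Ring.ordFrac (X.presheaf.stalk x) ψ).unzeroD 1)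
  generalize Ring.ordFrac (X.presheaf.stalk x) ψ = v
  induction v using WithZero.recZeroCoe with
  | zero => simp
  | coe z => rfl

/-- the order along `η ⤳ x` of the prelude equals Mathlib's order of vanishing at codimension one points -/
theorem ordAt_generic_eq_ord (x : X) (hx : Order.coheight x = 1) (h : genericPoint X ⤳ x)
    (ψ : X.presheaf.stalk (genericPoint X)) :
    Cyc.ordAt x (genericPoint X) h ((X.residue (genericPoint X)).hom ψ) =
      Scheme.ord (show X.functionField from ψ) x := by
  have hK : Ring.KrullDimLE 1 (X.presheaf.stalk x) := krullDimLE_of_coheight_le hx.le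
  have hA : IsNoetherianRing (X.presheaf.stalk x) ∧ Ring.KrullDimLE 1 (X.presheaf.stalk x) ∧
      Nontrivial (X.presheaf.stalk x) ∧ IsFractionRing (X.presheaf.stalk x) X.functionField :=
    ⟨inferInstance, hK, inferInstance, inferInstance⟩
  have hspinj : Function.Injective (Cyc.specMap x (genericPoint X) h) := by
    intro a b hab
    have h1 : (X.residue (genericPoint X)).hom ((X.presheaf.stalkSpecializes h).hom a) =
        (X.residue (genericPoint X)).hom ((X.presheaf.stalkSpecializes h).hom b) := hab
    have h2 := (RingHom.injective ((X.residue (genericPoint X)).hom :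
      X.functionField →+* X.residueField (genericPoint X))) h1
    exact IsFractionRing.injective (X.presheaf.stalk x) X.functionField h2
  have hbij : Function.Bijective
      (Ideal.Quotient.mk (RingHom.ker (Cyc.specMap x (genericPoint X) h))) := by
    refine ⟨?_, Ideal.Quotient.mk_surjective⟩
    intro a b hab
    rw [Ideal.Quotient.eq, RingHom.mem_ker, map_sub, sub_eq_zero] at hab
    exact hspinj hab
  have hB : IsNoetherianRing (Cyc.LocQuot x (genericPoint X) h) ∧
      Ring.KrullDimLE 1 (Cyc.LocQuot x (genericPoint X) h) ∧
      Nontrivial (Cyc.LocQuot x (genericPoint X) h) ∧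
      IsFractionRing (Cyc.LocQuot x (genericPoint X) h) (X.residueField (genericPoint X)) := by
    haveI := Groth.Agent.Lib.Helper22.FlatDiv.locQuot_isFractionRing x (genericPoint X) h
    refine ⟨inferInstance, ?_, ?_, inferInstance⟩
    · rw [Ring.krullDimLE_iff]
      exact (ringKrullDim_quotient_le _).trans ((Ring.krullDimLE_iff (n := 1)).1 hK)
    · exact hbij.1.nontrivial
  rw [← ordFrac_stalk_eq_ord x hx ψ]
  unfold Cyc.ordAt
  exact Groth.Agent.Lib.Helper22.ClosedC1.ordFrac_bij
    (Ideal.Quotient.mk (RingHom.ker (Cyc.specMap x (genericPoint X) h))) hbij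
    ((X.residue (genericPoint X)).hom : X.functionField →+* X.residueField (genericPoint X))
    (fun a => rfl) hA hB ψ

end Groth.Agent.Lib.QCoh.Div21h74
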