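import Groth.Agent.Lib.Helper48.DualInv
import Groth.Agent.Lib.QCoh.Helper74_RefHullRefl
import Groth.Agent.Lib.Helper56.PullTensorB
import Groth.Agent.Lib.QCoh.Helper74_EffCartier
import Groth.Agent.Lib.QCoh.Invertible
import Groth.Prelude.Def_Omega2

/-!
# Duals of invertible modules (helper74)

Namespace `Groth.Agent.Lib.QCoh.DualInv74`.

* `dualModIso L : dualMod L ≅ RefHull.dual L` (helper48's dual is the prelude's `𝓗om(L, O_X)`);
* `isInvertible_dual`, `nonempty_tensorMod_dual_iso` : `P ⊗ 𝓗om(P, O) ≅ O` for `P` invertible;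
* `nonempty_iso_of_inverse` : tensor inverses are unique;
* `nonempty_dual_pullback_iso` : `(f^*L)^∨ ≅ f^*(L^∨)` for `L` invertible;
* `nonempty_dual_conormal_iso` : the normal sheaf of an effective Cartier divisor.
-/

set_option linter.style.haveILetI false
universe u
open CategoryTheory CategoryTheory.Limits AlgebraicGeometry Opposite TopologicalSpace

namespace Groth.Agent.Lib.QCoh.DualInv74
open RefHull Groth.Agent.Lib.QCoh Groth.Agent.Lib.Helper48.DualInv RefHull74
open Groth.Agent.Lib.Ample Groth.Agent.Lib.Helper48.DivOfSection CohB1 Groth.Agent.Lib.Helper48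

variable {X : Scheme.{u}} (L : X.Modules)

theorem oxEquiv_toOx' (z : X) (b : X.presheaf.stalk z) : oxEquiv z (toOx z b) = b :=
  (LinearEquiv.ofBijective (toOx z) (toOx_bijective z)).symm_apply_apply b

theorem toOx_oxEquiv' (z : X) (u : (Coh.structureModule X).presheaf.stalk z) :
    toOx z (oxEquiv z u) = u :=
  (LinearEquiv.ofBijective (toOx z) (toOx_bijective z)).apply_symm_apply u

/-- sections of helper48's dual to sections of `RefHull.dual` -/
noncomputable def toDualFun (U : X.Opens) : Γ(dualMod L, U) →+ Γ(RefHull.dual L, U) where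
  toFun f := ⟨fun x => (toOx x.1).comp (f.1 x), fun V i m x => by
    obtain ⟨W, hxW, j, a, ha⟩ := f.2 V i m x
    refine ⟨W, hxW, j, (show Γ(Coh.structureModule X, W) from a), fun y => ?_⟩
    rw [LinearMap.comp_apply, ha y, toOx_germ]⟩
  map_zero' := Subtype.ext <| funext fun x => by
    change (toOx x.1).comp 0 = 0
    rw [LinearMap.comp_zero]
  map_add' f g := Subtype.ext <| funext fun x => by
    change (toOx x.1).comp (f.1 x + g.1 x) = (toOx x.1).comp (f.1 x) + (toOx x.1).comp (g.1 x)
    rw [LinearMap.comp_add]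

/-- and back -/
noncomputable def ofDualFun (U : X.Opens) : Γ(RefHull.dual L, U) → Γ(dualMod L, U) :=
  fun g => ⟨fun x => (oxEquiv x.1).toLinearMap.comp (g.1 x), fun V i m x => by
    obtain ⟨W, hxW, j, n, hn⟩ := g.2 V i m x
    refine ⟨W, hxW, j, (show Γ(X, W) from n), fun y => ?_⟩
    rw [LinearMap.comp_apply, hn y]
    change oxEquiv y.1 _ = _
    rw [← oxEquiv_toOx' y.1 (X.presheaf.germ W y.1 y.2 (show Γ(X, W) from n)), toOx_germ]⟩

theorem toDualFun_ofDualFun (U : X.Opens) (g : Γ(RefHull.dual L, U)) :
    toDualFun L U (ofDualFun L U g) = g :=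
  Subtype.ext <| funext fun x => LinearMap.ext fun _ => toOx_oxEquiv' x.1 _

theorem ofDualFun_toDualFun (U : X.Opens) (f : Γ(dualMod L, U)) :
    ofDualFun L U (toDualFun L U f) = f :=
  Subtype.ext <| funext fun x => LinearMap.ext fun _ => oxEquiv_toOx' x.1 _

/-- the comparison morphism -/
noncomputable def toDual : dualMod L ⟶ RefHull.dual L :=
  ⟨PresheafOfModules.homMk
    { app := fun U => AddCommGrpCat.ofHom (toDualFun L U.unop)
      naturality := fun {U V} i => by
        ext s
        rfl }
    (fun U r s => Subtype.ext <| funext fun x => by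
      change (toOx x.1).comp (X.presheaf.germ U.unop x.1 x.2 r • s.1 x) =
        X.presheaf.germ U.unop x.1 x.2 r • (toOx x.1).comp (s.1 x)
      rw [LinearMap.comp_smul])⟩

theorem toDual_app (U : X.Opens) (f : Γ(dualMod L, U)) :
    (toDual L).app U f = toDualFun L U f := rfl

instance : IsIso (toDual L) := by
  rw [Scheme.Modules.Hom.isIso_iff_isIso_app]
  intro U
  rw [ConcreteCategory.isIso_iff_bijective]
  constructor
  · intro a b hab
    have := congrArg (ofDualFun L U) hab
    rw [toDual_app, toDual_app, ofDualFun_toDualFun, ofDualFun_toDualFun] at this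
    exact this
  · intro g
    exact ⟨ofDualFun L U g, toDualFun_ofDualFun L U g⟩

/-- helper48's dual is `RefHull.dual`. -/
noncomputable def dualModIso : dualMod L ≅ RefHull.dual L := asIso (toDual L)

section Inverse

variable {P : X.Modules}

/-- `P ⊗ P^∨ ≅ O_X` for helper48's dual (extracted from `exists_inverse`). -/
theorem nonempty_tensorMod_dualMod_iso (hP : PicF.IsInvertible P) :
    Nonempty (tensorMod P (dualMod P) ≅ Coh.structureModule X) := by
  obtain ⟨μ, hμ⟩ := TensorDesc.exists_desc P (dualMod P) (Coh.structureModule X)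
    (fun U m φ => (show Γ(Coh.structureModule X, U) from pair P U m φ))
    (fun U m m' φ => pair_add_left P U m m' φ)
    (fun U a m φ => pair_smul_left P U a m φ)
    (fun U m φ φ' => pair_add_right P U m φ φ')
    (fun U a m φ => pair_smul_right P U a m φ)
    (fun U V i m φ => pair_res P U i m φ)
  have hiso : IsIso μ := by
    refine TensorDesc.isIso_of_isGenerator μ (fun x => ?_)
    obtain ⟨U, hxU, e, he⟩ := exists_isGenerator_of_isInvertible hP x
    refine ⟨U, hxU, tmulSect P (dualMod P) e (dualGen he),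
      he.tmul (isGenerator_dualGen he), ?_⟩
    have h2 : μ.app U (tmulSect P (dualMod P) e (dualGen he)) =
        (show Γ(Coh.structureModule X, U) from (1 : Γ(X, U))) :=
      (hμ U e (dualGen he)).trans (pair_dualGen he)
    rw [h2]
    exact isGenerator_one U
  exact ⟨asIso μ⟩

theorem isInvertible_dualMod (hP : PicF.IsInvertible P) : PicF.IsInvertible (dualMod P) := by
  refine InvGen.isInvertible_of_isGenerator _ (fun x => ?_)
  obtain ⟨U, hxU, e, he⟩ := exists_isGenerator_of_isInvertible hP x
  exact ⟨U, hxU, dualGen he, isGenerator_dualGen he⟩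

/-- the dual of an invertible module is invertible -/
theorem isInvertible_dual (hP : PicF.IsInvertible P) : PicF.IsInvertible (RefHull.dual P) :=
  isInvertible_of_iso (dualModIso P) (isInvertible_dualMod hP)

/-- `P ⊗ 𝓗om(P, O_X) ≅ O_X` for `P` invertible -/
theorem nonempty_tensorMod_dual_iso (hP : PicF.IsInvertible P) :
    Nonempty (tensorMod P (RefHull.dual P) ≅ Coh.structureModule X) := by
  obtain ⟨e⟩ := nonempty_tensorMod_dualMod_iso hP
  exact ⟨tensorModCongr (Iso.refl P) (dualModIso P).symm ≪≫ e⟩

/-- tensor inverses are unique up to isomorphism -/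
theorem nonempty_iso_of_inverse {M N N' : X.Modules}
    (e : tensorMod M N ≅ Coh.structureModule X) (e' : tensorMod M N' ≅ Coh.structureModule X) :
    Nonempty (N ≅ N') :=
  ⟨(tensorModLeftUnitor N).symm ≪≫ tensorModCongr e'.symm (Iso.refl N) ≪≫
    tensorModCongr (tensorModBraiding M N') (Iso.refl N) ≪≫ tensorModAssoc N' M N ≪≫
    tensorModCongr (Iso.refl N') e ≪≫ tensorModRightUnitor N'⟩

end Inverse

section Pullback

open Groth.Agent.Lib.Helper56.PullTensor

/-- duals of invertible modules commute with pullback -/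
theorem nonempty_dual_pullback_iso {X Y : Scheme.{u}} (f : X ⟶ Y) {L : Y.Modules}
    (hL : PicF.IsInvertible L) :
    Nonempty (RefHull.dual ((Scheme.Modules.pullback f).obj L) ≅
      (Scheme.Modules.pullback f).obj (RefHull.dual L)) := by
  have hM := isInvertible_pullback f hL
  obtain ⟨a⟩ := nonempty_tensorMod_dual_iso hM
  obtain ⟨c⟩ := nonempty_tensorMod_dual_iso hL
  let b : tensorMod ((Scheme.Modules.pullback f).obj L)
      ((Scheme.Modules.pullback f).obj (RefHull.dual L)) ≅ Coh.structureModule X :=
    (pullbackTensorIso f hL (isInvertible_dual hL)).symm ≪≫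
      (Scheme.Modules.pullback f).mapIso c ≪≫ pullbackUnitIso f
  exact nonempty_iso_of_inverse a b

/-- the normal sheaf of an effective Cartier divisor -/
theorem nonempty_dual_conormal_iso {S : Scheme.{u}} (𝓓 : S.IdealSheafData)
    (hD : BlowUp.IsEffCartierIdeal 𝓓) :
    Nonempty (RefHull.dual (Omega.conormal 𝓓.subschemeι) ≅
      (Scheme.Modules.pullback 𝓓.subschemeι).obj (RefHull.dual (ClSub.idealMod 𝓓))) := by
  have hker : 𝓓.subschemeι.ker = 𝓓 := Scheme.IdealSheafData.ker_subschemeι 𝓓
  have hL : PicF.IsInvertible (ClSub.idealMod 𝓓) := (EffCartier74.isInvertible_idealMod_iff 𝓓).2 hD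
  obtain ⟨e⟩ := nonempty_dual_pullback_iso 𝓓.subschemeι hL
  have h1 : Omega.conormal 𝓓.subschemeι =
      (Scheme.Modules.pullback 𝓓.subschemeι).obj (ClSub.idealMod 𝓓) := by
    unfold Omega.conormal
    rw [hker]
  rw [h1]
  exact ⟨e⟩

end Pullback

end Groth.Agent.Lib.QCoh.DualInv74
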