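import Mathlib

/-!
# Reflexive modules of rank one over a factorial domain are free (helper74)

Namespace `Groth.Agent.Lib.QCoh.RankOneUFD74`.

* `one_mem_of_isReflexive_of_primitive` : a nonzero reflexive ideal of a UFD whose elements have no
  common non-unit divisor is the unit ideal.
* `exists_primitive_factor` : a nonzero finitely generated ideal of a UFD is `d • J` with `J` primitive.
* `nonempty_equiv_of_isReflexive_ideal` : a nonzero f.g. reflexive ideal of a UFD is principal
  (isomorphic to `R`).
* `nonempty_equiv_of_isReflexive_of_dep` : a nonzero finite reflexive module over a UFD any two of whose elements are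
  linearly dependent is free of rank one.
-/

set_option linter.style.haveILetI false
universe u

namespace Groth.Agent.Lib.QCoh.RankOneUFD74

variable {R : Type u} [CommRing R] [IsDomain R]

/-- A nonzero reflexive ideal of a UFD whose elements have no common non-unit divisor contains `1`. -/
theorem one_mem_of_isReflexive_of_primitive [UniqueFactorizationMonoid R] (J : Ideal R)
    [Module.IsReflexive R J] (hJ : J ≠ ⊥) (hprim : ∀ p : R, (∀ y ∈ J, p ∣ y) → IsUnit p) :
    (1 : R) ∈ J := by
  obtain ⟨x0, hx0J, hx0⟩ := Submodule.exists_mem_ne_zero_of_ne_bot hJ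
  have key : ∀ ψ : J →ₗ[R] R, ∃ r : R, ∀ y : J, ψ y = r * y := by
    intro ψ
    obtain ⟨c, hcdef⟩ : ∃ c : R, c = ψ ⟨x0, hx0J⟩ := ⟨_, rfl⟩
    have hcomm : ∀ y : J, (y : R) * c = x0 * ψ y := by
      intro y
      have h1 : (y : R) • (⟨x0, hx0J⟩ : J) = x0 • y := Subtype.ext (by simp [mul_comm])
      have := congrArg ψ h1
      rw [LinearMap.map_smul, LinearMap.map_smul, smul_eq_mul, smul_eq_mul] at this
      rw [hcdef]
      exact this
    obtain ⟨x0', c', g, hrel, hx, hc⟩ :=
      UniqueFactorizationMonoid.exists_reduced_factors x0 hx0 c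
    have hg : g ≠ 0 := by
      rintro rfl
      exact hx0 (by rw [← hx, zero_mul])
    have hdiv : ∀ y ∈ J, x0' ∣ y := by
      intro y hy
      have h2 : y * c = x0 * ψ ⟨y, hy⟩ := hcomm ⟨y, hy⟩
      have h3 : y * c' = x0' * ψ ⟨y, hy⟩ := by
        apply mul_left_cancel₀ hg
        linear_combination h2 + y * hc - ψ ⟨y, hy⟩ * hx
      exact hrel.dvd_of_dvd_mul_right ⟨_, h3⟩
    obtain ⟨u, hu⟩ := hprim x0' hdiv
    refine ⟨↑u⁻¹ * c', fun y => ?_⟩
    apply mul_left_cancel₀ hx0
    rw [← hcomm y, ← hc]
    have h4 : x0 = g * u := by rw [hu, hx]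
    have h5 : (u : R) * ↑u⁻¹ = 1 := Units.mul_inv u
    rw [h4]
    linear_combination (-(g * c' * (y : R))) * h5
  let ι : J →ₗ[R] R := J.subtype
  let T : R →ₗ[R] Module.Dual R J := LinearMap.toSpanSingleton R _ ι
  have hT : Function.Bijective T := by
    constructor
    · rw [injective_iff_map_eq_zero]
      intro r hr
      have h1 := LinearMap.congr_fun hr ⟨x0, hx0J⟩
      have h2 : r * x0 = 0 := by simpa [T, ι] using h1
      rcases mul_eq_zero.1 h2 with h | h
      · exact h
      · exact absurd h hx0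
    · intro ψ
      obtain ⟨r, hr⟩ := key ψ
      exact ⟨r, LinearMap.ext fun y => by simp [T, ι, hr y]⟩
  let e := LinearEquiv.ofBijective T hT
  obtain ⟨y, hy⟩ := (Module.bijective_dual_eval R J).2 (e.symm : Module.Dual R J →ₗ[R] R)
  have h2 : e.symm ι = 1 := by
    rw [LinearEquiv.symm_apply_eq]
    simp [e, T]
  have h1 : (y : R) = 1 := by
    have h3 := LinearMap.congr_fun hy ι
    rw [LinearEquiv.coe_coe, h2] at h3
    simpa [ι] using h3
  rw [← h1]
  exact y.2

/-- A nonzero finitely generated ideal of a UFD is `d • J` with `J` "primitive". -/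
theorem exists_primitive_factor [UniqueFactorizationMonoid R] (I : Ideal R) (hfg : I.FG)
    (hI : I ≠ ⊥) :
    ∃ d : R, d ≠ 0 ∧ (∀ x ∈ I, d ∣ x) ∧ ∀ p : R, (∀ x ∈ I, d * p ∣ x) → IsUnit p := by
  classical
  obtain ⟨s, rfl⟩ := hfg
  letI : StrongNormalizationMonoid R := UniqueFactorizationMonoid.strongNormalizationMonoid
  letI : NormalizedGCDMonoid R := UniqueFactorizationMonoid.toNormalizedGCDMonoid R
  have hd0 : s.gcd id ≠ 0 := by
    intro h0
    rw [Finset.gcd_eq_zero_iff] at h0
    apply hI
    rw [Ideal.span_eq_bot]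
    intro x hx
    exact h0 x hx
  refine ⟨s.gcd id, hd0, ?_, ?_⟩
  · have hle : Ideal.span (s : Set R) ≤ Ideal.span {s.gcd id} := by
      rw [Ideal.span_le]
      intro x hx
      exact Ideal.mem_span_singleton.2 (Finset.gcd_dvd (f := id) hx)
    intro x hx
    exact Ideal.mem_span_singleton.1 (hle hx)
  · intro p hp
    have h1 : s.gcd id * p ∣ s.gcd id := Finset.dvd_gcd fun x hx => hp x (Ideal.subset_span hx)
    have h2 : s.gcd id * p ∣ s.gcd id * 1 := by rwa [mul_one]
    exact isUnit_of_dvd_one ((mul_dvd_mul_iff_left hd0).1 h2)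

/-- A nonzero finitely generated reflexive ideal of a UFD is isomorphic to `R`. -/
theorem nonempty_equiv_of_isReflexive_ideal [UniqueFactorizationMonoid R] (I : Ideal R)
    (hfg : I.FG) (hI : I ≠ ⊥) [Module.IsReflexive R I] : Nonempty (I ≃ₗ[R] R) := by
  obtain ⟨d, hd0, hdiv, hprim⟩ := exists_primitive_factor I hfg hI
  let J : Ideal R := Submodule.comap (LinearMap.mulLeft R d) I
  let f : J →ₗ[R] I := (LinearMap.mulLeft R d).restrict (p := J) (q := I) (fun x hx => hx)
  have hf : Function.Bijective f := by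
    constructor
    · intro a b hab
      have h1 : d * (a : R) = d * b := congrArg Subtype.val hab
      exact Subtype.ext (mul_left_cancel₀ hd0 h1)
    · rintro ⟨x, hx⟩
      obtain ⟨q, rfl⟩ := hdiv x hx
      exact ⟨⟨q, hx⟩, rfl⟩
  let e : J ≃ₗ[R] I := LinearEquiv.ofBijective f hf
  haveI : Module.IsReflexive R J := Module.equiv e.symm
  have hJ : J ≠ ⊥ := by
    intro h
    apply hI
    rw [Submodule.eq_bot_iff]
    intro x hx
    obtain ⟨q, rfl⟩ := hdiv x hx
    have hq : q ∈ J := hx
    rw [h, Submodule.mem_bot] at hq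
    rw [hq, mul_zero]
  have hprimJ : ∀ p : R, (∀ y ∈ J, p ∣ y) → IsUnit p := by
    intro p hp
    apply hprim
    intro x hx
    obtain ⟨q, rfl⟩ := hdiv x hx
    exact mul_dvd_mul_left d (hp q hx)
  have h1 := one_mem_of_isReflexive_of_primitive J hJ hprimJ
  have htop : J = ⊤ := (Ideal.eq_top_iff_one J).2 h1
  exact ⟨e.symm ≪≫ₗ LinearEquiv.ofEq J ⊤ htop ≪≫ₗ Submodule.topEquiv⟩

/-- A nonzero finite reflexive module over a UFD, any two of whose elements are linearly
dependent, is free of rank one. -/
theorem nonempty_equiv_of_isReflexive_of_dep [UniqueFactorizationMonoid R] (M : Type u)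
    [AddCommGroup M] [Module R M] [Module.Finite R M] [Module.IsReflexive R M] [Nontrivial M]
    (hdep : ∀ m1 m2 : M, ∃ a b : R, (a ≠ 0 ∨ b ≠ 0) ∧ a • m1 + b • m2 = 0) :
    Nonempty (M ≃ₗ[R] R) := by
  have hevinj : Function.Injective (Module.Dual.eval R M) := (Module.bijective_dual_eval R M).1
  have htf : ∀ (a : R) (m : M), a • m = 0 → a = 0 ∨ m = 0 := by
    intro a m ham
    by_cases ha : a = 0
    · exact Or.inl ha
    · right
      apply hevinj
      rw [map_zero]
      ext φ
      have h1 : a * φ m = 0 := by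
        have := congrArg φ ham
        simpa using this
      rcases mul_eq_zero.1 h1 with h | h
      · exact absurd h ha
      · simpa using h
  obtain ⟨m0, hm0⟩ := exists_ne (0 : M)
  have hev : Module.Dual.eval R M m0 ≠ 0 := fun h => hm0 (hevinj (by rw [h, map_zero]))
  obtain ⟨φ, hφ⟩ : ∃ φ : Module.Dual R M, φ m0 ≠ 0 := by
    by_contra hcon
    rw [not_exists] at hcon
    exact hev (LinearMap.ext fun φ => by simpa using hcon φ)
  have hinj : Function.Injective φ := by
    rw [injective_iff_map_eq_zero]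
    intro m hm
    by_contra hne
    obtain ⟨a, b, hab, h⟩ := hdep m m0
    have h1 : b * φ m0 = 0 := by
      have := congrArg φ h
      simpa [hm] using this
    have hb : b = 0 := by
      rcases mul_eq_zero.1 h1 with h | h
      · exact h
      · exact absurd h hφ
    subst hb
    rw [zero_smul, add_zero] at h
    rcases htf a m h with h | h
    · exact (hab.resolve_right (by simp)) h
    · exact hne h
  let I : Ideal R := LinearMap.range φ
  let e : M ≃ₗ[R] I := LinearEquiv.ofInjective φ hinj
  haveI : Module.IsReflexive R I := Module.equiv e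
  have hfg : I.FG := by
    have : Module.Finite R I := Module.Finite.equiv e
    exact Module.Finite.iff_fg.1 this
  have hI : I ≠ ⊥ := by
    intro h
    have h1 : φ m0 ∈ I := ⟨m0, rfl⟩
    rw [h, Submodule.mem_bot] at h1
    exact hφ h1
  obtain ⟨e'⟩ := nonempty_equiv_of_isReflexive_ideal I hfg hI
  exact ⟨e ≪≫ₗ e'⟩

end Groth.Agent.Lib.QCoh.RankOneUFD74
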