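import Groth.Agent.Lib.QCoh.Helper74_RefHullRefl
import Groth.Agent.Lib.QCoh.Helper74_DepthIsoTF
import Groth.Agent.Lib.QCoh.Helper74_CMRegular
import Groth.Agent.Lib.QCoh.Helper74_TorsionFreeDimOne
import Groth.Agent.Lib.QCoh.Helper18_HartogsConv
import Groth.Agent.Lib.Helper93.ReflexiveDepth2
import Groth.Agent.Lib.Helper93.Reflexive3

/-!
# RefHull API, part 6 (helper74): reflexive = torsion-free + normal on regular schemes

Namespace `Groth.Agent.Lib.QCoh.RefHull74`.
-/

set_option linter.style.haveILetI false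
universe u
open CategoryTheory CategoryTheory.Limits AlgebraicGeometry Opposite TopologicalSpace

namespace Groth.Agent.Lib.QCoh.RefHull74
open RefHull Groth.Agent.Lib.QCoh

/-- A reflexive module over a domain is torsion-free. -/
theorem isTorsionFree_of_isReflexive (R : Type u) [CommRing R] [IsDomain R] (M : Type u)
    [AddCommGroup M] [Module R M] [Module.IsReflexive R M] : Module.IsTorsionFree R M :=
  (Module.bijective_dual_eval R M).1.moduleIsTorsionFree _ (fun r m => map_smul _ r m)

theorem noZeroSMulDivisors_of_isTorsionFree (R : Type u) [CommRing R] [IsDomain R] (M : Type u)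
    [AddCommGroup M] [Module R M] (htf : Module.IsTorsionFree R M) : NoZeroSMulDivisors R M := by
  refine ⟨fun {c m} hcm => ?_⟩
  by_cases hc : c = 0
  · exact Or.inl hc
  · refine Or.inr ?_
    have hreg := htf.isSMulRegular (IsRegular.of_ne_zero hc)
    exact hreg (show c • m = c • 0 by rw [hcm, smul_zero])

/-- Over a regular local ring of dimension ≥ 2, finite reflexive modules have depth ≥ 2. -/
theorem two_le_depth_of_isReflexive (R : Type u) [CommRing R] [IsRegularLocalRing R]
    (h2 : (2 : WithBot ℕ∞) ≤ ringKrullDim R) (M : Type u) [AddCommGroup M] [Module R M]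
    [Module.Finite R M] [Module.IsReflexive R M] : (2 : ℕ∞) ≤ LocCoh.depth R M := by
  have h1 : (2 : ℕ∞) ≤ LocCoh.depth R R := by
    have h3 := CMReg74.coe_depth_self R
    rw [← h3] at h2
    have h4 : ((2 : ℕ∞) : WithBot ℕ∞) ≤ ((LocCoh.depth R R : ℕ∞) : WithBot ℕ∞) := h2
    exact WithBot.coe_le_coe.1 h4
  exact_mod_cast Groth.Agent.Lib.Helper93.ReflexiveDepth.le_depth_of_isReflexive M 2 le_rfl
    (by exact_mod_cast h1)

variable {X : Scheme.{u}}

section Glue

variable (F : X.Modules) {U V : X.Opens} (hVU : V ≤ U)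

/-- Injectivity of `Γ(F, U') → Γ(F, U' ⊓ V)` for `U' ≤ U` can be checked on the affine opens
contained in `U`. -/
theorem injective_res_inf_of_forall_affine_le
    (h : ∀ W : X.Opens, IsAffineOpen W → W ≤ U →
      Function.Injective (F.presheaf.map (homOfLE (inf_le_left : W ⊓ V ≤ W)).op))
    (U' : X.Opens) (hU' : U' ≤ U) :
    Function.Injective (F.presheaf.map (homOfLE (inf_le_left : U' ⊓ V ≤ U')).op) := by
  intro s t hst
  -- cover `U'` by affine opens
  have key : ∀ x : U', ∃ W : X.Opens, IsAffineOpen W ∧ x.1 ∈ W ∧ W ≤ U' := by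
    intro x
    obtain ⟨_, ⟨W, hW : IsAffineOpen W, rfl⟩, hxW, hWU⟩ :=
      (X.isBasis_affineOpens).exists_subset_of_mem_open x.2 U'.2
    exact ⟨W, hW, hxW, hWU⟩
  choose W hW hxW hWU using key
  refine sections_ext_of_cover F W U' hWU ?_ s t fun x => ?_
  · intro y hy
    exact Opens.mem_iSup.2 ⟨⟨y, hy⟩, hxW ⟨y, hy⟩⟩
  · apply h (W x) (hW x) ((hWU x).trans hU')
    change Glue74.res F _ (Glue74.res F (hWU x) s) = Glue74.res F _ (Glue74.res F (hWU x) t)
    rw [Glue74.res_res, Glue74.res_res]
    have e : ∀ a : Γ(F, U'), Glue74.res F ((inf_le_left : W x ⊓ V ≤ W x).trans (hWU x)) a =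
        Glue74.res F (inf_le_inf_right V (hWU x) : W x ⊓ V ≤ U' ⊓ V) (Glue74.res F inf_le_left a) :=
      fun a => (Glue74.res_res F _ _ a).symm
    rw [e, e]
    exact congrArg _ hst

include hVU in
/-- Bijectivity of `Γ(F, U) → Γ(F, V)` can be checked on the affine opens contained in `U`. -/
theorem bijective_res_of_forall_affine_le
    (h : ∀ W : X.Opens, IsAffineOpen W → W ≤ U →
      Function.Bijective (F.presheaf.map (homOfLE (inf_le_left : W ⊓ V ≤ W)).op)) :
    Function.Bijective (F.presheaf.map (homOfLE hVU).op) := by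
  have hinj := injective_res_inf_of_forall_affine_le F (V := V) (fun W hW hWU => (h W hW hWU).1)
  have key : ∀ x : U, ∃ W : X.Opens, IsAffineOpen W ∧ x.1 ∈ W ∧ W ≤ U := by
    intro x
    obtain ⟨_, ⟨W, hW : IsAffineOpen W, rfl⟩, hxW, hWU⟩ :=
      (X.isBasis_affineOpens).exists_subset_of_mem_open x.2 U.2
    exact ⟨W, hW, hxW, hWU⟩
  choose W hW hxW hWU using key
  have hcover : U ≤ iSup W := by
    intro y hy
    exact Opens.mem_iSup.2 ⟨⟨y, hy⟩, hxW ⟨y, hy⟩⟩
  constructor
  · intro s t hst
    have h1 := hinj U le_rfl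
    apply h1
    change Glue74.res F _ s = Glue74.res F _ t
    have e : ∀ a : Γ(F, U), Glue74.res F (inf_le_left : U ⊓ V ≤ U) a =
        Glue74.res F (inf_le_right : U ⊓ V ≤ V) (Glue74.res F hVU a) :=
      fun a => (Glue74.res_res F _ _ a).symm
    rw [e, e]
    exact congrArg _ hst
  · intro t
    have hs : ∀ x : U, ∃ s : Γ(F, W x),
        Glue74.res F inf_le_left s = Glue74.res F (inf_le_right : W x ⊓ V ≤ V) t :=
      fun x => (h (W x) (hW x) (hWU x)).2 _
    choose s hs using hs
    obtain ⟨g, hg⟩ := exists_gluing_of_cover F W U hWU hcover s (by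
      intro i j
      apply hinj (W i ⊓ W j) (inf_le_left.trans (hWU i))
      change Glue74.res F _ (Glue74.res F _ (s i)) = Glue74.res F _ (Glue74.res F _ (s j))
      rw [Glue74.res_res, Glue74.res_res]
      have e1 : Glue74.res F ((inf_le_left : (W i ⊓ W j) ⊓ V ≤ W i ⊓ W j).trans inf_le_left) (s i) =
          Glue74.res F (inf_le_inf_right V inf_le_left : (W i ⊓ W j) ⊓ V ≤ W i ⊓ V)
            (Glue74.res F inf_le_left (s i)) := (Glue74.res_res F _ _ _).symm
      have e2 : Glue74.res F ((inf_le_left : (W i ⊓ W j) ⊓ V ≤ W i ⊓ W j).trans inf_le_right) (s j) =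
          Glue74.res F (inf_le_inf_right V inf_le_right : (W i ⊓ W j) ⊓ V ≤ W j ⊓ V)
            (Glue74.res F inf_le_left (s j)) := (Glue74.res_res F _ _ _).symm
      rw [e1, e2, hs i, hs j, Glue74.res_res, Glue74.res_res])
    refine ⟨g, ?_⟩
    refine sections_ext_of_cover F (fun x : U => W x ⊓ V) V (fun x => inf_le_right) ?_ _ _
      fun x => ?_
    · intro y hy
      exact Opens.mem_iSup.2 ⟨⟨y, hVU hy⟩, ⟨hxW ⟨y, hVU hy⟩, hy⟩⟩
    · change Glue74.res F _ (Glue74.res F hVU g) = Glue74.res F _ t
      rw [Glue74.res_res]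
      have e3 : Glue74.res F ((inf_le_right : W x ⊓ V ≤ V).trans hVU) g =
          Glue74.res F (inf_le_left : W x ⊓ V ≤ W x) (Glue74.res F (hWU x) g) :=
        (Glue74.res_res F _ _ _).symm
      rw [e3]
      have h4 : Glue74.res F (hWU x) g = s x := hg x
      rw [h4, hs x]

end Glue

section Normal

open Groth.Agent.Lib.QCoh.Hartogs

variable [IsLocallyNoetherian X] (F : X.Modules) [F.IsQuasicoherent] [F.IsFiniteType]

/-- **Hartogs extension, relative form**: if `depth F_x ≥ 2` at all points of `U` outside `V`, then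
`Γ(F, U) → Γ(F, V)` is bijective. -/
theorem bijective_res_of_depth {U V : X.Opens} (hVU : V ≤ U)
    (hd : ∀ x : X, x ∈ U → x ∉ V →
      (2 : ℕ∞) ≤ LocCoh.depth (X.presheaf.stalk x) (F.presheaf.stalk x)) :
    Function.Bijective (F.presheaf.map (homOfLE hVU).op) := by
  apply bijective_res_of_forall_affine_le F hVU
  intro W hW hWU
  have : IsNoetherianRing Γ(X, W) := IsLocallyNoetherian.component_noetherian ⟨W, hW⟩
  have : Module.Finite Γ(X, W) Γ(F, W) := finite_Γ_of_isAffineOpen hW F
  apply bijective_res_inf_of_isAffineOpen_of_localDepth F V hW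
  intro y hyV
  have key : ∀ (y : PrimeSpectrum Γ(X, W)) (x : X) (hx : x ∈ W), hW.primeIdealOf ⟨x, hx⟩ = y →
      x ∉ V → ((2 : ℕ) : ℕ∞) ≤ LocCoh.depth (Localization.AtPrime y.asIdeal)
        (LocalizedModule y.asIdeal.primeCompl Γ(F, W)) := by
    rintro _ x hx rfl hxV
    rw [← depth_stalk_eq F hW x hx]
    exact hd x (hWU hx) hxV
  refine key y (hW.fromSpec y) (Hartogs.fromSpec_mem W hW y) ?_ hyV
  apply hW.fromSpec.isOpenEmbedding.injective
  exact hW.fromSpec_primeIdealOf ⟨_, Hartogs.fromSpec_mem W hW y⟩

end Normal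

section Main

variable [IsIntegral X] [IsLocallyNoetherian X]
  (hreg : ∀ x : X, IsRegularLocalRing (X.presheaf.stalk x)) (F : X.Modules) (hF : Coh.IsCoh F)

include hF in
/-- The stalks of the reflexive hull are reflexive. -/
theorem isReflexiveAt_ddual (x : X) : IsReflexiveAt (ddual F) x := by
  have hD := isCoh_dual F hF
  have hqD : (dual F).IsQuasicoherent := hD.1
  have hfD : (dual F).IsFiniteType := hD.2
  have hpD : (dual F).IsFinitePresentation := isFinitePresentation_of_isLocallyNoetherian (dual F)
  have hqO : (Coh.structureModule X).IsQuasicoherent := (IsoLocus74.isCoh_structureModule X).1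
  have h1 : Module.Finite (X.presheaf.stalk x) ((dual F).presheaf.stalk x) :=
    finite_stalk (dual F) x
  have h3 : Module.IsReflexive (X.presheaf.stalk x)
      ((dual F).presheaf.stalk x →ₗ[X.presheaf.stalk x] X.presheaf.stalk x) :=
    Groth.Agent.Lib.Helper93.Reflexive.isReflexive_linearMap _ _
  exact Module.equiv
    ((evalStalkEquiv (dual F) (Coh.structureModule X) x).trans
      (LinearEquiv.congrRight (oxEquiv x))).symm

include hreg hF in
/-- **Reflexive = torsion-free + normal** on a regular integral locally Noetherian scheme. -/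
theorem isReflexive_iff_torsionFree_and_normal :
    IsReflexive F ↔
      TorSh.IsTorsionFree F ∧
      (∀ (U V : X.Opens) (hVU : V ≤ U), (∀ x : X, x ∈ U → x ∉ V →
          (2 : WithBot ℕ∞) ≤ ringKrullDim (X.presheaf.stalk x)) →
        Function.Bijective (F.presheaf.map (homOfLE hVU).op)) := by
  have hqF : F.IsQuasicoherent := hF.1
  have hfF : F.IsFiniteType := hF.2
  constructor
  · intro hrefl
    have hst := (isReflexive_iff_forall_isReflexiveAt F hF).1 hrefl
    refine ⟨fun x => ?_, fun U V hVU hdim => ?_⟩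
    · have : Module.IsReflexive (X.presheaf.stalk x) (F.presheaf.stalk x) := hst x
      exact isTorsionFree_of_isReflexive _ _
    · apply bijective_res_of_depth F hVU
      intro x hxU hxV
      have := hreg x
      have : Module.IsReflexive (X.presheaf.stalk x) (F.presheaf.stalk x) := hst x
      have : Module.Finite (X.presheaf.stalk x) (F.presheaf.stalk x) := finite_stalk F x
      exact two_le_depth_of_isReflexive _ (hdim x hxU hxV) _
  · rintro ⟨htf, hnorm⟩
    have hG := isCoh_ddual F hF
    have hqG : (ddual F).IsQuasicoherent := hG.1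
    -- the bijective locus
    have hopen := IsoLocus74.isOpen_bijective_locus (bidualMap F) hF hG
    let V₀ : X.Opens := ⟨{z : X | Function.Bijective (stalkMap (bidualMap F) z)}, hopen⟩
    have hsmall : ∀ x : X, x ∉ V₀ → (2 : WithBot ℕ∞) ≤ ringKrullDim (X.presheaf.stalk x) := by
      intro x hx
      by_contra hcon
      apply hx
      change Function.Bijective (stalkMap (bidualMap F) x)
      rw [← isReflexiveAt_iff_bijective F hF x]
      have := hreg x
      have hdim : ringKrullDim (X.presheaf.stalk x) ≤ 1 := by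
        have h1 : ringKrullDim (X.presheaf.stalk x) ≠ ⊥ := ringKrullDim_ne_bot
        have h2 : ringKrullDim (X.presheaf.stalk x) ≠ ⊤ := ringKrullDim_ne_top
        obtain ⟨n, hn⟩ := WithBot.ne_bot_iff_exists.1 h1
        have hntop : n ≠ ⊤ := by
          rintro rfl
          exact h2 hn.symm
        obtain ⟨d, rfl⟩ := ENat.ne_top_iff_exists.1 hntop
        rw [← hn] at hcon ⊢
        have h3 : ¬ (2 ≤ d) := fun h => hcon (by
          have h' : ((2 : ℕ∞) : WithBot ℕ∞) ≤ ((d : ℕ∞) : WithBot ℕ∞) :=
            WithBot.coe_le_coe.2 (by exact_mod_cast h)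
          exact h')
        have h4 : d ≤ 1 := by omega
        have h5 : ((d : ℕ∞) : WithBot ℕ∞) ≤ ((1 : ℕ∞) : WithBot ℕ∞) :=
          WithBot.coe_le_coe.2 (by exact_mod_cast h4)
        exact h5
      have hpid : IsPrincipalIdealRing (X.presheaf.stalk x) :=
        TFDimOne74.isPrincipalIdealRing_of_isRegularLocalRing _ hdim
      have hfin : Module.Finite (X.presheaf.stalk x) (F.presheaf.stalk x) := finite_stalk F x
      have := noZeroSMulDivisors_of_isTorsionFree _ _ (htf x)
      have hfree : Module.Free (X.presheaf.stalk x) (F.presheaf.stalk x) :=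
        Module.free_of_finite_type_torsion_free'
      change Module.IsReflexive (X.presheaf.stalk x) (F.presheaf.stalk x)
      infer_instance
    have : IsIso (bidualMap F) := by
      apply DepthIso74.isIso_of_depth_of_torsionFree (bidualMap F)
      · intro x
        have : Module.IsReflexive (X.presheaf.stalk x) ((ddual F).presheaf.stalk x) :=
          isReflexiveAt_ddual F hF x
        exact noZeroSMulDivisors_of_isTorsionFree _ _ (isTorsionFree_of_isReflexive _ _)
      · intro x
        by_cases hx : x ∈ V₀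
        · exact Or.inl hx
        · refine Or.inr ⟨?_, ?_⟩
          · apply Hartogs.two_le_depth_stalk_of_bijective F V₀ _ x hx
            intro W _
            exact hnorm W (W ⊓ V₀) inf_le_left (fun y _ hyV => hsmall y (fun h => hyV ⟨‹_›, h⟩))
          · rintro rfl
            have h2 := hsmall _ hx
            have h3 : ringKrullDim X.functionField = 0 := ringKrullDim_eq_zero_of_field _
            have h4 : ringKrullDim (X.presheaf.stalk (genericPoint X)) = 0 := h3
            rw [h4] at h2
            exact absurd h2 (by decide)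
    exact this

end Main

end Groth.Agent.Lib.QCoh.RefHull74
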