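import Groth.Agent.Lib.QCoh.Helper74_LocFreeBasis
import Groth.Agent.Lib.Helper45.FittingLocal
import Groth.Prelude.Def_Fitting
import Groth.Agent.Lib.QCoh.Helper18_StalkLoc
import Groth.Prelude.Def_CohB1
import Groth.Agent.S6891

/-!
# QCoh API (helper74): Fitting ideal sheaves of quasi-coherent modules of finite type

Namespace `Groth.Agent.Lib.QCoh.FittSheaf74`.

* `fitt_map_basicOpen` : Fitting ideals of sections commute with restriction to basic opens.
* `sheafIdeal_ideal` : `(Fitt.sheafIdeal F r).ideal U = Fitt.ideal Γ(X,U) Γ(F,U) r`.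
-/

set_option linter.style.haveILetI false
universe u
open CategoryTheory CategoryTheory.Limits AlgebraicGeometry Opposite TopologicalSpace

namespace Groth.Agent.Lib.QCoh.FittSheaf74
open Scheme.Modules Groth.Agent.Lib.QCoh Groth.Agent.Lib.Helper61.QCohSections
  Groth.Agent.Lib.Helper45.Fitting

variable {X : Scheme.{u}} (F : X.Modules) [F.IsQuasicoherent] [F.IsFiniteType]

/-- Fitting ideals of sections commute with restriction to basic opens. -/
theorem fitt_map_basicOpen {U : X.Opens} (hU : IsAffineOpen U) (f : Γ(X, U)) (r : ℕ) :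
    (Fitt.ideal Γ(X, U) Γ(F, U) r).map (X.presheaf.map (homOfLE (X.basicOpen_le f)).op).hom =
      Fitt.ideal Γ(X, X.basicOpen f) Γ(F, X.basicOpen f) r := by
  letI := resModule F (X.basicOpen_le f)
  letI := resAlgebra (X := X) (X.basicOpen_le f)
  have := isScalarTower_res F (X.basicOpen_le f)
  have : IsLocalization.Away f Γ(X, X.basicOpen f) := hU.isLocalization_basicOpen f
  have := isLocalizedModule_res_basicOpen F hU f
  have hfin : Module.Finite Γ(X, U) Γ(F, U) := finite_Γ_of_isAffineOpen hU F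
  have hbc : IsBaseChange Γ(X, X.basicOpen f) (resLinear F (X.basicOpen_le f)) :=
    IsLocalizedModule.isBaseChange (Submonoid.powers f) _ _
  exact (fitt_isBaseChange hbc r).symm

/-- The Fitting ideals as an ideal sheaf datum. -/
noncomputable def fittData (r : ℕ) : X.IdealSheafData where
  ideal U := Fitt.ideal Γ(X, U.1) Γ(F, U.1) r
  map_ideal_basicOpen U f := fitt_map_basicOpen F U.2 f r

theorem sheafIdeal_eq_fittData (r : ℕ) : Fitt.sheafIdeal F r = fittData F r :=
  Scheme.IdealSheafData.ofIdeals_ideal (fittData F r)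

/-- **The affine values of the Fitting ideal sheaf.** -/
theorem sheafIdeal_ideal (r : ℕ) (U : X.affineOpens) :
    (Fitt.sheafIdeal F r).ideal U = Fitt.ideal Γ(X, U.1) Γ(F, U.1) r := by
  rw [sheafIdeal_eq_fittData]; rfl

/-- Membership in the closed subset cut out by `Fit_r(F)`, tested on an affine open. -/
theorem mem_support_iff_le (r : ℕ) {U : X.Opens} (hU : IsAffineOpen U) {x : X} (hx : x ∈ U) :
    x ∈ (Fitt.sheafIdeal F r).support ↔
      Fitt.ideal Γ(X, U) Γ(F, U) r ≤ (hU.primeIdealOf ⟨x, hx⟩).asIdeal := by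
  rw [Scheme.IdealSheafData.mem_support_iff_of_mem (U := ⟨U, hU⟩) hx, sheafIdeal_ideal,
    Scheme.mem_zeroLocus_iff]
  constructor
  · intro h f hf
    by_contra hcon
    exact h f hf ((notMem_primeIdealOf_iff hU x hx f).1 hcon)
  · intro h f hf hxf
    exact (notMem_primeIdealOf_iff hU x hx f).2 hxf (h hf)

/-- Every point lies outside the closed subset cut out by some `Fit_r(F)`. -/
theorem exists_notMem_support (x : X) : ∃ r : ℕ, x ∉ (Fitt.sheafIdeal F r).support := by
  obtain ⟨_, ⟨U, hU, rfl⟩, hxU, -⟩ :=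
    X.isBasis_affineOpens.exists_subset_of_mem_open (Set.mem_univ x) isOpen_univ
  have hfin : Module.Finite Γ(X, U) Γ(F, U) := finite_Γ_of_isAffineOpen hU F
  obtain ⟨n, g, hg⟩ := Module.Finite.exists_fin (R := Γ(X, U)) (M := Γ(F, U))
  refine ⟨n, fun hmem => ?_⟩
  rw [mem_support_iff_le F n hU hxU, fitt_eq_top_of_span g hg] at hmem
  exact (hU.primeIdealOf ⟨x, hxU⟩).isPrime.ne_top (top_le_iff.1 hmem)

/-- The closed subset cut out by `Fit_0(F)` is the support of `F`. -/
theorem support_zero_eq : ((Fitt.sheafIdeal F 0).support : Set X) = CohB1.support F := by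
  ext x
  obtain ⟨_, ⟨U, hU, rfl⟩, hxU, -⟩ :=
    X.isBasis_affineOpens.exists_subset_of_mem_open (Set.mem_univ x) isOpen_univ
  have hfin : Module.Finite Γ(X, U) Γ(F, U) := finite_Γ_of_isAffineOpen hU F
  have h1 := (Groth.Agent.S6891.result (R := Γ(X, U)) Γ(F, U) ⊥).2.1
  have h2 : Fitt.ideal Γ(X, U) Γ(F, U) 0 ≤ (hU.primeIdealOf ⟨x, hxU⟩).asIdeal ↔
      hU.primeIdealOf ⟨x, hxU⟩ ∈ Module.support Γ(X, U) Γ(F, U) := by
    rw [← h1, PrimeSpectrum.mem_zeroLocus]; rfl
  change x ∈ (Fitt.sheafIdeal F 0).support ↔ ¬ Subsingleton (F.presheaf.stalk x)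
  rw [mem_support_iff_le F 0 hU hxU, h2, Module.mem_support_iff, not_subsingleton_iff_nontrivial]
  let _ := stalkModuleOfOpen F U x hxU
  have := isLocalizedModule_germ F hU x hxU
  let e := IsLocalizedModule.iso (hU.primeIdealOf ⟨x, hxU⟩).asIdeal.primeCompl (germₗ F U x hxU)
  exact ⟨fun h => e.symm.toEquiv.nontrivial, fun h => e.toEquiv.nontrivial⟩

end Groth.Agent.Lib.QCoh.FittSheaf74
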