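import Groth.Agent.Lib.QCoh.Helper74_FlatOver
import Groth.Agent.Lib.QCoh.Helper50_Pushforward

/-!
# QCoh API (helper74): relative flatness and pushforward along affine morphisms

* `sectionsModuleOver_pushforward`
* `isFlatOver_comp_iff_pushforward_of_isAffineHom`: for `f : X ⟶ Y` affine, `q : Y ⟶ S`, `F` qcoh on
  `X`: `F` is flat over `S` iff `f_* F` is flat over `S`.
-/

universe u
open CategoryTheory CategoryTheory.Limits AlgebraicGeometry Opposite TopologicalSpace
namespace Groth.Agent.Lib.QCoh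
open Scheme.Modules FlatMod TensorProduct

variable {X Y S : Scheme.{u}}

/-- The `Γ(S, U)`-module structures on `Γ(f_* F, V) = Γ(F, f⁻¹V)` agree. -/
theorem sectionsModuleOver_pushforward (f : X ⟶ Y) (q : Y ⟶ S) (F : X.Modules) {U : S.Opens}
    {V : Y.Opens} (e : V ≤ q ⁻¹ᵁ U) :
    sectionsModuleOver q ((Scheme.Modules.pushforward f).obj F) e =
      sectionsModuleOver (f ≫ q) F (U := U) (V := f ⁻¹ᵁ V)
        (fun _ hx => e hx) := by
  refine Module.ext' _ _ fun a (s : Γ(F, f ⁻¹ᵁ V)) => ?_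
  change (f.app V (q.appLE U V e a)) • s = ((f ≫ q).appLE U (f ⁻¹ᵁ V) _ a) • s
  congr 1
  rw [← Scheme.Hom.appLE_comp_appLE f q U V (f ⁻¹ᵁ V) e le_rfl, Scheme.Hom.appLE_eq_app]
  rfl

theorem isFlatOver_comp_iff_pushforward_of_isAffineHom (f : X ⟶ Y) [IsAffineHom f] (q : Y ⟶ S)
    (F : X.Modules) [F.IsQuasicoherent] :
    IsFlatOver (f ≫ q) F ↔ IsFlatOver q ((Scheme.Modules.pushforward f).obj F) := by
  have := isQuasicoherent_pushforward_of_isAffineHom f F
  constructor
  · intro h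
    rw [isFlatOver_iff_forall_affine]
    intro V U e hV hU
    rw [sectionsModuleOver_pushforward]
    exact flat_Γ_of_forall_isFlatOverAt (f ≫ q) F _ hU (hV.preimage f) fun y _ => h y
  · intro h x
    obtain ⟨_, ⟨U, hU : IsAffineOpen U, rfl⟩, hxU, -⟩ :=
      (S.isBasis_affineOpens).exists_subset_of_mem_open (Set.mem_univ (q (f x))) isOpen_univ
    obtain ⟨_, ⟨V, hV : IsAffineOpen V, rfl⟩, hxV, hVU⟩ :=
      (Y.isBasis_affineOpens).exists_subset_of_mem_open (show f x ∈ q ⁻¹ᵁ U from hxU) (q ⁻¹ᵁ U).2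
    have h1 := flat_Γ_of_forall_isFlatOverAt q ((Scheme.Modules.pushforward f).obj F) hVU hU hV
      fun y _ => h y
    rw [sectionsModuleOver_pushforward] at h1
    exact isFlatOverAt_of_flat_Γ (f ≫ q) F _ hU (hV.preimage f) x hxV h1

end Groth.Agent.Lib.QCoh
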