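import Groth.Prelude.Def_Formal
import Groth.Agent.Lib.Helper32.TorsSys
import Groth.Agent.Lib.QCoh.Helper74_FittComap

/-!
# Pullback of coherent formal modules (helper74; S0835)

Namespace `Groth.Agent.Lib.QCoh.FormalPull74`.  `f : X ⟶ Y` a morphism of schemes over `Spec A`.

* `pushforward_map_smulMod`, `pullback_map_smulMod` : `f_*` and `f^*` are `A`-linear (`Formal.smulMod`).
* `killedBy_pullback`, `isQuot_pullback` (helper32's `TorsSys.IsQuot`): `f^*` preserves `M/JM`.
* `isCohFormal_pullback` : S0835.
-/

set_option linter.style.haveILetI false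
universe u
open CategoryTheory CategoryTheory.Limits AlgebraicGeometry Opposite TopologicalSpace

namespace Groth.Agent.Lib.QCoh.FormalPull74

open Formal Groth.Agent.Lib.Helper32.TorsSys Groth.Agent.Lib.QCoh

variable {A : Type u} [CommRing A] {X Y : Scheme.{u}} [X.Over (Spec (CommRingCat.of A))]
  [Y.Over (Spec (CommRingCat.of A))] (f : X ⟶ Y)
  (hf : f ≫ (Y ↘ Spec (CommRingCat.of A)) = X ↘ Spec (CommRingCat.of A))

include hf in
theorem toGlobal_eq (a : A) :
    Coh.toGlobal (X ↘ Spec (CommRingCat.of A)) a =
      (f.appTop).hom (Coh.toGlobal (Y ↘ Spec (CommRingCat.of A)) a) := by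
  unfold Coh.toGlobal
  rw [← hf, Scheme.Hom.comp_appTop]
  rfl

include hf in
theorem pushforward_map_smulMod (N : X.Modules) (a : A) :
    (Scheme.Modules.pushforward f).map (smulMod A N a) =
      smulMod A ((Scheme.Modules.pushforward f).obj N) a := by
  apply SheafOfModules.hom_ext
  apply PresheafOfModules.hom_ext
  intro U
  ext m
  have hsc : (show Γ(X, f ⁻¹ᵁ U.unop) from
      Coh.resTop X (op (f ⁻¹ᵁ U.unop)) (Coh.toGlobal (X ↘ Spec (CommRingCat.of A)) a)) =
      (f.app U.unop).hom (Coh.resTop Y U (Coh.toGlobal (Y ↘ Spec (CommRingCat.of A)) a)) := by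
    rw [toGlobal_eq f hf a]
    have := f.naturality (homOfLE (le_top : U.unop ≤ ⊤)).op
    exact congr($(this).hom (Coh.toGlobal (Y ↘ Spec (CommRingCat.of A)) a)).symm
  exact congrArg (fun r : Γ(X, f ⁻¹ᵁ U.unop) => r • (show Γ(N, f ⁻¹ᵁ U.unop) from m)) hsc

include hf in
theorem pullback_map_smulMod (M : Y.Modules) (a : A) :
    (Scheme.Modules.pullback f).map (smulMod A M a) =
      smulMod A ((Scheme.Modules.pullback f).obj M) a := by
  let adj := Scheme.Modules.pullbackPushforwardAdjunction f
  apply (adj.homEquiv _ _).injective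
  have e1 : smulMod A M a ≫ adj.unit.app M = adj.unit.app M ≫
      smulMod A ((Scheme.Modules.pushforward f).obj ((Scheme.Modules.pullback f).obj M)) a :=
    smulMod_naturality (adj.unit.app M) a
  rw [adj.homEquiv_unit, adj.homEquiv_unit, pushforward_map_smulMod f hf, ← e1]
  exact (adj.unit.naturality (smulMod A M a)).symm

include hf in
theorem killedBy_pullback {J : Ideal A} {M : Y.Modules} (h : KilledBy J M) :
    KilledBy J ((Scheme.Modules.pullback f).obj M) := by
  intro a ha
  rw [← pullback_map_smulMod f hf, h a ha, Functor.map_zero]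

include hf in
theorem isQuot_pullback {J : Ideal A} {P Q : Y.Modules} {t : P ⟶ Q} (ht : IsQuot J t) :
    IsQuot J ((Scheme.Modules.pullback f).map t) := by
  obtain ⟨h1, h2, h3⟩ := ht
  let adj := Scheme.Modules.pullbackPushforwardAdjunction f
  refine ⟨inferInstance, ?_, ?_⟩
  · intro a ha
    rw [← pullback_map_smulMod f hf, ← Functor.map_comp, h2 a ha, Functor.map_zero]
  · intro T k hk
    obtain ⟨k', hk'⟩ := h3 ((Scheme.Modules.pushforward f).obj T) (adj.homEquiv _ _ k) (by
      intro a ha
      have e1 : smulMod A P a ≫ adj.unit.app P = adj.unit.app P ≫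
          smulMod A ((Scheme.Modules.pushforward f).obj ((Scheme.Modules.pullback f).obj P)) a :=
        smulMod_naturality (adj.unit.app P) a
      rw [adj.homEquiv_unit, ← Category.assoc, e1, Category.assoc,
        ← pushforward_map_smulMod f hf, ← Functor.map_comp, hk a ha, Functor.map_zero,
        comp_zero])
    refine ⟨(adj.homEquiv _ _).symm k', ?_⟩
    apply (adj.homEquiv _ _).injective
    rw [adj.homEquiv_naturality_left, Equiv.apply_symm_apply, hk']

include hf in
/-- **S0835.** The componentwise pullback of a coherent formal module is a coherent formal module. -/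
theorem isCohFormal_pullback (I : Ideal A) (G : ℕᵒᵖ ⥤ Y.Modules) (hG : Formal.IsCohFormal I G) :
    Formal.IsCohFormal I (G ⋙ Scheme.Modules.pullback f) := by
  obtain ⟨h1, h2, h3⟩ := hG
  refine ⟨fun n => ?_, fun n => ?_, fun n => ?_⟩
  · have hq : (G.obj (op n)).IsQuasicoherent := (h1 n).1
    have hft : (G.obj (op n)).IsFiniteType := (h1 n).2
    exact ⟨isQuasicoherent_pullback f _, FittSheaf74.isFiniteType_pullback f _⟩
  · exact killedBy_pullback f hf (h2 n)
  · obtain ⟨h0, hiso⟩ := h3 n
    exact (isQuot_pullback f hf (isQuot_of_isIso _ _ h0 hiso)).exists_isIso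

end Groth.Agent.Lib.QCoh.FormalPull74
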