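import Groth.Agent.Lib.QCoh.Helper74_FittFree
import Groth.Agent.Lib.QCoh.Helper18_Ass
import Groth.Agent.Lib.QCoh.Helper18_PullbackSupport
import Groth.Agent.Lib.Helper45.FibreDim

/-!
# QCoh API (helper74): generic freeness of finite type quasi-coherent modules on integral schemes

Namespace `Groth.Agent.Lib.QCoh.FittSheaf74`.
-/

set_option linter.style.haveILetI false
universe u
open CategoryTheory CategoryTheory.Limits AlgebraicGeometry Opposite TopologicalSpace

namespace Groth.Agent.Lib.QCoh.FittSheaf74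
open Scheme.Modules FlatMod Groth.Agent.Lib.QCoh Groth.Agent.Lib.Helper61.QCohSections
  Groth.Agent.Lib.Helper45.Fitting

variable {X : Scheme.{u}} (F : X.Modules) [F.IsQuasicoherent]

/-- A basis of `Γ(F, D)` over an affine open `D` trivialises `F|_D`. -/
theorem exists_iso_of_basis {D : X.Opens} (hD : IsAffineOpen D) {r : ℕ}
    (b : Module.Basis (Fin r) Γ(X, D) Γ(F, D)) :
    Nonempty (F.restrict D.ι ≅ FlatMod.freeMod (↑D) r) := by
  let L := restrictSpec hD F
  let b' : Module.Basis (Fin r) Γ(X, D) Γ(restrictSpec hD F, ⊤) :=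
    b.map (ΓrestrictSpecLinearEquiv hD F).symm
  let b'' : Module.Basis (Fin r) Γ(X, D) (moduleSpecΓFunctor.obj L) := b'
  let e0 : L ≅ FlatMod.freeMod (Spec Γ(X, D)) r :=
    (tildeΓIso L).symm ≪≫ tildeIsoFreeModOfBasis b''
  let e1 : L.restrict hD.isoSpec.hom ≅ F.restrict D.ι :=
    ((restrictFunctorComp hD.isoSpec.hom hD.fromSpec).app F).symm ≪≫
      (restrictFunctorCongr hD.isoSpec_hom_fromSpec).app F
  exact ⟨e1.symm ≪≫ (restrictFunctor hD.isoSpec.hom).mapIso e0 ≪≫
    restrictFreeModIso hD.isoSpec.hom r⟩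

/-- **Generic freeness**: a quasi-coherent module of finite type on an integral scheme is free,
of rank the dimension of its generic stalk, on a nonempty open. -/
theorem exists_open_free [IsIntegral X] [F.IsFiniteType] :
    ∃ U : X.Opens, (U : Set X).Nonempty ∧
      Nonempty (F.restrict U.ι ≅ FlatMod.freeMod (↑U)
        (Module.finrank (X.presheaf.stalk (genericPoint X))
          (F.presheaf.stalk (genericPoint X)))) := by
  set η := genericPoint X with hη
  obtain ⟨_, ⟨V, hV, rfl⟩, hηV, -⟩ :=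
    X.isBasis_affineOpens.exists_subset_of_mem_open (Set.mem_univ η) isOpen_univ
  obtain ⟨r, hr⟩ : ∃ r : ℕ, r = Module.finrank (X.presheaf.stalk η) (F.presheaf.stalk η) :=
    ⟨_, rfl⟩
  rw [← hr]
  -- the stalk as a base change
  letI := stalkModuleOfOpen F V η hηV
  letI : Algebra Γ(X, V) (X.presheaf.stalk η) :=
    TopCat.Presheaf.algebra_section_stalk X.presheaf ⟨η, hηV⟩
  have := hV.isLocalization_stalk ⟨η, hηV⟩
  have := isScalarTower_stalk F V η hηV
  have := isLocalizedModule_germ F hV η hηV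
  have hfinM : Module.Finite Γ(X, V) Γ(F, V) := finite_Γ_of_isAffineOpen hV F
  have hfinN : Module.Finite (X.presheaf.stalk η) (F.presheaf.stalk η) := finite_stalk F η
  have hBC : IsBaseChange (X.presheaf.stalk η) (germₗ F V η hηV) :=
    IsLocalizedModule.isBaseChange (hV.primeIdealOf ⟨η, hηV⟩).asIdeal.primeCompl _ _
  have hfitt : ∀ k : ℕ, Fitt.ideal (X.presheaf.stalk η) (F.presheaf.stalk η) k =
      (Fitt.ideal Γ(X, V) Γ(F, V) k).map (algebraMap Γ(X, V) (X.presheaf.stalk η)) :=
    fun k => fitt_isBaseChange hBC k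
  have hinj : Function.Injective (algebraMap Γ(X, V) (X.presheaf.stalk η)) :=
    germ_injective_of_isIntegral X η hηV
  -- `Fit_r` is not contained in the prime of `η`
  have htop : Fitt.ideal (X.presheaf.stalk η) (F.presheaf.stalk η) r = ⊤ :=
    (fitt_eq_top_iff_finrank_le (K := X.presheaf.stalk η) (F.presheaf.stalk η) r).2 hr.ge
  have hnot : ¬ Fitt.ideal Γ(X, V) Γ(F, V) r ≤ (hV.primeIdealOf ⟨η, hηV⟩).asIdeal := by
    intro hle
    have h1 : (Fitt.ideal Γ(X, V) Γ(F, V) r).map (algebraMap Γ(X, V) (X.presheaf.stalk η)) ≤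
        IsLocalRing.maximalIdeal (X.presheaf.stalk η) := by
      rw [Ideal.map_le_iff_le_comap]
      intro a ha
      exact (IsLocalization.AtPrime.to_map_mem_maximal_iff (X.presheaf.stalk η)
        (hV.primeIdealOf ⟨η, hηV⟩).asIdeal a).2 (hle ha)
    rw [← hfitt r, htop] at h1
    exact (IsLocalRing.maximalIdeal.isMaximal _).ne_top (top_le_iff.1 h1)
  obtain ⟨g, hηg, t, ht⟩ := exists_basicOpen_span F hV hηV r hnot
  refine ⟨X.basicOpen g, ⟨η, hηg⟩, ?_⟩
  refine exists_iso_of_basis F (hV.basicOpen g) ?_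
  rcases r with _ | r'
  · exact Module.Basis.mk (v := t) linearIndependent_empty_type (by rw [ht])
  · -- `Fit_{r'}` vanishes
    have hlt : ¬ Module.finrank (X.presheaf.stalk η) (F.presheaf.stalk η) ≤ r' := by
      rw [← hr]; exact Nat.not_succ_le_self r'
    have hne : Fitt.ideal (X.presheaf.stalk η) (F.presheaf.stalk η) r' ≠ ⊤ := fun h =>
      hlt ((fitt_eq_top_iff_finrank_le (K := X.presheaf.stalk η) (F.presheaf.stalk η) r').1 h)
    have hbotK : Fitt.ideal (X.presheaf.stalk η) (F.presheaf.stalk η) r' = ⊥ :=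
      (Ideal.eq_bot_or_top _).resolve_right hne
    have hbotR : Fitt.ideal Γ(X, V) Γ(F, V) r' = ⊥ := by
      rw [hfitt r', Ideal.map_eq_bot_iff_of_injective hinj] at hbotK
      exact hbotK
    have hbot : Fitt.ideal Γ(X, X.basicOpen g) Γ(F, X.basicOpen g) r' = ⊥ := by
      rw [← fitt_map_basicOpen F hV g r', hbotR, Ideal.map_bot]
    exact Module.Basis.mk (linearIndependent_of_fitt_eq_bot t ht hbot) (by rw [ht])

end Groth.Agent.Lib.QCoh.FittSheaf74
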