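import Groth.Agent.Lib.QCoh.Helper18_PullbackStalk

/-!
# QCoh API (helper74): generic rank of a pullback along a dominant morphism of integral schemes

Namespace `Groth.Agent.Lib.QCoh.GenericRank74`.
-/

set_option linter.style.haveILetI false
universe u
open CategoryTheory CategoryTheory.Limits AlgebraicGeometry Opposite TopologicalSpace TensorProduct

namespace Groth.Agent.Lib.QCoh.GenericRank74
open Scheme.Modules Groth.Agent.Lib.QCoh

variable {X S : Scheme.{u}} (f : X ⟶ S)

/-- If the stalk of `S` at `f x` is a field, the rank of the stalk of `f^*G` at `x` is the rank
of the stalk of `G` at `f x`. -/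
theorem rank_stalk_pullback (G : S.Modules) [G.IsQuasicoherent] (x : X)
    (hK : IsField (S.presheaf.stalk (f x))) :
    Module.rank (X.presheaf.stalk x) (((Scheme.Modules.pullback f).obj G).presheaf.stalk x) =
      Module.rank (S.presheaf.stalk (f x)) (G.presheaf.stalk (f x)) := by
  letI : Algebra (S.presheaf.stalk (f x)) (X.presheaf.stalk x) := (f.stalkMap x).hom.toAlgebra
  obtain ⟨e⟩ := nonempty_stalk_pullback_linearEquiv f G x
  letI : Field (S.presheaf.stalk (f x)) := hK.toField
  rw [e.rank_eq, Module.rank_baseChange, Cardinal.lift_id]

/-- A dominant morphism of integral schemes maps the generic point to the generic point. -/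
lemma map_genericPoint_of_isDominant [IsIntegral X] [IsIntegral S] [IsDominant f] :
    f.base (genericPoint X) = genericPoint S := by
  apply ((genericPoint_spec S).eq _).symm
  have h := (genericPoint_spec X).image f.continuous
  rwa [Set.image_univ, f.denseRange.closure_range] at h

/-- **The generic rank of `f^*G` equals the generic rank of `G`.** -/
theorem rank_pullback_genericPoint [IsIntegral X] [IsIntegral S] [IsDominant f] (G : S.Modules)
    [G.IsQuasicoherent] :
    Module.rank (X.presheaf.stalk (genericPoint X))
        (((Scheme.Modules.pullback f).obj G).presheaf.stalk (genericPoint X)) =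
      Module.rank (S.presheaf.stalk (genericPoint S)) (G.presheaf.stalk (genericPoint S)) := by
  have h := map_genericPoint_of_isDominant f
  have key : ∀ (y : S) (_ : f.base (genericPoint X) = y),
      Module.rank (S.presheaf.stalk (f.base (genericPoint X)))
        (G.presheaf.stalk (f.base (genericPoint X))) =
      Module.rank (S.presheaf.stalk y) (G.presheaf.stalk y) := by
    rintro _ rfl; rfl
  have hK : IsField (S.presheaf.stalk (f.base (genericPoint X))) := by
    rw [h]; exact Field.toIsField S.functionField
  rw [rank_stalk_pullback f G (genericPoint X) hK]
  exact key _ h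

end Groth.Agent.Lib.QCoh.GenericRank74
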