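import Groth.Agent.Lib.QCoh.Helper74_LocFreeRank
import Mathlib.AlgebraicGeometry.Morphisms.QuasiFinite

/-!
# QCoh API (helper74): locally free modules of rank `r` and finite morphisms

* `exists_triv_preimage_of_isFinite` : for `f : X' ⟶ X` finite, a module of rank `r` on `X'` is trivial
  over `f⁻¹U` for a neighbourhood `U` of any given point of `X`.
-/

universe u
open CategoryTheory CategoryTheory.Limits AlgebraicGeometry Opposite TopologicalSpace
namespace Groth.Agent.Lib.QCoh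
open Scheme.Modules FlatMod TensorProduct

variable {X' X : Scheme.{u}}

/-- For a finite morphism `f : X' ⟶ X`, a module of rank `r` on `X'` is trivial over the preimage of
a neighbourhood of any point of `X`. -/
theorem exists_triv_preimage_of_isFinite (f : X' ⟶ X) [IsFinite f] {r : ℕ} {F : X'.Modules}
    (hF : IsFinLocFreeOfRank r F) (x : X) :
    ∃ U : X.Opens, x ∈ U ∧
      Nonempty (F.restrict (f ⁻¹ᵁ U).ι ≅ FlatMod.freeMod (↑(f ⁻¹ᵁ U)) r) := by
  obtain ⟨_, ⟨V, hV : IsAffineOpen V, rfl⟩, hxV, -⟩ :=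
    X.isBasis_affineOpens.exists_subset_of_mem_open (Set.mem_univ x) isOpen_univ
  have hV' : IsAffineOpen (f ⁻¹ᵁ V) := hV.preimage f
  have hZ : (f ⁻¹' {x}).Finite := f.finite_preimage_singleton x
  have hZV : f ⁻¹' {x} ⊆ ((f ⁻¹ᵁ V : X'.Opens) : Set X') := by
    intro z hz
    have hz' : f z = x := hz
    change f z ∈ V
    rw [hz']
    exact hxV
  obtain ⟨U', hZU', hU'V, ⟨i⟩⟩ := exists_triv_of_finite_subset_affine hF hZ hV' hZV
  have hC : IsClosed (f '' ((U' : Set X')ᶜ)) := f.isClosedMap _ U'.isOpen.isClosed_compl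
  let U : X.Opens := ⟨(f '' ((U' : Set X')ᶜ))ᶜ, hC.isOpen_compl⟩
  have hxU : x ∈ U := by
    rintro ⟨z, hz, hzx⟩
    exact hz (hZU' hzx)
  have hle : f ⁻¹ᵁ U ≤ U' := by
    intro z hz
    by_contra h
    exact hz ⟨z, h, rfl⟩
  refine ⟨U, hxU, ⟨trivOfRangeSubset (f ⁻¹ᵁ U).ι ?_ i⟩⟩
  rw [Scheme.Opens.range_ι]
  exact hle

end Groth.Agent.Lib.QCoh
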