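import Groth.Agent.Lib.QCoh.Helper74_NormProps
import Groth.Agent.Lib.Helper7.BiratIso

/-!
# QCoh API (helper74): the field norm on a finite surjective morphism onto a normal integral scheme

Namespace `Groth.Agent.Lib.QCoh.NormInt74`.
-/

set_option linter.style.haveILetI false
universe u
open CategoryTheory CategoryTheory.Limits AlgebraicGeometry Opposite TopologicalSpace

namespace Groth.Agent.Lib.QCoh.NormInt74
open Scheme.Modules Groth.Agent.Lib.QCoh

section Field
open Polynomial IsScalarTower IntermediateField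

variable {B K L : Type*} [CommRing B] [Field K] [Field L] [Algebra B K] [Algebra K L]
  [Algebra B L] [IsScalarTower B K L] [FiniteDimensional K L]

/-- For `x ≠ 0` integral over `B`, the element `x⁻¹ N_{L/K}(x)` is integral over `B`. -/
theorem isIntegral_inv_mul_norm {x : L} (hx : IsIntegral B x) (hx0 : x ≠ 0) :
    IsIntegral B (x⁻¹ * algebraMap K L (Algebra.norm K x)) := by
  classical
  let E := AlgebraicClosure L
  have hinj : Function.Injective (algebraMap L E) := (algebraMap L E).injective
  rw [← isIntegral_algHom_iff (toAlgHom B L E) hinj, coe_toAlgHom', map_mul, map_inv₀,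
    ← algebraMap_apply, Algebra.norm_eq_prod_roots _ (IsAlgClosed.splits _),
    ← Multiset.prod_erase (a := algebraMap L E x)]
  · have hpos : Module.finrank K⟮x⟯ L ≠ 0 := Nat.pos_iff_ne_zero.1 Module.finrank_pos
    rw [mul_pow, ← mul_pow_sub_one hpos (algebraMap L E x), mul_assoc, inv_mul_cancel_left₀]
    · refine IsIntegral.mul (IsIntegral.pow ?_ _)
        (IsIntegral.pow (IsIntegral.multiset_prod (fun a ha ↦ ⟨minpoly B x, minpoly.monic hx, ?_⟩)) _)
      · exact hx.map (toAlgHom B L E)
      · replace ha := Multiset.erase_subset _ _ ha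
        suffices (aeval a) ((minpoly B x).map (algebraMap B K)) = 0 by simpa
        obtain ⟨P, hP⟩ := minpoly.dvd K x
          (show aeval x ((minpoly B x).map (algebraMap B K)) = 0 by simp)
        simp [hP, aeval_mul, (mem_aroots'.mp ha).2]
    · exact (map_ne_zero_iff _ hinj).mpr hx0
  · simp only [mem_roots', ne_eq, Polynomial.map_eq_zero, IsRoot.def, eval_map_algebraMap]
    refine ⟨minpoly.ne_zero (Algebra.IsIntegral.isIntegral (R := K) x), ?_⟩
    simp [aeval_algebraMap_apply]

end Field

section Ring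
open Polynomial

/-- If `c` is integral over `A` and `n' = a c` in `L`, then a power of `n'` is a multiple of `a`. -/
theorem pow_mem_span_of_isIntegral {A L : Type*} [CommRing A] [CommRing L] [Algebra A L]
    (hinj : Function.Injective (algebraMap A L)) (a n' : A) (c : L) (hc : IsIntegral A c)
    (h : algebraMap A L n' = algebraMap A L a * c) : ∃ n : ℕ, n' ^ n ∈ Ideal.span {a} := by
  obtain ⟨p, hpm, hp⟩ := hc
  have hp' : aeval c p = 0 := hp
  have h1 : aeval (algebraMap A L n') (scaleRoots p a) = 0 := by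
    rw [h]; exact scaleRoots_aeval_eq_zero hp'
  rw [aeval_algebraMap_apply] at h1
  have h2 : (scaleRoots p a).eval n' = 0 := by
    apply hinj
    rw [map_zero]
    simpa using h1
  refine ⟨p.natDegree, ?_⟩
  have hmon : (scaleRoots p a).Monic := (monic_scaleRoots_iff a).2 hpm
  rw [eval_eq_sum_range, natDegree_scaleRoots, Finset.sum_range_succ] at h2
  have h3 : (scaleRoots p a).coeff p.natDegree = 1 := by
    have := hmon.coeff_natDegree
    rwa [natDegree_scaleRoots] at this
  rw [h3, one_mul] at h2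
  have h4 : n' ^ p.natDegree =
      -∑ i ∈ Finset.range p.natDegree, (scaleRoots p a).coeff i * n' ^ i := by
    rw [eq_neg_iff_add_eq_zero, add_comm]; exact h2
  rw [h4]
  refine neg_mem (Ideal.sum_mem _ fun i hi => ?_)
  rw [coeff_scaleRoots]
  have hi' : 0 < p.natDegree - i := Nat.sub_pos_of_lt (Finset.mem_range.1 hi)
  exact Ideal.mul_mem_right _ _ (Ideal.mul_mem_left _ _
    (Ideal.pow_mem_of_mem _ (Ideal.mem_span_singleton_self a) _ hi'))

/-- The integral norm: existence of `N(a) ∈ B` with its two key properties. -/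
theorem exists_norm_elt {B A K L : Type*} [CommRing B] [IsDomain B] [IsIntegrallyClosed B]
    [CommRing A] [Algebra B A] [Algebra.IsIntegral B A] [Field K] [Field L] [Algebra B K]
    [IsFractionRing B K] [Algebra A L] [Algebra K L] [Algebra B L] [IsScalarTower B K L]
    [IsScalarTower B A L] [FiniteDimensional K L] (hinj : Function.Injective (algebraMap A L))
    (a : A) :
    ∃ b : B, algebraMap B K b = Algebra.norm K (algebraMap A L a) ∧
      ∃ n : ℕ, (algebraMap B A b) ^ n ∈ Ideal.span {a} := by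
  have ha : IsIntegral B (algebraMap A L a) :=
    (Algebra.IsIntegral.isIntegral (R := B) a).map (IsScalarTower.toAlgHom B A L)
  have hN : IsIntegral B (Algebra.norm K (algebraMap A L a)) := Algebra.isIntegral_norm K ha
  obtain ⟨b, hb⟩ := IsIntegrallyClosed.algebraMap_eq_of_integral hN
  refine ⟨b, hb, ?_⟩
  by_cases h0 : a = 0
  · subst h0
    rw [map_zero, Algebra.norm_zero] at hb
    have hb0 : b = 0 := IsFractionRing.injective B K (by rw [hb, map_zero])
    exact ⟨1, by rw [hb0, map_zero, pow_one]; exact Ideal.zero_mem _⟩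
  · have hne : algebraMap A L a ≠ 0 := (map_ne_zero_iff _ hinj).2 h0
    have hc := isIntegral_inv_mul_norm (B := B) (K := K) ha hne
    have hcA : IsIntegral A ((algebraMap A L a)⁻¹ *
        algebraMap K L (Algebra.norm K (algebraMap A L a))) := hc.tower_top
    refine pow_mem_span_of_isIntegral hinj a (algebraMap B A b) _ hcA ?_
    rw [mul_inv_cancel_left₀ hne, ← hb, ← IsScalarTower.algebraMap_apply,
      ← IsScalarTower.algebraMap_apply]

end Ring

section Scheme

variable {X Y : Scheme.{u}} (π : X ⟶ Y) [IsIntegral X] [IsIntegral Y]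

/-- A surjective morphism of integral schemes maps the generic point to the generic point. -/
lemma map_genericPoint (hs : Function.Surjective π.base) :
    π.base (genericPoint X) = genericPoint Y := by
  apply ((genericPoint_spec Y).eq _).symm
  have h := (genericPoint_spec X).image π.continuous
  rwa [Set.image_univ, hs.range_eq, closure_univ] at h

variable (hs : Function.Surjective π.base)

/-- The map of function fields. -/
noncomputable def ffMap : Y.functionField ⟶ X.functionField :=
  Y.presheaf.stalkSpecializes (specializes_of_eq (map_genericPoint π hs)) ≫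
    π.stalkMap (genericPoint X)

/-- The algebra structure of function fields. -/
@[reducible] noncomputable def ffAlgebra : Algebra Y.functionField X.functionField :=
  (ffMap π hs).hom.toAlgebra

lemma mem_of_nonempty (W : Y.Opens) [h : Nonempty W] : genericPoint Y ∈ W :=
  ((genericPoint_spec Y).mem_open_set_iff W.isOpen).mpr (by simpa using h)

include hs in
lemma mem_preimage_of_nonempty (W : Y.Opens) [Nonempty W] : genericPoint X ∈ π ⁻¹ᵁ W := by
  change π.base (genericPoint X) ∈ W
  rw [map_genericPoint π hs]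
  exact mem_of_nonempty W

lemma ffMap_germ (W : Y.Opens) [Nonempty W] (b : Γ(Y, W)) :
    ffMap π hs (Y.presheaf.germ W (genericPoint Y) (mem_of_nonempty W) b) =
      X.presheaf.germ (π ⁻¹ᵁ W) (genericPoint X) (mem_preimage_of_nonempty π hs W)
        (π.app W b) := by
  have h1 := TopCat.Presheaf.germ_stalkSpecializes_apply Y.presheaf (mem_of_nonempty W)
    (specializes_of_eq (map_genericPoint π hs)) b
  change π.stalkMap (genericPoint X) (Y.presheaf.stalkSpecializes _ _) = _
  rw [h1]
  exact Scheme.Hom.germ_stalkMap_apply π W (genericPoint X) _ b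

/-- The field norm `K(X) → K(Y)`. -/
noncomputable def fieldNorm : X.functionField →* Y.functionField :=
  letI := ffAlgebra π hs
  Algebra.norm Y.functionField

/-- The degree `[K(X) : K(Y)]`. -/
noncomputable def ffDeg : ℕ :=
  letI := ffAlgebra π hs
  Module.finrank Y.functionField X.functionField

variable [IsFinite π]

include hs in
/-- Local analysis over a nonempty affine open `W` of `Y`. -/
theorem local_main (hY : Pi1.IsNormalScheme Y) (W : Y.Opens) (hW : IsAffineOpen W) [Nonempty W] :
    (letI := ffAlgebra π hs; Module.Finite Y.functionField X.functionField) ∧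
    ∀ s : Γ(X, π ⁻¹ᵁ W), ∃ b : Γ(Y, W),
      Y.presheaf.germ W (genericPoint Y) (mem_of_nonempty W) b =
        fieldNorm π hs (X.presheaf.germ (π ⁻¹ᵁ W) (genericPoint X)
          (mem_preimage_of_nonempty π hs W) s) ∧
      ∃ n : ℕ, (π.app W b) ^ n ∈ Ideal.span {s} := by
  have hne' : Nonempty (π ⁻¹ᵁ W : X.Opens) := ⟨⟨genericPoint X, mem_preimage_of_nonempty π hs W⟩⟩
  have hW' : IsAffineOpen (π ⁻¹ᵁ W) := hW.preimage π
  letI := ffAlgebra π hs
  letI := Norm74.secAlgebra π W
  letI : Algebra Γ(Y, W) X.functionField :=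
    ((algebraMap Y.functionField X.functionField).comp
      (algebraMap Γ(Y, W) Y.functionField)).toAlgebra
  have t1 : IsScalarTower Γ(Y, W) Y.functionField X.functionField :=
    .of_algebraMap_eq fun _ => rfl
  have t2 : IsScalarTower Γ(Y, W) Γ(X, π ⁻¹ᵁ W) X.functionField :=
    .of_algebraMap_eq fun b => ffMap_germ π hs W b
  have hfr : IsFractionRing Γ(Y, W) Y.functionField :=
    functionField_isFractionRing_of_isAffineOpen Y W hW
  have hfr' : IsFractionRing Γ(X, π ⁻¹ᵁ W) X.functionField :=
    functionField_isFractionRing_of_isAffineOpen X (π ⁻¹ᵁ W) hW'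
  have hic : IsIntegrallyClosed Γ(Y, W) :=
    Groth.Agent.Lib.Helper7.BiratIso.isIntegrallyClosed_sections_of_isNormalScheme hY W hW
  have hfin : Module.Finite Γ(Y, W) Γ(X, π ⁻¹ᵁ W) := π.finite_app W hW
  have hint : Algebra.IsIntegral Γ(Y, W) Γ(X, π ⁻¹ᵁ W) := inferInstance
  have hinjA : Function.Injective (algebraMap Γ(X, π ⁻¹ᵁ W) X.functionField) :=
    X.germToFunctionField_injective (π ⁻¹ᵁ W)
  have hinjB : Function.Injective (algebraMap Γ(Y, W) Γ(X, π ⁻¹ᵁ W)) := by
    intro b b' hbb'
    have h1 : algebraMap Γ(Y, W) X.functionField b = algebraMap Γ(Y, W) X.functionField b' := by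
      rw [IsScalarTower.algebraMap_apply Γ(Y, W) Γ(X, π ⁻¹ᵁ W) X.functionField, hbb',
        ← IsScalarTower.algebraMap_apply]
    rw [IsScalarTower.algebraMap_apply Γ(Y, W) Y.functionField X.functionField,
      IsScalarTower.algebraMap_apply Γ(Y, W) Y.functionField X.functionField] at h1
    exact Y.germToFunctionField_injective W
      ((algebraMap Y.functionField X.functionField).injective h1)
  have hfaith : FaithfulSMul Γ(Y, W) Γ(X, π ⁻¹ᵁ W) :=
    (faithfulSMul_iff_algebraMap_injective _ _).2 hinjB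
  have hfd : Module.Finite Y.functionField X.functionField :=
    Module.Finite.of_isLocalization Γ(Y, W) Γ(X, π ⁻¹ᵁ W) (nonZeroDivisors Γ(Y, W))
  refine ⟨hfd, fun s => ?_⟩
  exact exists_norm_elt (B := Γ(Y, W)) (A := Γ(X, π ⁻¹ᵁ W)) (K := Y.functionField)
    (L := X.functionField) hinjA s

/-- Good opens: nonempty affine opens. -/
def Good (W : Y.Opens) : Prop := IsAffineOpen W ∧ Nonempty W

lemma exists_good (V : Y.Opens) (y : Y) (hy : y ∈ V) :
    ∃ W : Y.Opens, Good W ∧ y ∈ W ∧ W ≤ V := by
  obtain ⟨_, ⟨W, hW, rfl⟩, hyW, hWV⟩ := Y.isBasis_affineOpens.exists_subset_of_mem_open hy V.2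
  exact ⟨W, ⟨hW, ⟨⟨y, hyW⟩⟩⟩, hyW, hWV⟩

/-- The local integral norm. -/
noncomputable def nmLoc (hY : Pi1.IsNormalScheme Y) (W : Y.Opens) (hW : Good (Y := Y) W)
    (s : Γ(Norm74.PM π, W)) : Γ(Coh.structureModule Y, W) :=
  haveI := hW.2
  Classical.choose ((local_main π hs hY W hW.1).2 s)

lemma germ_nmLoc (hY : Pi1.IsNormalScheme Y) (W : Y.Opens) (hW : Good (Y := Y) W)
    (s : Γ(X, π ⁻¹ᵁ W)) :
    haveI := hW.2
    Y.presheaf.germ W (genericPoint Y) (mem_of_nonempty W) (nmLoc π hs hY W hW s) =
      fieldNorm π hs (X.presheaf.germ (π ⁻¹ᵁ W) (genericPoint X)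
        (mem_preimage_of_nonempty π hs W) s) :=
  haveI := hW.2
  (Classical.choose_spec ((local_main π hs hY W hW.1).2 s)).1

lemma pow_nmLoc_mem (hY : Pi1.IsNormalScheme Y) (W : Y.Opens) (hW : Good (Y := Y) W)
    (s : Γ(X, π ⁻¹ᵁ W)) : ∃ n : ℕ, (π.app W (nmLoc π hs hY W hW s)) ^ n ∈ Ideal.span {s} :=
  haveI := hW.2
  (Classical.choose_spec ((local_main π hs hY W hW.1).2 s)).2

/-- Characterisation of the local norm by its germ at the generic point. -/
lemma nmLoc_eq (hY : Pi1.IsNormalScheme Y) (W : Y.Opens) (hW : Good (Y := Y) W)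
    (s : Γ(X, π ⁻¹ᵁ W)) (b : Γ(Y, W))
    (hb : haveI := hW.2
      Y.presheaf.germ W (genericPoint Y) (mem_of_nonempty W) b =
      fieldNorm π hs (X.presheaf.germ (π ⁻¹ᵁ W) (genericPoint X)
        (mem_preimage_of_nonempty π hs W) s)) : nmLoc π hs hY W hW s = b := by
  haveI := hW.2
  apply germ_injective_of_isIntegral Y (genericPoint Y) (mem_of_nonempty W)
  exact (germ_nmLoc π hs hY W hW s).trans hb.symm

include hs in
/-- The glued family. -/
theorem exists_norm_family (hY : Pi1.IsNormalScheme Y) :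
    ∃ ψ : ∀ U : Y.Opens, Γ(X, π ⁻¹ᵁ U) → Γ(Y, U),
      (∀ {U' U : Y.Opens} (h : U' ≤ U) (s : Γ(X, π ⁻¹ᵁ U)),
        ψ U' (X.presheaf.map (homOfLE (π.preimage_mono h)).op s) =
          Y.presheaf.map (homOfLE h).op (ψ U s)) ∧
      (∀ (W : Y.Opens) (hW : Good (Y := Y) W) (s : Γ(X, π ⁻¹ᵁ W)),
        ψ W s = nmLoc π hs hY W hW s) := by
  obtain ⟨ψ, hnat, hψ⟩ := Glue74.exists_family (Norm74.PM π) (Coh.structureModule Y)
    (Good (Y := Y)) exists_good
    (fun W hW => nmLoc π hs hY W hW) (fun W' W => W' ≤ W) (fun h => h)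
    (by
      intro W' W hW' hW h a
      haveI := hW.2
      haveI := hW'.2
      refine nmLoc_eq π hs hY W' hW' _ _ ?_
      have h1 : Y.presheaf.germ W' (genericPoint Y) (mem_of_nonempty W')
          (Y.presheaf.map (homOfLE h).op (nmLoc π hs hY W hW a)) =
          Y.presheaf.germ W (genericPoint Y) (mem_of_nonempty W) (nmLoc π hs hY W hW a) :=
        TopCat.Presheaf.germ_res_apply Y.presheaf (homOfLE h) _ _ _
      have h2 : X.presheaf.germ (π ⁻¹ᵁ W') (genericPoint X) (mem_preimage_of_nonempty π hs W')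
          (X.presheaf.map (homOfLE (π.preimage_mono h)).op a) =
          X.presheaf.germ (π ⁻¹ᵁ W) (genericPoint X) (mem_preimage_of_nonempty π hs W) a :=
        TopCat.Presheaf.germ_res_apply X.presheaf (homOfLE (π.preimage_mono h)) _ _ _
      exact h1.trans ((germ_nmLoc π hs hY W hW a).trans (congrArg _ h2.symm)))
    (by
      intro W₁ W₂ hW₁ hW₂ x hx
      obtain ⟨W, hW, hxW, hle⟩ := exists_good (W₁ ⊓ W₂) x hx
      exact ⟨W, hW, hxW, hle.trans inf_le_left, hle.trans inf_le_right⟩)
  exact ⟨fun U s => ψ U s, fun h s => hnat h s, fun W hW s => hψ W hW s⟩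

include hs in
/-- **A finite surjective morphism of integral schemes onto a normal scheme carries a norm
of degree `[K(X) : K(Y)]`.** -/
theorem hasNorm_of_isNormalScheme (hY : Pi1.IsNormalScheme Y) :
    Nrm.HasNorm π (ffDeg π hs) := by
  obtain ⟨ψ, hnat, hψ⟩ := exists_norm_family π hs hY
  letI := ffAlgebra π hs
  -- finite-dimensionality
  obtain ⟨W₀, hW₀, -, -⟩ := exists_good (⊤ : Y.Opens) (genericPoint Y) trivial
  haveI := hW₀.2
  have hfd : Module.Finite Y.functionField X.functionField := (local_main π hs hY W₀ hW₀.1).1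
  have hdpos : 1 ≤ ffDeg π hs := Module.finrank_pos
  have hext : ∀ {U : Y.Opens} (a b : Γ(Y, U)), (∀ (W : Y.Opens) (_ : Good (Y := Y) W)
      (hWU : W ≤ U), Y.presheaf.map (homOfLE hWU).op a = Y.presheaf.map (homOfLE hWU).op b) →
      a = b :=
    fun a b h => Glue74.eq_of_good (Coh.structureModule Y) (Good (Y := Y)) exists_good a b h
  have hone : ∀ U : Y.Opens, ψ U 1 = 1 := by
    intro U
    apply hext
    intro W hW hWU
    haveI := hW.2
    rw [← hnat hWU, map_one, map_one, hψ W hW]
    refine nmLoc_eq π hs hY W hW _ _ ?_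
    rw [map_one, map_one, map_one]
  have hmul : ∀ (U : Y.Opens) (s t : Γ(X, π ⁻¹ᵁ U)), ψ U (s * t) = ψ U s * ψ U t := by
    intro U s t
    apply hext
    intro W hW hWU
    haveI := hW.2
    rw [← hnat hWU, map_mul, map_mul, ← hnat hWU, ← hnat hWU, hψ W hW, hψ W hW, hψ W hW]
    refine nmLoc_eq π hs hY W hW _ _ ?_
    rw [map_mul, map_mul, map_mul, germ_nmLoc, germ_nmLoc]
  refine ⟨{ one_le := hdpos, norm := fun U => ⟨⟨ψ U, hone U⟩, hmul U⟩,
            norm_res := ?_, norm_app := ?_, norm_mem := ?_ }⟩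
  · intro U V i s
    exact (hnat (leOfHom i) s).symm
  · intro U g
    change ψ U (π.app U g) = g ^ (ffDeg π hs)
    apply hext
    intro W hW hWU
    haveI := hW.2
    rw [← hnat hWU, map_pow]
    have h1 : X.presheaf.map (homOfLE (π.preimage_mono hWU)).op (π.app U g) =
        π.app W (Y.presheaf.map (homOfLE hWU).op g) :=
      (congr($(π.naturality (homOfLE hWU).op) g)).symm
    rw [h1, hψ W hW]
    refine nmLoc_eq π hs hY W hW _ _ ?_
    rw [map_pow, ← ffMap_germ π hs W]
    exact (Algebra.norm_algebraMap (R := Y.functionField) (S := X.functionField) _).symm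
  · intro U s x hx hs'
    change Y.presheaf.germ U (π.base x) hx (ψ U s) ∈ _
    obtain ⟨W, hW, hxW, hWU⟩ := exists_good U (π.base x) hx
    have hgerm : Y.presheaf.germ U (π.base x) hx (ψ U s) =
        Y.presheaf.germ W (π.base x) hxW (Y.presheaf.map (homOfLE hWU).op (ψ U s)) :=
      (TopCat.Presheaf.germ_res_apply Y.presheaf (homOfLE hWU) (π.base x) hxW (ψ U s)).symm
    rw [hgerm, ← hnat hWU, hψ W hW]
    set t := X.presheaf.map (homOfLE (π.preimage_mono hWU)).op s with ht
    have hts : X.presheaf.germ (π ⁻¹ᵁ W) x hxW t ∈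
        IsLocalRing.maximalIdeal (X.presheaf.stalk x) := by
      rw [ht, TopCat.Presheaf.germ_res_apply X.presheaf (homOfLE (π.preimage_mono hWU)) x hxW s]
      exact hs'
    obtain ⟨n, hn⟩ := pow_nmLoc_mem π hs hY W hW t
    obtain ⟨t', ht'⟩ := Ideal.mem_span_singleton'.1 hn
    have h3 : X.presheaf.germ (π ⁻¹ᵁ W) x hxW (π.app W (nmLoc π hs hY W hW t)) ∈
        IsLocalRing.maximalIdeal (X.presheaf.stalk x) := by
      have h4 : (X.presheaf.germ (π ⁻¹ᵁ W) x hxW (π.app W (nmLoc π hs hY W hW t))) ^ n ∈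
          IsLocalRing.maximalIdeal (X.presheaf.stalk x) := by
        rw [← map_pow, ← ht', map_mul]
        exact Ideal.mul_mem_left _ _ hts
      exact Ideal.IsPrime.mem_of_pow_mem inferInstance n h4
    rw [← Scheme.Hom.germ_stalkMap_apply] at h3
    by_contra hcon
    rw [IsLocalRing.mem_maximalIdeal, mem_nonunits_iff, not_not] at hcon
    exact (IsLocalRing.mem_maximalIdeal _).1 h3 (hcon.map _)

end Scheme

end Groth.Agent.Lib.QCoh.NormInt74
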