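import Groth.Agent.Lib.QCoh.Helper74_NormVar
import Groth.Agent.Lib.QCoh.Helper74_NormInt

/-!
# QCoh API (helper74): quasi-affineness descends along finite surjective morphisms
(finite locally free, or onto a normal integral scheme)

Namespace `Groth.Agent.Lib.QCoh.NormQAff74`.
-/

set_option linter.style.haveILetI false
universe u
open CategoryTheory CategoryTheory.Limits AlgebraicGeometry Opposite TopologicalSpace

namespace Groth.Agent.Lib.QCoh.NormQAff74
open Groth.Agent.Lib.QCoh

variable {X Y : Scheme.{u}}

/-- The scheme-theoretic image of a quasi-compact morphism from a reduced scheme is reduced. -/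
theorem isReduced_image {W : Scheme.{u}} (f : W ⟶ X) [QuasiCompact f] [IsReduced W] :
    IsReduced f.image := by
  have hdom : IsSchemeTheoreticallyDominant f.toImage := by
    refine ⟨?_⟩
    apply Scheme.IdealSheafData.ext_of_iSup_eq_top
      (fun U : X.affineOpens => (⟨f.imageι ⁻¹ᵁ U.1, U.2.preimage f.imageι⟩ : f.image.affineOpens))
    · rw [eq_top_iff]
      intro z _
      obtain ⟨_, ⟨U, hU, rfl⟩, hzU, -⟩ :=
        X.isBasis_affineOpens.exists_subset_of_mem_open (Set.mem_univ (f.imageι z)) isOpen_univ
      exact Opens.mem_iSup.2 ⟨⟨U, hU⟩, hzU⟩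
    · intro U
      rw [Scheme.Hom.ker_apply]
      change RingHom.ker (f.toImage.app (f.imageι ⁻¹ᵁ U.1)).hom = ⊥
      rw [← RingHom.injective_iff_ker_eq_bot]
      exact f.toImage_app_injective U
  exact IsSchemeTheoreticallyDominant.isReduced f.toImage

/-- The scheme-theoretic image of a quasi-compact morphism from an integral scheme is integral. -/
theorem isIntegral_image {W : Scheme.{u}} (f : W ⟶ X) [QuasiCompact f] [IsIntegral W] :
    IsIntegral f.image := by
  have := isReduced_image f
  have hirr : IrreducibleSpace f.image := by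
    rw [irreducibleSpace_def]
    have hd := (inferInstance : IsDominant f.toImage).denseRange
    rw [denseRange_iff_closure_range] at hd
    rw [Set.top_eq_univ, ← hd, ← Set.image_univ]
    exact ((irreducibleSpace_def _).mp inferInstance |>.image _
      f.toImage.continuous.continuousOn).closure
  exact isIntegral_of_irreducibleSpace_of_isReduced f.image

/-- **Quasi-affineness descends along a finite surjective morphism onto a normal integral
scheme.** -/
theorem isQuasiAffine_of_isNormalScheme (π : X ⟶ Y) [IsFinite π] [Surjective π]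
    [X.IsQuasiAffine] [IsIntegral Y] (hY : Pi1.IsNormalScheme Y) : Y.IsQuasiAffine := by
  obtain ⟨x, hx⟩ := π.surjective (genericPoint Y)
  let f := X.fromSpecResidueField x
  have hZ : IsIntegral f.image := isIntegral_image f
  have hfin : IsFinite (f.imageι ≫ π) := inferInstance
  have hxr : x ∈ Set.range f.imageι := by
    have h1 : Set.range f ⊆ Set.range f.imageι := by
      rintro _ ⟨w, rfl⟩
      exact ⟨f.toImage w, by rw [← Scheme.Hom.comp_apply, f.toImage_imageι]⟩
    apply h1
    rw [Scheme.range_fromSpecResidueField]
    rfl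
  have hs : Function.Surjective (f.imageι ≫ π).base := by
    have hcl : IsClosed (Set.range (f.imageι ≫ π).base) :=
      (f.imageι ≫ π).isClosedMap.isClosed_range
    have hη : genericPoint Y ∈ Set.range (f.imageι ≫ π).base := by
      obtain ⟨z, hz⟩ := hxr
      exact ⟨z, by rw [Scheme.Hom.comp_apply, hz, hx]⟩
    intro y
    have h2 : closure {genericPoint Y} ⊆ Set.range (f.imageι ≫ π).base :=
      hcl.closure_subset_iff.2 (Set.singleton_subset_iff.2 hη)
    apply h2
    rw [(genericPoint_spec Y).def]
    trivial
  have hqa : f.image.IsQuasiAffine := Scheme.IsQuasiAffine.of_isAffineHom f.imageι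
  obtain ⟨N⟩ := NormInt74.hasNorm_of_isNormalScheme (f.imageι ≫ π) hs hY
  exact NormProps74.isQuasiAffine_of_norm (f.imageι ≫ π) N

/-- S8860. -/
theorem isQuasiAffine_of_finite_surjective (π : X ⟶ Y) [IsFinite π] [Surjective π]
    (hX : X.IsQuasiAffine) (h : Mor2.IsFinLocFree π ∨ (IsIntegral Y ∧ Pi1.IsNormalScheme Y)) :
    Y.IsQuasiAffine := by
  rcases h with h | ⟨h1, h2⟩
  · exact NormVar74.isQuasiAffine_of_isFinLocFree π h
  · exact isQuasiAffine_of_isNormalScheme π h2

end Groth.Agent.Lib.QCoh.NormQAff74
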