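import Groth.Agent.Lib.QCoh.Helper74_Norm

/-!
# QCoh API (helper74): the Frobenius-power norm of `X_red ⟶ X` in characteristic `p`

Namespace `Groth.Agent.Lib.QCoh.NormRed74`.
-/

universe u
open CategoryTheory CategoryTheory.Limits AlgebraicGeometry Opposite TopologicalSpace

namespace Groth.Agent.Lib.QCoh.NormRed74
open Scheme.Modules Groth.Agent.Lib.QCoh

section Algebra

/-- A uniform nilpotency bound passes to localizations. -/
theorem pow_eq_zero_of_isLocalization {R S : Type*} [CommRing R] [CommRing S] [Algebra R S]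
    (M : Submonoid R) [IsLocalization M S] (K : ℕ) (hK : ∀ a : R, IsNilpotent a → a ^ K = 0)
    (z : S) (hz : IsNilpotent z) : z ^ K = 0 := by
  obtain ⟨a, s, rfl⟩ := IsLocalization.exists_mk'_eq M z
  obtain ⟨m, hm⟩ := hz
  rw [← IsLocalization.mk'_pow, IsLocalization.mk'_eq_zero_iff] at hm
  obtain ⟨t, ht⟩ := hm
  have h1 : IsNilpotent ((t : R) * a) := by
    refine ⟨m + 1, ?_⟩
    rw [mul_pow, pow_succ (t : R) m, mul_assoc, mul_comm (t : R) (a ^ (m+1)), pow_succ a m]
    rw [mul_assoc, mul_comm a (t : R), ← mul_assoc (a ^ m), mul_comm (a ^ m), ht]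
    ring
  have h2 := hK _ h1
  rw [mul_pow] at h2
  rw [← IsLocalization.mk'_pow, IsLocalization.mk'_eq_zero_iff]
  exact ⟨t ^ K, h2⟩

/-- In a ring where `p = 0` and nilpotents die in power `K ≤ p ^ e`, the `p ^ e`-th power only
depends on the class modulo nilpotents. -/
theorem pow_eq_pow_of_sub_nilpotent {R : Type*} [CommRing R] {p : ℕ} (hp : p.Prime)
    (hpR : (p : R) = 0) {K e : ℕ} (hK : ∀ a : R, IsNilpotent a → a ^ K = 0) (hKe : K ≤ p ^ e)
    (a b : R) (hab : IsNilpotent (a - b)) : a ^ p ^ e = b ^ p ^ e := by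
  obtain ⟨r, hr⟩ := exists_add_pow_prime_pow_eq hp b (a - b) e
  have h1 : (a - b) ^ p ^ e = 0 := by
    obtain ⟨c, hc⟩ := Nat.exists_eq_add_of_le hKe
    rw [hc, pow_add, hK _ hab, zero_mul]
  rw [add_sub_cancel, h1, hpR] at hr
  rw [hr]; ring

end Algebra

variable (X : Scheme.{u})

/-- On a Noetherian scheme there is a uniform bound for the nilpotency index of germs. -/
theorem exists_uniform_stalk_bound [IsNoetherian X] :
    ∃ K : ℕ, ∀ (x : X) (z : X.presheaf.stalk x), IsNilpotent z → z ^ K = 0 := by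
  have key : ∃ K : ℕ, ∀ x ∈ (Set.univ : Set X), ∀ z : X.presheaf.stalk x,
      IsNilpotent z → z ^ K = 0 := by
    refine isCompact_univ.induction_on
      (p := fun S : Set X => ∃ K : ℕ, ∀ x ∈ S, ∀ z : X.presheaf.stalk x,
        IsNilpotent z → z ^ K = 0) ⟨0, fun x hx => hx.elim⟩ ?_ ?_ ?_
    · rintro s t hst ⟨K, hK⟩
      exact ⟨K, fun x hx => hK x (hst hx)⟩
    · rintro s t ⟨K, hK⟩ ⟨L, hL⟩
      refine ⟨K + L, fun x hx z hz => ?_⟩
      rcases hx with hx | hx
      · rw [pow_add, hK x hx z hz, zero_mul]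
      · rw [pow_add, hL x hx z hz, mul_zero]
    · intro x _
      obtain ⟨_, ⟨U, hU, rfl⟩, hxU, -⟩ := (X.isBasis_affineOpens.exists_subset_of_mem_open
        (Set.mem_univ x) isOpen_univ)
      have hN : IsNoetherianRing Γ(X, U) := IsLocallyNoetherian.component_noetherian ⟨U, hU⟩
      obtain ⟨K, hK⟩ := IsNoetherianRing.isNilpotent_nilradical Γ(X, U)
      refine ⟨U, mem_nhdsWithin_of_mem_nhds (U.2.mem_nhds hxU), K, fun y hy z hz => ?_⟩
      let _ := X.presheaf.algebra_section_stalk (U := U) ⟨y, hy⟩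
      have hloc := hU.isLocalization_stalk ⟨y, hy⟩
      refine pow_eq_zero_of_isLocalization (R := Γ(X, U)) (hU.primeIdealOf ⟨y, hy⟩).asIdeal.primeCompl
        K (fun a ha => ?_) z hz
      have : a ^ K ∈ nilradical Γ(X, U) ^ K := Ideal.pow_mem_pow (mem_nilradical.2 ha) K
      rw [hK] at this
      exact this
  obtain ⟨K, hK⟩ := key
  exact ⟨K, fun x => hK x (Set.mem_univ x)⟩

/-- On a Noetherian scheme there is a uniform bound for the nilpotency index of sections. -/
theorem exists_uniform_bound [IsNoetherian X] :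
    ∃ K : ℕ, ∀ (U : X.Opens) (n : Γ(X, U)), IsNilpotent n → n ^ K = 0 := by
  obtain ⟨K, hK⟩ := exists_uniform_stalk_bound X
  refine ⟨K, fun U n hn => ?_⟩
  refine TopCat.Presheaf.section_ext X.sheaf U _ _ fun x hx => ?_
  change X.presheaf.germ U x hx (n ^ K) = X.presheaf.germ U x hx 0
  rw [map_pow, map_zero]
  exact hK x _ (hn.map _)

section Main

variable {X} (p : ℕ) (hp : p.Prime) (hpX : (p : Γ(X, ⊤)) = 0)

include hpX in
lemma natCast_eq_zero (U : X.Opens) : (p : Γ(X, U)) = 0 := by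
  have h := congrArg (X.presheaf.map (homOfLE (le_top : U ≤ ⊤)).op) hpX
  rwa [map_natCast, map_zero] at h

/-- The reduction morphism. -/
noncomputable abbrev ι (X : Scheme.{u}) : X.nilradical.subscheme ⟶ X := X.nilradical.subschemeι

variable {K e : ℕ} (hK : ∀ (U : X.Opens) (n : Γ(X, U)), IsNilpotent n → n ^ K = 0)
  (hKe : K ≤ p ^ e)

include hp hpX hK hKe in
/-- Two lifts of the same function on `X_red` over an affine open have the same `p^e`-th power. -/
lemma pow_eq_pow_of_app_eq {W : X.Opens} (hW : IsAffineOpen W) (a b : Γ(X, W))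
    (hab : (ι X).app W a = (ι X).app W b) : a ^ p ^ e = b ^ p ^ e := by
  refine pow_eq_pow_of_sub_nilpotent hp (natCast_eq_zero p hpX W) (hK W) hKe a b ?_
  have h1 : a - b ∈ RingHom.ker ((ι X).app W).hom := by
    rw [RingHom.mem_ker, map_sub, sub_eq_zero]
    exact hab
  rw [X.nilradical.ker_subschemeι_app ⟨W, hW⟩] at h1
  have h2 : a - b ∈ (⊥ : Ideal Γ(X, W)).radical := h1
  exact mem_nilradical.1 h2

/-- The local norm: the `p^e`-th power of any lift. -/
noncomputable def nmLoc (e : ℕ) (W : X.Opens) (hW : IsAffineOpen W)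
    (s : Γ(Norm74.PM (ι X), W)) : Γ(Coh.structureModule X, W) :=
  (Classical.choose (X.nilradical.subschemeι_app_surjective ⟨W, hW⟩ s)) ^ p ^ e

include hp hpX hK hKe in
lemma nmLoc_eq {W : X.Opens} (hW : IsAffineOpen W) (s : Γ(X.nilradical.subscheme, (ι X) ⁻¹ᵁ W))
    (b : Γ(X, W)) (hb : (ι X).app W b = s) : nmLoc p e W hW s = b ^ p ^ e :=
  pow_eq_pow_of_app_eq p hp hpX hK hKe hW _ _
    ((Classical.choose_spec (X.nilradical.subschemeι_app_surjective ⟨W, hW⟩ s)).trans hb.symm)

lemma exists_affine (V : X.Opens) (x : X) (hx : x ∈ V) :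
    ∃ W : X.Opens, IsAffineOpen W ∧ x ∈ W ∧ W ≤ V := by
  obtain ⟨_, ⟨W, hW, rfl⟩, hxW, hWV⟩ := X.isBasis_affineOpens.exists_subset_of_mem_open hx V.2
  exact ⟨W, hW, hxW, hWV⟩

include hp hpX hK hKe in
/-- The glued family. -/
theorem exists_norm_family :
    ∃ ψ : ∀ U : X.Opens, Γ(X.nilradical.subscheme, (ι X) ⁻¹ᵁ U) → Γ(X, U),
      (∀ {U' U : X.Opens} (h : U' ≤ U) (s : Γ(X.nilradical.subscheme, (ι X) ⁻¹ᵁ U)),
        ψ U' (X.nilradical.subscheme.presheaf.map (homOfLE ((ι X).preimage_mono h)).op s) =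
          X.presheaf.map (homOfLE h).op (ψ U s)) ∧
      (∀ (W : X.Opens) (_ : IsAffineOpen W) (b : Γ(X, W)),
        ψ W ((ι X).app W b) = b ^ p ^ e) := by
  obtain ⟨ψ, hnat, hψ⟩ := Glue74.exists_family (Norm74.PM (ι X)) (Coh.structureModule X)
    (fun W => IsAffineOpen W) exists_affine
    (fun W hW => nmLoc p e W hW) (fun W' W => W' ≤ W) (fun h => h)
    (by
      intro W' W hW' hW h a
      obtain ⟨b, hb⟩ := X.nilradical.subschemeι_app_surjective ⟨W, hW⟩ a
      have hb' : (ι X).app W' (X.presheaf.map (homOfLE h).op b) =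
          X.nilradical.subscheme.presheaf.map (homOfLE ((ι X).preimage_mono h)).op a := by
        rw [← hb]
        exact congr($((ι X).naturality (homOfLE h).op) b)
      change nmLoc p e W' hW' (X.nilradical.subscheme.presheaf.map
        (homOfLE ((ι X).preimage_mono h)).op a) = X.presheaf.map (homOfLE h).op (nmLoc p e W hW a)
      rw [nmLoc_eq p hp hpX hK hKe hW a b hb, nmLoc_eq p hp hpX hK hKe hW' _ _ hb', map_pow])
    (by
      intro W₁ W₂ hW₁ hW₂ x hx
      obtain ⟨W, hW, hxW, hle⟩ := exists_affine (W₁ ⊓ W₂) x hx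
      exact ⟨W, hW, hxW, hle.trans inf_le_left, hle.trans inf_le_right⟩)
  refine ⟨fun U s => ψ U s, fun h s => hnat h s, fun W hW b => ?_⟩
  exact (hψ W hW _).trans (nmLoc_eq p hp hpX hK hKe hW _ b rfl)

include hp hpX hK hKe in
/-- The `p^e`-Frobenius norm for `X_red ⟶ X`. -/
theorem hasNorm_of_bound : Nrm.HasNorm (ι X) (p ^ e) := by
  obtain ⟨ψ, hnat, hψ⟩ := exists_norm_family p hp hpX hK hKe
  have hext : ∀ {U : X.Opens} (a b : Γ(X, U)), (∀ (W : X.Opens) (_ : IsAffineOpen W) (hWU : W ≤ U),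
      X.presheaf.map (homOfLE hWU).op a = X.presheaf.map (homOfLE hWU).op b) → a = b :=
    fun a b h => Glue74.eq_of_good (Coh.structureModule X) (fun W => IsAffineOpen W)
      exists_affine a b h
  -- on affine opens everything is a `p^e`-th power of a lift
  have hone : ∀ U : X.Opens, ψ U 1 = 1 := by
    intro U
    apply hext
    intro W hW hWU
    rw [← hnat hWU, map_one, map_one]
    have := hψ W hW 1
    rwa [map_one, one_pow] at this
  have hmul : ∀ (U : X.Opens) (s t : Γ(X.nilradical.subscheme, (ι X) ⁻¹ᵁ U)),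
      ψ U (s * t) = ψ U s * ψ U t := by
    intro U s t
    apply hext
    intro W hW hWU
    rw [← hnat hWU, map_mul, map_mul, ← hnat hWU, ← hnat hWU]
    obtain ⟨a, ha⟩ := X.nilradical.subschemeι_app_surjective ⟨W, hW⟩
      (X.nilradical.subscheme.presheaf.map (homOfLE ((ι X).preimage_mono hWU)).op s)
    obtain ⟨b, hb⟩ := X.nilradical.subschemeι_app_surjective ⟨W, hW⟩
      (X.nilradical.subscheme.presheaf.map (homOfLE ((ι X).preimage_mono hWU)).op t)
    rw [← ha, ← hb, ← map_mul, hψ W hW, hψ W hW, hψ W hW, mul_pow]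
  refine ⟨{ one_le := Nat.one_le_pow _ _ hp.pos, norm := fun U => ⟨⟨ψ U, hone U⟩, hmul U⟩,
            norm_res := ?_, norm_app := ?_, norm_mem := ?_ }⟩
  · intro U V i s
    exact (hnat (leOfHom i) s).symm
  · intro U g
    change ψ U ((ι X).app U g) = g ^ (p ^ e)
    apply hext
    intro W hW hWU
    rw [← hnat hWU, map_pow]
    have h1 : X.nilradical.subscheme.presheaf.map (homOfLE ((ι X).preimage_mono hWU)).op
        ((ι X).app U g) = (ι X).app W (X.presheaf.map (homOfLE hWU).op g) :=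
      (congr($((ι X).naturality (homOfLE hWU).op) g)).symm
    rw [h1, hψ W hW]
  · intro U s x hx hs
    change X.presheaf.germ U ((ι X).base x) hx (ψ U s) ∈ _
    obtain ⟨W, hW, hxW, hWU⟩ := exists_affine U ((ι X).base x) hx
    have hgerm : X.presheaf.germ U ((ι X).base x) hx (ψ U s) =
        X.presheaf.germ W ((ι X).base x) hxW (X.presheaf.map (homOfLE hWU).op (ψ U s)) :=
      (TopCat.Presheaf.germ_res_apply X.presheaf (homOfLE hWU) ((ι X).base x) hxW (ψ U s)).symm
    rw [hgerm, ← hnat hWU]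
    set t := X.nilradical.subscheme.presheaf.map (homOfLE ((ι X).preimage_mono hWU)).op s with ht
    have hts : X.nilradical.subscheme.presheaf.germ ((ι X) ⁻¹ᵁ W) x hxW t ∈
        IsLocalRing.maximalIdeal (X.nilradical.subscheme.presheaf.stalk x) := by
      rw [ht, TopCat.Presheaf.germ_res_apply X.nilradical.subscheme.presheaf
        (homOfLE ((ι X).preimage_mono hWU)) x hxW s]
      exact hs
    obtain ⟨b, hb⟩ := X.nilradical.subschemeι_app_surjective ⟨W, hW⟩ t
    rw [← hb, hψ W hW, map_pow]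
    refine Ideal.pow_mem_of_mem _ ?_ _ (Nat.pow_pos hp.pos)
    rw [← hb, ← Scheme.Hom.germ_stalkMap_apply] at hts
    by_contra hcon
    rw [IsLocalRing.mem_maximalIdeal, mem_nonunits_iff, not_not] at hcon
    exact (IsLocalRing.mem_maximalIdeal _).1 hts (hcon.map _)

end Main

end Groth.Agent.Lib.QCoh.NormRed74
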