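import Groth.Agent.Lib.QCoh.Helper74_RefHullNormal
import Groth.Agent.Lib.QCoh.Helper18_HartogsUnit
import Groth.Agent.Lib.QCoh.Helper18_HartogsConv
import Groth.Agent.Lib.Helper49.Reflexive
import Groth.Agent.Lib.Helper7.NormField

/-!
# RefHull API, part 9 (helper74): reflexive = locally free on a big open + Hartogs (normal schemes)

Namespace `Groth.Agent.Lib.QCoh.RefHull74`.

* `two_le_depth_of_isReflexive_of_normal` : finite reflexive modules over a normal Noetherian local domain of
  dimension `≥ 2` have depth `≥ 2`.
* `forall_isReflexive_iff_exists_big_open` : S1690.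
-/

set_option linter.style.haveILetI false
universe u
open CategoryTheory CategoryTheory.Limits AlgebraicGeometry Opposite TopologicalSpace

namespace Groth.Agent.Lib.QCoh.RefHull74
open RefHull Groth.Agent.Lib.QCoh Scheme.Modules FlatMod IsLocalRing

/-- Over a normal Noetherian local domain of dimension ≥ 2, finite reflexive modules have
depth ≥ 2. -/
theorem two_le_depth_of_isReflexive_of_normal (R : Type u) [CommRing R] [IsLocalRing R]
    [IsNoetherianRing R] [IsDomain R] [IsIntegrallyClosed R]
    (h2 : (2 : WithBot ℕ∞) ≤ ringKrullDim R) (M : Type u) [AddCommGroup M] [Module R M]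
    [Module.Finite R M] [Module.IsReflexive R M] : (2 : ℕ∞) ≤ LocCoh.depth R M := by
  have h1 : (2 : ℕ∞) ≤ LocCoh.depth R R := by
    have h3 := Groth.Agent.Lib.Helper49.Serre.min_two_le_depth_of_isIntegrallyClosed (R := R)
    rw [min_eq_left h2] at h3
    have h4 : ((2 : ℕ∞) : WithBot ℕ∞) ≤ ((LocCoh.depth R R : ℕ∞) : WithBot ℕ∞) := h3
    exact WithBot.coe_le_coe.1 h4
  exact_mod_cast Groth.Agent.Lib.Helper93.ReflexiveDepth.le_depth_of_isReflexive M 2 le_rfl
    (by exact_mod_cast h1)

theorem ringKrullDim_le_one_of_not_two_le {R : Type u} [CommRing R] [IsLocalRing R]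
    [IsNoetherianRing R] (h2 : ¬ (2 : WithBot ℕ∞) ≤ ringKrullDim R) : ringKrullDim R ≤ 1 := by
  have h1 : ringKrullDim R ≠ ⊥ := ringKrullDim_ne_bot
  have h2' : ringKrullDim R ≠ ⊤ := ringKrullDim_ne_top
  obtain ⟨n, hn⟩ := WithBot.ne_bot_iff_exists.1 h1
  have hntop : n ≠ ⊤ := by
    rintro rfl
    exact h2' hn.symm
  obtain ⟨d, rfl⟩ := ENat.ne_top_iff_exists.1 hntop
  rw [← hn] at h2 ⊢
  have h3 : ¬ (2 ≤ d) := fun h => h2 (by
    have h' : ((2 : ℕ∞) : WithBot ℕ∞) ≤ ((d : ℕ∞) : WithBot ℕ∞) :=
      WithBot.coe_le_coe.2 (by exact_mod_cast h)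
    exact h')
  have h4 : d ≤ 1 := by omega
  have h5 : ((d : ℕ∞) : WithBot ℕ∞) ≤ ((1 : ℕ∞) : WithBot ℕ∞) :=
    WithBot.coe_le_coe.2 (by exact_mod_cast h4)
  exact h5

variable {X : Scheme.{u}}

/-- **Reflexive = locally free on a big open + Hartogs**, on a normal integral locally Noetherian
scheme. -/
theorem forall_isReflexive_iff_exists_big_open (X : Scheme.{u}) [IsIntegral X]
    [IsLocallyNoetherian X] (hX : Pi1.IsNormalScheme X) (F : X.Modules) (hF : Coh.IsCoh F) :
    (∀ x : X, Module.IsReflexive (X.presheaf.stalk x) (F.presheaf.stalk x)) ↔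
      ∃ U : X.Opens,
        (∀ x : X, x ∉ U → (2 : WithBot ℕ∞) ≤ ringKrullDim (X.presheaf.stalk x)) ∧
        FlatMod.IsFinLocFree (F.restrict U.ι) ∧
        IsIso ((Scheme.Modules.restrictAdjunction U.ι).unit.app F) := by
  have hqc : F.IsQuasicoherent := hF.1
  have hft : F.IsFiniteType := hF.2
  have hfp : F.IsFinitePresentation := isFinitePresentation_of_isLocallyNoetherian F
  constructor
  · intro hst
    let S : Set X.Opens := {V | IsFinLocFree (F.restrict V.ι)}
    have hflatU : ∀ x : X, IsFlatAt F x → x ∈ sSup S := by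
      intro x hx
      obtain ⟨V, hxV, hV⟩ := exists_isFinLocFree_restrict_of_isFlatAt F x hx
      exact Opens.mem_sSup.2 ⟨V, hV, hxV⟩
    have hcodim : ∀ x : X, x ∉ sSup S → (2 : WithBot ℕ∞) ≤ ringKrullDim (X.presheaf.stalk x) := by
      intro x hxU
      by_contra hcon
      apply hxU
      apply hflatU
      have hdim := ringKrullDim_le_one_of_not_two_le hcon
      haveI : IsIntegrallyClosed (X.presheaf.stalk x) := (hX x).2
      have hpid : IsPrincipalIdealRing (X.presheaf.stalk x) :=
        Groth.Agent.Lib.Helper49.Serre.isPrincipalIdealRing_of_isIntegrallyClosed_of_dim_le_one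
          _ hdim
      haveI := hst x
      haveI := finite_stalk F x
      have := noZeroSMulDivisors_of_isTorsionFree _ _
        (isTorsionFree_of_isReflexive (X.presheaf.stalk x) (F.presheaf.stalk x))
      have hfree : Module.Free (X.presheaf.stalk x) (F.presheaf.stalk x) :=
        Module.free_of_finite_type_torsion_free'
      exact inferInstanceAs (Module.Flat (X.presheaf.stalk x) (F.presheaf.stalk x))
    refine ⟨sSup S, hcodim, ?_, ?_⟩
    · apply isFinLocFree_of_locally
      intro y
      obtain ⟨V, hVS, hyV⟩ := Opens.mem_sSup.1 y.2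
      have hVU : V ≤ sSup S := le_sSup hVS
      refine ⟨↑V, X.homOfLE hVU, inferInstance, ⟨⟨y.1, hyV⟩, Subtype.ext (by rw [Scheme.homOfLE_apply])⟩, ?_⟩
      exact isFinLocFree_of_iso (((restrictFunctorCongr (X.homOfLE_ι hVU)).app F).symm ≪≫
        (restrictFunctorComp (X.homOfLE hVU) (sSup S).ι).app F) hVS
    · apply Hartogs.isIso_unit_of_depth F (sSup S)
      intro x hxU
      haveI : IsIntegrallyClosed (X.presheaf.stalk x) := (hX x).2
      haveI := hst x
      haveI := finite_stalk F x
      exact two_le_depth_of_isReflexive_of_normal _ (hcodim x hxU) _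
  · rintro ⟨U, hcodim, hlf, hiso⟩
    have hG := isCoh_ddual F hF
    have hqG : (ddual F).IsQuasicoherent := hG.1
    have hrefl : IsIso (bidualMap F) := by
      apply DepthIso74.isIso_of_depth_of_torsionFree (bidualMap F)
      · intro x
        have : Module.IsReflexive (X.presheaf.stalk x) ((ddual F).presheaf.stalk x) :=
          isReflexiveAt_ddual F hF x
        exact noZeroSMulDivisors_of_isTorsionFree _ _ (isTorsionFree_of_isReflexive _ _)
      · intro x
        by_cases hx : x ∈ U
        · left
          rw [← isReflexiveAt_iff_bijective F hF x]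
          have hflat : Module.Flat (X.presheaf.stalk x) (F.presheaf.stalk x) :=
            isFlatAt_of_isFinLocFree_restrict F x hx hlf
          haveI := finite_stalk F x
          have : Module.Free (X.presheaf.stalk x) (F.presheaf.stalk x) :=
            Module.free_of_flat_of_isLocalRing
          exact (inferInstance : Module.IsReflexive (X.presheaf.stalk x) (F.presheaf.stalk x))
        · right
          refine ⟨Hartogs.two_le_depth_stalk_of_bijective F U (fun V _ => ?_) x hx, ?_⟩
          · have h1 : IsIso (((Scheme.Modules.restrictAdjunction U.ι).unit.app F).app V) :=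
              Scheme.Modules.Hom.isIso_iff_isIso_app.1 hiso V
            have h2 : Function.Bijective
                (F.presheaf.map (homOfLE (U.ι.image_preimage_le V)).op) :=
              (ConcreteCategory.isIso_iff_bijective _).1 h1
            have key : ∀ (O : X.Opens) (_ : U.ι ''ᵁ U.ι ⁻¹ᵁ V = O) (i : O ⟶ V),
                Function.Bijective (F.presheaf.map i.op) := by
              rintro O rfl i
              have : i = homOfLE (U.ι.image_preimage_le V) := Subsingleton.elim _ _
              rw [this]
              exact h2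
            exact key _ (Hartogs.ι_image_preimage U V) _
          · rintro rfl
            have h0 : ringKrullDim (X.presheaf.stalk (genericPoint X)) = 0 :=
              ringKrullDim_eq_zero_of_isField
                (Groth.Agent.Lib.Helper7.NormField.isField_stalk_of_eq_genericPoint _ rfl)
            have h2 := hcodim _ hx
            rw [h0] at h2
            exact absurd h2 (by decide)
    exact (isReflexive_iff_forall_isReflexiveAt F hF).1 hrefl

end Groth.Agent.Lib.QCoh.RefHull74
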