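import Groth.Prelude.Def_TorSh
import Groth.Prelude.Def_Coh
import Groth.Agent.Lib.QCoh.Helper18_Ass
import Groth.Agent.Lib.QCoh.Helper50_AffineDict
import Groth.Agent.Lib.QCoh.Helper74_LocFreePush
import Groth.Agent.Lib.Helper56.CoprodMod

/-!
# Embedding a torsion-free rank one module into the sheaf of rational functions (helper74)

Namespace `Groth.Agent.Lib.QCoh.RatEmb74`.  `X` integral, `K = O_{X,η}`, `j : Spec K ⟶ X`.

* `KX X = j_* O_{Spec K}`; `emb X F φ : F ⟶ KX X` for a `K`-linear `φ : F_η → K`;
* `germ_genericPoint_injective` (torsion-free quasi-coherent, affine open);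
* `mono_emb` : `emb X F φ` is a monomorphism when `F` is torsion-free quasi-coherent and `φ` injective.
-/

set_option linter.style.haveILetI false
universe u
open CategoryTheory CategoryTheory.Limits AlgebraicGeometry Opposite TopologicalSpace

namespace Groth.Agent.Lib.QCoh.RatEmb74
open Groth.Agent.Lib.QCoh

variable (X : Scheme.{u}) [IsIntegral X] (F : X.Modules)

/-- the sheaf of rational functions -/
noncomputable abbrev KX : X.Modules :=
  (Scheme.Modules.pushforward (X.fromSpecStalk (genericPoint X))).obj
    (Coh.structureModule (Spec (X.presheaf.stalk (genericPoint X))))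

/-- `K → Γ(Spec K, j⁻¹U)` -/
noncomputable def iotaU (U : X.Opens) :
    X.presheaf.stalk (genericPoint X) ⟶
      Γ(Spec (X.presheaf.stalk (genericPoint X)), X.fromSpecStalk (genericPoint X) ⁻¹ᵁ U) :=
  (Scheme.ΓSpecIso (X.presheaf.stalk (genericPoint X))).inv ≫
    (Spec (X.presheaf.stalk (genericPoint X))).presheaf.map (homOfLE le_top).op

variable (φ : F.presheaf.stalk (genericPoint X) →ₗ[X.presheaf.stalk (genericPoint X)]
  X.presheaf.stalk (genericPoint X))

open Classical in
noncomputable def embFun (U : X.Opens) : Γ(F, U) →+ Γ(KX X, U) where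
  toFun s := if h : genericPoint X ∈ U then
    (show Γ(KX X, U) from (iotaU X U).hom (φ (F.presheaf.germ U (genericPoint X) h s))) else 0
  map_zero' := by
    split_ifs with h
    · simp only [map_zero]
      rfl
    · rfl
  map_add' s t := by
    split_ifs with h
    · simp only [map_add]
      rfl
    · exact (add_zero _).symm

theorem embFun_of_mem (U : X.Opens) (h : genericPoint X ∈ U) (s : Γ(F, U)) :
    embFun X F φ U s = (iotaU X U).hom (φ (F.presheaf.germ U (genericPoint X) h s)) := by
  classical
  change dite _ _ _ = _
  rw [dif_pos h]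

theorem embFun_of_not_mem (U : X.Opens) (h : genericPoint X ∉ U) (s : Γ(F, U)) :
    embFun X F φ U s = 0 := by
  classical
  change dite _ _ _ = _
  rw [dif_neg h]


/-- Every point of `Spec K` maps to the generic point. -/
theorem fromSpecStalk_apply_eq (p : Spec (X.presheaf.stalk (genericPoint X))) :
    X.fromSpecStalk (genericPoint X) p = genericPoint X := by
  have h1 : X.fromSpecStalk (genericPoint X) p ⤳ genericPoint X := by
    have : X.fromSpecStalk (genericPoint X) p ∈ Set.range (X.fromSpecStalk (genericPoint X)) :=
      ⟨p, rfl⟩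
    rw [Scheme.range_fromSpecStalk] at this
    exact this
  have h2 : genericPoint X ⤳ X.fromSpecStalk (genericPoint X) p :=
    (genericPoint_spec X).specializes (Set.mem_univ _)
  exact (h1.antisymm h2).eq

theorem preimage_eq_bot (U : X.Opens) (h : genericPoint X ∉ U) :
    X.fromSpecStalk (genericPoint X) ⁻¹ᵁ U = ⊥ := by
  ext p
  simp only [Opens.coe_bot, Set.mem_empty_iff_false, iff_false]
  intro hp
  apply h
  have : X.fromSpecStalk (genericPoint X) p ∈ U := hp
  rwa [fromSpecStalk_apply_eq] at this

theorem subsingleton_of_not_mem (U : X.Opens) (h : genericPoint X ∉ U) :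
    Subsingleton Γ(KX X, U) := by
  change Subsingleton Γ(Spec (X.presheaf.stalk (genericPoint X)),
    X.fromSpecStalk (genericPoint X) ⁻¹ᵁ U)
  rw [preimage_eq_bot X U h]
  infer_instance

theorem map_iotaU {U V : X.Opens} (i : V ⟶ U) (c : X.presheaf.stalk (genericPoint X)) :
    (KX X).presheaf.map i.op (show Γ(KX X, U) from (iotaU X U).hom c) =
      (show Γ(KX X, V) from (iotaU X V).hom c) := by
  change ((Spec (X.presheaf.stalk (genericPoint X))).presheaf.map
    ((Opens.map (X.fromSpecStalk (genericPoint X)).base).map i).op).hom ((iotaU X U).hom c) =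
      (iotaU X V).hom c
  unfold iotaU
  rw [← CommRingCat.comp_apply, Category.assoc, ← Functor.map_comp]
  rfl


theorem smul_KX (U : X.Opens) (r : Γ(X, U)) (t : Γ(KX X, U)) :
    r • t = (show Γ(KX X, U) from ((X.fromSpecStalk (genericPoint X)).app U).hom r *
      (show Γ(Spec (X.presheaf.stalk (genericPoint X)),
        X.fromSpecStalk (genericPoint X) ⁻¹ᵁ U) from t)) := rfl

theorem embFun_smul (U : X.Opens) (r : Γ(X, U)) (s : Γ(F, U)) :
    embFun X F φ U (r • s) = r • embFun X F φ U s := by
  by_cases h : genericPoint X ∈ U
  · rw [embFun_of_mem X F φ _ h, embFun_of_mem X F φ _ h]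
    refine Eq.trans ?_ (smul_KX X U r _).symm
    rw [germ_smul, LinearMap.map_smul, smul_eq_mul, map_mul, Scheme.fromSpecStalk_app h]
    rfl
  · haveI := subsingleton_of_not_mem X U h
    exact Subsingleton.elim _ _

noncomputable def emb : F ⟶ KX X :=
  ⟨PresheafOfModules.homMk
    { app := fun U => AddCommGrpCat.ofHom (embFun X F φ U.unop)
      naturality := fun {U V} i => by
        ext s
        change embFun X F φ V.unop (F.presheaf.map i s) =
          (KX X).presheaf.map i (embFun X F φ U.unop s)
        by_cases hV : genericPoint X ∈ V.unop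
        · have hU : genericPoint X ∈ U.unop := i.unop.le hV
          rw [embFun_of_mem X F φ _ hV, embFun_of_mem X F φ _ hU,
            TopCat.Presheaf.germ_res_apply' F.presheaf i (genericPoint X) hV s]
          exact (map_iotaU X i.unop _).symm
        · haveI := subsingleton_of_not_mem X V.unop hV
          exact Subsingleton.elim _ _ }
    (fun U r s => embFun_smul X F φ U.unop r s)⟩

theorem emb_app (U : X.Opens) (s : Γ(F, U)) : (emb X F φ).app U s = embFun X F φ U s := rfl

/-- Sections of a torsion-free quasi-coherent module over an affine open of an integral scheme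
inject into the generic stalk. -/
theorem germ_genericPoint_injective [F.IsQuasicoherent] (hF : TorSh.IsTorsionFree F)
    {U : X.Opens} (hU : IsAffineOpen U) (h : genericPoint X ∈ U) :
    Function.Injective (F.presheaf.germ U (genericPoint X) h) := by
  rw [injective_iff_map_eq_zero]
  intro m hm
  obtain ⟨t, ht, htm⟩ := (germ_eq_zero_iff_of_isAffineOpen F hU (genericPoint X) h m).1 hm
  have ht0 : t ≠ 0 := by
    rintro rfl
    exact ht (Ideal.zero_mem _)
  apply section_eq_zero_of_germ_eq_zero F U m
  intro x hx
  have h1 : X.presheaf.germ U x hx t • F.presheaf.germ U x hx m = 0 := by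
    rw [← germ_smul, htm, map_zero]
  have h2 : X.presheaf.germ U x hx t ≠ 0 := by
    intro h0
    apply ht0
    have hinj := germ_injective_of_isIntegral X x hx
    apply hinj
    rw [h0, map_zero]
  haveI := hF x
  exact (smul_eq_zero_iff_right h2).1 h1

theorem preimage_eq_top (U : X.Opens) (h : genericPoint X ∈ U) :
    X.fromSpecStalk (genericPoint X) ⁻¹ᵁ U = ⊤ := by
  ext p
  simp only [Opens.coe_top, Set.mem_univ, iff_true]
  change X.fromSpecStalk (genericPoint X) p ∈ U
  rwa [fromSpecStalk_apply_eq]

theorem iotaU_injective (U : X.Opens) (h : genericPoint X ∈ U) :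
    Function.Injective (iotaU X U).hom := by
  have htop : (⊤ : (Spec (X.presheaf.stalk (genericPoint X))).Opens) ≤
      X.fromSpecStalk (genericPoint X) ⁻¹ᵁ U := (preimage_eq_top X U h).ge
  intro a b hab
  have h1 : ((Spec (X.presheaf.stalk (genericPoint X))).presheaf.map (homOfLE htop).op).hom
      ((iotaU X U).hom a) =
      ((Spec (X.presheaf.stalk (genericPoint X))).presheaf.map (homOfLE htop).op).hom
      ((iotaU X U).hom b) := by rw [hab]
  unfold iotaU at h1
  rw [← CommRingCat.comp_apply, ← CommRingCat.comp_apply, Category.assoc,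
    ← Functor.map_comp] at h1
  have h2 : (homOfLE (le_top : X.fromSpecStalk (genericPoint X) ⁻¹ᵁ U ≤ ⊤)).op ≫
      (homOfLE htop).op = 𝟙 _ := rfl
  rw [h2, CategoryTheory.Functor.map_id, Category.comp_id] at h1
  exact (ConcreteCategory.bijective_of_isIso
    (Scheme.ΓSpecIso (X.presheaf.stalk (genericPoint X))).inv).1 h1

theorem mono_emb [F.IsQuasicoherent] (hF : TorSh.IsTorsionFree F) (hφ : Function.Injective φ) :
    Mono (emb X F φ) := by
  rw [mono_iff_forall_affine_injective]
  intro U
  by_cases h : genericPoint X ∈ (U : X.Opens)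
  · intro s t hst
    rw [emb_app, emb_app, embFun_of_mem X F φ _ h, embFun_of_mem X F φ _ h] at hst
    exact germ_genericPoint_injective X F hF U.2 h (hφ (iotaU_injective X _ h hst))
  · have hbot : (U : X.Opens) = ⊥ := by
      by_contra hne
      apply h
      have hne' : ((U : X.Opens) : Set X).Nonempty := by
        rw [Set.nonempty_iff_ne_empty]
        intro h0
        apply hne
        ext x
        simp [h0]
      have := ((genericPoint_spec X).mem_open_set_iff (U : X.Opens).isOpen).2
        (by simpa using hne')
      exact this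
    haveI := Groth.Agent.Lib.Helper56.CoprodMod.subsingleton_sections_of_eq_bot F hbot
    intro s t _
    exact Subsingleton.elim _ _

end Groth.Agent.Lib.QCoh.RatEmb74
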