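import Groth.Agent.Lib.QCoh.Helper74_RefHullQc
import Groth.Agent.Lib.Helper22.QCohLoc
import Groth.Agent.Lib.QCoh.Helper74_LocFreeStalk

/-!
# RefHull API, part 3 (helper74): sections of the sheaf Hom over an affine open

Namespace `Groth.Agent.Lib.QCoh.RefHull74`.

* `sectionsToHom : Γ(𝓗om(F,G), U) →ₗ[Γ(X,U)] (Γ(F,U) →ₗ[Γ(X,U)] Γ(G,U))`.
* `locMap hU α y hy : F_y → G_y`, the localisation of `α : Γ(F,U) → Γ(G,U)` (`U` affine, `F`, `G`
  quasi-coherent), and `ofLinear hU α ∈ Γ(𝓗om(F,G), U)`.
* `sectionsEquiv hU : Γ(𝓗om(F,G), U) ≃ₗ Hom(Γ(F,U), Γ(G,U))`.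
-/

set_option linter.style.haveILetI false
universe u
open CategoryTheory CategoryTheory.Limits AlgebraicGeometry Opposite TopologicalSpace

namespace Groth.Agent.Lib.QCoh.RefHull74
open RefHull Groth.Agent.Lib.QCoh

variable {X : Scheme.{u}} {F G : X.Modules} {U : X.Opens}

theorem applySec_add (g : Γ(homSh F G, U)) (m m' : Γ(F, U)) :
    applySec g (m + m') = applySec g m + applySec g m' := by
  apply section_ext_germ
  intro y hy
  rw [map_add, germ_applySec, germ_applySec, germ_applySec, map_add, map_add]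

theorem applySec_smul (g : Γ(homSh F G, U)) (r : Γ(X, U)) (m : Γ(F, U)) :
    applySec g (r • m) = r • applySec g m := by
  apply section_ext_germ
  intro y hy
  rw [germ_applySec, germ_smul, germ_smul, germ_applySec, map_smul]

theorem applySec_add_left (g g' : Γ(homSh F G, U)) (m : Γ(F, U)) :
    applySec (g + g') m = applySec g m + applySec g' m := by
  apply section_ext_germ
  intro y hy
  rw [map_add, germ_applySec, germ_applySec, germ_applySec]
  rfl

theorem applySec_smul_left (r : Γ(X, U)) (g : Γ(homSh F G, U)) (m : Γ(F, U)) :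
    applySec (r • g) m = r • applySec g m := by
  apply section_ext_germ
  intro y hy
  rw [germ_applySec, germ_smul, germ_applySec]
  rfl

/-- Restriction is compatible with `applySec`. -/
theorem applySec_res {V : X.Opens} (h : V ≤ U) (g : Γ(homSh F G, U)) (m : Γ(F, U)) :
    applySec ((homSh F G).presheaf.map (homOfLE h).op g) (F.presheaf.map (homOfLE h).op m) =
      G.presheaf.map (homOfLE h).op (applySec g m) := by
  apply section_ext_germ
  intro y hy
  rw [germ_applySec, TopCat.Presheaf.germ_res_apply, TopCat.Presheaf.germ_res_apply,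
    germ_applySec]
  rfl

/-- The linear map `Γ(F, U) → Γ(G, U)` defined by a section of the sheaf Hom. -/
noncomputable def applyₗ (g : Γ(homSh F G, U)) : Γ(F, U) →ₗ[Γ(X, U)] Γ(G, U) where
  toFun := applySec g
  map_add' := applySec_add g
  map_smul' := applySec_smul g

@[simp] theorem applyₗ_apply (g : Γ(homSh F G, U)) (m : Γ(F, U)) : applyₗ g m = applySec g m := rfl

/-- Sections of the sheaf Hom over `U` act on sections over `U`. -/
noncomputable def sectionsToHom (F G : X.Modules) (U : X.Opens) :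
    Γ(homSh F G, U) →ₗ[Γ(X, U)] (Γ(F, U) →ₗ[Γ(X, U)] Γ(G, U)) where
  toFun := applyₗ
  map_add' g g' := LinearMap.ext fun m => applySec_add_left g g' m
  map_smul' r g := LinearMap.ext fun m => applySec_smul_left r g m

@[simp] theorem sectionsToHom_apply (g : Γ(homSh F G, U)) (m : Γ(F, U)) :
    sectionsToHom F G U g m = applySec g m := rfl

/-- On an affine open, a section of the sheaf Hom out of a quasi-coherent module is determined by
its action on sections. -/
theorem sectionsToHom_injective [F.IsQuasicoherent] (hU : IsAffineOpen U) :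
    Function.Injective (sectionsToHom F G U) := by
  rw [← LinearMap.ker_eq_bot, LinearMap.ker_eq_bot']
  intro g hg
  apply homSh_ext
  intro y
  have hgen : GenOn F U (fun m : Γ(F, U) => m) :=
    genOn_of_span_eq_top F hU _ (by rw [Set.range_id']; exact Submodule.span_univ)
  apply LinearMap.ext_on_range (hgen y.1 y.2)
  intro m
  have h1 : applySec g m = 0 := LinearMap.congr_fun hg m
  have h2 := germ_applySec g m y.1 y.2
  rw [h1, map_zero] at h2
  exact h2.symm

section LocMap

variable [F.IsQuasicoherent] [G.IsQuasicoherent] (hU : IsAffineOpen U)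

/-- The localisation at `y ∈ U` of a linear map `Γ(F, U) → Γ(G, U)`. -/
noncomputable def locMap (α : Γ(F, U) →ₗ[Γ(X, U)] Γ(G, U)) (y : X) (hy : y ∈ U) : StalkHom F G y :=
  letI := stalkModuleOfOpen F U y hy
  letI := stalkModuleOfOpen G U y hy
  letI := X.presheaf.algebra_section_stalk ⟨y, hy⟩
  haveI : IsScalarTower Γ(X, U) (X.presheaf.stalk y) (F.presheaf.stalk y) :=
    .of_algebraMap_smul fun _ _ => rfl
  haveI : IsScalarTower Γ(X, U) (X.presheaf.stalk y) (G.presheaf.stalk y) :=
    .of_algebraMap_smul fun _ _ => rfl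
  haveI := hU.isLocalization_stalk ⟨y, hy⟩
  haveI := isLocalizedModule_germ F hU y hy
  haveI := isLocalizedModule_germ G hU y hy
  IsLocalizedModule.mapExtendScalars (hU.primeIdealOf ⟨y, hy⟩).asIdeal.primeCompl
    (germₗ F U y hy) (germₗ G U y hy) (X.presheaf.stalk y) α

theorem locMap_germ (α : Γ(F, U) →ₗ[Γ(X, U)] Γ(G, U)) (y : X) (hy : y ∈ U) (m : Γ(F, U)) :
    locMap hU α y hy (F.presheaf.germ U y hy m) = G.presheaf.germ U y hy (α m) := by
  letI := stalkModuleOfOpen F U y hy
  letI := stalkModuleOfOpen G U y hy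
  letI := X.presheaf.algebra_section_stalk ⟨y, hy⟩
  haveI : IsScalarTower Γ(X, U) (X.presheaf.stalk y) (F.presheaf.stalk y) :=
    .of_algebraMap_smul fun _ _ => rfl
  haveI : IsScalarTower Γ(X, U) (X.presheaf.stalk y) (G.presheaf.stalk y) :=
    .of_algebraMap_smul fun _ _ => rfl
  haveI := hU.isLocalization_stalk ⟨y, hy⟩
  haveI := isLocalizedModule_germ F hU y hy
  haveI := isLocalizedModule_germ G hU y hy
  have h1 := IsLocalizedModule.map_apply (hU.primeIdealOf ⟨y, hy⟩).asIdeal.primeCompl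
    (germₗ F U y hy) (germₗ G U y hy) α m
  exact h1

/-- The localisations of a linear map form a section of the sheaf Hom. -/
theorem isLocSect_locMap (α : Γ(F, U) →ₗ[Γ(X, U)] Γ(G, U)) :
    IsLocSect F G (fun y : U => locMap hU α y.1 y.2) := by
  intro V i m' x
  obtain ⟨h, hDV, hxD⟩ := hU.exists_basicOpen_le x (i.le x.2)
  set D : X.Opens := X.basicOpen h with hD
  have hDU : D ≤ U := X.basicOpen_le h
  set m'' : Γ(F, D) := F.presheaf.map (homOfLE hDV).op m' with hm''
  obtain ⟨k, m, hm⟩ := Groth.Agent.Lib.Helper22.exists_pow_smul_eq_map_of_isAffineOpen F hU h m''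
  have hunit : IsUnit (X.presheaf.map (homOfLE hDU).op h) :=
    RingedSpace.isUnit_res_basicOpen _ h
  obtain ⟨u, hu⟩ := hunit
  refine ⟨D, hxD, homOfLE hDV, (↑(u⁻¹ ^ k) : Γ(X, D)) • G.presheaf.map (homOfLE hDU).op (α m),
    fun y => ?_⟩
  have hyU : y.1 ∈ U := hDU y.2
  -- compute
  have e1 : F.presheaf.germ V y.1 (hDV y.2) m' = F.presheaf.germ D y.1 y.2 m'' :=
    (TopCat.Presheaf.germ_res_apply F.presheaf (homOfLE hDV) y.1 y.2 m').symm
  have e2 : G.presheaf.germ D y.1 y.2 (G.presheaf.map (homOfLE hDU).op (α m)) =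
      G.presheaf.germ U y.1 hyU (α m) :=
    TopCat.Presheaf.germ_res_apply G.presheaf (homOfLE hDU) y.1 y.2 (α m)
  have e3 : F.presheaf.germ U y.1 hyU m = F.presheaf.germ D y.1 y.2
      (F.presheaf.map (homOfLE hDU).op m) :=
    (TopCat.Presheaf.germ_res_apply F.presheaf (homOfLE hDU) y.1 y.2 m).symm
  change locMap hU α y.1 hyU (F.presheaf.germ V y.1 (hDV y.2) m') = _
  rw [e1, germ_smul, e2, ← locMap_germ hU α y.1 hyU m, e3, hm, germ_smul, map_smul, smul_smul,
    ← map_mul, ← hu, ← Units.val_pow_eq_pow_val, ← Units.val_mul, ← mul_pow, inv_mul_cancel,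
    one_pow, Units.val_one, map_one, one_smul]

/-- The section of the sheaf Hom over an affine open defined by a linear map on sections. -/
noncomputable def ofLinear (α : Γ(F, U) →ₗ[Γ(X, U)] Γ(G, U)) : Γ(homSh F G, U) :=
  ⟨fun y => locMap hU α y.1 y.2, isLocSect_locMap hU α⟩

@[simp] theorem ofLinear_apply (α : Γ(F, U) →ₗ[Γ(X, U)] Γ(G, U)) (y : U) :
    (ofLinear hU α).1 y = locMap hU α y.1 y.2 := rfl

theorem applySec_ofLinear (α : Γ(F, U) →ₗ[Γ(X, U)] Γ(G, U)) (m : Γ(F, U)) :
    applySec (ofLinear hU α) m = α m := by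
  apply section_ext_germ
  intro y hy
  rw [germ_applySec]
  exact locMap_germ hU α y hy m

theorem sectionsToHom_ofLinear (α : Γ(F, U) →ₗ[Γ(X, U)] Γ(G, U)) :
    sectionsToHom F G U (ofLinear hU α) = α :=
  LinearMap.ext fun m => applySec_ofLinear hU α m

/-- **Sections of the sheaf Hom over an affine open**: for `F`, `G` quasi-coherent and `U` affine,
`Γ(𝓗om(F, G), U) ≃ Hom_{Γ(X,U)}(Γ(F, U), Γ(G, U))`. -/
noncomputable def sectionsEquiv :
    Γ(homSh F G, U) ≃ₗ[Γ(X, U)] (Γ(F, U) →ₗ[Γ(X, U)] Γ(G, U)) :=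
  LinearEquiv.ofBijective (sectionsToHom F G U)
    ⟨sectionsToHom_injective hU, fun α => ⟨ofLinear hU α, sectionsToHom_ofLinear hU α⟩⟩

@[simp] theorem sectionsEquiv_apply (g : Γ(homSh F G, U)) (m : Γ(F, U)) :
    sectionsEquiv hU g m = applySec g m := rfl

theorem sectionsEquiv_symm_apply (α : Γ(F, U) →ₗ[Γ(X, U)] Γ(G, U)) :
    (sectionsEquiv hU).symm α = ofLinear hU α := by
  apply (sectionsEquiv hU).injective
  rw [LinearEquiv.apply_symm_apply]
  exact (sectionsToHom_ofLinear hU α).symm

include hU in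
/-- For `F` with finitely presented sections on an affine neighbourhood `U` of `x` and `G`
quasi-coherent, the evaluation map `𝓗om(F, G)_x → Hom(F_x, G_x)` is surjective. -/
theorem evalStalk_surjective_of_finitePresentation
    [Module.FinitePresentation Γ(X, U) Γ(F, U)] (x : X) (hx : x ∈ U) :
    Function.Surjective (evalStalk F G x) := by
  intro φ
  letI := stalkModuleOfOpen F U x hx
  letI := stalkModuleOfOpen G U x hx
  letI := X.presheaf.algebra_section_stalk ⟨x, hx⟩
  haveI : IsScalarTower Γ(X, U) (X.presheaf.stalk x) (F.presheaf.stalk x) :=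
    .of_algebraMap_smul fun _ _ => rfl
  haveI : IsScalarTower Γ(X, U) (X.presheaf.stalk x) (G.presheaf.stalk x) :=
    .of_algebraMap_smul fun _ _ => rfl
  haveI := hU.isLocalization_stalk ⟨x, hx⟩
  haveI := isLocalizedModule_germ F hU x hx
  haveI := isLocalizedModule_germ G hU x hx
  let ψ : Γ(F, U) →ₗ[Γ(X, U)] G.presheaf.stalk x :=
    (φ.restrictScalars Γ(X, U)) ∘ₗ germₗ F U x hx
  obtain ⟨α, s, hα⟩ := Module.FinitePresentation.exists_lift_of_isLocalizedModule
    (hU.primeIdealOf ⟨x, hx⟩).asIdeal.primeCompl (germₗ G U x hx) ψ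
  set D : X.Opens := X.basicOpen (s : Γ(X, U)) with hD
  have hDU : D ≤ U := X.basicOpen_le _
  have hxD : x ∈ D := (notMem_primeIdealOf_iff hU x hx s.1).1 s.2
  have hunit : IsUnit (X.presheaf.map (homOfLE hDU).op (s : Γ(X, U))) :=
    RingedSpace.isUnit_res_basicOpen _ _
  obtain ⟨u, hu⟩ := hunit
  let g' : Γ(homSh F G, D) :=
    (↑(u⁻¹) : Γ(X, D)) • (homSh F G).presheaf.map (homOfLE hDU).op (ofLinear hU α)
  refine ⟨(homSh F G).presheaf.germ D x hxD g', ?_⟩
  rw [evalStalk_germ]
  have hgen : GenOn F U (fun m : Γ(F, U) => m) :=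
    genOn_of_span_eq_top F hU _ (by rw [Set.range_id']; exact Submodule.span_univ)
  apply LinearMap.ext_on_range (hgen x hx)
  intro m
  have h1 : g'.1 ⟨x, hxD⟩ = X.presheaf.germ D x hxD (↑(u⁻¹) : Γ(X, D)) • locMap hU α x hx := rfl
  have h2 : G.presheaf.germ U x hx (α m) =
      X.presheaf.germ U x hx (s : Γ(X, U)) • φ (F.presheaf.germ U x hx m) :=
    LinearMap.congr_fun hα m
  have h3 : X.presheaf.germ U x hx (s : Γ(X, U)) = X.presheaf.germ D x hxD (u : Γ(X, D)) := by
    rw [hu]
    exact (TopCat.Presheaf.germ_res_apply X.presheaf (homOfLE hDU) x hxD _).symm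
  rw [h1, LinearMap.smul_apply, locMap_germ, h2, h3, smul_smul, ← map_mul, ← Units.val_mul,
    inv_mul_cancel, Units.val_one, map_one, one_smul]

end LocMap

/-- **The stalk of the sheaf Hom**: for `F` of finite presentation and `G` quasi-coherent,
`𝓗om(F, G)_x → Hom(F_x, G_x)` is bijective. -/
theorem evalStalk_bijective (F G : X.Modules) [F.IsFinitePresentation] [G.IsQuasicoherent]
    (x : X) : Function.Bijective (evalStalk F G x) := by
  refine ⟨evalStalk_injective F G x, ?_⟩
  obtain ⟨U, hU, hxU, hfp⟩ := exists_affineOpen_finitePresentation F x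
  exact evalStalk_surjective_of_finitePresentation hU x hxU

/-- The stalk of the sheaf Hom as a linear equivalence. -/
noncomputable def evalStalkEquiv (F G : X.Modules) [F.IsFinitePresentation] [G.IsQuasicoherent]
    (x : X) : (homSh F G).presheaf.stalk x ≃ₗ[X.presheaf.stalk x] StalkHom F G x :=
  LinearEquiv.ofBijective (evalStalk F G x) (evalStalk_bijective F G x)

end Groth.Agent.Lib.QCoh.RefHull74
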