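import Groth.Agent.Lib.QCoh.Helper74_RefHullAffine
import Groth.Agent.Lib.QCoh.Helper66_LocCrit
import Groth.Agent.Lib.Helper61.QCohSections
import Groth.Agent.Lib.QCoh.FinitePresentation

/-!
# RefHull API, part 4 (helper74): the sheaf Hom of a finitely presented module into a quasi-coherent
module is quasi-coherent; coherence on locally Noetherian schemes

Namespace `Groth.Agent.Lib.QCoh.RefHull74`.
-/

set_option linter.style.haveILetI false
universe u
open CategoryTheory CategoryTheory.Limits AlgebraicGeometry Opposite TopologicalSpace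

namespace Groth.Agent.Lib.QCoh.RefHull74
open RefHull Groth.Agent.Lib.QCoh Groth.Agent.Lib.Helper61.QCohSections

variable {X : Scheme.{u}} (F G : X.Modules) [F.IsQuasicoherent] [G.IsQuasicoherent]
  {U : X.Opens} (hU : IsAffineOpen U)

include hU in
theorem homSh_hsurj [Module.FinitePresentation Γ(X, U) Γ(F, U)] (g : Γ(X, U))
    (y : Γ(homSh F G, X.basicOpen g)) :
    ∃ (n : ℕ) (x : Γ(homSh F G, U)),
      (homSh F G).presheaf.map (homOfLE (X.basicOpen_le g)).op x =
        (X.presheaf.map (homOfLE (X.basicOpen_le g)).op g) ^ n • y := by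
  have hDU : X.basicOpen g ≤ U := X.basicOpen_le g
  letI := resModule G hDU
  haveI := isLocalizedModule_res_basicOpen G hU g
  let ψ : Γ(F, U) →ₗ[Γ(X, U)] Γ(G, X.basicOpen g) :=
    { toFun := fun m => applySec y (F.presheaf.map (homOfLE hDU).op m)
      map_add' := fun m m' => by rw [map_add, applySec_add]
      map_smul' := fun r m => by
        rw [Scheme.Modules.map_smul, applySec_smul]
        rfl }
  obtain ⟨α, s, hα⟩ := Module.FinitePresentation.exists_lift_of_isLocalizedModule
    (Submonoid.powers g) (resLinear G hDU) ψ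
  obtain ⟨n, hn⟩ := s.2
  have hn' : g ^ n = (s : Γ(X, U)) := hn
  refine ⟨n, ofLinear hU α, ?_⟩
  apply homSh_ext
  intro z
  have hzU : z.1 ∈ U := hDU z.2
  have hgen : GenOn F U (fun m : Γ(F, U) => m) :=
    genOn_of_span_eq_top F hU _ (by rw [Set.range_id']; exact Submodule.span_univ)
  have hL : ((homSh F G).presheaf.map (homOfLE hDU).op (ofLinear hU α)).1 z =
      locMap hU α z.1 hzU := rfl
  have hR : ((X.presheaf.map (homOfLE hDU).op g) ^ n • y).1 z =
      X.presheaf.germ (X.basicOpen g) z.1 z.2 ((X.presheaf.map (homOfLE hDU).op g) ^ n) • y.1 z :=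
    rfl
  rw [hL, hR]
  apply LinearMap.ext_on_range (hgen z.1 hzU)
  intro m
  have h1 : G.presheaf.map (homOfLE hDU).op (α m) =
      X.presheaf.map (homOfLE hDU).op (s : Γ(X, U)) •
        applySec y (F.presheaf.map (homOfLE hDU).op m) := LinearMap.congr_fun hα m
  have h2 : G.presheaf.germ U z.1 hzU (α m) = G.presheaf.germ (X.basicOpen g) z.1 z.2
      (G.presheaf.map (homOfLE hDU).op (α m)) :=
    (TopCat.Presheaf.germ_res_apply G.presheaf (homOfLE hDU) z.1 z.2 (α m)).symm
  have h3 : F.presheaf.germ (X.basicOpen g) z.1 z.2 (F.presheaf.map (homOfLE hDU).op m) =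
      F.presheaf.germ U z.1 hzU m :=
    TopCat.Presheaf.germ_res_apply F.presheaf (homOfLE hDU) z.1 z.2 m
  rw [locMap_germ, h2, h1, germ_smul, germ_applySec, h3, LinearMap.smul_apply, ← hn', map_pow]

include hU in
theorem homSh_hinj [Module.Finite Γ(X, U) Γ(F, U)] (g : Γ(X, U)) (x : Γ(homSh F G, U))
    (hx : (homSh F G).presheaf.map (homOfLE (X.basicOpen_le g)).op x = 0) :
    ∃ n : ℕ, g ^ n • x = 0 := by
  have hDU : X.basicOpen g ≤ U := X.basicOpen_le g
  letI := resModule G hDU
  haveI := isLocalizedModule_res_basicOpen G hU g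
  have h0 : (resLinear G hDU) ∘ₗ (sectionsToHom F G U x) =
      (resLinear G hDU) ∘ₗ (0 : Γ(F, U) →ₗ[Γ(X, U)] Γ(G, U)) := by
    ext m
    rw [LinearMap.comp_apply, LinearMap.comp_apply, LinearMap.zero_apply, map_zero,
      resLinear_apply, sectionsToHom_apply, ← applySec_res hDU x m, hx]
    exact LinearMap.congr_fun (map_zero (sectionsToHom F G (X.basicOpen g))) _
  obtain ⟨s, hs⟩ := Module.Finite.exists_smul_of_comp_eq_of_isLocalizedModule
    (Submonoid.powers g) (resLinear G hDU) _ _ h0
  obtain ⟨n, hn⟩ := s.2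
  have hn' : g ^ n = (s : Γ(X, U)) := hn
  refine ⟨n, ?_⟩
  apply sectionsToHom_injective hU
  rw [map_smul, map_zero, hn']
  rw [smul_zero] at hs
  exact hs

/-- **The sheaf Hom of a finitely presented module into a quasi-coherent module is
quasi-coherent.** -/
theorem isQuasicoherent_homSh (F G : X.Modules) [F.IsFinitePresentation] [G.IsQuasicoherent] :
    (homSh F G).IsQuasicoherent := by
  have key : ∀ x : X, ∃ U : X.Opens, IsAffineOpen U ∧ x ∈ U ∧
      Module.FinitePresentation Γ(X, U) Γ(F, U) := fun x => exists_affineOpen_finitePresentation F x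
  choose U hUa hxU hfp using key
  refine LocCrit.isQuasicoherent_of_elementwise (F := homSh F G) U ?_ hUa ?_ ?_
  · apply IsOpenCover.mk
    rw [eq_top_iff]
    intro x _
    exact Opens.mem_iSup.2 ⟨x, hxU x⟩
  · intro x g y
    have := hfp x
    exact homSh_hsurj F G (hUa x) g y
  · intro x g s hs
    have := hfp x
    exact homSh_hinj F G (hUa x) g s hs

/-- On a locally Noetherian scheme, the sheaf Hom of coherent modules is of finite type. -/
theorem isFiniteType_homSh [IsLocallyNoetherian X] (F G : X.Modules) [F.IsQuasicoherent]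
    [F.IsFiniteType] [G.IsQuasicoherent] [G.IsFiniteType] :
    haveI := isFinitePresentation_of_isLocallyNoetherian F
    haveI := isQuasicoherent_homSh F G
    (homSh F G).IsFiniteType := by
  haveI := isFinitePresentation_of_isLocallyNoetherian F
  haveI := isQuasicoherent_homSh F G
  rw [isFiniteType_iff_forall_finite]
  intro U
  have : IsNoetherianRing Γ(X, (U : X.Opens)) := IsLocallyNoetherian.component_noetherian U
  have : Module.Finite Γ(X, (U : X.Opens)) Γ(F, (U : X.Opens)) := finite_Γ_of_isAffineOpen U.2 F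
  have : Module.Finite Γ(X, (U : X.Opens)) Γ(G, (U : X.Opens)) := finite_Γ_of_isAffineOpen U.2 G
  have : IsNoetherian Γ(X, (U : X.Opens)) Γ(G, (U : X.Opens)) := isNoetherian_of_isNoetherianRing_of_finite _ _
  exact Module.Finite.equiv (sectionsEquiv (F := F) (G := G) U.2).symm

/-- On a locally Noetherian scheme, the sheaf Hom of coherent modules is coherent. -/
theorem isCoh_homSh [IsLocallyNoetherian X] (F G : X.Modules) (hF : Coh.IsCoh F)
    (hG : Coh.IsCoh G) : Coh.IsCoh (homSh F G) := by
  have : F.IsQuasicoherent := hF.1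
  have : F.IsFiniteType := hF.2
  have : G.IsQuasicoherent := hG.1
  have : G.IsFiniteType := hG.2
  haveI := isFinitePresentation_of_isLocallyNoetherian F
  exact ⟨isQuasicoherent_homSh F G, isFiniteType_homSh F G⟩

end Groth.Agent.Lib.QCoh.RefHull74
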