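import Groth.Agent.Lib.QCoh.Helper74_RefHullRankOne
import Groth.Agent.Lib.QCoh.Helper74_DepthIsoTF
import Groth.Agent.Lib.Helper91.GenPrime2
import Groth.Agent.Lib.Helper49.Serre3
import Groth.Agent.Lib.Helper61.VdWPurity

/-!
# RefHull API, part 8 (helper74): sections of rank one reflexive modules on normal schemes

Namespace `Groth.Agent.Lib.QCoh.RefHull74`.

* `mem_range_of_forall_prime` : `φ : R → N` injective, `N` torsion-free, `depth R ≥ 2`; an element whose conductor
  into `φ(R)` lies in no prime but the maximal ideal is in `φ(R)`.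
* `ringKrullDim_eq_one_of` : a Noetherian local domain that is not a field and not of dimension `≥ 2` has dimension 1.
* `germ_ne_zero_of_ne_zero` : nonzero sections of torsion-free qcoh modules on integral schemes have nonzero germs.
* `exists_smul_mem_of_specializes` : passing generation by a section from a generization `y ⤳ z` to `F_z`
  up to an element outside the prime of `y`.
* `ringKrullDim_stalk_eq_one_of_isRef1` : S16084.
-/

set_option linter.style.haveILetI false
universe u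
open CategoryTheory CategoryTheory.Limits AlgebraicGeometry Opposite TopologicalSpace

namespace Groth.Agent.Lib.QCoh.RefHull74
open RefHull Groth.Agent.Lib.QCoh Scheme.Modules FlatMod IsLocalRing
open Groth.Agent.Lib.Helper91.GenPrime

section Algebra

variable {R : Type u} [CommRing R] [IsLocalRing R] [IsNoetherianRing R] [IsDomain R]
  {N : Type u} [AddCommGroup N] [Module R N] [NoZeroSMulDivisors R N]

/-- `φ : R → N` injective into a torsion-free module over a Noetherian local domain of depth `≥ 2`;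
an element `g` whose conductor into `φ(R)` is contained in no prime other than the maximal ideal
lies in `φ(R)`. -/
theorem mem_range_of_forall_prime (φ : R →ₗ[R] N) (hφ : Function.Injective φ)
    (hd : (2 : ℕ∞) ≤ LocCoh.depth R R) (hm : maximalIdeal R ≠ ⊥) (g : N)
    (h : ∀ q : Ideal R, q.IsPrime → q ≠ maximalIdeal R →
      ∃ a : R, a ∉ q ∧ a • g ∈ LinearMap.range φ) : g ∈ LinearMap.range φ := by
  have hN : ¬ IsAssociatedPrime (maximalIdeal R) N :=
    DepthIso74.not_isAssociatedPrime_of_noZeroSMulDivisors hm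
  have hrad : maximalIdeal R ≤ (Submodule.colon (LinearMap.range φ) {g}).radical := by
    rw [Ideal.radical_eq_sInf]
    apply le_sInf
    rintro q ⟨hIq, hq⟩
    by_contra hcon
    have hne : q ≠ maximalIdeal R := fun h => hcon h.ge
    obtain ⟨a, haq, hag⟩ := h q hq hne
    exact haq (hIq (Submodule.mem_colon_singleton.2 hag))
  obtain ⟨n, hn⟩ := Ideal.exists_pow_le_of_le_radical_of_fg hrad
    (IsNoetherian.noetherian (maximalIdeal R))
  have key : ∀ (n : ℕ) (g' : N),
      maximalIdeal R ^ n ≤ Submodule.colon (LinearMap.range φ) {g'} →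
        g' ∈ LinearMap.range φ := by
    intro n
    induction n with
    | zero =>
      intro g' hg'
      have h1 : (1 : R) ∈ Submodule.colon (LinearMap.range φ) {g'} :=
        hg' (by rw [pow_zero, Ideal.one_eq_top]; trivial)
      rw [Submodule.mem_colon_singleton, one_smul] at h1
      exact h1
    | succ n ih =>
      intro g' hg'
      apply DepthIso74.mem_range_of_forall_smul_mem φ hφ hd hN g'
      intro a ha
      apply ih
      intro b hb
      rw [Submodule.mem_colon_singleton, smul_smul]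
      have h1 : b * a ∈ maximalIdeal R ^ (n + 1) := by
        rw [pow_succ]
        exact Ideal.mul_mem_mul hb ha
      exact Submodule.mem_colon_singleton.1 (hg' h1)
  exact key n g hn

end Algebra

theorem ringKrullDim_eq_one_of {R : Type u} [CommRing R] [IsLocalRing R] [IsNoetherianRing R]
    [IsDomain R] (h0 : maximalIdeal R ≠ ⊥) (h2 : ¬ (2 : WithBot ℕ∞) ≤ ringKrullDim R) :
    ringKrullDim R = 1 := by
  have h1 : ringKrullDim R ≠ ⊥ := ringKrullDim_ne_bot
  have h2' : ringKrullDim R ≠ ⊤ := ringKrullDim_ne_top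
  obtain ⟨n, hn⟩ := WithBot.ne_bot_iff_exists.1 h1
  have hntop : n ≠ ⊤ := by
    rintro rfl
    exact h2' hn.symm
  obtain ⟨d, rfl⟩ := ENat.ne_top_iff_exists.1 hntop
  rw [← hn] at h2 ⊢
  have hd2 : ¬ (2 ≤ d) := fun h => h2 (by
    have h' : ((2 : ℕ∞) : WithBot ℕ∞) ≤ ((d : ℕ∞) : WithBot ℕ∞) :=
      WithBot.coe_le_coe.2 (by exact_mod_cast h)
    exact h')
  have hd0 : d ≠ 0 := by
    rintro rfl
    have : Ring.KrullDimLE 0 R := Ring.krullDimLE_iff.2 (by rw [← hn]; rfl)
    exact h0 (isField_iff_maximalIdeal_eq.1 Ring.KrullDimLE.isField_of_isReduced)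
  have hd1 : d = 1 := by omega
  subst hd1
  rfl

variable {X : Scheme.{u}}

/-- On an integral scheme, a nonzero global section of a quasi-coherent module with torsion-free
stalks has nonzero germs everywhere. -/
theorem germ_ne_zero_of_ne_zero [IsIntegral X] (F : X.Modules) [F.IsQuasicoherent]
    (htf : ∀ x : X, NoZeroSMulDivisors (X.presheaf.stalk x) (F.presheaf.stalk x))
    (s : Γ(F, ⊤)) (hs : s ≠ 0) (x0 : X) : F.presheaf.germ ⊤ x0 trivial s ≠ 0 := by
  intro h0
  apply hs
  have h0' : F.presheaf.germ ⊤ x0 trivial s = F.presheaf.germ ⊤ x0 trivial 0 := by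
    rw [h0, map_zero]
  obtain ⟨W0, hx0W0, i1, i2, hW0⟩ :=
    TopCat.Presheaf.germ_eq F.presheaf x0 (U := ⊤) (V := ⊤) trivial trivial _ _ h0'
  have hsW0 : Glue74.res F (le_top : W0 ≤ ⊤) s = 0 := hW0.trans (map_zero _)
  apply section_ext_germ F s 0
  intro x _
  rw [map_zero]
  obtain ⟨_, ⟨W, hW : IsAffineOpen W, rfl⟩, hxW, -⟩ :=
    (X.isBasis_affineOpens).exists_subset_of_mem_open (Set.mem_univ x) isOpen_univ
  obtain ⟨z, hzW, hzW0⟩ : ((W : Set X) ∩ W0).Nonempty :=
    nonempty_preirreducible_inter W.2 W0.2 ⟨x, hxW⟩ ⟨x0, hx0W0⟩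
  obtain ⟨h, hhW0, hzh⟩ := hW.exists_basicOpen_le (V := W0) ⟨z, hzW0⟩ hzW
  have hres0 : F.presheaf.map (homOfLE (X.basicOpen_le h)).op
      (Glue74.res F (le_top : W ≤ ⊤) s) = 0 := by
    change Glue74.res F (X.basicOpen_le h) (Glue74.res F (le_top : W ≤ ⊤) s) = 0
    rw [Glue74.res_res]
    have : Glue74.res F ((X.basicOpen_le h).trans le_top) s =
        Glue74.res F hhW0 (Glue74.res F (le_top : W0 ≤ ⊤) s) := (Glue74.res_res F _ _ s).symm
    rw [this, hsW0]
    exact map_zero _
  obtain ⟨k, hk⟩ :=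
    Groth.Agent.Lib.Helper22.exists_pow_smul_eq_zero_of_isAffineOpen F hW h _ hres0
  have hgerm := congrArg (F.presheaf.germ W x hxW) hk
  rw [germ_smul, map_zero] at hgerm
  have e1 : F.presheaf.germ W x hxW (Glue74.res F (le_top : W ≤ ⊤) s) =
      F.presheaf.germ ⊤ x trivial s :=
    TopCat.Presheaf.germ_res_apply F.presheaf (homOfLE (le_top : W ≤ ⊤)) x hxW s
  rw [e1] at hgerm
  haveI := htf x
  rcases smul_eq_zero.1 hgerm with h1 | h1
  · exfalso
    have hk0 : h ^ k = 0 :=
      germ_injective_of_isIntegral X x hxW (h1.trans (map_zero _).symm)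
    haveI : IsDomain Γ(X, W) := @IsIntegral.component_integral X _ W ⟨⟨x, hxW⟩⟩
    have hh0 : h = 0 := pow_eq_zero_iff (M₀ := Γ(X, W)) (n := k) (fun hk' => by
      rw [hk', pow_zero] at hk0; exact one_ne_zero hk0) |>.1 hk0
    rw [hh0, Scheme.basicOpen_zero] at hzh
    exact hzh
  · exact h1

/-- If multiplication by the germ of `s` is surjective at a generization `y` of `z`, every element
of `F_z` is carried into `O_{X,z} s_z` by some element outside the prime of `y`. -/
theorem exists_smul_mem_of_specializes (F : X.Modules) [F.IsQuasicoherent] (s : Γ(F, ⊤))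
    {y z : X} (h : y ⤳ z)
    (hy : Function.Surjective fun a : X.presheaf.stalk y => a • F.presheaf.germ ⊤ y trivial s)
    (g : F.presheaf.stalk z) :
    ∃ a : X.presheaf.stalk z, a ∉ primeOf h ∧
      ∃ b : X.presheaf.stalk z, a • g = b • F.presheaf.germ ⊤ z trivial s := by
  obtain ⟨U1, hzU1, t', rfl⟩ := TopCat.Presheaf.exists_germ_eq F.presheaf g
  obtain ⟨_, ⟨W, hW : IsAffineOpen W, rfl⟩, hzW, hWU⟩ :=
    (X.isBasis_affineOpens).exists_subset_of_mem_open hzU1 U1.2
  have hW1 : W ≤ U1 := hWU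
  have hyW : y ∈ W := h.mem_open W.isOpen hzW
  obtain ⟨t, ht⟩ : ∃ t : Γ(F, W), t = Glue74.res F hW1 t' := ⟨_, rfl⟩
  obtain ⟨sW, hsW⟩ : ∃ sW : Γ(F, W), sW = Glue74.res F (le_top : W ≤ ⊤) s := ⟨_, rfl⟩
  have hgt : F.presheaf.germ U1 z hzU1 t' = F.presheaf.germ W z hzW t := by
    rw [ht]
    exact (TopCat.Presheaf.germ_res_apply F.presheaf (homOfLE hW1) z hzW t').symm
  have hgs : ∀ (x : X) (hx : x ∈ W), F.presheaf.germ ⊤ x trivial s = F.presheaf.germ W x hx sW := by
    intro x hx
    rw [hsW]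
    exact (TopCat.Presheaf.germ_res_apply F.presheaf (homOfLE (le_top : W ≤ ⊤)) x hx s).symm
  rw [hgt, hgs z hzW]
  obtain ⟨b, hb⟩ := hy (F.presheaf.germ W y hyW t)
  rw [hgs y hyW] at hb
  change b • F.presheaf.germ W y hyW sW = F.presheaf.germ W y hyW t at hb
  obtain ⟨U2, hyU2, b', rfl⟩ := TopCat.Presheaf.exists_germ_eq X.presheaf b
  obtain ⟨h1, hh1U, hyh1⟩ := hW.exists_basicOpen_le (V := U2) ⟨y, hyU2⟩ hyW
  have hD1W : X.basicOpen h1 ≤ W := X.basicOpen_le h1
  obtain ⟨b1, hb1⟩ : ∃ b1 : Γ(X, X.basicOpen h1), b1 = X.presheaf.map (homOfLE hh1U).op b' :=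
    ⟨_, rfl⟩
  have hgb : X.presheaf.germ U2 y hyU2 b' = X.presheaf.germ (X.basicOpen h1) y hyh1 b1 := by
    rw [hb1]
    exact (TopCat.Presheaf.germ_res_apply X.presheaf (homOfLE hh1U) y hyh1 b').symm
  have hgerm : F.presheaf.germ (X.basicOpen h1) y hyh1 (b1 • Glue74.res F hD1W sW) =
      F.presheaf.germ (X.basicOpen h1) y hyh1 (Glue74.res F hD1W t) := by
    rw [germ_smul, ← hgb]
    have e1 : F.presheaf.germ (X.basicOpen h1) y hyh1 (Glue74.res F hD1W sW) =
        F.presheaf.germ W y hyW sW :=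
      TopCat.Presheaf.germ_res_apply F.presheaf (homOfLE hD1W) y hyh1 sW
    have e2 : F.presheaf.germ (X.basicOpen h1) y hyh1 (Glue74.res F hD1W t) =
        F.presheaf.germ W y hyW t :=
      TopCat.Presheaf.germ_res_apply F.presheaf (homOfLE hD1W) y hyh1 t
    rw [e1, e2]
    exact hb
  obtain ⟨W2, hyW2, i1, i2, hW2⟩ :=
    TopCat.Presheaf.germ_eq F.presheaf y hyh1 hyh1 _ _ hgerm
  obtain ⟨h2, hh2W2, hyh2⟩ := hW.exists_basicOpen_le (V := W2) ⟨y, hyW2⟩ hyW
  have hD2W : X.basicOpen h2 ≤ W := X.basicOpen_le h2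
  have hD2D1 : X.basicOpen h2 ≤ X.basicOpen h1 := hh2W2.trans i1.le
  obtain ⟨b2, hb2⟩ : ∃ b2 : Γ(X, X.basicOpen h2), b2 = X.presheaf.map (homOfLE hD2D1).op b1 :=
    ⟨_, rfl⟩
  have hrel2 : b2 • Glue74.res F hD2W sW = Glue74.res F hD2W t := by
    have h3 := congrArg (Glue74.res F hh2W2) hW2
    have e1 : Glue74.res F hh2W2 (F.presheaf.map i1.op (b1 • Glue74.res F hD1W sW)) =
        b2 • Glue74.res F hD2W sW := by
      have : F.presheaf.map i1.op (b1 • Glue74.res F hD1W sW) =
          Glue74.res F i1.le (b1 • Glue74.res F hD1W sW) := rfl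
      rw [this, Glue74.res_res, Glue74.res_smul, Glue74.res_res, hb2]
    have e2 : Glue74.res F hh2W2 (F.presheaf.map i2.op (Glue74.res F hD1W t)) =
        Glue74.res F hD2W t := by
      have : F.presheaf.map i2.op (Glue74.res F hD1W t) =
          Glue74.res F i2.le (Glue74.res F hD1W t) := rfl
      rw [this, Glue74.res_res, Glue74.res_res]
    rw [e1, e2] at h3
    exact h3
  haveI := hW.isLocalization_basicOpen h2
  obtain ⟨n, c, hc⟩ := IsLocalization.Away.surj h2 b2
  have halg : ∀ r : Γ(X, W), algebraMap Γ(X, W) Γ(X, X.basicOpen h2) r =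
      X.presheaf.map (homOfLE hD2W).op r := fun r => rfl
  rw [halg, halg] at hc
  have hres0 : F.presheaf.map (homOfLE (X.basicOpen_le h2)).op (h2 ^ n • t - c • sW) = 0 := by
    change Glue74.res F hD2W _ = 0
    have hsub : Glue74.res F hD2W (h2 ^ n • t - c • sW) =
        Glue74.res F hD2W (h2 ^ n • t) - Glue74.res F hD2W (c • sW) := map_sub _ _ _
    rw [hsub, Glue74.res_smul, Glue74.res_smul, map_pow, ← hc, ← hrel2, smul_smul, mul_comm,
      sub_self]
  obtain ⟨k, hk⟩ := Groth.Agent.Lib.Helper22.exists_pow_smul_eq_zero_of_isAffineOpen F hW h2 _ hres0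
  refine ⟨X.presheaf.germ W z hzW (h2 ^ k * h2 ^ n), ?_, X.presheaf.germ W z hzW (h2 ^ k * c), ?_⟩
  · intro hmem
    have h4 : (X.presheaf.stalkSpecializes h).hom (X.presheaf.germ W z hzW (h2 ^ k * h2 ^ n)) ∈
        maximalIdeal (X.presheaf.stalk y) := hmem
    rw [TopCat.Presheaf.germ_stalkSpecializes_apply] at h4
    have hu : IsUnit (X.presheaf.germ W y hyW h2) := (X.mem_basicOpen h2 y hyW).1 hyh2
    have hu' : IsUnit (X.presheaf.germ W y hyW (h2 ^ k * h2 ^ n)) := by
      rw [map_mul, map_pow, map_pow]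
      exact (hu.pow k).mul (hu.pow n)
    exact (mem_maximalIdeal _).1 h4 hu'
  · rw [← germ_smul, ← germ_smul]
    congr 1
    have h5 : h2 ^ k • (h2 ^ n • t) = h2 ^ k • (c • sW) := by
      rw [smul_sub] at hk
      exact sub_eq_zero.1 hk
    rw [mul_smul, mul_smul, h5]

/-- **The zero locus of a nonzero section of a rank one reflexive module on a normal scheme has
pure codimension one.** -/
theorem ringKrullDim_stalk_eq_one_of_isRef1 (X : Scheme.{u}) [IsIntegral X]
    [IsLocallyNoetherian X] (hX : Pi1.IsNormalScheme X) (F : X.Modules) (hF : RefHull.IsRef1 F)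
    (s : Γ(F, ⊤)) (hs : s ≠ 0) (z : X)
    (hz : ¬ Function.Bijective fun a : X.presheaf.stalk z => a • F.presheaf.germ ⊤ z trivial s)
    (hmax : ∀ y : X,
      ¬ Function.Bijective (fun a : X.presheaf.stalk y => a • F.presheaf.germ ⊤ y trivial s) →
      y ⤳ z → y = z) :
    ringKrullDim (X.presheaf.stalk z) = 1 := by
  obtain ⟨hcoh, hrefl, hrk⟩ := hF
  obtain ⟨hqc, hft⟩ := hcoh
  haveI : F.IsQuasicoherent := hqc
  haveI : F.IsFiniteType := hft
  obtain ⟨U, hUd, hUinv⟩ := hrk
  obtain ⟨u, hu⟩ := hUd.nonempty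
  obtain ⟨T, huT, ⟨i⟩⟩ :=
    Groth.Agent.Lib.Ample.exists_iso_unit_of_isInvertible_restrict U hUinv u hu
  have hst := (isReflexive_iff_forall_isReflexiveAt F ⟨hqc, hft⟩).1 hrefl
  have htf : ∀ x : X, NoZeroSMulDivisors (X.presheaf.stalk x) (F.presheaf.stalk x) := by
    intro x
    haveI : Module.IsReflexive (X.presheaf.stalk x) (F.presheaf.stalk x) := hst x
    exact noZeroSMulDivisors_of_isTorsionFree _ _ (isTorsionFree_of_isReflexive _ _)
  have hsz : ∀ x : X, F.presheaf.germ ⊤ x trivial s ≠ 0 := germ_ne_zero_of_ne_zero F htf s hs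
  haveI : IsIntegrallyClosed (X.presheaf.stalk z) := (hX z).2
  haveI := htf z
  let φ : X.presheaf.stalk z →ₗ[X.presheaf.stalk z] F.presheaf.stalk z :=
    LinearMap.toSpanSingleton _ _ (F.presheaf.germ ⊤ z trivial s)
  have hφa : ∀ a, φ a = a • F.presheaf.germ ⊤ z trivial s := fun a => rfl
  have hφ : Function.Injective φ := by
    rw [injective_iff_map_eq_zero]
    intro a ha
    rw [hφa] at ha
    rcases smul_eq_zero.1 ha with h | h
    · exact h
    · exact absurd h (hsz z)
  have hns : ¬ Function.Surjective φ := fun hsurj => hz ⟨hφ, hsurj⟩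
  obtain ⟨g, hg⟩ : ∃ g, g ∉ LinearMap.range φ := by
    by_contra hcon
    apply hns
    intro g
    by_contra hg
    exact hcon ⟨g, hg⟩
  obtain ⟨a0, b0, hab, hrel⟩ :=
    dep_stalk F T ⟨u, huT⟩ i z g (F.presheaf.germ ⊤ z trivial s)
  have ha0 : a0 ≠ 0 := by
    rintro rfl
    rw [zero_smul, zero_add] at hrel
    rcases smul_eq_zero.1 hrel with h | h
    · exact hab.elim (fun h' => h' rfl) (fun h' => h' h)
    · exact hsz z h
  have ha0g : a0 • g ∈ LinearMap.range φ := by
    refine ⟨-b0, ?_⟩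
    rw [hφa, neg_smul]
    exact (eq_neg_of_add_eq_zero_left hrel).symm
  have hne0 : maximalIdeal (X.presheaf.stalk z) ≠ ⊥ := by
    intro hbot
    have hu : IsUnit a0 := by
      by_contra hnu
      have := (mem_maximalIdeal a0).2 hnu
      rw [hbot] at this
      exact ha0 this
    obtain ⟨v, rfl⟩ := hu
    apply hg
    have := (LinearMap.range φ).smul_mem ((↑v⁻¹ : X.presheaf.stalk z)) ha0g
    rwa [smul_smul, Units.inv_mul, one_smul] at this
  apply ringKrullDim_eq_one_of hne0
  intro h2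
  have hd : (2 : ℕ∞) ≤ LocCoh.depth (X.presheaf.stalk z) (X.presheaf.stalk z) := by
    have h3 := Groth.Agent.Lib.Helper49.Serre.min_two_le_depth_of_isIntegrallyClosed
      (R := X.presheaf.stalk z)
    rw [min_eq_left h2] at h3
    have h4 : ((2 : ℕ∞) : WithBot ℕ∞) ≤
        ((LocCoh.depth (X.presheaf.stalk z) (X.presheaf.stalk z) : ℕ∞) : WithBot ℕ∞) := h3
    exact WithBot.coe_le_coe.1 h4
  apply hg
  apply mem_range_of_forall_prime φ hφ hd hne0 g
  intro q hq hqm
  obtain ⟨ζ, hζ, rfl⟩ := exists_specializes_primeOf_eq z q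
  have hζz : ζ ≠ z := by
    rintro rfl
    exact hqm (Groth.Agent.Lib.Helper61.VdWPurity.primeOf_refl_eq ζ hζ)
  have hbij : Function.Bijective
      (fun a : X.presheaf.stalk ζ => a • F.presheaf.germ ⊤ ζ trivial s) := by
    by_contra hcon
    exact hζz (hmax ζ hcon hζ)
  obtain ⟨a, ha, b, hb⟩ := exists_smul_mem_of_specializes F s hζ hbij.2 g
  exact ⟨a, ha, b, by rw [hφa]; exact hb.symm⟩

end Groth.Agent.Lib.QCoh.RefHull74
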