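import Groth.Agent.Lib.QCoh.Helper74_RefHullBasic
import Groth.Agent.Lib.QCoh.AffineOpen
import Groth.Prelude.Def_TorSh

/-!
# RefHull API, part 2 (helper74): quasi-coherent modules of finite type — injectivity of
`evalStalk`, torsion-freeness of the sheaf Hom

Namespace `Groth.Agent.Lib.QCoh.RefHull74`.
-/

set_option linter.style.haveILetI false
universe u
open CategoryTheory CategoryTheory.Limits AlgebraicGeometry Opposite TopologicalSpace

namespace Groth.Agent.Lib.QCoh.RefHull74
open RefHull Groth.Agent.Lib.QCoh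

variable {X : Scheme.{u}}

/-- Generators of `Γ(F, U)` (`U` affine, `F` quasi-coherent) generate all stalks on `U`. -/
theorem genOn_of_span_eq_top (F : X.Modules) [F.IsQuasicoherent] {U : X.Opens}
    (hU : IsAffineOpen U) {ι : Type*} (e : ι → Γ(F, U))
    (he : Submodule.span Γ(X, U) (Set.range e) = ⊤) : GenOn F U e := by
  intro y hy
  let _ := stalkModuleOfOpen F U y hy
  let _ := X.presheaf.algebra_section_stalk ⟨y, hy⟩
  have : IsScalarTower Γ(X, U) (X.presheaf.stalk y) (F.presheaf.stalk y) :=
    .of_algebraMap_smul fun _ _ => rfl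
  have := hU.isLocalization_stalk ⟨y, hy⟩
  have := isLocalizedModule_germ F hU y hy
  have h1 := span_eq_top_of_isLocalizedModule (X.presheaf.stalk y)
    (hU.primeIdealOf ⟨y, hy⟩).asIdeal.primeCompl (germₗ F U y hy) he
  rw [← Set.range_comp] at h1
  exact h1

theorem exists_genOn_of_finite (F : X.Modules) [F.IsQuasicoherent] {U : X.Opens}
    (hU : IsAffineOpen U) [Module.Finite Γ(X, U) Γ(F, U)] :
    ∃ (n : ℕ) (e : Fin n → Γ(F, U)), GenOn F U e := by
  obtain ⟨n, s, hs⟩ := Module.Finite.exists_fin (R := Γ(X, U)) (M := Γ(F, U))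
  exact ⟨n, s, genOn_of_span_eq_top F hU s hs⟩

/-- For `F` quasi-coherent of finite type, `𝓗om(F, G)_x → Hom(F_x, G_x)` is injective. -/
theorem evalStalk_injective (F G : X.Modules) [F.IsQuasicoherent] [F.IsFiniteType] (x : X) :
    Function.Injective (evalStalk F G x) := by
  obtain ⟨_, ⟨U, hU : IsAffineOpen U, rfl⟩, hxU, -⟩ :=
    (X.isBasis_affineOpens).exists_subset_of_mem_open (Set.mem_univ x) isOpen_univ
  have : Module.Finite Γ(X, U) Γ(F, U) := finite_Γ_of_isAffineOpen hU F
  obtain ⟨n, e, he⟩ := exists_genOn_of_finite F hU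
  exact evalStalk_injective_of_genOn e he x hxU

/-- If `G` has torsion-free stalks and `F` is quasi-coherent of finite type then `𝓗om(F, G)` has
torsion-free stalks. -/
theorem isTorsionFree_homSh (F G : X.Modules) [F.IsQuasicoherent] [F.IsFiniteType]
    (hG : TorSh.IsTorsionFree G) : TorSh.IsTorsionFree (homSh F G) := by
  intro x
  have := hG x
  exact (evalStalk_injective F G x).moduleIsTorsionFree _ (fun r m => map_smul _ r m)

end Groth.Agent.Lib.QCoh.RefHull74
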