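import Groth.Agent.Lib.QCoh.Helper74_LocFreeDeg
import Groth.Agent.Lib.QCoh.Helper50_BaseChange
import Groth.Agent.S8255
import Groth.Prelude.Def_FinCov

/-!
# QCoh API (helper74): `π_* O_{Spec A} ≅ A` as modules, for a quasi-coherent algebra `A`

Namespace `Groth.Agent.Lib.QCoh`.  Uses helper42's `S8255` (`IsIso A.gammaMap`).

* `pushUnitToModule A : π_* O_{Spec A} ⟶ A.toModule` (the module map underlying `A.gammaMap`),
  `pushUnitToModule_app`, `isIso_pushUnitToModule`, `pushUnitIsoToModule`.
* `isCover_π_of_isFinLocFreeOfRank` : `A` locally free of rank `d` ⟹ `Spec A → X` is a cover of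
  degree `d`.
-/

universe u
open CategoryTheory CategoryTheory.Limits AlgebraicGeometry Opposite TopologicalSpace
namespace Groth.Agent.Lib.QCoh
open Scheme.Modules FlatMod
variable {X : Scheme.{u}}

/-- The comparison `π_* O_{Spec A} ⟶ A` as a morphism of `O_X`-modules. -/
noncomputable def pushUnitToModule (A : RelSpec.QCAlg X) :
    (Scheme.Modules.pushforward A.π).obj (Coh.structureModule A.spec) ⟶ A.toModule :=
  ⟨letI := A.moduleSect
   PresheafOfModules.homMk
    { app := fun U => AddCommGrpCat.ofHom (A.gammaMap.app U).hom.toAddMonoidHom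
      naturality := fun U V i => by
        ext m
        exact congr_arg (fun f => f.hom m) (A.gammaMap.naturality i) }
    fun U r m => by
      have h : (A.gammaMap.app U).hom ((A.π.c.app U).hom r) = (A.str.app U).hom r := by
        have h0 := NatTrans.congr_app A.π_c_gammaMap U
        rw [NatTrans.comp_app] at h0
        rw [← h0]; rfl
      exact (map_mul (A.gammaMap.app U).hom _ _).trans (congr_arg (· * _) h)⟩

theorem pushUnitToModule_app (A : RelSpec.QCAlg X) (U : X.Opens) (s : Γ(A.spec, A.π ⁻¹ᵁ U)) :
    (pushUnitToModule A).app U s = A.gammaMap.app (op U) s := rfl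

theorem isIso_pushUnitToModule (A : RelSpec.QCAlg X) : IsIso (pushUnitToModule A) := by
  have := Groth.Agent.S8255.result A
  refine isIso_of_bijective_app_of_isBasis _ (fun U : X.Opens => U) ?_ fun U => ?_
  · rw [Opens.isBasis_iff_nbhd]
    intro V x hx
    exact ⟨V, ⟨V, rfl⟩, hx, le_rfl⟩
  · have h : IsIso (A.gammaMap.app (op U)) := inferInstance
    exact ConcreteCategory.bijective_of_isIso (A.gammaMap.app (op U))

/-- `π_* O_{Spec A} ≅ A` as `O_X`-modules. -/
noncomputable def pushUnitIsoToModule (A : RelSpec.QCAlg X) :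
    (Scheme.Modules.pushforward A.π).obj (Coh.structureModule A.spec) ≅ A.toModule :=
  have := isIso_pushUnitToModule A
  asIso (pushUnitToModule A)

/-- If `A` is locally free of rank `d`, `Spec A → X` is a cover of degree `d`. -/
theorem isCover_π_of_isFinLocFreeOfRank (A : RelSpec.QCAlg X) (d : ℕ)
    (hA : FlatMod.IsFinLocFreeOfRank d A.toModule) : FinCov.IsCover A.π d :=
  (isFinLocFreeOfDeg_iff A.π d).2 ⟨inferInstance,
    isFinLocFreeOfRank_of_iso (pushUnitIsoToModule A).symm hA⟩

/-- If `A` is finite locally free, `Spec A → X` is finite, flat, locally of finite presentation. -/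
theorem isFinLocFree_π_of_isFinLocFree (A : RelSpec.QCAlg X)
    (hA : FlatMod.IsFinLocFree A.toModule) : Mor2.IsFinLocFree A.π :=
  (isAffineHom_and_isFinLocFree_pushforward_iff A.π).1 ⟨inferInstance,
    isFinLocFree_of_iso (pushUnitIsoToModule A).symm hA⟩

end Groth.Agent.Lib.QCoh
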