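import Groth.Agent.Lib.QCoh.Helper74_GlueFamily
import Groth.Agent.Lib.QCoh.Helper74_LocFreeBasis
import Groth.Prelude.Def_FinCov

/-!
# QCoh API (helper74): the trace of a finite locally free quasi-coherent algebra

Namespace `Groth.Agent.Lib.QCoh.Trace74`.

* `Good A W` : `W` affine with `A(W)` finite free over `Γ(X,W)`; `trLoc A W` the local trace.
* `good_basicOpen`, `trLoc_basicOpen` : stability under basic opens (`Algebra.trace_localization`).
* `exists_good` : good opens form a basis when `A` is finite locally free.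
* `existsUnique_isTrace` : the trace `τ : A ⟶ O_X` exists and is unique.
-/

universe u
open CategoryTheory CategoryTheory.Limits AlgebraicGeometry Opposite TopologicalSpace

namespace Groth.Agent.Lib.QCoh.Trace74
open Scheme.Modules FlatMod Groth.Agent.Lib.QCoh

variable {X : Scheme.{u}} (A : RelSpec.QCAlg X)

/-- The `Γ(X,W)`-algebra structure on `A(W)`. -/
@[reducible] noncomputable def secAlgebra (W : X.Opens) :
    Algebra Γ(X, W) (A.presheaf.obj (op W)) := (A.str.app (op W)).hom.toAlgebra

/-- `W` is affine and `A(W)` is finite free over `Γ(X,W)`. -/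
def Good (W : X.Opens) : Prop :=
  IsAffineOpen W ∧
    letI := secAlgebra A W
    Module.Free Γ(X, W) (A.presheaf.obj (op W)) ∧ Module.Finite Γ(X, W) (A.presheaf.obj (op W))

/-- The trace over `W`. -/
noncomputable def trLoc (W : X.Opens) (a : Γ(A.toModule, W)) : Γ(Coh.structureModule X, W) :=
  letI := secAlgebra A W
  Algebra.trace Γ(X, W) (A.presheaf.obj (op W)) (a : A.presheaf.obj (op W))

section BasicOpen

variable {W : X.Opens} (hW : Good A W) (f : Γ(X, W))

include hW in
theorem good_and_trLoc_basicOpen :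
    Good A (X.basicOpen f) ∧ ∀ a : Γ(A.toModule, W),
      trLoc A (X.basicOpen f) (Glue74.res A.toModule (X.basicOpen_le f) a) =
        Glue74.res (Coh.structureModule X) (X.basicOpen_le f) (trLoc A W a) := by
  obtain ⟨haff, hfree, hfin⟩ := hW
  let _ := secAlgebra A W
  let _ := secAlgebra A (X.basicOpen f)
  let _ : Algebra (A.presheaf.obj (op W)) (A.presheaf.obj (op (X.basicOpen f))) :=
    (A.presheaf.map (homOfLE (X.basicOpen_le f)).op).hom.toAlgebra
  let _ : Algebra Γ(X, W) (A.presheaf.obj (op (X.basicOpen f))) :=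
    ((algebraMap Γ(X, X.basicOpen f) (A.presheaf.obj (op (X.basicOpen f)))).comp
      (algebraMap Γ(X, W) Γ(X, X.basicOpen f))).toAlgebra
  have t1 : IsScalarTower Γ(X, W) Γ(X, X.basicOpen f) (A.presheaf.obj (op (X.basicOpen f))) :=
    .of_algebraMap_eq fun _ => rfl
  have t2 : IsScalarTower Γ(X, W) (A.presheaf.obj (op W))
      (A.presheaf.obj (op (X.basicOpen f))) := .of_algebraMap_eq fun r => by
    exact congr($(A.str.naturality (homOfLE (X.basicOpen_le f)).op) r)
  have l1 : IsLocalization (Submonoid.powers f) Γ(X, X.basicOpen f) :=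
    haff.isLocalization_basicOpen f
  have l2 : IsLocalization (Algebra.algebraMapSubmonoid (A.presheaf.obj (op W))
      (Submonoid.powers f)) (A.presheaf.obj (op (X.basicOpen f))) := by
    rw [Algebra.algebraMapSubmonoid_powers]
    exact A.isQC W haff f
  let b := Module.Free.chooseBasis Γ(X, W) (A.presheaf.obj (op W))
  let b' := b.localizationLocalization Γ(X, X.basicOpen f) (Submonoid.powers f)
    (A.presheaf.obj (op (X.basicOpen f)))
  refine ⟨⟨haff.basicOpen f, Module.Free.of_basis b', Module.Finite.of_basis b'⟩, fun a => ?_⟩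
  exact Algebra.trace_localization (S := A.presheaf.obj (op W))
    (Rₘ := Γ(X, X.basicOpen f)) (Sₘ := A.presheaf.obj (op (X.basicOpen f))) Γ(X, W)
    (Submonoid.powers f) a

end BasicOpen

/-- Good opens form a basis when `A` is finite locally free. -/
theorem exists_good (hA : IsFinLocFree A.toModule) (V : X.Opens) (x : X) (hx : x ∈ V) :
    ∃ W : X.Opens, Good A W ∧ x ∈ W ∧ W ≤ V := by
  have : A.toModule.IsQuasicoherent := isQuasicoherent_of_isFinLocFree hA
  obtain ⟨_, ⟨U₀, hU₀ : IsAffineOpen U₀, rfl⟩, hxU₀, hU₀V⟩ :=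
    (X.isBasis_affineOpens).exists_subset_of_mem_open hx V.2
  obtain ⟨hfin, hproj⟩ := finite_projective_Γ_of_isAffineOpen hA hU₀
  have : Module.FinitePresentation Γ(X, U₀) Γ(A.toModule, U₀) :=
    Module.finitePresentation_of_projective _ _
  let p := (hU₀.primeIdealOf ⟨x, hxU₀⟩).asIdeal
  have : Module.Finite (Localization.AtPrime p) (LocalizedModule p.primeCompl Γ(A.toModule, U₀)) :=
    Module.Finite.of_isLocalizedModule p.primeCompl (LocalizedModule.mkLinearMap p.primeCompl _)
  have : Module.Projective (Localization.AtPrime p)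
      (LocalizedModule p.primeCompl Γ(A.toModule, U₀)) :=
    Module.projective_of_isLocalizedModule p.primeCompl (LocalizedModule.mkLinearMap p.primeCompl _)
  have : Module.Free (Localization.AtPrime p) (LocalizedModule p.primeCompl Γ(A.toModule, U₀)) :=
    Module.free_of_flat_of_isLocalRing
  let b := Module.Free.chooseBasis (Localization.AtPrime p)
    (LocalizedModule p.primeCompl Γ(A.toModule, U₀))
  obtain ⟨s, hs, b', -⟩ := Module.FinitePresentation.exists_basis_localizedModule_powers
    p.primeCompl (LocalizedModule.mkLinearMap p.primeCompl Γ(A.toModule, U₀))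
    (Localization.AtPrime p) b
  let _ := Groth.Agent.Lib.Helper61.QCohSections.resModule A.toModule (X.basicOpen_le s)
  let _ := Groth.Agent.Lib.Helper61.QCohSections.resAlgebra (X := X) (X.basicOpen_le s)
  have := Groth.Agent.Lib.Helper61.QCohSections.isScalarTower_res A.toModule (X.basicOpen_le s)
  have : IsLocalization.Away s Γ(X, X.basicOpen s) := hU₀.isLocalization_basicOpen s
  have := Groth.Agent.Lib.Helper61.QCohSections.isLocalizedModule_res_basicOpen A.toModule hU₀ s
  let b'' : Module.Basis _ Γ(X, X.basicOpen s) Γ(A.toModule, X.basicOpen s) :=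
    basisOfIsLocalizedModule (Submonoid.powers s)
      (Groth.Agent.Lib.Helper61.QCohSections.resLinear A.toModule (X.basicOpen_le s)) b'
  refine ⟨X.basicOpen s, ⟨hU₀.basicOpen s, ?_, ?_⟩,
    (notMem_primeIdealOf_iff hU₀ x hxU₀ s).1 hs, (X.basicOpen_le s).trans hU₀V⟩
  · have h := Module.Free.of_basis b''
    exact h
  · have h := Module.Finite.of_basis b''
    exact h

lemma trLoc_add (W : X.Opens) (a b : Γ(A.toModule, W)) :
    trLoc A W (a + b) = trLoc A W a + trLoc A W b := by
  let _ := secAlgebra A W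
  exact map_add (Algebra.trace Γ(X, W) (A.presheaf.obj (op W))) _ _

lemma trLoc_smul (W : X.Opens) (r : Γ(X, W)) (a : Γ(A.toModule, W)) :
    trLoc A W (r • a) = r • trLoc A W a := by
  let _ := secAlgebra A W
  exact (Algebra.trace Γ(X, W) (A.presheaf.obj (op W))).map_smul r _

/-- **The trace of a finite locally free quasi-coherent algebra exists and is unique.** -/
theorem existsUnique_isTrace (hA : IsFinLocFree A.toModule) :
    ∃! τ : A.toModule ⟶ Coh.structureModule X, FinCov.IsTrace A τ := by
  have hbasis := exists_good A hA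
  have hrel : ∀ {W' W : X.Opens}, (∃ f : Γ(X, W), W' = X.basicOpen f) → W' ≤ W := by
    rintro W' W ⟨f, rfl⟩
    exact X.basicOpen_le f
  obtain ⟨ψ, hnat, hψ⟩ := Glue74.exists_family A.toModule (Coh.structureModule X) (Good A) hbasis
    (fun W _ => trLoc A W) (fun W' W => ∃ f : Γ(X, W), W' = X.basicOpen f) hrel
    (by
      rintro W' W hW' hW ⟨f, rfl⟩ a
      exact (good_and_trLoc_basicOpen A hW f).2 a)
    (by
      intro W₁ W₂ hW₁ hW₂ x hx
      obtain ⟨f, g, hfg, hxf⟩ := exists_basicOpen_le_affine_inter hW₁.1 hW₂.1 x hx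
      exact ⟨X.basicOpen f, (good_and_trLoc_basicOpen A hW₁ f).1, hxf, ⟨f, rfl⟩, ⟨g, hfg⟩⟩)
  have hadd : ∀ (U : X.Opens) (a b : Γ(A.toModule, U)), ψ U (a + b) = ψ U a + ψ U b := by
    intro U a b
    refine Glue74.eq_of_good _ (Good A) hbasis _ _ fun W hW hWU => ?_
    calc Glue74.res (Coh.structureModule X) hWU (ψ U (a + b))
        = ψ W (Glue74.res A.toModule hWU (a + b)) := (hnat hWU _).symm
      _ = trLoc A W (Glue74.res A.toModule hWU a + Glue74.res A.toModule hWU b) := by
          rw [hψ W hW, Glue74.res_add]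
      _ = trLoc A W (Glue74.res A.toModule hWU a) + trLoc A W (Glue74.res A.toModule hWU b) :=
          trLoc_add A W _ _
      _ = Glue74.res (Coh.structureModule X) hWU (ψ U a) +
            Glue74.res (Coh.structureModule X) hWU (ψ U b) := by
          rw [← hψ W hW, ← hψ W hW, hnat hWU, hnat hWU]
      _ = Glue74.res (Coh.structureModule X) hWU (ψ U a + ψ U b) := (Glue74.res_add _ _ _ _).symm
  have hsmul : ∀ (U : X.Opens) (r : Γ(X, U)) (a : Γ(A.toModule, U)), ψ U (r • a) = r • ψ U a := by
    intro U r a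
    refine Glue74.eq_of_good _ (Good A) hbasis _ _ fun W hW hWU => ?_
    calc Glue74.res (Coh.structureModule X) hWU (ψ U (r • a))
        = ψ W (Glue74.res A.toModule hWU (r • a)) := (hnat hWU _).symm
      _ = trLoc A W (X.presheaf.map (homOfLE hWU).op r • Glue74.res A.toModule hWU a) := by
          rw [hψ W hW, Glue74.res_smul]
      _ = X.presheaf.map (homOfLE hWU).op r • trLoc A W (Glue74.res A.toModule hWU a) :=
          trLoc_smul A W _ _
      _ = X.presheaf.map (homOfLE hWU).op r • Glue74.res (Coh.structureModule X) hWU (ψ U a) := by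
          rw [← hψ W hW, hnat hWU]
      _ = Glue74.res (Coh.structureModule X) hWU (r • ψ U a) := (Glue74.res_smul _ _ _ _).symm
  refine ⟨Glue74.homOfFamily ψ hnat hadd hsmul, ?_, ?_⟩
  · intro U hU hfree hfin a
    exact hψ U ⟨hU, hfree, hfin⟩ a
  · intro τ' hτ'
    apply hom_ext_of_locally
    intro V x hx
    obtain ⟨W, hW, hxW, hWV⟩ := hbasis V x hx
    refine ⟨W, hxW, hWV, ?_⟩
    ext a
    exact (hτ' W hW.1 hW.2.1 hW.2.2 a).trans (hψ W hW a).symm

end Groth.Agent.Lib.QCoh.Trace74
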