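import Mathlib.RingTheory.Kaehler.Basic
import Mathlib.LinearAlgebra.TensorProduct.Quotient
import Mathlib.RingTheory.Ideal.Cotangent

universe u
open TensorProduct

namespace Groth.Agent.Lib.QCoh.OmegaAlg

section cot

variable {B A' : Type u} [CommRing B] [CommRing A'] (δ : B →+* A') (hδ : Function.Surjective δ)

/-- `A' ⊗_B I ≃ I/I²` for `I = ker (δ : B ↠ A')` -/
noncomputable def tensorKerEquivCotangent :
    letI : Algebra B A' := δ.toAlgebra
    A' ⊗[B] (RingHom.ker δ) ≃ₗ[B] (RingHom.ker δ).Cotangent :=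
  letI : Algebra B A' := δ.toAlgebra
  let q : (B ⧸ RingHom.ker δ) ≃ₗ[B] A' :=
    (Ideal.quotientKerAlgEquivOfSurjective (f := Algebra.ofId B A') hδ).toLinearEquiv
  (TensorProduct.congr q.symm (LinearEquiv.refl B (RingHom.ker δ))) ≪≫ₗ
    TensorProduct.quotTensorEquivQuotSMul (RingHom.ker δ) (RingHom.ker δ)

end cot

section cotIso

variable {T B : Type u} [CommRing T] [CommRing B] (β : T ≃+* B) (K : Ideal T) (I : Ideal B)
  (hKI : ∀ x, β x ∈ I ↔ x ∈ K)

/-- transport of cotangent spaces along a ring isomorphism -/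
noncomputable def cotangentEquivOfRingEquiv :
    letI : Algebra T B := β.toRingHom.toAlgebra
    K.Cotangent ≃ₗ[T] I.Cotangent :=
  letI : Algebra T B := β.toRingHom.toAlgebra
  let f : T →ₐ[T] B := Algebra.ofId T B
  let g : B →ₐ[T] T := { β.symm.toRingHom with commutes' := fun t => β.symm_apply_apply t }
  have hf : K ≤ I.comap f := fun x hx => (hKI x).2 hx
  have hg : I ≤ K.comap g := fun y hy => by
    change β.symm y ∈ K
    rw [← hKI, β.apply_symm_apply]; exact hy
  LinearEquiv.ofLinearMap (Ideal.mapCotangent K I f hf) (Ideal.mapCotangent I K g hg)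
    (by
      apply LinearMap.ext
      intro z
      obtain ⟨y, rfl⟩ := Ideal.toCotangent_surjective I z
      simp only [LinearMap.comp_apply, Ideal.mapCotangent_toCotangent, LinearMap.id_apply]
      congr 1
      exact Subtype.ext (β.apply_symm_apply y.1))
    (by
      apply LinearMap.ext
      intro z
      obtain ⟨y, rfl⟩ := Ideal.toCotangent_surjective K z
      simp only [LinearMap.comp_apply, Ideal.mapCotangent_toCotangent, LinearMap.id_apply]
      congr 1
      exact Subtype.ext (β.symm_apply_apply y.1))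

end cotIso

section main

variable {R A : Type u} [CommRing R] [CommRing A] [Algebra R A]
  {B A' : Type u} [CommRing B] [CommRing A']
  (β : A ⊗[R] A ≃+* B) (δ : B →+* A') (γ : A →+* A')
  (h1 : ∀ a, δ (β (a ⊗ₜ 1)) = γ a)
  (h2 : ∀ x, δ (β x) = 0 ↔ Algebra.TensorProduct.lmul' (S := A) R x = 0)
  (hδ : Function.Surjective δ)

include h1 h2 hδ in
/-- **algebraic core of `Ω_{Spec A/Spec R} = Ω[A/R]^~`**: if `B ≅ A ⊗_R A` compatibly with the
multiplication maps to `A' ≅ A`, then `A' ⊗_B ker(B → A')` is `Ω[A⁄R]`, semilinearly. -/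
theorem exists_addEquiv_kaehler :
    letI : Algebra B A' := δ.toAlgebra
    ∃ E : A' ⊗[B] (RingHom.ker δ) ≃+ Ω[A⁄R], ∀ (a : A) z, E (γ a • z) = a • E z := by
  letI : Algebra B A' := δ.toAlgebra
  letI : Algebra (A ⊗[R] A) B := β.toRingHom.toAlgebra
  have hKI : ∀ x, β x ∈ RingHom.ker δ ↔ x ∈ KaehlerDifferential.ideal R A := fun x => by
    rw [RingHom.mem_ker, h2 x]
    exact Iff.rfl
  let E1 := tensorKerEquivCotangent δ hδ
  let E2 := cotangentEquivOfRingEquiv β (KaehlerDifferential.ideal R A) (RingHom.ker δ) hKI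
  refine ⟨E1.toAddEquiv.trans E2.symm.toAddEquiv, fun a z => ?_⟩
  have e1 : γ a • z = (β (a ⊗ₜ 1)) • z := by
    rw [← h1 a]
    exact (algebraMap_smul A' (β (a ⊗ₜ[R] (1 : A))) z)
  have e2 : ∀ (t : A ⊗[R] A) (w : (RingHom.ker δ).Cotangent), E2.symm (β t • w) = t • E2.symm w := by
    intro t w
    have : β t • w = t • w := (algebraMap_smul B t w)
    rw [this, map_smul]
  change E2.symm (E1 (γ a • z)) = a • E2.symm (E1 z)
  rw [e1, map_smul, e2]
  have e3 : ∀ ω : Ω[A⁄R], (a ⊗ₜ[R] (1 : A)) • ω = a • ω := by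
    intro ω
    have : (a ⊗ₜ[R] (1 : A) : A ⊗[R] A) = a • (1 : A ⊗[R] A) := by
      rw [Algebra.TensorProduct.one_def, TensorProduct.smul_tmul', smul_eq_mul, mul_one]
    rw [this, smul_assoc, one_smul]
  exact e3 _

end main

end Groth.Agent.Lib.QCoh.OmegaAlg
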