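import Mathlib.Algebra.Category.ModuleCat.Presheaf.Monoidal
import Mathlib.Algebra.Category.ModuleCat.Presheaf.Sheafification
import Mathlib.CategoryTheory.Sites.LocallyBijective
import Mathlib.CategoryTheory.Localization.Monoidal.Braided
import Mathlib.LinearAlgebra.TensorProduct.Vanishing
import Mathlib.RingTheory.TensorProduct.DirectLimitFG
import Mathlib.LinearAlgebra.TensorProduct.Finiteness

/-!
# QCoh API / TENSOR (lead): tensoring preserves locally bijective maps of presheaves of modules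

General site `(C, J)`, `R : Cᵒᵖ ⥤ CommRingCat`, presheaves of modules over `R ⋙ forget₂ _ _` with
Mathlib's sectionwise tensor product `P ⊗ Q`.

* `exists_vanishesTrivially_of_rTensor_eq_zero` : pure algebra (equational criterion of vanishing)
* `iInf_fin_mem` : finite intersections of covering sieves are covering
* `isLocallySurjective_whiskerRight` : `f` locally surjective ⇒ `f ▷ Q` locally surjective
* `isLocallyInjective_whiskerRight` : `f` locally bijective ⇒ `f ▷ Q` locally injective
* `locallyBijective J R : MorphismProperty (PresheafOfModules (R ⋙ forget₂ _ _))` with instances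
  `IsMultiplicative` and **`IsMonoidal`** (whiskerLeft via the braiding)
-/

universe u v₁ u₁
open CategoryTheory MonoidalCategory Opposite TensorProduct

namespace Groth.Agent.Lib.QCoh

section Algebra

variable {A : Type*} [CommRing A] {M M' N : Type*} [AddCommGroup M] [Module A M]
  [AddCommGroup M'] [Module A M'] [AddCommGroup N] [Module A N]

/-- If `x ∈ M ⊗ N` dies in `M' ⊗ N`, then `x = ∑ mᵢ ⊗ nᵢ` where, after adding finitely many extra
elements `m'ᵢ` of `M'` (paired with `0`), the family `(φ mᵢ, m'ᵢ)`, `(nᵢ, 0)` vanishes trivially. -/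
theorem exists_vanishesTrivially_of_rTensor_eq_zero (φ : M →ₗ[A] M') (x : M ⊗[A] N)
    (hx : φ.rTensor N x = 0) :
    ∃ (k l : ℕ) (m : Fin k → M) (n : Fin k → N) (m' : Fin l → M'),
      x = ∑ i, m i ⊗ₜ[A] n i ∧
      VanishesTrivially A (Sum.elim (φ ∘ m) m') (Sum.elim n (fun _ => (0 : N))) := by
  obtain ⟨k, m, n, rfl⟩ := exists_sum_tmul_eq x
  simp only [map_sum, LinearMap.rTensor_tmul] at hx
  let P₁ : Submodule A M' := Submodule.span A (Set.range (φ ∘ m))
  have hP₁ : P₁.FG := Submodule.fg_span (Set.finite_range _)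
  let μ₁ : Fin k → P₁ := fun i => ⟨φ (m i), Submodule.subset_span ⟨i, rfl⟩⟩
  let t : P₁ ⊗[A] N := ∑ i, μ₁ i ⊗ₜ[A] n i
  have ht : LinearMap.rTensor N P₁.subtype t = 0 := by
    simp only [t, map_sum, LinearMap.rTensor_tmul]
    exact hx
  obtain ⟨Q₁, hPQ, hQfg, hQ⟩ := TensorProduct.eq_zero_of_fg_of_subtype_eq_zero hP₁ ht
  obtain ⟨l, s, hs⟩ := Submodule.fg_iff_exists_fin_generating_family.1 hQfg
  have hsQ : ∀ i, s i ∈ Q₁ := fun i => hs ▸ Submodule.subset_span ⟨i, rfl⟩
  let g : Fin l → Q₁ := fun i => ⟨s i, hsQ i⟩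
  let μ : Fin k ⊕ Fin l → Q₁ := Sum.elim (fun i => Submodule.inclusion hPQ (μ₁ i)) g
  let ν : Fin k ⊕ Fin l → N := Sum.elim n (fun _ => (0 : N))
  have hspan : Submodule.span A (Set.range μ) = ⊤ := by
    rw [eq_top_iff]
    rintro ⟨z, hz⟩ -
    have hz' : z ∈ Submodule.span A (Set.range s) := hs ▸ hz
    have : Submodule.span A (Set.range s) ≤
        (Submodule.span A (Set.range μ)).map Q₁.subtype := by
      rw [Submodule.span_le]
      rintro _ ⟨i, rfl⟩
      exact ⟨g i, Submodule.subset_span ⟨Sum.inr i, rfl⟩, rfl⟩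
    obtain ⟨w, hw, hwz⟩ := this hz'
    have : w = ⟨z, hz⟩ := Subtype.ext hwz
    exact this ▸ hw
  have hsum : ∑ i, μ i ⊗ₜ[A] ν i = 0 := by
    rw [Fintype.sum_sum_type]
    simp only [μ, ν, Sum.elim_inl, Sum.elim_inr, tmul_zero, Finset.sum_const_zero, add_zero]
    simpa only [t, map_sum, LinearMap.rTensor_tmul] using hQ
  obtain ⟨k', a, y, h₁, h₂⟩ := vanishesTrivially_of_sum_tmul_eq_zero A hspan hsum
  refine ⟨k, l, m, n, s, rfl, k', a, y, h₁, fun j => ?_⟩
  have := congr_arg Q₁.subtype (h₂ j)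
  simp only [map_sum, map_smul, map_zero] at this
  rw [← this]
  refine Finset.sum_congr rfl fun i _ => ?_
  rcases i with i | i <;> rfl

end Algebra


variable {C : Type u₁} [Category.{v₁} C] (J : GrothendieckTopology C)
  {R : Cᵒᵖ ⥤ CommRingCat.{u}}

/-- A finite intersection of covering sieves is covering. -/
theorem iInf_fin_mem {X : C} {n : ℕ} (S : Fin n → Sieve X) (h : ∀ i, S i ∈ J X) :
    (⨅ i, S i) ∈ J X := by
  induction n with
  | zero =>
    convert J.top_mem X
    rw [eq_top_iff]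
    exact le_iInf fun i => i.elim0
  | succ n ih =>
    have : (⨅ i, S i) = S 0 ⊓ ⨅ i : Fin n, S i.succ := by
      apply le_antisymm
      · exact le_inf (iInf_le _ _) (le_iInf fun i => iInf_le _ _)
      · refine le_iInf fun i => ?_
        refine Fin.cases ?_ (fun j => ?_) i
        · exact inf_le_left
        · exact inf_le_right.trans (iInf_le _ j)
    rw [this]
    exact J.intersection_covering (h 0) (ih _ fun i => h _)

theorem iInf_fin_apply {X : C} {n : ℕ} (S : Fin n → Sieve X) {Y : C} (g : Y ⟶ X) :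
    (⨅ i, S i) g ↔ ∀ i, S i g := by
  rw [iInf, Sieve.sInf_apply]
  constructor
  · intro h i
    exact h _ ⟨i, rfl⟩
  · rintro h _ ⟨i, rfl⟩
    exact h i

variable {P P' : PresheafOfModules.{u} (R ⋙ forget₂ _ _)} (f : P ⟶ P')
  (Q : PresheafOfModules.{u} (R ⋙ forget₂ _ _))

noncomputable abbrev abMap {M₁ M₂ : PresheafOfModules.{u} (R ⋙ forget₂ _ _)} (φ : M₁ ⟶ M₂) :=
  (PresheafOfModules.toPresheaf (R ⋙ forget₂ _ _)).map φ

/-- restriction of sections of a presheaf of modules, as a semilinear map -/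
noncomputable abbrev res (M : PresheafOfModules.{u} (R ⋙ forget₂ _ _)) {U V : C} (g : V ⟶ U) :
    M.obj (op U) →ₛₗ[(R.map g.op).hom] M.obj (op V) := M.restrictₛₗ g.op

lemma res_tmul {U V : C} (g : V ⟶ U) (p : P.obj (op U)) (q : Q.obj (op U)) :
    (P ⊗ Q).map g.op (p ⊗ₜ q) = (res P g p) ⊗ₜ (res Q g q) := rfl

lemma map_sum_tmul {U V : C} (g : V ⟶ U) {k : ℕ} (m : Fin k → P.obj (op U))
    (n : Fin k → Q.obj (op U)) :
    (P ⊗ Q).map g.op (∑ i, m i ⊗ₜ[R.obj (op U)] n i :
      (P.obj (op U) : Type u) ⊗[R.obj (op U)] (Q.obj (op U) : Type u)) =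
    (∑ i, res P g (m i) ⊗ₜ[R.obj (op V)] res Q g (n i) :
      (P.obj (op V) : Type u) ⊗[R.obj (op V)] (Q.obj (op V) : Type u)) :=
  map_sum (res (P ⊗ Q) g) (fun i => (m i ⊗ₜ[R.obj (op U)] n i :
      (P.obj (op U) : Type u) ⊗[R.obj (op U)] (Q.obj (op U) : Type u))) Finset.univ

/-- key step: sections of `P ⊗ Q` killed by `f ▷ Q` are locally zero -/
theorem equalizerSieve_zero_mem_of_whiskerRight_eq_zero
    [PresheafOfModules.IsLocallyInjective J f] [PresheafOfModules.IsLocallySurjective J f]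
    (U : C) (z : (P.obj (op U) : Type u) ⊗[R.obj (op U)] (Q.obj (op U) : Type u))
    (hz : LinearMap.rTensor (Q.obj (op U)) (f.app (op U)).hom z = 0) :
    ∃ S ∈ J U, ∀ ⦃V : C⦄ (g : V ⟶ U), S g → (P ⊗ Q).map g.op z = 0 := by
  obtain ⟨k, l, m, n, m', rfl, k', a, y, h₁, h₂⟩ :=
    exists_vanishesTrivially_of_rTensor_eq_zero _ z hz
  -- first cover: lift the `m' i`
  let S₁ : Sieve U := ⨅ i : Fin l, Presheaf.imageSieve (abMap f) (U := U) (m' i)
  have hS₁ : S₁ ∈ J U := iInf_fin_mem J _ fun i =>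
    Presheaf.imageSieve_mem J (abMap f) (U := op U) (m' i)
  -- on each member of the first cover, a second cover
  have step : ∀ ⦃V : C⦄ (g : V ⟶ U), S₁ g → ∃ T ∈ J V, ∀ ⦃W : C⦄ (h : W ⟶ V), T h →
      (P ⊗ Q).map (h ≫ g).op (∑ i, m i ⊗ₜ[R.obj (op U)] n i) = 0 := by
    intro V g hg
    rw [iInf_fin_apply] at hg
    choose p hp using hg
    -- hp i : f.app (op V) (p i) = P'.map g.op (m' i)
    let π : Fin k ⊕ Fin l → P.obj (op V) := Sum.elim (fun i => res P g (m i)) p
    have hπ : ∀ i, f.app (op V) (π i) =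
        res P' g (Sum.elim ((f.app (op U)).hom ∘ m) m' i) := by
      rintro (i | i)
      · exact PresheafOfModules.naturality_apply f g.op (m i)
      · exact hp i
    let ζ : Fin k' → P.obj (op V) := fun j => ∑ i, (R.map g.op (a i j)) • π i
    have hζ : ∀ j, f.app (op V) (ζ j) = 0 := by
      intro j
      have := congrArg (res P' g) (h₂ j)
      rw [map_zero, map_sum] at this
      rw [← this]
      simp only [ζ, map_sum, map_smul]
      refine Finset.sum_congr rfl fun i _ => ?_
      rw [hπ i, map_smulₛₗ]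
    let T : Sieve V := ⨅ j : Fin k', Presheaf.equalizerSieve
      (F := (PresheafOfModules.toPresheaf (R ⋙ forget₂ _ _)).obj P) (X := op V) (ζ j) 0
    have hT : T ∈ J V := iInf_fin_mem J _ fun j =>
      Presheaf.equalizerSieve_mem J (abMap f) (X := op V) (ζ j) 0 (by
        erw [map_zero]; exact hζ j)
    refine ⟨T, hT, fun W h hh => ?_⟩
    rw [iInf_fin_apply] at hh
    have hh' : ∀ j, res P h (ζ j) = 0 := fun j => by
      have := hh j
      change (res P h) (ζ j) = (res P h) 0 at this
      rwa [map_zero] at this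
    let π' : Fin k ⊕ Fin l → P.obj (op W) := fun i => res P h (π i)
    let ν' : Fin k ⊕ Fin l → Q.obj (op W) := fun i => res Q (h ≫ g) (Sum.elim n (fun _ => 0) i)
    have hv : VanishesTrivially (R.obj (op W)) π' ν' := by
      refine ⟨k', fun i j => R.map (h ≫ g).op (a i j), fun j => res Q (h ≫ g) (y j), ?_, ?_⟩
      · intro i
        simp only [ν', h₁ i, map_sum, map_smulₛₗ]
      · intro j
        rw [← hh' j]
        simp only [ζ, map_sum, map_smulₛₗ, π']
        refine Finset.sum_congr rfl fun i _ => ?_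
        congr 1
        simp only [op_comp, Functor.map_comp]
        rfl
    have := sum_tmul_eq_zero_of_vanishesTrivially _ hv
    rw [Fintype.sum_sum_type] at this
    simp only [π', ν', π, Sum.elim_inl, Sum.elim_inr, map_zero, tmul_zero,
      Finset.sum_const_zero, add_zero] at this
    refine (map_sum_tmul Q (h ≫ g) m n).trans (Eq.trans ?_ this)
    refine Finset.sum_congr rfl fun i _ => ?_
    congr 1
    exact PresheafOfModules.map_comp_apply P g.op h.op (m i)
  refine ⟨Sieve.bind S₁ (fun V g hg => (step g hg).choose),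
    J.bind_covering hS₁ (fun V g hg => (step g hg).choose_spec.1), ?_⟩
  rintro W _ ⟨V, h, g, hg, hh, rfl⟩
  exact (step g hg).choose_spec.2 h hh

theorem isLocallySurjective_whiskerRight [PresheafOfModules.IsLocallySurjective J f] :
    PresheafOfModules.IsLocallySurjective J (f ▷ Q) := by
  constructor
  intro U s
  refine TensorProduct.induction_on
    (motive := fun s : (P'.obj (op U) : Type u) ⊗[R.obj (op U)] (Q.obj (op U) : Type u) =>
      Presheaf.imageSieve (abMap (f ▷ Q)) (U := U) s ∈ J U) s ?_ ?_ ?_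
  · convert J.top_mem U
    ext V g
    simp only [Sieve.top_apply, iff_true]
    refine ⟨0, ?_⟩
    erw [map_zero]
  · intro p' q
    refine J.superset_covering ?_ (Presheaf.imageSieve_mem J (abMap f) (U := op U) p')
    intro V g ⟨t, ht⟩
    refine ⟨(t ⊗ₜ[R.obj (op V)] (Q.map g.op q) : (P.obj (op V) : Type u) ⊗[R.obj (op V)] (Q.obj (op V) : Type u)), ?_⟩
    exact congrArg (fun z => (z ⊗ₜ[R.obj (op V)] (Q.map g.op q) :
      (P'.obj (op V) : Type u) ⊗[R.obj (op V)] (Q.obj (op V) : Type u))) ht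
  · intro s₁ s₂ h₁ h₂
    refine J.superset_covering ?_ (J.intersection_covering h₁ h₂)
    rintro V g ⟨⟨t₁, ht₁⟩, ⟨t₂, ht₂⟩⟩
    refine ⟨t₁ + t₂, ?_⟩
    erw [map_add, map_add, ht₁, ht₂]


theorem isLocallyInjective_whiskerRight
    [PresheafOfModules.IsLocallyInjective J f] [PresheafOfModules.IsLocallySurjective J f] :
    PresheafOfModules.IsLocallyInjective J (f ▷ Q) := by
  constructor
  intro U x y hxy
  obtain ⟨S, hS, h⟩ := equalizerSieve_zero_mem_of_whiskerRight_eq_zero J f Q U.unop (x - y) (by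
    have : (abMap (f ▷ Q)).app U (x - y) = 0 := by
      erw [map_sub, hxy, sub_self]
    exact this)
  refine J.superset_covering ?_ hS
  intro V g hg
  have e : (res (P ⊗ Q) g) x - (res (P ⊗ Q) g) y = 0 :=
    (map_sub (res (P ⊗ Q) g) x y).symm.trans (h g hg)
  exact sub_eq_zero.1 e


variable (R) in
/-- The class of locally bijective morphisms of presheaves of modules. -/
def locallyBijective : MorphismProperty (PresheafOfModules.{u} (R ⋙ forget₂ _ _)) :=
  fun _ _ f => PresheafOfModules.IsLocallyInjective J f ∧ PresheafOfModules.IsLocallySurjective J f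

lemma locallyBijective_iff {M₁ M₂ : PresheafOfModules.{u} (R ⋙ forget₂ _ _)} (φ : M₁ ⟶ M₂) :
    locallyBijective J R φ ↔
      PresheafOfModules.IsLocallyInjective J φ ∧ PresheafOfModules.IsLocallySurjective J φ :=
  Iff.rfl

lemma locallyBijective_of_isIso {M₁ M₂ : PresheafOfModules.{u} (R ⋙ forget₂ _ _)} (φ : M₁ ⟶ M₂)
    [IsIso φ] : locallyBijective J R φ := by
  have : IsIso (abMap φ) := inferInstanceAs (IsIso ((PresheafOfModules.toPresheaf _).map φ))
  exact ⟨inferInstanceAs (Presheaf.IsLocallyInjective J (abMap φ)),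
    inferInstanceAs (Presheaf.IsLocallySurjective J (abMap φ))⟩

lemma locallyBijective_comp {M₁ M₂ M₃ : PresheafOfModules.{u} (R ⋙ forget₂ _ _)} (φ : M₁ ⟶ M₂)
    (ψ : M₂ ⟶ M₃) (hφ : locallyBijective J R φ) (hψ : locallyBijective J R ψ) :
    locallyBijective J R (φ ≫ ψ) := by
  obtain ⟨h1, h2⟩ := hφ
  obtain ⟨h3, h4⟩ := hψ
  have e : abMap (φ ≫ ψ) = abMap φ ≫ abMap ψ := Functor.map_comp _ _ _
  constructor
  · change Presheaf.IsLocallyInjective J (abMap (φ ≫ ψ))
    rw [e]
    have : Presheaf.IsLocallyInjective J (abMap φ) := h1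
    have : Presheaf.IsLocallyInjective J (abMap ψ) := h3
    infer_instance
  · change Presheaf.IsLocallySurjective J (abMap (φ ≫ ψ))
    rw [e]
    have : Presheaf.IsLocallySurjective J (abMap φ) := h2
    have : Presheaf.IsLocallySurjective J (abMap ψ) := h4
    infer_instance

instance : (locallyBijective J R).IsMultiplicative where
  id_mem M := locallyBijective_of_isIso J (𝟙 M)
  comp_mem φ ψ hφ hψ := locallyBijective_comp J φ ψ hφ hψ

instance : (locallyBijective J R).IsMonoidal where
  whiskerRight f hf Q := by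
    obtain ⟨h1, h2⟩ := hf
    exact ⟨isLocallyInjective_whiskerRight J f Q, isLocallySurjective_whiskerRight J f Q⟩
  whiskerLeft Q _ _ f hf := by
    have e : Q ◁ f = (β_ Q _).hom ≫ f ▷ Q ≫ (β_ Q _).inv := by
      rw [← Category.assoc, ← BraidedCategory.braiding_naturality_right, Category.assoc,
        Iso.hom_inv_id, Category.comp_id]
    rw [e]
    obtain ⟨h1, h2⟩ := hf
    exact locallyBijective_comp J _ _ (locallyBijective_of_isIso J _)
      (locallyBijective_comp J _ _
        ⟨isLocallyInjective_whiskerRight J f Q, isLocallySurjective_whiskerRight J f Q⟩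
        (locallyBijective_of_isIso J _))


end Groth.Agent.Lib.QCoh
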