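import Groth.Agent.Lib.QCoh.Helper66_SubSum
import Groth.Agent.Lib.Cohomology.helper5_HSigma
import Groth.Agent.Lib.Cohomology.helper5_HHLES

/-!
# A quasi-coherent module on a qcqs scheme is the filtered colimit of its finite type
quasi-coherent submodules; consequence for cohomology (helper5)

* `FTColim.exists_subfam_through_section_qcqs` : EGA I 9.4.9 sectionwise, qcqs case (built on
  helper66's `SubFam` machinery).
* `FTColim.exists_ft_sub_of_HH` : on a qcqs scheme every cohomology class of a quasi-coherent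
  module `G` comes from a quasi-coherent submodule of finite type of `G`.
-/

set_option autoImplicit false
universe u
open CategoryTheory CategoryTheory.Limits AlgebraicGeometry Opposite TopologicalSpace

namespace Groth.Agent.Lib.QCoh.FTColim

open Groth.Agent.Lib.QCoh.Glue74 Groth.Agent.Lib.QCoh Groth.Agent.Lib.QCoh.SubExt

variable {X : Scheme.{u}}

/-- **EGA I 9.4.9 (sectionwise), qcqs case**: every section over a compact open lies in a local,
locally finitely generated family of submodules. -/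
theorem exists_subfam_through_section_qcqs [CompactSpace X] [QuasiSeparatedSpace X]
    (F : X.Modules) [F.IsQuasicoherent] (U : X.Opens) (hU : IsCompact (U : Set X))
    (s : Γ(F, U)) :
    ∃ N : SubFam F, N.IsLocal ∧ N.IsLFG ⊤ ∧ s ∈ N.sec U := by
  obtain ⟨S, hS, hcov⟩ := (isCompact_and_isOpen_iff_finite_and_eq_biUnion_affineOpens
    (X := X) (U := Set.univ)).mp ⟨isCompact_univ, isOpen_univ⟩
  have : Finite S := hS
  obtain ⟨_, _⟩ := exists_wellFoundedLT S
  let V : S → X.Opens := fun l => (l.1 : X.Opens)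
  let T : Fin 1 → Γ(F, U) := fun _ => s
  let N₀ : SubFam F := (⊤ : SubFam F).extend ⊥ U T
  have htop : ∀ (D : X.Opens) (m : Γ(F, D)), m ∈ (⊤ : SubFam F).sec D :=
    fun D m => (Submodule.mem_top : m ∈ (⊤ : Submodule Γ(X, D) Γ(F, D)))
  have hT2 : ∀ (V' : X.Opens) (h : V' ≤ U ⊓ ⊥) (m : Γ(F, V')), m ∈ (⊤ : SubFam F).sec V' →
      LocSpan F T V' (h.trans inf_le_left) m := by
    intro V' h m _ x hx
    exact (h hx).2.elim
  have hloc₀ : N₀.IsLocal := SubFam.extend_isLocal (fun D m _ => htop D m)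
  have hsat₀ : N₀.IsSat U := SubFam.extend_isSat.mono (sup_le bot_le le_rfl)
  have hlfg₀ : N₀.IsLFG U :=
    (SubFam.extend_isLFG (N := (⊤ : SubFam F)) (W := ⊥) (fun x hx => hx.elim) (fun i => htop _ _)
      hT2).anti le_sup_right
  obtain ⟨N, hloc, hlfg, hbase⟩ : ∃ N : SubFam F, N.IsLocal ∧ N.IsLFG (Wof V U Set.univ) ∧
      ∀ D : X.Opens, D ≤ U → N.sec D = N₀.sec D := by
    refine exists_extension V U N₀ (fun l => l.1.2) ?_ hloc₀ hsat₀ hlfg₀
    · intro l
      have key : ∀ I : Set S, ((V l ⊓ Wof V U I : X.Opens) : Set X) =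
          ((V l : Set X) ∩ (U : Set X)) ∪ ⋃ m ∈ I, ((V l : Set X) ∩ (V m : Set X)) := by
        intro I
        ext x
        constructor
        · rintro ⟨hxV, hxW⟩
          rcases (mem_Wof V U).mp hxW with h | ⟨m, hm, h⟩
          · exact Or.inl ⟨hxV, h⟩
          · exact Or.inr (Set.mem_iUnion₂.mpr ⟨m, hm, hxV, h⟩)
        · rintro (⟨hxV, h⟩ | h)
          · exact ⟨hxV, (mem_Wof V U).mpr (Or.inl h)⟩
          · obtain ⟨m, hm, hxV, h⟩ := Set.mem_iUnion₂.mp h
            exact ⟨hxV, (mem_Wof V U).mpr (Or.inr ⟨m, hm, h⟩)⟩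
      rw [key]
      refine IsCompact.union ?_ ?_
      · exact QuasiSeparatedSpace.inter_isCompact _ _ l.1.1.2 l.1.2.isCompact U.2 hU
      · exact (Set.toFinite _).isCompact_biUnion fun m _ =>
          QuasiSeparatedSpace.inter_isCompact _ _ l.1.1.2 l.1.2.isCompact m.1.1.2 m.1.2.isCompact
  have hlfg' : N.IsLFG ⊤ := by
    intro x _
    have hx : x ∈ ⋃ i ∈ S, ((i : X.Opens) : Set X) := hcov ▸ Set.mem_univ x
    obtain ⟨W, hW, hxW⟩ := Set.mem_iUnion₂.mp hx
    obtain ⟨V₀, -, hxV₀, n, t, hg⟩ :=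
      hlfg x ((mem_Wof V U).mpr (Or.inr ⟨⟨W, hW⟩, trivial, hxW⟩))
    exact ⟨V₀, le_top, hxV₀, n, t, hg⟩
  have hs : s ∈ N.sec U := by
    rw [hbase U le_rfl]
    exact (SubFam.mem_extend_iff _ _ _ _ _).mpr ⟨htop _ _, LocSpan.gen _ 0⟩
  exact ⟨N, hloc, hlfg', hs⟩

section Diagram

variable [CompactSpace X] [QuasiSeparatedSpace X] (G : X.Modules) [G.IsQuasicoherent]

/-- pairs (affine open, section over it) -/
abbrev P : Type u := Σ U : X.affineOpens, Γ(G, (U : X.Opens))

/-- a chosen locally finitely generated local family through the section `p` -/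
noncomputable def NN (p : P G) : SubFam G :=
  (exists_subfam_through_section_qcqs G (p.1 : X.Opens) p.1.2.isCompact p.2).choose

lemma NN_isLocal (p : P G) : (NN G p).IsLocal :=
  (exists_subfam_through_section_qcqs G (p.1 : X.Opens) p.1.2.isCompact p.2).choose_spec.1

lemma NN_isLFG (p : P G) : (NN G p).IsLFG ⊤ :=
  (exists_subfam_through_section_qcqs G (p.1 : X.Opens) p.1.2.isCompact p.2).choose_spec.2.1

lemma NN_mem (p : P G) : p.2 ∈ (NN G p).sec (p.1 : X.Opens) :=
  (exists_subfam_through_section_qcqs G (p.1 : X.Opens) p.1.2.isCompact p.2).choose_spec.2.2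

/-- the local sum over a finite set of pairs -/
noncomputable def NA (A : Finset (P G)) : SubFam G := SubFam.lsum (fun a : A => NN G a.1)

lemma NA_isLocal (A : Finset (P G)) : (NA G A).IsLocal := SubFam.lsum_isLocal _

lemma NA_isLFG (A : Finset (P G)) : (NA G A).IsLFG ⊤ :=
  SubFam.lsum_isLFG _ (fun k => NN_isLocal G k.1) (fun k => NN_isLFG G k.1)

lemma NA_mono {A B : Finset (P G)} (h : A ≤ B) : NA G A ≤ NA G B := by
  intro D m hm x hx
  obtain ⟨D', h', hx', hm'⟩ := hm x hx
  refine ⟨D', h', hx', ?_⟩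
  refine (iSup_le fun k => ?_ : (⨆ k : A, (NN G k.1).sec D') ≤ ⨆ k : B, (NN G k.1).sec D') hm'
  exact le_iSup (fun k : B => (NN G k.1).sec D') ⟨k.1, h k.2⟩

lemma NA_mem (p : P G) : p.2 ∈ (NA G {p}).sec (p.1 : X.Opens) :=
  SubFam.le_lsum (fun a : ({p} : Finset (P G)) => NN G a.1) ⟨p, Finset.mem_singleton_self p⟩ _
    (NN_mem G p)

/-- the finite type quasi-coherent submodule attached to a finite set of pairs -/
noncomputable def FA (A : Finset (P G)) : X.Modules := (NA G A).toModules (NA_isLocal G A)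

noncomputable def inclA (A : Finset (P G)) : FA G A ⟶ G := (NA G A).incl (NA_isLocal G A)

instance (A : Finset (P G)) : Mono (inclA G A) := SubFam.mono_incl _ _

lemma FA_isQuasicoherent (A : Finset (P G)) : (FA G A).IsQuasicoherent :=
  (NA G A).isQuasicoherent_toModules (NA_isLocal G A) (NA_isLFG G A)

lemma FA_isFiniteType (A : Finset (P G)) : (FA G A).IsFiniteType :=
  (NA G A).isFiniteType_toModules (NA_isLocal G A) (NA_isLFG G A)

noncomputable def mapAB {A B : Finset (P G)} (h : A ≤ B) : FA G A ⟶ FA G B :=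
  ⟨PresheafOfModules.Submodule.homOfLE (NA_mono G h)⟩

lemma mapAB_inclA {A B : Finset (P G)} (h : A ≤ B) : mapAB G h ≫ inclA G B = inclA G A := rfl

/-- the diagram of finite type quasi-coherent submodules -/
noncomputable def DD : Finset (P G) ⥤ X.Modules where
  obj A := FA G A
  map f := mapAB G (leOfHom f)
  map_id A := by
    rw [← cancel_mono (inclA G A), mapAB_inclA, Category.id_comp]
  map_comp f g := by
    rw [← cancel_mono (inclA G _), Category.assoc, mapAB_inclA, mapAB_inclA, mapAB_inclA]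

end Diagram

end Groth.Agent.Lib.QCoh.FTColim
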